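import Mathlib.RingTheory.RegularLocalRing.Defs
import Mathlib.RingTheory.KrullDimension.Regular
import Mathlib.RingTheory.Regular.RegularSequence

set_option autoImplicit false
universe u

open IsLocalRing

namespace Groth.Agent.Ega11.RegLocal

variable {R : Type u} [CommRing R]

theorem spanFinrank_quotient_succ_le [IsLocalRing R] [IsNoetherianRing R] {x : R}
    (hx : x ∈ maximalIdeal R) (hx2 : x ∉ maximalIdeal R ^ 2) :
    ((maximalIdeal R).map (Ideal.Quotient.mk (Ideal.span {x}))).spanFinrank + 1 ≤
      (maximalIdeal R).spanFinrank := by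
  classical
  have hfg : Submodule.FG (maximalIdeal R) := IsNoetherian.noetherian _
  let S := (maximalIdeal R).generators
  have hS : S.Finite := hfg.finite_generators
  have hspan : Ideal.span S = maximalIdeal R := (maximalIdeal R).span_generators
  have hcard : S.ncard = (maximalIdeal R).spanFinrank := hfg.generators_ncard
  have hxS : x ∈ Submodule.span R S := by rw [← Ideal.span, hspan]; exact hx
  obtain ⟨c, -, hc⟩ := (Submodule.mem_span_finset (s := hS.toFinset) (x := x)).mp (by simpa using hxS)
  obtain ⟨g, hg, hgu⟩ : ∃ g ∈ hS.toFinset, IsUnit (c g) := by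
    by_contra h
    push Not at h
    refine hx2 (hc ▸ Ideal.sum_mem _ fun g hg => ?_)
    rw [smul_eq_mul, pow_two]
    refine Ideal.mul_mem_mul (h g hg) ?_
    rw [← hspan]; exact Ideal.subset_span (hS.mem_toFinset.mp hg)
  have hle : maximalIdeal R ≤ Ideal.span (insert x (S \ {g})) := by
    rw [← hspan, Ideal.span_le]
    intro y hy
    rcases eq_or_ne y g with rfl | hyg
    · have h1 : c y * y ∈ Ideal.span (insert x (S \ {y})) := by
        have : c y * y = x - ∑ a ∈ hS.toFinset.erase y, c a * a := by
          rw [eq_sub_iff_add_eq, ← hc]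
          simp only [smul_eq_mul]
          exact Finset.add_sum_erase _ (fun a => c a * a) hg
        rw [this]
        refine sub_mem (Ideal.subset_span (Set.mem_insert _ _)) (Ideal.sum_mem _ fun a ha => ?_)
        exact Ideal.mul_mem_left _ _ (Ideal.subset_span (Set.mem_insert_of_mem _
          ⟨hS.mem_toFinset.mp (Finset.mem_of_mem_erase ha), Finset.ne_of_mem_erase ha⟩))
      exact (Ideal.unit_mul_mem_iff_mem _ hgu).mp h1
    · exact Ideal.subset_span (Set.mem_insert_of_mem _ ⟨hy, hyg⟩)
  have hmap : (maximalIdeal R).map (Ideal.Quotient.mk (Ideal.span {x})) =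
      Ideal.span (Ideal.Quotient.mk (Ideal.span {x}) '' (S \ {g})) := by
    refine le_antisymm ((Ideal.map_mono hle).trans ?_) ?_
    · rw [Ideal.map_span, Set.image_insert_eq]
      refine Ideal.span_le.mpr (Set.insert_subset ?_ Ideal.subset_span)
      rw [Ideal.Quotient.eq_zero_iff_mem.mpr (Ideal.mem_span_singleton_self x)]
      exact zero_mem _
    · rw [← Ideal.map_span, ← hspan]
      exact Ideal.map_mono (Ideal.span_mono Set.sdiff_subset)
  rw [hmap, ← hcard, ← Set.ncard_sdiff_singleton_add_one (hS.mem_toFinset.mp hg) hS]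
  exact Nat.add_le_add_right ((Submodule.spanFinrank_span_le_ncard_of_finite (hS.sdiff.image _)).trans
    (Set.ncard_image_le hS.sdiff)) 1

theorem regular_quotient [IsRegularLocalRing R] {x : R} (hx : x ∈ maximalIdeal R)
    (hx2 : x ∉ maximalIdeal R ^ 2) :
    IsRegularLocalRing (R ⧸ Ideal.span {x}) ∧
      ringKrullDim (R ⧸ Ideal.span {x}) + 1 = ringKrullDim R := by
  have : Nontrivial (R ⧸ Ideal.span {x}) := Ideal.Quotient.nontrivial_iff.mpr fun h =>
    (maximalIdeal.isMaximal R).ne_top (top_le_iff.mp (h ▸ (Ideal.span_singleton_le_iff_mem _).mpr hx))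
  have : IsLocalRing (R ⧸ Ideal.span {x}) := .of_surjective' _ Ideal.Quotient.mk_surjective
  have hm : maximalIdeal (R ⧸ Ideal.span {x}) =
      (maximalIdeal R).map (Ideal.Quotient.mk (Ideal.span {x})) := by
    refine le_antisymm ?_ ?_
    · intro y hy
      obtain ⟨y, rfl⟩ := Ideal.Quotient.mk_surjective y
      exact Ideal.mem_map_of_mem _ fun hu => hy (hu.map _)
    · refine le_maximalIdeal ?_
      intro h
      have := Ideal.comap_map_of_surjective (Ideal.Quotient.mk (Ideal.span {x}))
        Ideal.Quotient.mk_surjective (I := maximalIdeal R)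
      rw [h, Ideal.comap_top, ← RingHom.ker_eq_comap_bot, Ideal.mk_ker,
        sup_eq_left.mpr ((Ideal.span_singleton_le_iff_mem _).mpr hx)] at this
      exact (maximalIdeal.isMaximal R).ne_top this.symm
  have h1 := spanFinrank_quotient_succ_le hx hx2
  have h2 := IsRegularLocalRing.spanFinrank_maximalIdeal (R := R)
  have h3 : ringKrullDim R ≤ ringKrullDim (R ⧸ Ideal.span {x}) + 1 := by
    have := ringKrullDim_le_ringKrullDim_quotient_add_card (s := {x}) (R := R)
      (by simpa [IsLocalRing.ringJacobson_eq_maximalIdeal] using hx)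
    rw [Finset.coe_singleton, Finset.card_singleton, Nat.cast_one] at this
    exact this
  have h4 := ringKrullDim_le_spanFinrank_maximalIdeal (R ⧸ Ideal.span {x})
  rw [hm] at h4
  have h5 : ((maximalIdeal R).map (Ideal.Quotient.mk (Ideal.span {x}))).spanFinrank + 1 =
      (maximalIdeal R).spanFinrank := by
    refine le_antisymm h1 ?_
    have := (h2.le.trans h3).trans (add_le_add h4 le_rfl)
    exact_mod_cast this
  refine ⟨.of_spanFinrank_maximalIdeal_le _ ?_, le_antisymm ?_ h3⟩
  · rw [hm]
    have := h2.le.trans h3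
    rw [← h5, Nat.cast_add, Nat.cast_one] at this
    generalize ringKrullDim (R ⧸ Ideal.span {x}) = d at this ⊢
    induction d with
    | bot => exact absurd this (by simp)
    | coe d =>
      have h' : (((maximalIdeal R).map (Ideal.Quotient.mk (Ideal.span {x}))).spanFinrank : ℕ∞) + 1 ≤ d + 1 := by
        exact_mod_cast this
      exact_mod_cast (ENat.add_le_add_iff_right ENat.one_ne_top).mp h' 
  · rw [← h2, ← h5, Nat.cast_add, Nat.cast_one]
    exact add_le_add h4 le_rfl

theorem isDomain_of_regular : ∀ (n : ℕ) (R : Type u) [CommRing R] [IsRegularLocalRing R],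
    (maximalIdeal R).spanFinrank ≤ n → IsDomain R := by
  intro n
  induction n with
  | zero =>
    intro R _ _ h
    have h0 : maximalIdeal R = ⊥ :=
      (Submodule.spanFinrank_eq_zero_iff_eq_bot (IsNoetherian.noetherian _)).mp (Nat.le_zero.mp h)
    have := IsLocalRing.isField_iff_maximalIdeal_eq.mpr h0
    exact this.isDomain
  | succ n ih =>
    intro R _ _ h
    by_cases h0 : maximalIdeal R = ⊥
    · exact (IsLocalRing.isField_iff_maximalIdeal_eq.mpr h0).isDomain
    classical
    have hfin := minimalPrimes.finite_of_isNoetherianRing R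
    let s : Finset (Ideal R) := insert (maximalIdeal R ^ 2) hfin.toFinset
    obtain ⟨x, hx, hxs⟩ : ∃ x ∈ maximalIdeal R, ∀ I ∈ s, x ∉ I := by
      by_contra hcon
      push Not at hcon
      have hsub : ((maximalIdeal R : Ideal R) : Set R) ⊆ ⋃ I ∈ (s : Set (Ideal R)), (I : Set R) := fun x hx => by
        obtain ⟨I, hI, hxI⟩ := hcon x hx
        exact Set.mem_biUnion hI hxI
      obtain ⟨I, hI, hle⟩ := (Ideal.subset_union_prime (maximalIdeal R ^ 2) (maximalIdeal R ^ 2)
        (fun i hi hi' _ => by
          simp only [s, Finset.mem_insert, Set.Finite.mem_toFinset] at hi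
          exact (hi.resolve_left hi').1.1)).mp hsub
      simp only [s, Finset.mem_insert, Set.Finite.mem_toFinset] at hI
      rcases hI with rfl | hI
      · refine h0 (Submodule.eq_bot_of_le_smul_of_le_jacobson_bot (maximalIdeal R) _
          (IsNoetherian.noetherian _) ?_ (maximalIdeal_le_jacobson _))
        rwa [pow_two] at hle
      · have hmin : maximalIdeal R ∈ minimalPrimes R := by
          have : maximalIdeal R = I :=
            (maximalIdeal.isMaximal R).eq_of_le hI.1.1.ne_top hle
          rwa [this]
        have hd : Ring.KrullDimLE 0 R := Ring.KrullDimLE.mk₀ fun p hp => by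
          have hp' := le_maximalIdeal hp.ne_top
          rw [le_antisymm hp' (hmin.2 ⟨hp, bot_le⟩ hp')]
          infer_instance
        have hr : ringKrullDim R ≤ 0 := by
          have := (Ring.krullDimLE_iff (n := 0) (R := R)).mp hd
          exact_mod_cast this
        have h2 := IsRegularLocalRing.spanFinrank_maximalIdeal (R := R)
        refine h0 ((Submodule.spanFinrank_eq_zero_iff_eq_bot (IsNoetherian.noetherian _)).mp ?_)
        rw [← h2] at hr
        exact Nat.le_zero.mp (by exact_mod_cast hr)
    have hx2 : x ∉ maximalIdeal R ^ 2 := hxs _ (Finset.mem_insert_self _ _)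
    obtain ⟨hreg, -⟩ := regular_quotient hx hx2
    have hP : (Ideal.span {x}).IsPrime := by
      rw [← Ideal.Quotient.isDomain_iff_prime]
      refine ih _ ?_
      have h1 := spanFinrank_quotient_succ_le hx hx2
      have hm : maximalIdeal (R ⧸ Ideal.span {x}) =
          (maximalIdeal R).map (Ideal.Quotient.mk (Ideal.span {x})) :=
        (IsLocalRing.map_maximalIdeal_of_surjective _ Ideal.Quotient.mk_surjective).symm
      rw [hm]; omega
    obtain ⟨Q, hQ, hQP⟩ := Ideal.exists_minimalPrimes_le (I := ⊥) (J := Ideal.span {x}) bot_le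
    have hxQ : x ∉ Q := hxs _ (Finset.mem_insert_of_mem (hfin.mem_toFinset.mpr hQ))
    have hQ0 : Q = ⊥ := by
      refine Submodule.eq_bot_of_le_smul_of_le_jacobson_bot (Ideal.span {x}) Q
        (IsNoetherian.noetherian _) (fun y hy => ?_)
        (((Ideal.span_singleton_le_iff_mem _).mpr hx).trans (maximalIdeal_le_jacobson _))
      obtain ⟨a, rfl⟩ := Ideal.mem_span_singleton'.mp (hQP hy)
      rw [mul_comm]
      exact Submodule.smul_mem_smul (Ideal.subset_span rfl) ((hQ.1.1.mem_or_mem hy).resolve_right hxQ)
    have hbot : (⊥ : Ideal R).IsPrime := hQ0 ▸ hQ.1.1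
    have : NoZeroDivisors R := ⟨fun {a b} h => by simpa using hbot.mem_or_mem (show a * b ∈ (⊥ : Ideal R) by simpa using h)⟩
    exact NoZeroDivisors.to_isDomain R

theorem isDomain (R : Type u) [CommRing R] [IsRegularLocalRing R] : IsDomain R :=
  isDomain_of_regular _ R le_rfl

end Groth.Agent.Ega11.RegLocal
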