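import Mathlib.RingTheory.Support
import Mathlib.RingTheory.KrullDimension.Module
import Mathlib.RingTheory.Localization.AtPrime.Basic
import Mathlib.Algebra.Module.LocalizedModule.Basic

set_option autoImplicit false
universe u v

namespace Groth.Agent.Ega11.SupportLoc

variable {A : Type u} [CommRing A] {M : Type v} [AddCommGroup M] [Module A M]

theorem mem_support_localizedModule_iff (T : Submonoid A) (x : PrimeSpectrum (Localization T)) :
    x ∈ Module.support (Localization T) (LocalizedModule T M) ↔
      PrimeSpectrum.comap (algebraMap A (Localization T)) x ∈ Module.support A M := by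
  rw [Module.mem_support_iff', Module.mem_support_iff']
  constructor
  · rintro ⟨m, hm⟩
    induction m using LocalizedModule.induction_on with
    | h m s =>
      refine ⟨m, fun r hr h0 ↦ hm (algebraMap A (Localization T) r) (by simpa using hr) ?_⟩
      rw [← Localization.mk_one_eq_algebraMap, LocalizedModule.mk_smul_mk, h0, LocalizedModule.zero_mk]
  · rintro ⟨m, hm⟩
    refine ⟨LocalizedModule.mk m 1, fun r hr h0 ↦ ?_⟩
    obtain ⟨⟨a, t⟩, rfl⟩ := IsLocalization.mk'_surjective T r
    rw [← Localization.mk_eq_mk', LocalizedModule.mk_smul_mk, ← LocalizedModule.zero_mk 1,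
      LocalizedModule.mk_eq] at h0
    obtain ⟨w, hw⟩ := h0
    simp only [Submonoid.smul_def, OneMemClass.coe_one, one_smul, smul_zero] at hw
    refine hm (w.1 * a) ?_ (by rwa [mul_smul])
    simp only [PrimeSpectrum.comap_asIdeal, Ideal.mem_comap, map_mul]
    intro h
    rcases x.2.mem_or_mem h with h | h
    · exact x.2.ne_top (Ideal.eq_top_of_isUnit_mem _ h (IsLocalization.map_units _ w))
    · exact hr (IsLocalization.mk'_mem_iff.mpr h)

/-- The part of the support lying below a given prime. -/
def suppBelow (A : Type u) [CommRing A] (M : Type v) [AddCommGroup M] [Module A M] (P : Ideal A) :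
    Set (PrimeSpectrum A) :=
  {x | x ∈ Module.support A M ∧ x.asIdeal ≤ P}

theorem comap_le (P : Ideal A) [P.IsPrime] (x : PrimeSpectrum (Localization.AtPrime P)) :
    (PrimeSpectrum.comap (algebraMap A (Localization.AtPrime P)) x).asIdeal ≤ P :=
  ((IsLocalization.AtPrime.orderIsoOfPrime (Localization.AtPrime P) P) ⟨x.asIdeal, x.2⟩).2.2

/-- The support of a localized module, as an ordered set. -/
noncomputable def supportEquiv (P : Ideal A) [P.IsPrime] :
    Module.support (Localization.AtPrime P) (LocalizedModule P.primeCompl M) ≃o suppBelow A M P where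
  toFun x := ⟨PrimeSpectrum.comap (algebraMap A _) x.1,
    (mem_support_localizedModule_iff _ _).mp x.2, comap_le P x.1⟩
  invFun y :=
    let q := (IsLocalization.AtPrime.orderIsoOfPrime (Localization.AtPrime P) P).symm
      ⟨y.1.asIdeal, y.1.2, y.2.2⟩
    ⟨⟨q.1, q.2⟩, (mem_support_localizedModule_iff _ _).mpr (by
      convert y.2.1 using 1
      ext1
      exact congrArg Subtype.val ((IsLocalization.AtPrime.orderIsoOfPrime (Localization.AtPrime P)
        P).apply_symm_apply ⟨y.1.asIdeal, y.1.2, y.2.2⟩))⟩
  left_inv x := by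
    ext1; ext1
    exact congrArg Subtype.val ((IsLocalization.AtPrime.orderIsoOfPrime (Localization.AtPrime P)
      P).symm_apply_apply ⟨x.1.asIdeal, x.1.2⟩)
  right_inv y := by
    ext1; ext1
    exact congrArg Subtype.val ((IsLocalization.AtPrime.orderIsoOfPrime (Localization.AtPrime P)
      P).apply_symm_apply ⟨y.1.asIdeal, y.1.2, y.2.2⟩)
  map_rel_iff' {a b} := (IsLocalization.AtPrime.orderIsoOfPrime (Localization.AtPrime P) P).map_rel_iff
    (a := ⟨a.1.asIdeal, a.1.2⟩) (b := ⟨b.1.asIdeal, b.1.2⟩)

theorem supportDim_localizedModule_eq (P : Ideal A) [P.IsPrime] :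
    Module.supportDim (Localization.AtPrime P) (LocalizedModule P.primeCompl M) =
      Order.krullDim (suppBelow A M P) :=
  Order.krullDim_eq_of_orderIso (supportEquiv P)

theorem supportDim_localizedModule_mono {P Q : Ideal A} [P.IsPrime] [Q.IsPrime] (h : P ≤ Q) :
    Module.supportDim (Localization.AtPrime P) (LocalizedModule P.primeCompl M) ≤
      Module.supportDim (Localization.AtPrime Q) (LocalizedModule Q.primeCompl M) := by
  rw [supportDim_localizedModule_eq, supportDim_localizedModule_eq]
  exact Order.krullDim_le_of_strictMono (fun x ↦ ⟨x.1, x.2.1, x.2.2.trans h⟩) (fun _ _ h ↦ h)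

end Groth.Agent.Ega11.SupportLoc
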