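import Mathlib.AlgebraicGeometry.Fiber
import Mathlib.AlgebraicGeometry.Noetherian
import Mathlib.AlgebraicGeometry.Morphisms.QuasiFinite
import Mathlib.Topology.KrullDimension
import Mathlib.Topology.Sober
import Mathlib.Topology.Inseparable

set_option autoImplicit false
universe u v

open TopologicalSpace Topology

namespace Groth.Agent.Ega11.PointDim

variable {X : Type u} [TopologicalSpace X] {Y : Type v} [TopologicalSpace Y]

/-- A sequence of points, each the proper specialization of the next, bounds the dimension below. -/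
theorem natCast_le_dim [T0Space X] (n : ℕ) (a : ℕ → X) (h : ∀ k < n, a (k + 1) ⤳ a k ∧ a k ≠ a (k + 1)) :
    (n : WithBot ℕ∞) ≤ topologicalKrullDim X := by
  have hlt : ∀ k < n, closure {a k} ⊂ closure {a (k + 1)} := fun k hk => by
    refine lt_of_le_of_ne (specializes_iff_closure_subset.mp (h k hk).1) fun e => (h k hk).2 ?_
    exact ((specializes_iff_closure_subset.mpr e.ge).antisymm (specializes_iff_closure_subset.mpr e.le)).eq
  let l : LTSeries (IrreducibleCloseds X) :=
    ⟨n, fun i => ⟨closure {a i}, isIrreducible_singleton.closure, isClosed_closure⟩, fun i => hlt i i.2⟩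
  exact le_iSup (fun p : LTSeries (IrreducibleCloseds X) => (p.length : WithBot ℕ∞)) l

theorem exists_points_of_series [QuasiSober X] [T0Space X] (l : LTSeries (IrreducibleCloseds X)) :
    ∃ a : ℕ → X, ∀ k < l.length, a (k + 1) ⤳ a k ∧ a k ≠ a (k + 1) := by
  let g : Fin (l.length + 1) → X := fun i => (l i).isIrreducible.genericPoint
  have hg : ∀ i, closure {g i} = (l i : Set X) := fun i =>
    (l i).isIrreducible.closure_genericPoint (l i).isClosed
  refine ⟨fun k => g ⟨min k l.length, by omega⟩, fun k hk => ?_⟩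
  have hlt : l ⟨min k l.length, by omega⟩ < l ⟨min (k + 1) l.length, by omega⟩ :=
    l.strictMono (Fin.mk_lt_mk.mpr (by omega))
  exact ⟨specializes_iff_closure_subset.mpr (by rw [hg, hg]; exact hlt.le),
    fun e => hlt.ne (IrreducibleCloseds.ext (by rw [← hg, ← hg]; exact congrArg (fun z => closure {z}) e))⟩

theorem dim_le_iff [QuasiSober X] [T0Space X] {c : WithBot ℕ∞} (hne : Nonempty X → 0 ≤ c)
    (h : ∀ (n : ℕ) (a : ℕ → X), (∀ k < n, a (k + 1) ⤳ a k ∧ a k ≠ a (k + 1)) → 0 < n → (n : WithBot ℕ∞) ≤ c) :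
    topologicalKrullDim X ≤ c := by
  refine iSup_le fun l => ?_
  obtain ⟨a, ha⟩ := exists_points_of_series l
  rcases Nat.eq_zero_or_pos l.length with h0 | h0
  · rw [h0]; exact hne ⟨a 0⟩
  · exact h _ a ha h0

theorem zero_le_dim [Nonempty X] [T0Space X] : (0 : WithBot ℕ∞) ≤ topologicalKrullDim X :=
  natCast_le_dim 0 (fun _ => Classical.arbitrary X) (by simp)

/-- A map without specializations inside fibres cannot decrease the dimension. -/
theorem dim_le_of_fibres_discrete [QuasiSober X] [T0Space X] [T0Space Y] {f : X → Y} (hf : Continuous f)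
    (h : ∀ a b : X, a ⤳ b → f a = f b → a = b) : topologicalKrullDim X ≤ topologicalKrullDim Y := by
  refine dim_le_iff (fun ⟨x⟩ => ?_) fun n a ha _ => ?_
  · exact natCast_le_dim 0 (fun _ => f x) (by simp)
  · exact natCast_le_dim n (f ∘ a) fun k hk =>
      ⟨(ha k hk).1.map hf, fun e => (ha k hk).2 (h _ _ (ha k hk).1 e.symm).symm⟩

theorem dim_le_of_lift [QuasiSober Y] [T0Space Y] [T0Space X] {f : X → Y} (hs : Function.Surjective f)
    (h : SpecializingMap f ∨ GeneralizingMap f) : topologicalKrullDim Y ≤ topologicalKrullDim X := by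
  refine dim_le_iff (fun ⟨y⟩ => ?_) fun n b hb _ => ?_
  · exact natCast_le_dim 0 (fun _ => (hs y).choose) (by simp)
  suffices ∃ a : ℕ → X, ∀ k ≤ n, f (a k) = b k ∧ ∀ j, k = j + 1 → a k ⤳ a j by
    obtain ⟨a, ha⟩ := this
    exact natCast_le_dim n a fun k hk => ⟨(ha (k + 1) hk).2 k rfl,
      fun e => (hb k hk).2 (by rw [← (ha k hk.le).1, e, (ha (k + 1) hk).1])⟩
  rcases h with h | h
  · -- lift downwards from the most generic point
    choose! g hg using fun (x : X) (y : Y) (hxy : f x ⤳ y) => h hxy
    obtain ⟨x0, hx0⟩ := hs (b n)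
    let c : ℕ → X := fun m => Nat.rec x0 (fun m x => g x (b (n - (m + 1)))) m
    have hc : ∀ m ≤ n, f (c m) = b (n - m) := by
      intro m hm
      induction m with
      | zero => simpa [c] using hx0
      | succ m ih =>
        refine (hg _ _ ?_).2
        rw [ih (by omega)]
        have := (hb (n - (m + 1)) (by omega)).1
        rwa [show n - (m + 1) + 1 = n - m by omega] at this
    refine ⟨fun k => c (n - k), fun k hk => ⟨?_, fun j hj => ?_⟩⟩
    · rw [hc _ (by omega), show n - (n - k) = k by omega]
    · subst hj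
      have hsp : f (c (n - (j + 1))) ⤳ b (n - (n - (j + 1) + 1)) := by
        rw [hc _ (by omega), show n - (n - (j + 1)) = j + 1 by omega,
          show n - (n - (j + 1) + 1) = j by omega]
        exact (hb j (by omega)).1
      have := (hg _ _ hsp).1
      dsimp only
      rw [show n - j = n - (j + 1) + 1 by omega]
      exact this
  · choose! g hg using fun (x : X) (y : Y) (hxy : y ⤳ f x) => h hxy
    obtain ⟨x0, hx0⟩ := hs (b 0)
    let c : ℕ → X := fun m => Nat.rec x0 (fun m x => g x (b (m + 1))) m
    have hc : ∀ m ≤ n, f (c m) = b m := by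
      intro m hm
      induction m with
      | zero => exact hx0
      | succ m ih => exact (hg _ _ (by rw [ih (by omega)]; exact (hb m (by omega)).1)).2
    refine ⟨c, fun k hk => ⟨hc k hk, fun j hj => ?_⟩⟩
    subst hj
    exact (hg _ _ (by rw [hc j (by omega)]; exact (hb j (by omega)).1)).1

open AlgebraicGeometry in
theorem generalizingMap_of_isOpenMap {S T : Scheme.{u}} (f : S ⟶ T) [IsLocallyNoetherian S]
    (h : IsOpenMap f.base) : GeneralizingMap f.base := by
  intro x y' hy'
  obtain ⟨_, ⟨V, hV, rfl⟩, hxV, -⟩ :=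
    S.isBasis_affineOpens.exists_subset_of_mem_open (Set.mem_univ x) isOpen_univ
  replace hV : IsAffineOpen V := hV
  have : IsNoetherianRing Γ(S, V) := IsLocallyNoetherian.component_noetherian ⟨V, hV⟩
  have : NoetherianSpace (V : Set S) := noetherianSpace_of_isAffineOpen V hV
  let F : Set S := f.base ⁻¹' {y'}
  have : QuasiSober F := (f.fiberHomeo y').symm.isClosedEmbedding.quasiSober
  let P : Set F := {z | z.1 ∈ V}
  have hP : IsOpen P := V.isOpen.preimage continuous_subtype_val
  have : QuasiSober P := hP.isOpenEmbedding_subtypeVal.quasiSober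
  have hPV : Topology.IsInducing (fun z : P => (⟨z.1.1, z.2⟩ : (V : Set S))) :=
    Topology.IsInducing.of_comp (g := Subtype.val) (by fun_prop) continuous_subtype_val
      ((Topology.IsInducing.subtypeVal (t := F)).comp (Topology.IsInducing.subtypeVal (t := P)))
  have : NoetherianSpace P := Topology.IsInducing.noetherianSpace hPV
  have hx : x ∈ closure ((fun z : P => z.1.1) '' Set.univ) := by
    rw [mem_closure_iff]
    intro O hO hxO
    obtain ⟨z, hz, hzy⟩ := hy'.mem_open (h _ (hO.inter V.isOpen)) ⟨x, ⟨hxO, hxV⟩, rfl⟩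
    exact ⟨z, hz.1, ⟨⟨z, hzy⟩, hz.2⟩, trivial, rfl⟩
  rw [← sUnion_irreducibleComponents, Set.image_sUnion, Set.sUnion_eq_biUnion,
    Set.Finite.closure_biUnion (NoetherianSpace.finite_irreducibleComponents.image _)] at hx
  simp only [Set.mem_iUnion] at hx
  obtain ⟨_, ⟨Z, hZ, rfl⟩, hxZ⟩ := hx
  have hirr : IsIrreducible Z := hZ.1
  refine ⟨hirr.genericPoint.1.1, ?_, hirr.genericPoint.1.2⟩
  show _ ⤳ x
  rw [specializes_iff_mem_closure]
  refine closure_minimal ?_ isClosed_closure hxZ
  rintro _ ⟨z, hz, rfl⟩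
  rw [← specializes_iff_mem_closure]
  exact ((hirr.isGenericPoint_genericPoint_closure.specializes (subset_closure hz)).map
    continuous_subtype_val).map continuous_subtype_val

open AlgebraicGeometry in
theorem eq_of_specializes_of_quasiFinite {S T : Scheme.{u}} (f : S ⟶ T) [LocallyQuasiFinite f] {a b : S}
    (h : a ⤳ b) (e : f.base a = f.base b) : a = b := by
  have hd : IsDiscrete (f.base ⁻¹' {f.base b}) := f.isDiscrete_preimage_singleton (f.base b)
  have := hd.to_subtype
  exact congrArg Subtype.val (Specializes.eq (subtype_specializes_iff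
    (x := (⟨a, e⟩ : f.base ⁻¹' {f.base b})) (y := ⟨b, rfl⟩) |>.mpr h))

end Groth.Agent.Ega11.PointDim
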