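import Groth.Agent.Helper62.JacobsonPts
import Groth.Agent.ConstrTop58.Basic
import Mathlib.Topology.KrullDimension
import Mathlib.Topology.Constructible

set_option autoImplicit false
universe u

open TopologicalSpace Topology AlgebraicGeometry

namespace Groth.Agent.Ega11.SchemeTop

/-- In a locally Noetherian scheme, there are no chains of length two above a locally closed point. -/
theorem two_step (X : Scheme.{u}) [IsLocallyNoetherian X] {x w v : X} (hx : IsLocallyClosed ({x} : Set X))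
    (hw : x ⤳ w) (hv : w ⤳ v) : w = x ∨ v = w := by
  by_contra hcon
  push Not at hcon
  obtain ⟨_, ⟨V, hV, rfl⟩, hvV, -⟩ :=
    X.isBasis_affineOpens.exists_subset_of_mem_open (Set.mem_univ v) isOpen_univ
  have hwV : w ∈ V := hv.mem_open V.isOpen hvV
  have hxV : x ∈ V := (hw.trans hv).mem_open V.isOpen hvV
  replace hV : IsAffineOpen V := hV
  have : IsNoetherianRing Γ(X, V) := IsLocallyNoetherian.component_noetherian ⟨V, hV⟩
  have := hV.isOpenImmersion_fromSpec
  have hspec : ∀ a b : PrimeSpectrum Γ(X, V),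
      (hV.fromSpec a ⤳ hV.fromSpec b) ↔ a.asIdeal ≤ b.asIdeal := fun a b =>
    hV.fromSpec.isOpenEmbedding.isInducing.specializes_iff.trans (PrimeSpectrum.le_iff_specializes a b).symm
  obtain ⟨px, hpx⟩ : ∃ a, hV.fromSpec a = x := ⟨_, hV.fromSpec_primeIdealOf ⟨x, hxV⟩⟩
  obtain ⟨pw, hpw⟩ : ∃ a, hV.fromSpec a = w := ⟨_, hV.fromSpec_primeIdealOf ⟨w, hwV⟩⟩
  obtain ⟨pv, hpv⟩ : ∃ a, hV.fromSpec a = v := ⟨_, hV.fromSpec_primeIdealOf ⟨v, hvV⟩⟩
  obtain ⟨O, C, hO, hC, hOC⟩ := hx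
  have hxO : x ∈ O ∩ C := hOC ▸ rfl
  have hO' : IsOpen (hV.fromSpec ⁻¹' O) := hO.preimage hV.fromSpec.continuous
  obtain ⟨_, ⟨g, rfl⟩, hgmem, hgsub⟩ :=
    PrimeSpectrum.isTopologicalBasis_basic_opens.exists_subset_of_mem_open
      (show px ∈ hV.fromSpec ⁻¹' O by show hV.fromSpec px ∈ O; rw [hpx]; exact hxO.1) hO'
  subst hpw hpv
  have := px.2
  have := pw.2
  have := pv.2
  have h1 : px.asIdeal ≤ pw.asIdeal := (hspec _ _).mp (by rwa [hpx])
  have h2 : pw.asIdeal ≤ pv.asIdeal := (hspec _ _).mp hv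
  refine Goldman62.no_chain_above (p := px.asIdeal) (f := g) hgmem ?_
    (p' := pw.asIdeal) (p'' := pv.asIdeal)
    (lt_of_le_of_ne h1 fun e => hcon.1 (by rw [← hpx, PrimeSpectrum.ext e]))
    (lt_of_le_of_ne h2 fun e => hcon.2 (by rw [PrimeSpectrum.ext e]))
  intro q hq hle' hgq
  have hsp : x ⤳ hV.fromSpec ⟨q, hq⟩ := by rw [← hpx]; exact (hspec _ ⟨q, hq⟩).mpr hle'
  have hmem : hV.fromSpec ⟨q, hq⟩ ∈ O ∩ C :=
    ⟨hgsub (a := (⟨q, hq⟩ : PrimeSpectrum _)) hgq, hsp.mem_closed hC hxO.2⟩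
  rw [← hOC, Set.mem_singleton_iff] at hmem
  exact congrArg PrimeSpectrum.asIdeal (hV.fromSpec.isOpenEmbedding.injective (hmem.trans hpx.symm))

theorem isClosed_singleton_of_mem_closure (X : Scheme.{u}) [IsLocallyNoetherian X] {x y : X}
    (hx : IsLocallyClosed ({x} : Set X)) (hy : y ∈ closure ({x} : Set X)) (hne : y ≠ x) :
    IsClosed ({y} : Set X) := by
  rw [← closure_subset_iff_isClosed]
  intro v hv
  exact ((two_step X hx (specializes_iff_mem_closure.mpr hy) (specializes_iff_mem_closure.mpr hv)).resolve_left hne)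

theorem exists_isClosed_singleton (X : Scheme.{u}) [IsLocallyNoetherian X]
    {Z : Set X} (hZ : IsClosed Z) (hne : Z.Nonempty) : ∃ x ∈ Z, IsClosed ({x} : Set X) := by
  obtain ⟨y, hyZ, hy⟩ := Goldman62.exists_isLocallyClosed_singleton hZ.isLocallyClosed hne
  by_cases hc : IsClosed ({y} : Set X)
  · exact ⟨y, hyZ, hc⟩
  · obtain ⟨w, hw, hwy⟩ : ∃ w ∈ closure ({y} : Set X), w ≠ y := by
      by_contra h
      push Not at h
      exact hc (closure_subset_iff_isClosed.mp fun w hw => h w hw)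
    exact ⟨w, closure_minimal (Set.singleton_subset_iff.mpr hyZ) hZ hw,
      isClosed_singleton_of_mem_closure X hy hw hwy⟩

theorem exists_nonempty_isLocallyClosed_subset {X : Scheme.{u}} {E : Set X}
    (hE : Topology.IsLocallyConstructible E) (hne : E.Nonempty) :
    ∃ Z, IsLocallyClosed Z ∧ Z.Nonempty ∧ Z ⊆ E := by
  obtain ⟨x, hx⟩ := hne
  obtain ⟨U, hxU, hU, hEU⟩ := hE x
  obtain ⟨ι, _, A, B, hA, hB, hEq⟩ := ConstrTop58.exists_sdiff_normal_form hEU
  obtain ⟨i, hi⟩ := Set.mem_iUnion.mp ((Set.ext_iff.mp hEq ⟨x, mem_of_mem_nhds hxU⟩).mp hx)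
  refine ⟨Subtype.val '' (A i \ B i),
    ((hA i).1.isLocallyClosed.inter (hB i).1.isClosed_compl.isLocallyClosed).image
      Topology.IsInducing.subtypeVal (by rw [Subtype.range_val]; exact hU.isLocallyClosed),
    ⟨x, _, hi, rfl⟩, ?_⟩
  rintro _ ⟨y, hy, rfl⟩
  exact (Set.ext_iff.mp hEq y).mpr (Set.mem_iUnion.mpr ⟨i, hy⟩)

theorem topologicalKrullDim_closure_le_one (X : Scheme.{u}) [IsLocallyNoetherian X] {x : X}
    (hx : IsLocallyClosed ({x} : Set X)) : topologicalKrullDim (closure ({x} : Set X)) ≤ 1 := by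
  refine iSup_le fun l => ?_
  by_contra hl
  have h2 : 2 ≤ l.length := by
    by_contra h; exact hl (by exact_mod_cast (show l.length ≤ 1 by omega))
  have := (isClosed_closure (s := ({x} : Set X))).isClosedEmbedding_subtypeVal.quasiSober
  let a (i : Fin (l.length + 1)) : closure ({x} : Set X) := (l i).isIrreducible.genericPoint
  have hcl : ∀ i, (closure {a i} : Set (closure ({x} : Set X))) = l i := fun i =>
    (l i).isIrreducible.closure_genericPoint (l i).isClosed
  have ha : ∀ i j, i < j → (a j).1 ⤳ (a i).1 ∧ a j ≠ a i := fun i j hij =>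
    ⟨Specializes.map (specializes_iff_closure_subset.mpr (by rw [hcl, hcl]; exact l.monotone hij.le))
        continuous_subtype_val,
      fun h => (l.strictMono hij).ne (IrreducibleCloseds.ext (by rw [← hcl i, ← hcl j, h]))⟩
  obtain ⟨h21, n21⟩ := ha ⟨1, by omega⟩ ⟨2, by omega⟩ (Fin.mk_lt_mk.mpr (by omega))
  obtain ⟨h10, n10⟩ := ha ⟨0, by omega⟩ ⟨1, by omega⟩ (Fin.mk_lt_mk.mpr (by omega))
  have hx2 := specializes_iff_mem_closure.mpr (a ⟨2, by omega⟩).2
  rcases two_step X hx (hx2.trans h21) h10 with h | h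
  · rcases two_step X hx hx2 h21 with h' | h'
    · exact n21 (Subtype.ext (h'.trans h.symm))
    · exact n21 (Subtype.ext h'.symm)
  · exact n10 (Subtype.ext h.symm)

end Groth.Agent.Ega11.SchemeTop
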