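import Groth.Agent.EGA4H10.FlatSk
import Groth.Agent.CAlg1.SkFlat
import Groth.Agent.FlatMor66.FlatDescentSource
import Groth.Prelude.Def_EGA4b
import Mathlib

/-! Serre conditions and the Cohen–Macaulay property for composites of flat maps. -/

set_option autoImplicit false
universe u

open TensorProduct IsLocalRing

namespace Groth.Agent.Ega11.FibreComp

variable {A B : Type u} [CommRing A] [CommRing B]

theorem hasSk_of_ringEquiv [IsNoetherianRing A] (e : A ≃+* B) (k : ℕ) (h : LocCoh.HasSk k A A) :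
    LocCoh.HasSk k B B := by
  have : IsNoetherianRing B := isNoetherianRing_of_ringEquiv A e
  rw [CAlg1.hasSk_self_iff] at h ⊢
  intro P _
  let f : Localization.AtPrime (P.comap e.toRingHom) ≃+* Localization.AtPrime P :=
    IsLocalization.ringEquivOfRingEquiv (M := (P.comap e.toRingHom).primeCompl) (T := P.primeCompl) _ _ e (by
      ext y
      obtain ⟨x, rfl⟩ := e.surjective y
      rw [Submonoid.mem_map]
      exact ⟨fun ⟨z, hz, hzx⟩ => e.injective hzx ▸ hz, fun h => ⟨x, h, rfl⟩⟩)
  rw [← CAlg1.depth_eq_of_ringEquiv f, ← RingEquiv.height_comap e P]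
  exact h _

theorem isCohenMacaulayRing_iff [IsNoetherianRing A] :
    LocCoh.IsCohenMacaulayRing A ↔ ∀ k : ℕ, LocCoh.HasSk k A A := by
  have hnoeth : ∀ (p : Ideal A) [p.IsPrime], IsNoetherianRing (Localization.AtPrime p) := fun p _ =>
    IsLocalization.isNoetherianRing p.primeCompl _ inferInstance
  constructor
  · intro h k
    rw [CAlg1.hasSk_self_iff]
    intro p _
    have := (h.isCohenMacaulayLocalRing_localization p).supportDim_eq_depth
    rw [Module.supportDim_self_eq_ringKrullDim,
      IsLocalization.AtPrime.ringKrullDim_eq_height p (Localization.AtPrime p), WithBot.coe_inj] at this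
    exact this ▸ min_le_right _ _
  · intro h
    refine ⟨fun p _ => ?_⟩
    have := hnoeth p
    refine { supportDim_eq_depth := le_antisymm ?_ EGA4Alg4.depth_le_supportDim }
    obtain ⟨n, hn⟩ := ENat.ne_top_iff_exists.mp (Ideal.height_ne_top (Ideal.IsPrime.ne_top ‹p.IsPrime›))
    rw [Module.supportDim_self_eq_ringKrullDim,
      IsLocalization.AtPrime.ringKrullDim_eq_height p (Localization.AtPrime p), WithBot.coe_le_coe]
    have := (CAlg1.hasSk_self_iff n).mp (h n) p
    rwa [hn, min_self] at this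

variable [Algebra A B]

theorem hasSk_of_fibres [IsNoetherianRing A] [IsNoetherianRing B] [Module.Flat A B] (k : ℕ)
    (hA : LocCoh.HasSk k A A) (hfib : ∀ (p : Ideal A) [p.IsPrime], LocCoh.HasSk k (p.Fiber B) (p.Fiber B)) :
    LocCoh.HasSk k B B := by
  let e : B ⊗[A] A ≃ₗ[B] B := AlgebraTensorModule.rid A B B
  have : Module.Finite B (B ⊗[A] A) := Module.Finite.equiv e.symm
  intro q _
  have h1 : EGA4.HasSkAt k A A (q.comap (algebraMap A B)) := by
    rw [EGA4H10.hasSkAt_iff]; intro r _; exact hA r.asIdeal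
  have h2 := EGA4H10.hasSkAt_congr e k q
    (EGA4H10.hasSkAt_tensor B A k (fun r _ _ => EGA4H10.fibre_condition_of_fiber k hfib r) q h1)
  rw [EGA4H10.hasSkAt_iff] at h2
  exact h2 ⟨q, inferInstance⟩ le_rfl

theorem hasSk_base [IsNoetherianRing A] [IsNoetherianRing B] [Module.FaithfullyFlat A B] (k : ℕ)
    (hB : LocCoh.HasSk k B B) : LocCoh.HasSk k A A := by
  let e : B ⊗[A] A ≃ₗ[B] B := AlgebraTensorModule.rid A B B
  have : Module.Finite B (B ⊗[A] A) := Module.Finite.equiv e.symm
  intro p _
  obtain ⟨q, hq⟩ := PrimeSpectrum.comap_surjective_of_faithfullyFlat (B := B) (⟨p, inferInstance⟩ : PrimeSpectrum A)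
  have hsupp : q ∈ Module.support B B := by
    rw [Module.mem_support_iff_of_finite, CAlg1.annihilator_self]
    exact bot_le
  have h1 : EGA4.HasSkAt k B B q.asIdeal := by
    rw [EGA4H10.hasSkAt_iff]; intro r _; exact hB r.asIdeal
  have h2 := EGA4H10.hasSkAt_base B A k q hsupp (EGA4H10.hasSkAt_congr e.symm k q.asIdeal h1)
  rw [EGA4H10.hasSkAt_iff] at h2
  exact h2 ⟨p, inferInstance⟩ (le_of_eq (congrArg PrimeSpectrum.asIdeal hq).symm)

/-- Fibres do not change under base change along a map that is surjective on stalks. -/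
theorem exists_fiber_equiv {T : Type u} [CommRing T] [Algebra A T]
    (hT : (algebraMap A T).SurjectiveOnStalks) (P : Ideal T) [P.IsPrime] :
    Nonempty ((P.under A).Fiber B ≃+* P.Fiber (T ⊗[A] B)) := by
  let g : (P.under A).ResidueField →ₐ[A] P.ResidueField :=
    Ideal.ResidueField.mapₐ (P.under A) P (Algebra.ofId A T) rfl
  have hg : Function.Bijective g :=
    RingHom.SurjectiveOnStalks.residueFieldMap_bijective hT (P.under A) P rfl
  exact ⟨(Algebra.TensorProduct.congr (AlgEquiv.ofBijective g hg) (AlgEquiv.refl (R := A) (A₁ := B))).toRingEquiv.trans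
    (Algebra.TensorProduct.cancelBaseChange A T P.ResidueField P.ResidueField B).symm.toRingEquiv⟩

theorem isNoetherianRing_fiber [IsNoetherianRing B] (p : Ideal A) [p.IsPrime] :
    IsNoetherianRing (B ⊗[A] p.ResidueField) ∧ IsNoetherianRing (p.Fiber B) :=
  have := Algebra.EssFiniteType.isNoetherianRing B (B ⊗[A] p.ResidueField)
  ⟨this, isNoetherianRing_of_ringEquiv (B ⊗[A] p.ResidueField)
    (Algebra.TensorProduct.comm A B p.ResidueField).toRingEquiv⟩

variable {C : Type u} [CommRing C] [Algebra B C] [Algebra A C] [IsScalarTower A B C]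

/-- The fibre of a composite, seen over the fibre of the first map. -/
noncomputable def compEquiv (K : Type u) [CommRing K] [Algebra A K] :
    (B ⊗[A] K) ⊗[B] C ≃+* K ⊗[A] C :=
  (Algebra.TensorProduct.comm B (B ⊗[A] K) C).toRingEquiv.trans <|
    (Algebra.TensorProduct.cancelBaseChange A B B C K).toRingEquiv.trans
      (Algebra.TensorProduct.comm A C K).toRingEquiv

theorem hasSk_fiber_comp [IsNoetherianRing B] [IsNoetherianRing C] [Module.Flat B C] (k : ℕ)
    (hAB : ∀ (p : Ideal A) [p.IsPrime], LocCoh.HasSk k (p.Fiber B) (p.Fiber B))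
    (hBC : ∀ (q : Ideal B) [q.IsPrime], LocCoh.HasSk k (q.Fiber C) (q.Fiber C))
    (p : Ideal A) [p.IsPrime] : LocCoh.HasSk k (p.Fiber C) (p.Fiber C) := by
  let D := B ⊗[A] p.ResidueField
  obtain ⟨hD, hF⟩ := isNoetherianRing_fiber (B := B) p
  obtain ⟨-, hC⟩ := isNoetherianRing_fiber (A := A) (B := C) p
  let e : D ⊗[B] C ≃+* p.Fiber C := compEquiv p.ResidueField
  have : IsNoetherianRing (D ⊗[B] C) := isNoetherianRing_of_ringEquiv _ e.symm
  refine hasSk_of_ringEquiv e k (hasSk_of_fibres (A := D) k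
    (hasSk_of_ringEquiv (Algebra.TensorProduct.comm A p.ResidueField B).toRingEquiv k (hAB p)) fun P _ => ?_)
  have hs : (algebraMap B D).SurjectiveOnStalks := p.surjectiveOnStalks_residueField.baseChange
  obtain ⟨eP⟩ := exists_fiber_equiv (B := C) hs P
  obtain ⟨-, hN⟩ := isNoetherianRing_fiber (B := C) (P.under B)
  exact hasSk_of_ringEquiv eP k (hBC _)

theorem hasSk_fiber_of_comp [IsNoetherianRing B] [IsNoetherianRing C] [Module.FaithfullyFlat B C] (k : ℕ)
    (hAC : ∀ (p : Ideal A) [p.IsPrime], LocCoh.HasSk k (p.Fiber C) (p.Fiber C))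
    (p : Ideal A) [p.IsPrime] : LocCoh.HasSk k (p.Fiber B) (p.Fiber B) := by
  let D := B ⊗[A] p.ResidueField
  obtain ⟨hD, -⟩ := isNoetherianRing_fiber (B := B) p
  obtain ⟨-, hC⟩ := isNoetherianRing_fiber (A := A) (B := C) p
  let e : D ⊗[B] C ≃+* p.Fiber C := compEquiv p.ResidueField
  have : IsNoetherianRing (D ⊗[B] C) := isNoetherianRing_of_ringEquiv _ e.symm
  exact hasSk_of_ringEquiv (Algebra.TensorProduct.comm A B p.ResidueField).toRingEquiv k
    (hasSk_base (A := D) (B := D ⊗[B] C) k (hasSk_of_ringEquiv e.symm k (hAC p)))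

end Groth.Agent.Ega11.FibreComp
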