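import Groth.Agent.Cyc90.DimFormula
import Groth.Agent.E4O.DimField
import Groth.Prelude.Def_Found
import Mathlib

/-! The dimension formula at a point that is closed in its fibre, over a universally catenary local base. -/

set_option autoImplicit false
universe u

namespace Groth.Agent.Ega11.UCDim

theorem isUniversallyCatenary_of_surjective {R R' : Type u} [CommRing R] [CommRing R'] (φ : R →+* R')
    (hφ : Function.Surjective φ) (h : CAlg.IsUniversallyCatenary R) : CAlg.IsUniversallyCatenary R' := by
  have := h.1
  refine ⟨isNoetherianRing_of_surjective R R' φ hφ, fun S _ _ hS => ?_⟩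
  letI := φ.toAlgebra
  letI : Algebra R S := ((algebraMap R' S).comp φ).toAlgebra
  have : IsScalarTower R R' S := IsScalarTower.of_algebraMap_eq fun _ => rfl
  have : Algebra.FiniteType R R' := Algebra.FiniteType.of_surjective (Algebra.ofId R R') hφ
  exact h.2 S (Algebra.FiniteType.trans (S := R') ‹_› hS)

set_option maxHeartbeats 1000000 in
theorem height_eq_of_maximal_in_fibre {A B : Type u} [CommRing A] [IsDomain A] [IsNoetherianRing A]
    [CommRing B] [IsDomain B] [Algebra A B] [FaithfulSMul A B] [Algebra.FiniteType A B]
    (p : Ideal A) [p.IsPrime] (hA : CAlg.IsUniversallyCatenary (Localization.AtPrime p))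
    (q : Ideal B) [hq : q.IsPrime] [q.LiesOver p]
    (hmax : ∀ q' : Ideal B, q'.IsPrime → q ≤ q' → q'.comap (algebraMap A B) = p → q' = q) :
    (q.height : Cardinal.{u}) = (p.height : Cardinal.{u}) + Algebra.trdeg A B := by
  classical
  let M := Algebra.algebraMapSubmonoid B p.primeCompl
  let A' := Localization.AtPrime p
  let B' := Localization M
  have hinj : Function.Injective (algebraMap A B) := FaithfulSMul.algebraMap_injective A B
  have hM : M ≤ nonZeroDivisors B := by
    rintro _ ⟨a, ha, rfl⟩
    exact mem_nonZeroDivisors_of_ne_zero ((map_ne_zero_iff _ hinj).mpr fun h => ha (h ▸ p.zero_mem))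
  have hpc : p.primeCompl ≤ nonZeroDivisors A := Ideal.primeCompl_le_nonZeroDivisors p
  have hcomapM : p.primeCompl ≤ M.comap (algebraMap A B) := fun a ha => ⟨a, ha, rfl⟩
  let φ : A' →+* B' := IsLocalization.map B' (algebraMap A B) hcomapM
  letI : Algebra A' B' := φ.toAlgebra
  have : IsScalarTower A A' B' := IsScalarTower.of_algebraMap_eq fun a => by
    show algebraMap A B' a = φ (algebraMap A A' a)
    rw [IsLocalization.map_eq, ← IsScalarTower.algebraMap_apply]
  have : IsDomain A' := IsLocalization.isDomain_localization hpc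
  have : IsDomain B' := IsLocalization.isDomain_localization hM
  have hinj' : Function.Injective (algebraMap A' B') := by
    rw [injective_iff_map_eq_zero]
    intro x hx
    obtain ⟨a, s, rfl⟩ := IsLocalization.exists_mk'_eq p.primeCompl x
    have := congrArg (fun y => y * algebraMap A' B' (algebraMap A A' s)) hx
    rw [zero_mul, ← map_mul, IsLocalization.mk'_spec, ← IsScalarTower.algebraMap_apply] at this
    rw [IsScalarTower.algebraMap_apply A B B', map_eq_zero_iff _ (IsLocalization.injective B' hM),
      map_eq_zero_iff _ hinj] at this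
    rw [this, IsLocalization.mk'_zero]
  have : FaithfulSMul A' B' := (faithfulSMul_iff_algebraMap_injective _ _).mpr hinj'
  have hft : Algebra.FiniteType A' B' := by
    obtain ⟨G, hG⟩ := Algebra.FiniteType.out (R := A) (A := B)
    refine ⟨⟨G.image (algebraMap B B'), eq_top_iff.mpr fun z hz => ?_⟩⟩
    clear hz
    obtain ⟨b, ⟨_, a, ha, rfl⟩, rfl⟩ := IsLocalization.exists_mk'_eq M z
    have hb : algebraMap B B' b ∈ Algebra.adjoin A' ((G.image (algebraMap B B') : Finset B') : Set B') := by
      induction (hG ▸ Algebra.mem_top : b ∈ Algebra.adjoin A (G : Set B)) using Algebra.adjoin_induction with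
      | mem x hx => exact Algebra.subset_adjoin (Finset.mem_coe.mpr (Finset.mem_image.mpr ⟨x, hx, rfl⟩))
      | algebraMap r =>
        rw [← IsScalarTower.algebraMap_apply A B B', IsScalarTower.algebraMap_apply A A' B']
        exact Subalgebra.algebraMap_mem _ _
      | add x y _ _ hx hy => rw [map_add]; exact add_mem hx hy
      | mul x y _ _ hx hy => rw [map_mul]; exact mul_mem hx hy
    have key : IsLocalization.mk' B' b (⟨algebraMap A B a, a, ha, rfl⟩ : M) =
        algebraMap A' B' (IsLocalization.mk' A' (1 : A) (⟨a, ha⟩ : p.primeCompl)) * algebraMap B B' b := by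
      rw [IsLocalization.mk'_eq_iff_eq_mul]
      have h2 : algebraMap A' B' (IsLocalization.mk' A' (1 : A) (⟨a, ha⟩ : p.primeCompl)) * algebraMap B B' (algebraMap A B a) = 1 := by
        rw [← IsScalarTower.algebraMap_apply A B B', IsScalarTower.algebraMap_apply A A' B', ← map_mul,
          IsLocalization.mk'_spec, map_one, map_one]
      linear_combination -(algebraMap B B' b) * h2
    rw [key]
    exact mul_mem (Subalgebra.algebraMap_mem _ _) hb
  have hqover : ∀ a : A, algebraMap A B a ∈ q ↔ a ∈ p := fun a => by
    rw [Ideal.LiesOver.over (p := p) (P := q), Ideal.under_def, Ideal.mem_comap]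
  have hdisj : Disjoint (M : Set B) q := by
    refine Set.disjoint_left.mpr ?_
    rintro _ ⟨a, ha, rfl⟩ h
    exact ha ((hqover a).mp h)
  let q' := q.map (algebraMap B B')
  have hq'p : q'.IsPrime := IsLocalization.isPrime_of_isPrime_disjoint M _ q hq hdisj
  have hq'c : q'.comap (algebraMap B B') = q := IsLocalization.under_map_of_isPrime_disjoint M B' hq hdisj
  have hq'max : q'.IsMaximal := by
    obtain ⟨Q, hQ, hle⟩ := Ideal.exists_le_maximal q' hq'p.ne_top
    have hQp := hQ.isPrime
    have hd := (IsLocalization.isPrime_iff_isPrime_disjoint M B' Q).mp hQp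
    have hqQ : q ≤ Q.comap (algebraMap B B') := hq'c ▸ Ideal.comap_mono hle
    have hover : (Q.comap (algebraMap B B')).comap (algebraMap A B) = p := by
      refine le_antisymm (fun a ha => ?_) (fun a ha => hqQ ((hqover a).mpr ha))
      by_contra hap
      exact Set.disjoint_left.mp hd.2 ⟨a, hap, rfl⟩ ha
    have := hmax _ inferInstance hqQ hover
    have e : q' = Q := by
      show q.map (algebraMap B B') = Q
      rw [← this]
      exact IsLocalization.map_under M B' Q
    exact e ▸ hQ
  have hq'over : q'.LiesOver (IsLocalRing.maximalIdeal A') := ⟨by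
    refine (IsLocalRing.maximalIdeal.isMaximal A').eq_of_le (Ideal.comap_ne_top _ hq'p.ne_top) ?_
    rw [← Localization.AtPrime.map_eq_maximalIdeal, Ideal.map_le_iff_le_comap]
    intro a ha
    rw [Ideal.mem_comap, Ideal.mem_comap, ← IsScalarTower.algebraMap_apply, IsScalarTower.algebraMap_apply A B B',
      ← Ideal.mem_comap, hq'c]
    exact (hqover a).mpr ha⟩
  have key := Groth.Agent.Cyc90.height_add_trdeg_eq A' hA B' (IsLocalRing.maximalIdeal A') q'
  have h0 : Algebra.trdeg (A' ⧸ IsLocalRing.maximalIdeal A') (B' ⧸ q') = 0 := by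
    letI : Field (A' ⧸ IsLocalRing.maximalIdeal A') := Ideal.Quotient.field _
    letI : Field (B' ⧸ q') := Ideal.Quotient.field q'
    have : Algebra.FiniteType A' (B' ⧸ q') :=
      Algebra.FiniteType.of_surjective (Ideal.Quotient.mkₐ A' q') Ideal.Quotient.mk_surjective
    have : Algebra.FiniteType (A' ⧸ IsLocalRing.maximalIdeal A') (B' ⧸ q') :=
      .of_restrictScalars_finiteType A' _ _
    have : Module.Finite (A' ⧸ IsLocalRing.maximalIdeal A') (B' ⧸ q') :=
      finite_of_finite_type_of_isJacobsonRing _ _
    have : Algebra.IsAlgebraic (A' ⧸ IsLocalRing.maximalIdeal A') (B' ⧸ q') := Algebra.IsAlgebraic.of_finite _ _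
    exact trdeg_eq_zero
  have htr : Algebra.trdeg A' B' = Algebra.trdeg A B := by
    have : FaithfulSMul A A' := (faithfulSMul_iff_algebraMap_injective _ _).mpr (IsLocalization.injective A' hpc)
    have : FaithfulSMul B B' := (faithfulSMul_iff_algebraMap_injective _ _).mpr (IsLocalization.injective B' hM)
    have : Algebra.IsAlgebraic A A' := IsLocalization.isAlgebraic A' p.primeCompl
    have : Algebra.IsAlgebraic B B' := IsLocalization.isAlgebraic B' M
    have e1 := trdeg_add_eq A A' (A := B')
    have e2 := trdeg_add_eq A B (A := B')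
    rw [trdeg_eq_zero (R := A) (A := A'), zero_add] at e1
    rw [trdeg_eq_zero (R := B) (A := B'), add_zero] at e2
    rw [e1, e2]
  have hh1 : q'.height = q.height := IsLocalization.height_map_of_disjoint M q hdisj
  have hh2 : (IsLocalRing.maximalIdeal A').height = p.height := by
    rw [← Localization.AtPrime.map_eq_maximalIdeal]
    exact IsLocalization.height_map_of_disjoint p.primeCompl p (Set.disjoint_left.mpr fun a ha h => ha h)
  rwa [h0, add_zero, htr, hh1, hh2] at key

end Groth.Agent.Ega11.UCDim
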