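import Groth.Agent.Ega11.DepthSpread
import Mathlib.RingTheory.Regular.RegularSequence

/-! Serre's conditions and embedded components of quotients by regular sequences. -/

set_option autoImplicit false
universe u

open IsLocalRing RingTheory.Sequence Groth.Agent.EGA4Alg4 Groth.Agent.Ega11 Groth.Agent.Ega11.SkAt
  Groth.Agent.Ega11.DepthSpread
open scoped Pointwise

namespace Groth.Agent.Ega11.RegSeqSk

variable {A : Type u} [CommRing A] [IsNoetherianRing A]

theorem cmp_of_regular {M : Type u} [AddCommGroup M] [Module A M] [Module.Finite A M] (x : A)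
    (q : PrimeSpectrum A) (hxq : x ∈ q.asIdeal)
    (hreg : IsSMulRegular (LocalizedModule q.asIdeal.primeCompl M) (algebraMap A (Localization.AtPrime q.asIdeal) x)) :
    dp M q = dp (QuotSMulTop x M) q + 1 ∧ dm M q = dm (QuotSMulTop x M) q + 1 := by
  let S := q.asIdeal.primeCompl
  have : IsNoetherianRing (Localization.AtPrime q.asIdeal) := IsLocalization.isNoetherianRing S _ inferInstance
  have := finite_loc M q
  have hxm : algebraMap A (Localization.AtPrime q.asIdeal) x ∈ maximalIdeal (Localization.AtPrime q.asIdeal) :=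
    (IsLocalization.AtPrime.to_map_mem_maximal_iff (Localization.AtPrime q.asIdeal) q.asIdeal x).mpr hxq
  let e := LC17.quotLocEquiv S (M := M) x
  simp only [dp, dm]
  rw [← depth_quotSMulTop_add_one hxm hreg, depth_eq_of_equiv e,
    ← Module.supportDim_quotSMulTop_succ_eq_supportDim hreg hxm, Module.supportDim_eq_of_equiv e]
  exact ⟨rfl, rfl⟩

theorem hasSk_congr {M N : Type u} [AddCommGroup M] [Module A M] [AddCommGroup N] [Module A N] (e : M ≃ₗ[A] N)
    (k : ℕ) (h : LocCoh.HasSk k A M) : LocCoh.HasSk k A N := by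
  intro p _
  have := h p
  rwa [show LocCoh.depth _ (LocalizedModule p.primeCompl M) = dp N ⟨p, inferInstance⟩ from dp_congr e ⟨p, inferInstance⟩,
    show Module.supportDim _ (LocalizedModule p.primeCompl M) = dm N ⟨p, inferInstance⟩ from dm_congr e ⟨p, inferInstance⟩] at this

theorem hasSk_quotSMulTop {M : Type u} [AddCommGroup M] [Module A M] [Module.Finite A M] (k : ℕ) (x : A)
    (hx : IsSMulRegular M x) (h : LocCoh.HasSk (k + 1) A M) : LocCoh.HasSk k A (QuotSMulTop x M) := by
  intro P _
  by_cases hxP : x ∈ P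
  · have hreg := FiniteChange.isSMulRegular_loc x P fun Q hQ _ hxQ => not_regular_of_mem_assoc hQ x hxQ hx
    obtain ⟨e1, e2⟩ := cmp_of_regular x ⟨P, inferInstance⟩ hxP hreg
    have := h P
    simp only [dp, dm] at e1 e2
    rw [e1, e2] at this
    exact (SkOpen.min_succ_le_iff k _ _).mp this
  · exact SkOpen.good_of_subsingleton k ⟨P, inferInstance⟩ (SkOpen.subsingleton_loc x (fun m => by
      obtain ⟨m, rfl⟩ := Submodule.Quotient.mk_surjective _ m
      rw [← Submodule.Quotient.mk_smul, Submodule.Quotient.mk_eq_zero]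
      exact Submodule.smul_mem_pointwise_smul m x ⊤ trivial) P hxP)

theorem hasSk_one_quot : ∀ (rs : List A) (k : ℕ) (M : Type u) [AddCommGroup M] [Module A M] [Module.Finite A M],
    rs.length < k → LocCoh.HasSk k A M → IsWeaklyRegular M rs →
      LocCoh.HasSk 1 A (M ⧸ (Ideal.ofList rs • (⊤ : Submodule A M)))
  | [], k, M, _, _, _, hk, h, _ => by
    refine hasSk_congr (Submodule.quotEquivOfEqBot _ (by rw [Ideal.ofList_nil, Submodule.bot_smul])).symm 1 ?_
    exact fun p _ => le_trans (min_le_min_right _ (by exact_mod_cast (show 1 ≤ k by simp at hk; omega))) (h p)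
  | x :: rs, 0, _, _, _, _, hk, _, _ => absurd hk (by simp)
  | x :: rs, k + 1, M, _, _, _, hk, h, hreg => by
    rw [isWeaklyRegular_cons_iff] at hreg
    exact hasSk_congr (Submodule.quotOfListConsSMulTopEquivQuotSMulTopInner M x rs).symm 1
      (hasSk_one_quot rs k (QuotSMulTop x M) (by simpa using hk) (hasSk_quotSMulTop k x hreg.1 h) hreg.2)

theorem eq_of_le_of_assoc {M : Type u} [AddCommGroup M] [Module A M] [Module.Finite A M]
    (h : LocCoh.HasSk 1 A M) {p q : Ideal A} (hp : p ∈ associatedPrimes A M) (hq : q ∈ associatedPrimes A M)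
    (hpq : p ≤ q) : p = q := by
  have hann := (CAlg1.noEmbedded_iff_S1 (R := A) (M := M)).mpr h
  exact le_antisymm hpq ((hann q hq).2 (hann p hp).1 hpq)

/-- localizing at the powers of `g` keeps `(S_k)` -/
theorem hasSk_away {M : Type u} [AddCommGroup M] [Module A M] [Module.Finite A M] (k : ℕ) (g : A)
    (h : LocCoh.HasSk k A M) :
    LocCoh.HasSk k (Localization.Away g) (LocalizedModule (Submonoid.powers g) M) := by
  intro P _
  let B := Localization.Away g
  have : IsNoetherianRing B := IsLocalization.isNoetherianRing (Submonoid.powers g) B inferInstance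
  have hB : Frac (A := A) (B := B) (Submonoid.powers g) := fun b => by
    obtain ⟨⟨a, t⟩, hb⟩ := IsLocalization.surj (Submonoid.powers g) b
    exact ⟨t, t.2, a, by rw [mul_comm]; exact hb⟩
  have hT : ∀ t ∈ Submonoid.powers g, algebraMap A B t ∉ P := fun t ht hP =>
    Ideal.IsPrime.ne_top ‹P.IsPrime› (Ideal.eq_top_of_isUnit_mem _ hP
      (IsLocalization.map_units B (⟨t, ht⟩ : Submonoid.powers g)))
  let f := LocalizedModule.mkLinearMap (Submonoid.powers g) M
  rw [supportDim_transfer f hB P hT, depth_transfer f hB P hT]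
  exact h _

/-- weak regularity of `xs` on `M_g`, on the level of elements -/
def W (g : A) : List A → ∀ (M : Type u) [AddCommGroup M] [Module A M], Prop
  | [], _, _, _ => True
  | x :: xs, M, _, _ => (∀ m : M, x • m = 0 → ∃ n : ℕ, g ^ n • m = 0) ∧ W g xs (QuotSMulTop x M)

omit [IsNoetherianRing A] in
theorem W.mono {g g' : A} (hgg' : g ∣ g') : ∀ (xs : List A) (M : Type u) [AddCommGroup M] [Module A M],
    W g xs M → W g' xs M
  | [], _, _, _, _ => trivial
  | x :: xs, M, _, _, h => by
    refine ⟨fun m hm => ?_, W.mono hgg' xs _ h.2⟩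
    obtain ⟨n, hn⟩ := h.1 m hm
    obtain ⟨c, rfl⟩ := hgg'
    exact ⟨n, by rw [mul_pow, mul_comm, mul_smul, hn, smul_zero]⟩

theorem W.isWeaklyRegular {g : A} : ∀ (xs : List A) (M : Type u) [AddCommGroup M] [Module A M],
    W g xs M → IsWeaklyRegular (LocalizedModule (Submonoid.powers g) M) (xs.map (algebraMap A (Localization.Away g)))
  | [], _, _, _, _ => IsWeaklyRegular.nil _ _
  | x :: xs, M, _, _, h => by
    let S := Submonoid.powers g
    rw [List.map_cons, isWeaklyRegular_cons_iff]
    refine ⟨IsSMulRegular.of_right_eq_zero_of_smul fun z hz => ?_, ?_⟩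
    · obtain ⟨⟨m, s⟩, rfl⟩ := IsLocalizedModule.mk'_surjective S (LocalizedModule.mkLinearMap S M) z
      simp only [Function.uncurry_apply_pair, algebraMap_smul] at hz ⊢
      rw [← IsLocalizedModule.mk'_smul, IsLocalizedModule.mk'_eq_zero'] at hz
      rw [IsLocalizedModule.mk'_eq_zero']
      obtain ⟨⟨_, a, rfl⟩, ha⟩ := hz
      have ha : x • (g ^ a • m) = 0 := by rw [smul_comm]; exact ha
      obtain ⟨n, hn⟩ := h.1 _ ha
      exact ⟨⟨g ^ (n + a), n + a, rfl⟩, show g ^ (n + a) • m = 0 by rw [pow_add, mul_smul]; exact hn⟩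
    · exact ((LC17.quotLocEquiv S (M := M) x).isWeaklyRegular_congr _).mp
        (W.isWeaklyRegular xs (QuotSMulTop x M) h.2)

theorem exists_seq (p : PrimeSpectrum A) : ∀ (r : ℕ) (M : Type u) [AddCommGroup M] [Module A M] [Module.Finite A M],
    p ∈ Module.support A M → dp M p = r →
      ∃ g : A, g ∉ p.asIdeal ∧ ∃ xs : List A, xs.length = r ∧ W g xs M ∧
        dp (M ⧸ (Ideal.ofList xs • (⊤ : Submodule A M))) p = 0 ∧
        dm (M ⧸ (Ideal.ofList xs • (⊤ : Submodule A M))) p + r = dm M p := by
  intro r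
  induction r with
  | zero =>
    intro M _ _ _ _ hd
    let e := Submodule.quotEquivOfEqBot (Ideal.ofList ([] : List A) • (⊤ : Submodule A M))
      (by rw [Ideal.ofList_nil, Submodule.bot_smul])
    exact ⟨1, one_notMem p, [], rfl, trivial, by rw [dp_congr e]; exact_mod_cast hd,
      by rw [dm_congr e]; simp⟩
  | succ r ih =>
    intro M _ _ _ hsupp hd
    have hass : p.asIdeal ∉ associatedPrimes A M := fun h => by
      have := (CAlg1.depth_atPrime_eq_zero_iff p.asIdeal).mpr h
      simp only [dp] at hd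
      rw [this] at hd
      exact absurd hd.symm (by simp)
    obtain ⟨x, hxp, c, hc, hreg⟩ := exists_regular p hass
    obtain ⟨e1, e2⟩ := cmp_of_regular x p hxp (hreg p hc)
    rw [e1] at hd
    have hd' : dp (QuotSMulTop x M) p = r :=
      WithTop.add_right_cancel (show (1 : ℕ∞) ≠ ⊤ by simp)  (hd.trans (by push_cast; rfl))
    have hsupp' : p ∈ Module.support A (QuotSMulTop x M) := by
      by_contra h
      rw [Module.notMem_support_iff] at h
      rw [dp_of_subsingleton h] at hd'
      exact absurd hd'.symm (ENat.natCast_ne_top r)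
    obtain ⟨g, hg, xs, hlen, hW, h0, hdim⟩ := ih (QuotSMulTop x M) hsupp' hd'
    refine ⟨c * g, fun h => (p.2.mem_or_mem h).elim hc hg, x :: xs, by simp [hlen],
      ⟨fun m hm => ?_, W.mono (Dvd.intro_left c rfl) xs _ hW⟩, ?_, ?_⟩
    · have : c ∈ (Submodule.colon ⊥ ({m} : Set M) : Ideal A).radical := by
        rw [Ideal.radical_eq_sInf, Ideal.mem_sInf]
        rintro P ⟨hle, hP⟩
        by_contra hcP
        have hz : (LocalizedModule.mkLinearMap P.primeCompl M) m = 0 :=
          (hreg ⟨P, hP⟩ hcP).right_eq_zero_of_smul (by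
            rw [algebraMap_smul, ← map_smul, hm, map_zero])
        obtain ⟨⟨u, hu⟩, hu'⟩ := (IsLocalizedModule.eq_zero_iff P.primeCompl (LocalizedModule.mkLinearMap P.primeCompl M)).mp hz
        exact hu (hle (Submodule.mem_colon_singleton.mpr (by rw [Submodule.mem_bot]; exact hu')))
      obtain ⟨n, hn⟩ := this
      refine ⟨n, ?_⟩
      rw [Submodule.mem_colon_singleton, Submodule.mem_bot] at hn
      rw [mul_pow, mul_comm, mul_smul, hn, smul_zero]
    · rw [dp_congr (Submodule.quotOfListConsSMulTopEquivQuotSMulTopInner M x xs), h0]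
    · rw [dm_congr (Submodule.quotOfListConsSMulTopEquivQuotSMulTopInner M x xs), e2, ← hdim]
      push_cast
      rw [add_assoc]

end Groth.Agent.Ega11.RegSeqSk
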