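import Groth.Agent.Ega11.FibreComp
import Groth.Agent.EGA4H10.NormalFlat
import Groth.Agent.EGA4H10.CplQuot
import Groth.Agent.EGA4H10.GRingLoc
import Groth.Prelude.Def_Found
import Mathlib

/-! Fibres under base change along localizations and quotients. -/

set_option autoImplicit false
universe u

open TensorProduct IsLocalRing

namespace Groth.Agent.Ega11.FibreBaseChange

variable {A B T : Type u} [CommRing A] [CommRing B] [CommRing T] [Algebra A B] [Algebra A T]
  (hT : (algebraMap A T).SurjectiveOnStalks) {S : Type u} [CommRing S] [Algebra T S]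
  (φ : T ⊗[A] B ≃ₐ[T] S)

include hT φ in
/-- The fibre of the base change is the fibre, over an isomorphic residue field. -/
theorem exists_field_fiber (P : Ideal T) [P.IsPrime] :
    ∃ (g : (P.under A).ResidueField →+* P.ResidueField), Function.Bijective g ∧
      ∀ (K : Type u) [Field K] [Algebra P.ResidueField K] [Algebra (P.under A).ResidueField K],
        (algebraMap P.ResidueField K).comp g = algebraMap (P.under A).ResidueField K →
          Nonempty (K ⊗[(P.under A).ResidueField] (P.under A).Fiber B ≃+* K ⊗[P.ResidueField] P.Fiber S) := by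
  let g : (P.under A).ResidueField →ₐ[A] P.ResidueField :=
    Ideal.ResidueField.mapₐ (P.under A) P (Algebra.ofId A T) rfl
  refine ⟨g.toRingHom, RingHom.SurjectiveOnStalks.residueFieldMap_bijective hT (P.under A) P rfl,
    fun K _ _ _ hK => ?_⟩
  let : Algebra A K := ((algebraMap P.ResidueField K).comp (algebraMap A P.ResidueField)).toAlgebra
  let : Algebra T K := ((algebraMap P.ResidueField K).comp (algebraMap T P.ResidueField)).toAlgebra
  have : IsScalarTower T P.ResidueField K := IsScalarTower.of_algebraMap_eq fun _ => rfl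
  have : IsScalarTower A P.ResidueField K := IsScalarTower.of_algebraMap_eq fun _ => rfl
  have : IsScalarTower A T K := IsScalarTower.of_algebraMap_eq fun a => by
    show algebraMap P.ResidueField K (algebraMap A P.ResidueField a) = algebraMap P.ResidueField K (algebraMap T P.ResidueField (algebraMap A T a))
    rw [← IsScalarTower.algebraMap_apply A T P.ResidueField]
  have : IsScalarTower A (P.under A).ResidueField K := IsScalarTower.of_algebraMap_eq fun a => by
    rw [← RingHom.congr_fun hK (algebraMap A _ a)]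
    exact congrArg (algebraMap P.ResidueField K) (g.commutes a).symm
  exact ⟨(Algebra.TensorProduct.cancelBaseChange A (P.under A).ResidueField (P.under A).ResidueField K B).toRingEquiv.trans
    ((Algebra.TensorProduct.cancelBaseChange A T T K B).symm.toRingEquiv.trans
      ((Algebra.TensorProduct.congr (AlgEquiv.refl (R := T) (A₁ := K)) φ).toRingEquiv.trans
        (Algebra.TensorProduct.cancelBaseChange T P.ResidueField P.ResidueField K S).symm.toRingEquiv))⟩

include hT φ in
theorem exists_geom_equiv (P : Ideal T) [P.IsPrime] (K : Type u) [Field K] [Algebra P.ResidueField K]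
    [Module.Finite P.ResidueField K] :
    ∃ _ : Algebra (P.under A).ResidueField K, Module.Finite (P.under A).ResidueField K ∧
      Nonempty (K ⊗[(P.under A).ResidueField] (P.under A).Fiber B ≃+* K ⊗[P.ResidueField] P.Fiber S) := by
  obtain ⟨g, hg, h⟩ := exists_field_fiber hT φ P
  let : Algebra (P.under A).ResidueField P.ResidueField := g.toAlgebra
  let : Algebra (P.under A).ResidueField K := ((algebraMap P.ResidueField K).comp g).toAlgebra
  have : IsScalarTower (P.under A).ResidueField P.ResidueField K := IsScalarTower.of_algebraMap_eq fun _ => rfl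
  have : Module.Finite (P.under A).ResidueField P.ResidueField :=
    Module.Finite.of_surjective (Algebra.linearMap (P.under A).ResidueField P.ResidueField) hg.2
  exact ⟨_, Module.Finite.trans P.ResidueField K, h K rfl⟩

include hT φ in
theorem exists_fiber_equiv (P : Ideal T) [P.IsPrime] :
    Nonempty ((P.under A).Fiber B ≃+* P.Fiber S) := by
  obtain ⟨e⟩ := FibreComp.exists_fiber_equiv (B := B) hT P
  exact ⟨e.trans (Algebra.TensorProduct.congr (AlgEquiv.refl (R := T) (A₁ := P.ResidueField)) φ).toRingEquiv⟩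

include hT φ in
theorem isRegularHom (h : CAlg.IsRegularHom A B) : CAlg.IsRegularHom T S := by
  obtain ⟨hflat, hfib⟩ := h
  refine ⟨Module.Flat.of_linearEquiv φ.symm.toLinearEquiv, fun P _ => ?_⟩
  obtain ⟨hN, hG⟩ := hfib (P.under A)
  obtain ⟨e⟩ := exists_fiber_equiv hT φ P
  refine ⟨isNoetherianRing_of_ringEquiv _ e, fun K _ _ hK => ?_⟩
  obtain ⟨_, hfin, ⟨eK⟩⟩ := exists_geom_equiv hT φ P K
  have := hG K hfin
  exact IsRegularRing.of_ringEquiv (R := K ⊗[(P.under A).ResidueField] (P.under A).Fiber B) eK

include hT φ in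
theorem isGeomNormal_fiber (P : Ideal T) [P.IsPrime]
    (h : EGA4.IsGeomNormal (P.under A).ResidueField ((P.under A).Fiber B)) :
    EGA4.IsGeomNormal P.ResidueField (P.Fiber S) := by
  intro K _ _ hK
  obtain ⟨_, hfin, ⟨eK⟩⟩ := exists_geom_equiv hT φ P K
  exact EGA4H10.isNormalRing_of_ringEquiv eK (h K hfin)

include hT φ in
theorem isNormalHom (h : EGA4.IsNormalHom A B) : EGA4.IsNormalHom T S := by
  obtain ⟨hflat, hfib⟩ := h
  exact ⟨Module.Flat.of_linearEquiv φ.symm.toLinearEquiv, fun P _ => isGeomNormal_fiber hT φ P (hfib _)⟩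

include hT φ in
theorem isGeometricallyReduced_fiber (P : Ideal T) [P.IsPrime]
    (h : Algebra.IsGeometricallyReduced (P.under A).ResidueField ((P.under A).Fiber B)) :
    Algebra.IsGeometricallyReduced P.ResidueField (P.Fiber S) := by
  rw [Algebra.isGeometricallyReduced_field_iff]
  suffices ∀ (K : Type u) [Field K] [Algebra P.ResidueField K] [Algebra.IsAlgebraic P.ResidueField K],
      IsReduced (K ⊗[P.ResidueField] P.Fiber S) from this _
  intro K _ _ _
  obtain ⟨g, hg, he⟩ := exists_field_fiber hT φ P
  let : Algebra (P.under A).ResidueField P.ResidueField := g.toAlgebra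
  let : Algebra (P.under A).ResidueField K := ((algebraMap P.ResidueField K).comp g).toAlgebra
  have : IsScalarTower (P.under A).ResidueField P.ResidueField K := IsScalarTower.of_algebraMap_eq fun _ => rfl
  have : Module.Finite (P.under A).ResidueField P.ResidueField :=
    Module.Finite.of_surjective (Algebra.linearMap (P.under A).ResidueField P.ResidueField) hg.2
  have : Algebra.IsAlgebraic (P.under A).ResidueField K :=
    Algebra.IsAlgebraic.trans (P.under A).ResidueField P.ResidueField K
  obtain ⟨eK⟩ := he K rfl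
  exact isReduced_of_injective eK.symm.toRingHom eK.symm.injective

include hT φ in
theorem isCohenMacaulayRing_fiber [IsNoetherianRing B] (P : Ideal T) [P.IsPrime]
    (h : LocCoh.IsCohenMacaulayRing ((P.under A).Fiber B)) : LocCoh.IsCohenMacaulayRing (P.Fiber S) := by
  obtain ⟨e⟩ := exists_fiber_equiv hT φ P
  have := (FibreComp.isNoetherianRing_fiber (B := B) (P.under A)).2
  have : IsNoetherianRing (P.Fiber S) := isNoetherianRing_of_ringEquiv _ e
  exact FibreComp.isCohenMacaulayRing_iff.mpr fun k =>
    FibreComp.hasSk_of_ringEquiv e k (FibreComp.isCohenMacaulayRing_iff.mp h k)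

omit hT φ
/-- localization of a homomorphism as a base change -/
theorem exists_localization {A' B' : Type u} [CommRing A'] [CommRing B'] [Algebra A A'] [Algebra B B']
    [Algebra A' B'] [Algebra A B'] [IsScalarTower A A' B'] [IsScalarTower A B B'] (M : Submonoid A)
    [IsLocalization M A'] [IsLocalization (Algebra.algebraMapSubmonoid B M) B'] :
    (algebraMap A A').SurjectiveOnStalks ∧ Nonempty (A' ⊗[A] B ≃ₐ[A'] B') := by
  have h : Algebra.IsPushout A A' B B' :=
    have : Algebra.IsPushout A B A' B' := Algebra.isPushout_of_isLocalization M _ _ _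
    this.symm
  exact ⟨RingHom.surjectiveOnStalks_of_isLocalization (M := M) A', ⟨Algebra.IsPushout.equiv A A' B B'⟩⟩

/-- the completion of a quotient as a base change -/
theorem exists_cpl_quotient (A : Type u) [CommRing A] [IsNoetherianRing A] [IsLocalRing A] (I : Ideal A)
    [Nontrivial (A ⧸ I)] :
    (algebraMap A (A ⧸ I)).SurjectiveOnStalks ∧
      Nonempty ((A ⧸ I) ⊗[A] EGA4.Cpl A ≃ₐ[A ⧸ I] EGA4.Cpl (A ⧸ I)) := by
  have hs : Function.Surjective (algebraMap A (A ⧸ I)) := Ideal.Quotient.mk_surjective
  refine ⟨RingHom.surjectiveOnStalks_of_surjective hs, ?_⟩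
  let Ac := EGA4.Cpl A
  let e1 : (A ⧸ I) ⊗[A] Ac ≃+* Ac ⊗[A] (A ⧸ I) := (Algebra.TensorProduct.comm A (A ⧸ I) Ac).toRingEquiv
  let e2 : Ac ⊗[A] (A ⧸ I) ≃+* Ac ⧸ I.map (algebraMap A Ac) :=
    (Algebra.TensorProduct.quotIdealMapEquivTensorQuot Ac I).symm.toRingEquiv
  have hk : RingHom.ker (algebraMap A (A ⧸ I)) = I := Ideal.mk_ker
  let e3 : (Ac ⧸ I.map (algebraMap A Ac)) ≃+* EGA4.Cpl (A ⧸ I) :=
    (Ideal.quotEquivOfEq (by rw [hk])).trans (EGA4H10.cplQuotEquiv A (A ⧸ I) hs)
  refine ⟨AlgEquiv.ofRingEquiv (f := (e1.trans e2).trans e3) fun x => ?_⟩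
  obtain ⟨a, rfl⟩ := Ideal.Quotient.mk_surjective x
  have h1 : algebraMap (A ⧸ I) ((A ⧸ I) ⊗[A] Ac) (Ideal.Quotient.mk I a) = (1 : A ⧸ I) ⊗ₜ[A] algebraMap A Ac a := by
    rw [Algebra.TensorProduct.algebraMap_apply, Algebra.algebraMap_self, RingHom.id_apply,
      show Ideal.Quotient.mk I a = a • (1 : A ⧸ I) by rw [Algebra.smul_def, mul_one]; rfl,
      TensorProduct.smul_tmul, Algebra.algebraMap_eq_smul_one]
  rw [h1]
  show e3 (e2 (e1 ((1 : A ⧸ I) ⊗ₜ[A] algebraMap A Ac a))) = _
  rw [show e2 (e1 ((1 : A ⧸ I) ⊗ₜ[A] algebraMap A Ac a)) = Ideal.Quotient.mk _ (algebraMap A Ac a) from by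
    apply e2.symm.injective
    rw [RingEquiv.symm_apply_apply]
    rfl]
  exact EGA4H10.cplMap_algebraMap A (A ⧸ I) hs a

end Groth.Agent.Ega11.FibreBaseChange
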