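import Groth.Prelude.Def_EGA4b
import Mathlib

set_option autoImplicit false
universe u

open TensorProduct

namespace Groth.Agent.Ega11.NormalLoc

theorem isNormalRing_localization {A : Type u} [CommRing A] (h : EGA4.IsNormalRing A) (M : Submonoid A)
    (B : Type u) [CommRing B] [Algebra A B] [IsLocalization M B] : EGA4.IsNormalRing B := by
  intro P _
  obtain ⟨h1, h2⟩ := h (P.comap (algebraMap A B))
  have : IsLocalization.AtPrime (Localization.AtPrime P) (P.comap (algebraMap A B)) :=
    IsLocalization.isLocalization_isLocalization_atPrime_isLocalization M (Localization.AtPrime P) P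
  let e := (IsLocalization.algEquiv (P.comap (algebraMap A B)).primeCompl
    (Localization.AtPrime (P.comap (algebraMap A B))) (Localization.AtPrime P)).toRingEquiv
  exact ⟨e.symm.toMulEquiv.isDomain, IsIntegrallyClosed.of_equiv e⟩

theorem isGeomNormal_localization {k : Type u} [Field k] {A : Type u} [CommRing A] [Algebra k A]
    (M : Submonoid A) (B : Type u) [CommRing B] [Algebra A B] [IsLocalization M B] [Algebra k B]
    [IsScalarTower k A B] (h : EGA4.IsGeomNormal k A) : EGA4.IsGeomNormal k B := by
  intro k' _ _ hfin
  letI : Algebra (k' ⊗[k] A) (k' ⊗[k] B) :=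
    (Algebra.TensorProduct.map (AlgHom.id k k') (IsScalarTower.toAlgHom k A B)).toAlgebra
  have : IsScalarTower k' (k' ⊗[k] A) (k' ⊗[k] B) :=
    .of_algebraMap_eq <| by intro; simp [RingHom.algebraMap_toAlgebra]
  have := IsLocalization.tensorProduct_tensorProduct_right k k' M B
    (by ext; simp [RingHom.algebraMap_toAlgebra])
  exact isNormalRing_localization (h k' hfin) (M.map (Algebra.TensorProduct.includeRight (R := k) (A := k'))) _

end Groth.Agent.Ega11.NormalLoc
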