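import Groth.Agent.Ega11.GeomComp
import Groth.Agent.Hens22.CompletionUnrAdic
import Groth.Agent.CAlg5.RegularHom
import Groth.Agent.EGA4H10.CompleteUC
import Groth.Agent.FlatMor67.SmoothIsRegular
import Groth.Prelude.Def_FSch3
import Mathlib

/-! The map of completions of a flat local homomorphism. -/

set_option autoImplicit false
universe u

open TensorProduct IsLocalRing

namespace Groth.Agent.Ega11.FormalDescent

variable (A A' : Type u) [CommRing A] [CommRing A'] [IsNoetherianRing A] [IsNoetherianRing A']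
  [IsLocalRing A] [IsLocalRing A'] [Algebra A A'] [IsLocalHom (algebraMap A A')] [Module.Flat A A']

theorem exists_cpl_map :
    ∃ (_ : Algebra (EGA4.Cpl A) (EGA4.Cpl A')), IsScalarTower A (EGA4.Cpl A) (EGA4.Cpl A') ∧
      IsScalarTower A A' (EGA4.Cpl A') ∧ IsNoetherianRing (EGA4.Cpl A) ∧ IsNoetherianRing (EGA4.Cpl A') ∧
      Module.FaithfullyFlat A' (EGA4.Cpl A') ∧ Module.FaithfullyFlat (EGA4.Cpl A) (EGA4.Cpl A') := by
  have hle : (maximalIdeal A).map (algebraMap A A') ≤ maximalIdeal A' :=
    ((IsLocalRing.local_hom_TFAE (algebraMap A A')).out 0 2).mp ‹_›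
  let φ : EGA4.Cpl A →+* EGA4.Cpl A' := FSch.complMap (maximalIdeal A) (maximalIdeal A') (algebraMap A A') hle
  letI : Algebra (EGA4.Cpl A) (EGA4.Cpl A') := φ.toAlgebra
  have hT : IsScalarTower A A' (EGA4.Cpl A') := inferInstance
  have hT' : IsScalarTower A (EGA4.Cpl A) (EGA4.Cpl A') := IsScalarTower.of_algebraMap_eq fun a => by
    refine AdicCompletion.ext_evalₐ fun n => ?_
    change _ = AdicCompletion.evalₐ _ n (φ (algebraMap A (EGA4.Cpl A) a))
    rw [show φ = _ from rfl]
    simp only [FSch.complMap, AdicCompletion.evalₐ_liftRingHom, RingHom.comp_apply,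
      IsScalarTower.algebraMap_apply A A' (EGA4.Cpl A'), AlgHom.toRingHom_eq_coe, RingHom.coe_coe,
      AlgHom.commutes]
    rfl
  have hC := Hens22.isCompl'_adic A
  have hD := Hens22.isCompl'_adic A'
  have := hC.isLocalHom
  have := hD.isLocalHom
  have := hD.flat
  have : IsLocalHom (algebraMap (EGA4.Cpl A) (EGA4.Cpl A')) := Hens22.isLocalHom_completed hC hD
  have : Module.Flat (EGA4.Cpl A) (EGA4.Cpl A') := Hens22.flat_completed hC hD
  exact ⟨_, hT', hT, hC.noetherian, hD.noetherian, Module.FaithfullyFlat.of_flat_of_isLocalHom,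
    Module.FaithfullyFlat.of_flat_of_isLocalHom⟩

omit [IsLocalRing A] [IsLocalRing A'] [IsLocalHom (algebraMap A A')] [Module.Flat A A'] [IsNoetherianRing A]
  [IsNoetherianRing A'] in
theorem isNormalHom_of_isRegularHom (h : CAlg.IsRegularHom A A') : EGA4.IsNormalHom A A' :=
  ⟨h.1, fun p _ K _ _ hK => by
    have := (h.2 p).2 K hK
    exact FlatMor67.isNormalRing_of_regular _⟩

omit [IsLocalRing A] [IsLocalRing A'] [IsLocalHom (algebraMap A A')] [Module.Flat A A'] [IsNoetherianRing A]
  [IsNoetherianRing A'] in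
theorem isGeometricallyReduced_of_isRegularHom (h : CAlg.IsRegularHom A A') (p : Ideal A) [p.IsPrime] :
    Algebra.IsGeometricallyReduced p.ResidueField (p.Fiber A') :=
  GeomComp.isGeometricallyReduced_of_finite fun K _ _ hK => by
    have := (h.2 p).2 K hK
    refine isReduced_ofLocalizationMaximal _ fun P hP => ?_
    have := (FlatMor67.isNormalRing_of_regular (K ⊗[p.ResidueField] p.Fiber A') P).1
    infer_instance

omit [IsLocalRing A] [IsLocalRing A'] [IsLocalHom (algebraMap A A')] [Module.Flat A A'] [IsNoetherianRing A]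
  [IsNoetherianRing A'] in
theorem isCohenMacaulayRing_of_isRegularHom (h : CAlg.IsRegularHom A A') (p : Ideal A) [p.IsPrime] :
    LocCoh.IsCohenMacaulayRing (p.Fiber A') := by
  have := CAlg5.isRegularRing_of_isGeometricallyRegular (h.2 p).2
  exact ⟨fun P _ =>
    have := IsRegularRing.isRegularLocalRing_localization P
    EGA4H10.isCohenMacaulayLocalRing_of_regular _⟩

end Groth.Agent.Ega11.FormalDescent
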