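import Groth.Agent.Ega11.UCDim
import Groth.Agent.E4O.ChartDim
import Groth.Agent.E4O.FibreComp
import Groth.Prelude.Def_Found
import Mathlib

/-! Dimension of the source of a morphism locally of finite type over a locally Noetherian base. -/

set_option autoImplicit false
universe u

open AlgebraicGeometry CategoryTheory TopologicalSpace Groth.Agent.E4O

namespace Groth.Agent.Ega11.SchemeDimFormula

theorem stalk_dim_le (X : Scheme.{u}) (x : X) : ringKrullDim (X.presheaf.stalk x) ≤ topologicalKrullDim X := by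
  rw [ringKrullDim_stalk_eq_coheight]
  exact (Order.coheight_le_krullDim x).trans
    (le_of_eq (Order.krullDim_eq_of_orderIso (irreducibleSetEquivPoints (α := X)).symm))

theorem dim_le_of_stalk (X : Scheme.{u}) {c : WithBot ℕ∞} (h : ∀ x : X, ringKrullDim (X.presheaf.stalk x) ≤ c) :
    topologicalKrullDim X ≤ c := by
  refine le_trans (le_of_eq (Order.krullDim_eq_of_orderIso (irreducibleSetEquivPoints (α := X)))) ?_
  refine iSup_le fun l => le_trans ?_ (h (l 0))
  rw [ringKrullDim_stalk_eq_coheight]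
  exact WithBot.coe_le_coe.mpr (Order.length_le_coheight le_rfl)

variable {X Y : Scheme.{u}} {f : X ⟶ Y} [LocallyOfFiniteType f]

/-- A universally catenary condition may be transported to the localization of a chart. -/
theorem chart_uc (C : Chart f) (p : PrimeSpectrum C.A)
    (hY : CAlg.IsUniversallyCatenary (Y.presheaf.stalk (C.ptY p))) :
    CAlg.IsUniversallyCatenary (Localization.AtPrime p.asIdeal) := by
  obtain ⟨a, ha⟩ : ∃ _ : Algebra C.A (Y.presheaf.stalk (C.ptY p)),
      IsLocalization.AtPrime (Y.presheaf.stalk (C.ptY p)) p.asIdeal :=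
    exists_isLocalization_stalk C.j p
  let e := IsLocalization.algEquiv p.asIdeal.primeCompl (Y.presheaf.stalk (C.ptY p)) (Localization.AtPrime p.asIdeal)
  exact UCDim.isUniversallyCatenary_of_surjective e.toRingEquiv.toRingHom e.surjective hY

theorem uc_quotient {A : Type u} [CommRing A] (p₀ p : Ideal A) [p₀.IsPrime] [p.IsPrime] (h : p₀ ≤ p)
    [(p.map (Ideal.Quotient.mk p₀)).IsPrime] (hA : CAlg.IsUniversallyCatenary (Localization.AtPrime p)) :
    CAlg.IsUniversallyCatenary (Localization.AtPrime (p.map (Ideal.Quotient.mk p₀))) := by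
  have hc : p = (p.map (Ideal.Quotient.mk p₀)).comap (Ideal.Quotient.mk p₀) := by
    rw [Ideal.comap_map_quotientMk, sup_eq_right.mpr h]
  refine UCDim.isUniversallyCatenary_of_surjective
    (Localization.localRingHom p (p.map (Ideal.Quotient.mk p₀)) (Ideal.Quotient.mk p₀) hc) ?_ hA
  intro z
  obtain ⟨a, s, rfl⟩ := IsLocalization.exists_mk'_eq (p.map (Ideal.Quotient.mk p₀)).primeCompl z
  obtain ⟨a, rfl⟩ := Ideal.Quotient.mk_surjective a
  obtain ⟨s, hs⟩ := s
  obtain ⟨s, rfl⟩ := Ideal.Quotient.mk_surjective s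
  exact ⟨IsLocalization.mk' _ a (⟨s, fun h' => hs (Ideal.mem_map_of_mem _ h')⟩ : p.primeCompl),
    Localization.localRingHom_mk' _ _ _ hc _ _⟩

section Irreducible

variable [IrreducibleSpace X]

/-- In a chart, the generic point is the least prime. -/
theorem exists_generic_in_chart (C : Chart f) (q : PrimeSpectrum C.B) :
    ∃ m : PrimeSpectrum C.B, C.pt m = genericPoint X ∧ (∀ q', m ≤ q') ∧
      relHeight m q = q.asIdeal.height := by
  have : Nonempty (PrimeSpectrum C.B) := ⟨q⟩
  obtain ⟨m, hm⟩ : genericPoint X ∈ Set.range C.pt :=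
    (genericPoint_specializes (C.pt q)).mem_open C.isOpen_range ⟨q, rfl⟩
  have hle : ∀ q', m ≤ q' := fun q' => (C.specializes_iff m q').1 (hm ▸ genericPoint_specializes _)
  refine ⟨m, hm, hle, ?_⟩
  refine le_antisymm (relHeight_le_height _ _) ?_
  rw [relHeight_eq (hle q), PrimeSpectrum.height_eq_orderHeight]
  exact Order.height_le_height_apply_of_strictMono (fun x => (⟨x, hle x⟩ : Set.Ici m)) (fun _ _ h => h) q

variable (f) [IsLocallyNoetherian Y]

/-- The dimension inequality for an irreducible source. -/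
theorem stalk_dim_add_fdeg_le (x : X) :
    ringKrullDim (X.presheaf.stalk x) + (fdeg f x : ℕ) ≤
      ringKrullDim (Y.presheaf.stalk (f x)) + (fdeg f (genericPoint X) : ℕ) := by
  obtain ⟨C, ⟨q, rfl⟩, hA⟩ := exists_chart f x
  have := hA inferInstance
  obtain ⟨m, hm, hle, hrel⟩ := exists_generic_in_chart C q
  rw [C.ringKrullDim_stalk, C.apply, C.ringKrullDim_stalkY, ← hm, ← hrel]
  have h1 := C.relHeight_add_fdeg_le m q (hle q)
  have h2 := add_le_add (relHeight_le_height (PrimeSpectrum.comap (algebraMap C.A C.B) m)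
    (PrimeSpectrum.comap (algebraMap C.A C.B) q)) (le_refl (fdeg f (C.pt m) : ℕ∞))
  exact WithBot.coe_le_coe.mpr (h1.trans h2)

/-- Equality at some point over `y` when the base is universally catenary and the generic point of the
source maps to a point below everything. -/
theorem exists_stalk_dim_eq (y : Y) (hy : y ∈ Set.range f) (hη : ∀ y' : Y, f (genericPoint X) ⤳ y')
    (hY : CAlg.IsUniversallyCatenary (Y.presheaf.stalk y)) :
    ∃ x : X, f x = y ∧ ringKrullDim (X.presheaf.stalk x) =
      ringKrullDim (Y.presheaf.stalk y) + (fdeg f (genericPoint X) : ℕ) := by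
  obtain ⟨x₀, rfl⟩ := hy
  obtain ⟨C, ⟨q₀, rfl⟩, hA⟩ := exists_chart f x₀
  have := hA inferInstance
  have : IsNoetherianRing C.B := Algebra.FiniteType.isNoetherianRing C.A _
  set p := PrimeSpectrum.comap (algebraMap C.A C.B) q₀ with hp
  obtain ⟨Q, hQc, hQmax⟩ : ∃ Q : Ideal C.B, ∃ _ : Q.IsPrime ∧ q₀.asIdeal ≤ Q ∧ Q.comap (algebraMap C.A C.B) = p.asIdeal,
      ∀ q' : Ideal C.B, q'.IsPrime → Q ≤ q' → q'.comap (algebraMap C.A C.B) = p.asIdeal → q' = Q := by
    obtain ⟨Q, hQ, hQmax⟩ := set_has_maximal_iff_noetherian.mpr (inferInstance : IsNoetherian C.B C.B)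
      {Q : Ideal C.B | Q.IsPrime ∧ q₀.asIdeal ≤ Q ∧ Q.comap (algebraMap C.A C.B) = p.asIdeal}
      ⟨q₀.asIdeal, q₀.2, le_rfl, rfl⟩
    refine ⟨Q, hQ, fun q' h1 h2 h3 => ?_⟩
    by_contra hne
    exact hQmax q' ⟨h1, hQ.2.1.trans h2, h3⟩ (lt_of_le_of_ne h2 (Ne.symm hne))
  obtain ⟨hQp, -, hQover⟩ := hQc
  let q : PrimeSpectrum C.B := ⟨Q, hQp⟩
  have hqp : PrimeSpectrum.comap (algebraMap C.A C.B) q = p := PrimeSpectrum.ext hQover
  refine ⟨C.pt q, by rw [C.apply, C.apply, hqp], ?_⟩
  obtain ⟨m, hm, hle, hrel⟩ := exists_generic_in_chart C q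
  set p₀ := PrimeSpectrum.comap (algebraMap C.A C.B) m with hp₀
  have hp₀le : ∀ p' : PrimeSpectrum C.A, p₀ ≤ p' := fun p' => (C.specializesY_iff p₀ p').1 (by
    rw [← C.apply, hm]; exact hη _)
  have hp₀p : m.asIdeal.under C.A ≤ p.asIdeal := hp₀le p
  let mA := Ideal.Quotient.mk (m.asIdeal.under C.A)
  let mB := Ideal.Quotient.mk m.asIdeal
  have hpb : (p.asIdeal.map mA).IsPrime := Ideal.isPrime_map_quotientMk_of_isPrime hp₀p
  have hqb : (Q.map mB).IsPrime := Ideal.isPrime_map_quotientMk_of_isPrime (show m.asIdeal ≤ Q from hle q)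
  have : FaithfulSMul (C.A ⧸ m.asIdeal.under C.A) (C.B ⧸ m.asIdeal) :=
    (faithfulSMul_iff_algebraMap_injective _ _).2 Ideal.algebraMap_quotient_injective
  have : Algebra.FiniteType C.A (C.B ⧸ m.asIdeal) :=
    Algebra.FiniteType.of_surjective (Ideal.Quotient.mkₐ C.A m.asIdeal) Ideal.Quotient.mk_surjective
  have : Algebra.FiniteType (C.A ⧸ m.asIdeal.under C.A) (C.B ⧸ m.asIdeal) :=
    .of_restrictScalars_finiteType C.A _ _
  have hcA : ∀ a : C.A, algebraMap (C.A ⧸ m.asIdeal.under C.A) (C.B ⧸ m.asIdeal) (mA a) = mB (algebraMap C.A C.B a) :=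
    fun a => rfl
  have hmem : ∀ b : C.B, mB b ∈ Q.map mB ↔ b ∈ Q := fun b =>
    Ideal.mem_quotient_iff_mem (show m.asIdeal ≤ Q from hle q)
  have hmemA : ∀ a : C.A, mA a ∈ p.asIdeal.map mA ↔ a ∈ p.asIdeal := fun a => Ideal.mem_quotient_iff_mem hp₀p
  have hover : (Q.map mB).LiesOver (p.asIdeal.map mA) := ⟨by
    ext z
    obtain ⟨a, rfl⟩ := Ideal.Quotient.mk_surjective z
    rw [Ideal.mem_comap, hcA, hmem, hmemA, ← Ideal.mem_comap, hQover]⟩
  have hA' : CAlg.IsUniversallyCatenary (Localization.AtPrime (p.asIdeal.map mA)) :=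
    uc_quotient (m.asIdeal.under C.A) p.asIdeal hp₀p (chart_uc C p (by rwa [C.apply] at hY))
  have key := UCDim.height_eq_of_maximal_in_fibre (A := C.A ⧸ m.asIdeal.under C.A) (B := C.B ⧸ m.asIdeal)
    (p.asIdeal.map mA) hA' (Q.map mB) (fun q' hq' hle' hc' => ?_)
  · have e1 : (Q.map mB).height = q.asIdeal.height := (height_map_quotient (m := m) (q := q) (hle q)).trans hrel
    have e2 : (p.asIdeal.map mA).height = p.asIdeal.height := by
      refine (height_map_quotient (m := p₀) (q := p) (hp₀le p)).trans ?_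
      refine le_antisymm (relHeight_le_height _ _) ?_
      rw [relHeight_eq (hp₀le p), PrimeSpectrum.height_eq_orderHeight]
      exact Order.height_le_height_apply_of_strictMono (fun x => (⟨x, hp₀le x⟩ : Set.Ici p₀)) (fun _ _ h => h) p
    rw [e1, C.trdeg_eq_fdeg, e2, ← Cardinal.ofENat_nat, ← Cardinal.ofENat_add, Cardinal.ofENat_inj] at key
    rw [C.ringKrullDim_stalk, C.apply q₀, C.ringKrullDim_stalkY, ← hm, key]
    rfl
  · refine Ideal.comap_injective_of_surjective mB Ideal.Quotient.mk_surjective ?_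
    rw [Ideal.comap_map_quotientMk, sup_eq_right.mpr (show m.asIdeal ≤ Q from hle q)]
    refine hQmax _ inferInstance (fun b hb => hle' ((hmem b).mpr hb)) ?_
    ext a
    rw [Ideal.mem_comap, Ideal.mem_comap, ← hcA, ← Ideal.mem_comap, hc', hmemA]

/-- The dimension of the generic fibre is the `fdeg` of the generic point. -/
theorem dim_generic_fibre :
    topologicalKrullDim ↥(f.fiber (f (genericPoint X))) = (fdeg f (genericPoint X) : ℕ) :=
  le_antisymm ((dim_fiber_le_iff f _ _).2 fun x hx => Nat.cast_le.2 (fdeg_le (genericPoint_specializes x) hx.symm))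
    (le_dim_fiber f _)

theorem dim_le (D : WithBot ℕ∞) (hD : ∀ y ∈ Set.range f, ringKrullDim (Y.presheaf.stalk y) ≤ D) :
    topologicalKrullDim X ≤ D + (fdeg f (genericPoint X) : ℕ) :=
  dim_le_of_stalk X fun x => by
    have h1 := stalk_dim_add_fdeg_le f x
    refine le_trans (le_trans ?_ h1) (add_le_add (hD _ ⟨x, rfl⟩) le_rfl)
    exact le_add_of_nonneg_right (by exact_mod_cast Nat.zero_le _)

end Irreducible

theorem iSup_add_le {ι : Sort*} (g : ι → WithBot ℕ∞) (e : ℕ) (D : WithBot ℕ∞) (h : ∀ i, g i + (e : ℕ) ≤ D) :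
    (⨆ i, g i) + (e : ℕ) ≤ D := by
  by_cases hb : ∀ i, g i = ⊥
  · simp [hb]
  push Not at hb
  obtain ⟨i₀, hi₀⟩ := hb
  obtain ⟨a₀, ha₀⟩ := WithBot.ne_bot_iff_exists.mp hi₀
  obtain ⟨d, rfl⟩ : ∃ d : ℕ∞, D = d := by
    cases D using WithBot.recBotCoe with
    | bot =>
      have := h i₀
      rw [← ha₀, le_bot_iff, ← WithBot.coe_natCast, ← WithBot.coe_add] at this
      exact absurd this WithBot.coe_ne_bot
    | coe d => exact ⟨d, rfl⟩
  rcases eq_or_ne d ⊤ with rfl | hd
  · cases h' : (⨆ i, g i) using WithBot.recBotCoe with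
    | bot => simp
    | coe a => exact WithBot.coe_le_coe.mpr le_top
  obtain ⟨N, rfl⟩ := ENat.ne_top_iff_exists.mp hd
  have h0 := h i₀
  rw [← ha₀, ← WithBot.coe_natCast, ← WithBot.coe_add, WithBot.coe_le_coe] at h0
  have he : e ≤ N := by exact_mod_cast le_trans le_add_self h0
  have hsup : (⨆ i, g i) ≤ (((N - e : ℕ) : ℕ∞) : WithBot ℕ∞) := by
    refine iSup_le fun i => ?_
    have := h i
    cases hgi : g i using WithBot.recBotCoe with
    | bot => exact bot_le
    | coe a =>
      rw [hgi, ← WithBot.coe_natCast, ← WithBot.coe_add, WithBot.coe_le_coe] at this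
      have hfin : a ≠ ⊤ := fun h => by rw [h, top_add] at this; simp at this
      obtain ⟨b, rfl⟩ := ENat.ne_top_iff_exists.mp hfin
      rw [WithBot.coe_le_coe]
      have : b + e ≤ N := by exact_mod_cast this
      exact_mod_cast (by omega : b ≤ N - e)
  refine le_trans (add_le_add hsup le_rfl) ?_
  rw [← WithBot.coe_natCast, ← WithBot.coe_add, WithBot.coe_le_coe]
  exact_mod_cast (by omega : N - e + e ≤ N)

theorem add_right_cancel_nat {a b : WithBot ℕ∞} {e : ℕ} (h : a + (e : ℕ) = b + (e : ℕ)) : a = b := by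
  cases a using WithBot.recBotCoe with
  | bot =>
    cases b using WithBot.recBotCoe with
    | bot => rfl
    | coe b => rw [WithBot.bot_add, ← WithBot.coe_natCast, ← WithBot.coe_add] at h; exact absurd h.symm WithBot.coe_ne_bot
  | coe a =>
    cases b using WithBot.recBotCoe with
    | bot => rw [WithBot.bot_add, ← WithBot.coe_natCast, ← WithBot.coe_add] at h; exact absurd h WithBot.coe_ne_bot
    | coe b =>
      rw [← WithBot.coe_natCast, ← WithBot.coe_add, ← WithBot.coe_add, WithBot.coe_inj] at h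
      rw [WithBot.coe_inj]
      exact le_antisymm ((ENat.add_le_add_iff_right (ENat.natCast_ne_top e)).mp h.le)
        ((ENat.add_le_add_iff_right (ENat.natCast_ne_top e)).mp h.ge)

end Groth.Agent.Ega11.SchemeDimFormula

namespace Groth.Agent.Ega11.SchemeDimFormula

variable {X Y : Scheme.{u}} (f : X ⟶ Y) [LocallyOfFiniteType f] [IsLocallyNoetherian Y]

theorem dim_le_add_of_fibres (n : ℕ) (h : ∀ y : Y, topologicalKrullDim (f.fiber y) ≤ n) :
    topologicalKrullDim X ≤ topologicalKrullDim Y + n := by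
  refine dim_le_of_stalk X fun x => ?_
  obtain ⟨C, ⟨q, rfl⟩, hA⟩ := exists_chart f x
  have := hA inferInstance
  have : IsNoetherianRing C.B := Algebra.FiniteType.isNoetherianRing C.A _
  obtain ⟨m, hmq, -, hrel⟩ := exists_minimal_relHeight_eq q
  have h1 := C.relHeight_add_fdeg_le m q hmq
  rw [hrel] at h1
  have hn : fdeg f (C.pt m) ≤ n := Nat.cast_le.1 ((le_dim_fiber f (C.pt m)).trans (h _))
  have h2 : q.asIdeal.height ≤ (PrimeSpectrum.comap (algebraMap C.A C.B) q).asIdeal.height + (n : ℕ∞) :=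
    (le_self_add.trans h1).trans (add_le_add (relHeight_le_height _ _) (Nat.cast_le.2 hn))
  refine le_trans (le_trans (le_of_eq (C.ringKrullDim_stalk q)) (WithBot.coe_le_coe.mpr h2)) ?_
  rw [WithBot.coe_add, ← C.ringKrullDim_stalkY]
  exact add_le_add (stalk_dim_le Y _) le_rfl

variable [IrreducibleSpace X]

omit [LocallyOfFiniteType f] [IsLocallyNoetherian Y] in
theorem specializes_of_denseRange (hf : DenseRange f.base) (y : Y) : f (genericPoint X) ⤳ y := by
  rw [specializes_iff_mem_closure]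
  refine closure_minimal ?_ isClosed_closure (hf y)
  rintro _ ⟨x, rfl⟩
  exact specializes_iff_mem_closure.1 ((genericPoint_specializes x).map f.continuous)

theorem dim_eq_iSup_add (hη : ∀ y : Y, f (genericPoint X) ⤳ y)
    (hY : ∀ y : Y, CAlg.IsUniversallyCatenary (Y.presheaf.stalk y)) :
    topologicalKrullDim X =
      (⨆ y ∈ Set.range f, ringKrullDim (Y.presheaf.stalk y)) + (fdeg f (genericPoint X) : ℕ) := by
  refine le_antisymm (dim_le f _ fun y hy => le_iSup₂ (f := fun y _ => ringKrullDim (Y.presheaf.stalk y)) y hy)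
    (iSup_add_le _ _ _ fun y => iSup_add_le _ _ _ fun hy => ?_)
  obtain ⟨x, -, hdim⟩ := exists_stalk_dim_eq f y hy hη (hY y)
  exact hdim ▸ stalk_dim_le X x

theorem irreducible_dominant [IrreducibleSpace Y] (hf : DenseRange f.base) :
    topologicalKrullDim X ≤ topologicalKrullDim Y + topologicalKrullDim (f.fiber (genericPoint Y)) ∧
      ((∀ y : Y, CAlg.IsUniversallyCatenary (Y.presheaf.stalk y)) →
        (topologicalKrullDim X = topologicalKrullDim Y + topologicalKrullDim (f.fiber (genericPoint Y)) ↔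
          topologicalKrullDim Y = ⨆ y ∈ Set.range f.base, ringKrullDim (Y.presheaf.stalk y))) := by
  have hη := specializes_of_denseRange f hf
  have he : f (genericPoint X) = genericPoint Y :=
    ((hη _).antisymm (genericPoint_specializes _)).eq
  rw [← he, dim_generic_fibre f]
  refine ⟨dim_le f _ fun y _ => stalk_dim_le Y y, fun hY => ?_⟩
  rw [dim_eq_iSup_add f hη hY]
  exact ⟨fun h => (add_right_cancel_nat h).symm, fun h => by rw [h]⟩

theorem irreducible_fibre_bounds (hY : ∀ y : Y, CAlg.IsUniversallyCatenary (Y.presheaf.stalk y)) (n : ℕ) :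
    ((∀ y : Y, (n : WithBot ℕ∞) ≤ topologicalKrullDim (f.fiber y)) →
        topologicalKrullDim Y + n ≤ topologicalKrullDim X) ∧
      ((∀ y : Y, topologicalKrullDim (f.fiber y) = n) →
        topologicalKrullDim X = topologicalKrullDim Y + n) := by
  have key : (∀ y : Y, (n : WithBot ℕ∞) ≤ topologicalKrullDim (f.fiber y)) →
      topologicalKrullDim Y + n ≤ topologicalKrullDim X := by
    intro h
    have hsurj : ∀ y : Y, y ∈ Set.range f := by
      intro y
      by_contra hy
      have : topologicalKrullDim ↥(f.fiber y) ≤ ⊥ :=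
        (dim_fiber_le_iff f y ⊥).2 fun x hx => absurd ⟨x, hx⟩ hy
      exact absurd ((h y).trans this) (by simp)
    have hη : ∀ y : Y, f (genericPoint X) ⤳ y := specializes_of_denseRange f
      (Function.Surjective.denseRange fun y => hsurj y)
    have hn : n ≤ fdeg f (genericPoint X) := by
      have := h (f (genericPoint X))
      rw [dim_generic_fibre f] at this
      exact Nat.cast_le.1 this
    have hD : topologicalKrullDim Y ≤ ⨆ y ∈ Set.range f, ringKrullDim (Y.presheaf.stalk y) :=
      dim_le_of_stalk Y fun y => le_iSup₂ (f := fun y _ => ringKrullDim (Y.presheaf.stalk y)) y (hsurj y)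
    rw [dim_eq_iSup_add f hη hY]
    exact add_le_add hD (Nat.cast_le.2 hn)
  exact ⟨key, fun h => le_antisymm (dim_le_add_of_fibres f n fun y => (h y).le) (key fun y => (h y).ge)⟩

end Groth.Agent.Ega11.SchemeDimFormula
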