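import Groth.Agent.Cyc90.DimFormula
import Groth.Agent.E4O.DimField
import Groth.Agent.E4O.OpenDim
import Groth.Agent.Ega11.SchemeDimFormula
import Groth.Agent.EGA4Alg4.Depth
import Groth.Agent.CAlg1.Catenary
import Groth.Prelude.Def_CAlg
import Groth.Prelude.Def_Found
import Mathlib

/-! The dimension formula at an arbitrary point over a universally catenary local base. -/

set_option autoImplicit false
universe u

namespace Groth.Agent.Ega11.DimEq

theorem trdeg_residue {A B A' B' : Type u} [CommRing A] [CommRing B] [CommRing A'] [CommRing B']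
    [Algebra A B] [Algebra A A'] [Algebra B B'] [Algebra A' B'] [Algebra A B'] [IsScalarTower A A' B']
    [IsScalarTower A B B'] (S : Submonoid A) [IsLocalization S A'] (T : Submonoid B) [IsLocalization T B']
    (p : Ideal A) [p.IsPrime] (q : Ideal B) [q.IsPrime] [q.LiesOver p] (p' : Ideal A') [p'.IsPrime]
    [p'.LiesOver p] (q' : Ideal B') [q'.IsPrime] [q'.LiesOver p'] [q'.LiesOver q] :
    Algebra.trdeg (A' ⧸ p') (B' ⧸ q') = Algebra.trdeg (A ⧸ p) (B ⧸ q) := by
  classical
  have : q'.LiesOver p := Ideal.LiesOver.trans q' q p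
  have hloc : ∀ {R R' : Type u} [CommRing R] [CommRing R'] [Algebra R R'] (U : Submonoid R) [IsLocalization U R']
      (r : Ideal R) (r' : Ideal R') [r.IsPrime] [r'.IsPrime] [r'.LiesOver r],
      Algebra.IsAlgebraic (R ⧸ r) (R' ⧸ r') ∧ FaithfulSMul (R ⧸ r) (R' ⧸ r') := by
    intro R R' _ _ _ U _ r r' _ _ _
    have hinj : Function.Injective (algebraMap (R ⧸ r) (R' ⧸ r')) := FaithfulSMul.algebraMap_injective _ _
    have hmk : ∀ a : R, algebraMap (R ⧸ r) (R' ⧸ r') (Ideal.Quotient.mk r a) =
        Ideal.Quotient.mk r' (algebraMap R R' a) := fun a => rfl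
    have : IsLocalization (U.map (Ideal.Quotient.mk r)) (R' ⧸ r') := by
      refine (isLocalization_iff _ _).mpr ⟨?_, ?_, ?_⟩
      · rintro ⟨_, s, hs, rfl⟩
        exact ((IsLocalization.map_units R' (⟨s, hs⟩ : U)).map (Ideal.Quotient.mk r'))
      · intro z
        obtain ⟨z, rfl⟩ := Ideal.Quotient.mk_surjective z
        obtain ⟨⟨a, ⟨s, hs⟩⟩, h⟩ := IsLocalization.surj U z
        exact ⟨⟨Ideal.Quotient.mk r a, ⟨Ideal.Quotient.mk r s, s, hs, rfl⟩⟩, by rw [hmk, hmk, ← map_mul, h]⟩
      · intro x y h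
        exact ⟨1, by rw [hinj h]⟩
    exact ⟨IsLocalization.isAlgebraic (R' ⧸ r') (U.map (Ideal.Quotient.mk r)),
      (faithfulSMul_iff_algebraMap_injective _ _).mpr hinj⟩
  obtain ⟨a1, f1⟩ := hloc S p p'
  obtain ⟨a2, f2⟩ := hloc T q q'
  have : IsScalarTower (A ⧸ p) (A' ⧸ p') (B' ⧸ q') := IsScalarTower.of_algebraMap_eq fun x => by
    obtain ⟨x, rfl⟩ := Ideal.Quotient.mk_surjective x
    exact congrArg (Ideal.Quotient.mk q') (IsScalarTower.algebraMap_apply A A' B' x)
  have : IsScalarTower (A ⧸ p) (B ⧸ q) (B' ⧸ q') := IsScalarTower.of_algebraMap_eq fun x => by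
    obtain ⟨x, rfl⟩ := Ideal.Quotient.mk_surjective x
    exact congrArg (Ideal.Quotient.mk q') (IsScalarTower.algebraMap_apply A B B' x)
  have : FaithfulSMul (A ⧸ p) (B ⧸ q) := inferInstance
  have : FaithfulSMul (A ⧸ p) (B' ⧸ q') := inferInstance
  have : FaithfulSMul (A' ⧸ p') (B' ⧸ q') := inferInstance
  have e1 := trdeg_add_eq (A ⧸ p) (A' ⧸ p') (A := B' ⧸ q')
  have e2 := trdeg_add_eq (A ⧸ p) (B ⧸ q) (A := B' ⧸ q')
  rw [trdeg_eq_zero (R := A ⧸ p) (A := A' ⧸ p'), zero_add] at e1
  rw [trdeg_eq_zero (R := B ⧸ q) (A := B' ⧸ q'), add_zero] at e2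
  rw [e1, e2]

set_option maxHeartbeats 1000000 in
theorem height_add_trdeg_of_lies_over {A B : Type u} [CommRing A] [IsDomain A] [IsNoetherianRing A]
    [CommRing B] [IsDomain B] [Algebra A B] [FaithfulSMul A B] [Algebra.FiniteType A B]
    (p : Ideal A) [p.IsPrime] (hA : CAlg.IsUniversallyCatenary (Localization.AtPrime p))
    (q : Ideal B) [hq : q.IsPrime] [q.LiesOver p]
    :
    (q.height : Cardinal.{u}) + Algebra.trdeg (A ⧸ p) (B ⧸ q) =
      (p.height : Cardinal.{u}) + Algebra.trdeg A B := by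
  classical
  let M := Algebra.algebraMapSubmonoid B p.primeCompl
  let A' := Localization.AtPrime p
  let B' := Localization M
  have hinj : Function.Injective (algebraMap A B) := FaithfulSMul.algebraMap_injective A B
  have hM : M ≤ nonZeroDivisors B := by
    rintro _ ⟨a, ha, rfl⟩
    exact mem_nonZeroDivisors_of_ne_zero ((map_ne_zero_iff _ hinj).mpr fun h => ha (h ▸ p.zero_mem))
  have hpc : p.primeCompl ≤ nonZeroDivisors A := Ideal.primeCompl_le_nonZeroDivisors p
  have hcomapM : p.primeCompl ≤ M.comap (algebraMap A B) := fun a ha => ⟨a, ha, rfl⟩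
  let φ : A' →+* B' := IsLocalization.map B' (algebraMap A B) hcomapM
  letI : Algebra A' B' := φ.toAlgebra
  have : IsScalarTower A A' B' := IsScalarTower.of_algebraMap_eq fun a => by
    show algebraMap A B' a = φ (algebraMap A A' a)
    rw [IsLocalization.map_eq, ← IsScalarTower.algebraMap_apply]
  have : IsDomain A' := IsLocalization.isDomain_localization hpc
  have : IsDomain B' := IsLocalization.isDomain_localization hM
  have hinj' : Function.Injective (algebraMap A' B') := by
    rw [injective_iff_map_eq_zero]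
    intro x hx
    obtain ⟨a, s, rfl⟩ := IsLocalization.exists_mk'_eq p.primeCompl x
    have := congrArg (fun y => y * algebraMap A' B' (algebraMap A A' s)) hx
    rw [zero_mul, ← map_mul, IsLocalization.mk'_spec, ← IsScalarTower.algebraMap_apply] at this
    rw [IsScalarTower.algebraMap_apply A B B', map_eq_zero_iff _ (IsLocalization.injective B' hM),
      map_eq_zero_iff _ hinj] at this
    rw [this, IsLocalization.mk'_zero]
  have : FaithfulSMul A' B' := (faithfulSMul_iff_algebraMap_injective _ _).mpr hinj'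
  have hft : Algebra.FiniteType A' B' := by
    obtain ⟨G, hG⟩ := Algebra.FiniteType.out (R := A) (A := B)
    refine ⟨⟨G.image (algebraMap B B'), eq_top_iff.mpr fun z hz => ?_⟩⟩
    clear hz
    obtain ⟨b, ⟨_, a, ha, rfl⟩, rfl⟩ := IsLocalization.exists_mk'_eq M z
    have hb : algebraMap B B' b ∈ Algebra.adjoin A' ((G.image (algebraMap B B') : Finset B') : Set B') := by
      induction (hG ▸ Algebra.mem_top : b ∈ Algebra.adjoin A (G : Set B)) using Algebra.adjoin_induction with
      | mem x hx => exact Algebra.subset_adjoin (Finset.mem_coe.mpr (Finset.mem_image.mpr ⟨x, hx, rfl⟩))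
      | algebraMap r =>
        rw [← IsScalarTower.algebraMap_apply A B B', IsScalarTower.algebraMap_apply A A' B']
        exact Subalgebra.algebraMap_mem _ _
      | add x y _ _ hx hy => rw [map_add]; exact add_mem hx hy
      | mul x y _ _ hx hy => rw [map_mul]; exact mul_mem hx hy
    have key : IsLocalization.mk' B' b (⟨algebraMap A B a, a, ha, rfl⟩ : M) =
        algebraMap A' B' (IsLocalization.mk' A' (1 : A) (⟨a, ha⟩ : p.primeCompl)) * algebraMap B B' b := by
      rw [IsLocalization.mk'_eq_iff_eq_mul]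
      have h2 : algebraMap A' B' (IsLocalization.mk' A' (1 : A) (⟨a, ha⟩ : p.primeCompl)) * algebraMap B B' (algebraMap A B a) = 1 := by
        rw [← IsScalarTower.algebraMap_apply A B B', IsScalarTower.algebraMap_apply A A' B', ← map_mul,
          IsLocalization.mk'_spec, map_one, map_one]
      linear_combination -(algebraMap B B' b) * h2
    rw [key]
    exact mul_mem (Subalgebra.algebraMap_mem _ _) hb
  have hqover : ∀ a : A, algebraMap A B a ∈ q ↔ a ∈ p := fun a => by
    rw [Ideal.LiesOver.over (p := p) (P := q), Ideal.under_def, Ideal.mem_comap]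
  have hdisj : Disjoint (M : Set B) q := by
    refine Set.disjoint_left.mpr ?_
    rintro _ ⟨a, ha, rfl⟩ h
    exact ha ((hqover a).mp h)
  let q' := q.map (algebraMap B B')
  have hq'p : q'.IsPrime := IsLocalization.isPrime_of_isPrime_disjoint M _ q hq hdisj
  have hq'c : q'.comap (algebraMap B B') = q := IsLocalization.under_map_of_isPrime_disjoint M B' hq hdisj
  have hq'over : q'.LiesOver (IsLocalRing.maximalIdeal A') := ⟨by
    refine (IsLocalRing.maximalIdeal.isMaximal A').eq_of_le (Ideal.comap_ne_top _ hq'p.ne_top) ?_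
    rw [← Localization.AtPrime.map_eq_maximalIdeal, Ideal.map_le_iff_le_comap]
    intro a ha
    rw [Ideal.mem_comap, Ideal.mem_comap, ← IsScalarTower.algebraMap_apply, IsScalarTower.algebraMap_apply A B B',
      ← Ideal.mem_comap, hq'c]
    exact (hqover a).mpr ha⟩
  have key := Groth.Agent.Cyc90.height_add_trdeg_eq A' hA B' (IsLocalRing.maximalIdeal A') q'
  have h0 : Algebra.trdeg (A' ⧸ IsLocalRing.maximalIdeal A') (B' ⧸ q') = Algebra.trdeg (A ⧸ p) (B ⧸ q) := by
    have : q'.LiesOver q := ⟨hq'c.symm⟩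
    have : (IsLocalRing.maximalIdeal A').LiesOver p :=
      ⟨(Localization.AtPrime.comap_maximalIdeal (I := p)).symm⟩
    have : q'.LiesOver p := Ideal.LiesOver.trans q' q p
    exact trdeg_residue p.primeCompl M p q (IsLocalRing.maximalIdeal A') q'
  have htr : Algebra.trdeg A' B' = Algebra.trdeg A B := by
    have : FaithfulSMul A A' := (faithfulSMul_iff_algebraMap_injective _ _).mpr (IsLocalization.injective A' hpc)
    have : FaithfulSMul B B' := (faithfulSMul_iff_algebraMap_injective _ _).mpr (IsLocalization.injective B' hM)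
    have : Algebra.IsAlgebraic A A' := IsLocalization.isAlgebraic A' p.primeCompl
    have : Algebra.IsAlgebraic B B' := IsLocalization.isAlgebraic B' M
    have e1 := trdeg_add_eq A A' (A := B')
    have e2 := trdeg_add_eq A B (A := B')
    rw [trdeg_eq_zero (R := A) (A := A'), zero_add] at e1
    rw [trdeg_eq_zero (R := B) (A := B'), add_zero] at e2
    rw [e1, e2]
  have hh1 : q'.height = q.height := IsLocalization.height_map_of_disjoint M q hdisj
  have hh2 : (IsLocalRing.maximalIdeal A').height = p.height := by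
    rw [← Localization.AtPrime.map_eq_maximalIdeal]
    exact IsLocalization.height_map_of_disjoint p.primeCompl p (Set.disjoint_left.mpr fun a ha h => ha h)
  rwa [h0, htr, hh1, hh2] at key

open AlgebraicGeometry CategoryTheory TopologicalSpace Groth.Agent.E4O

/-- A Noetherian local domain of dimension at most one is Cohen–Macaulay. -/
theorem isCohenMacaulayLocalRing_of_dim_le_one {R : Type u} [CommRing R] [IsDomain R] [IsNoetherianRing R]
    [IsLocalRing R] (h : ringKrullDim R ≤ 1) : LocCoh.IsCohenMacaulayLocalRing R := by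
  refine ⟨le_antisymm ?_ (EGA4Alg4.depth_le_supportDim)⟩
  rw [Module.supportDim_self_eq_ringKrullDim]
  by_cases hm : IsLocalRing.maximalIdeal R = ⊥
  · have : ringKrullDim R ≤ 0 := by
      rw [← IsLocalRing.maximalIdeal_height_eq_ringKrullDim, hm, Ideal.height_bot]
      exact le_rfl
    exact this.trans (by exact_mod_cast (bot_le : (0 : ℕ∞) ≤ _))
  · obtain ⟨x, hx, hx0⟩ := Submodule.exists_mem_ne_zero_of_ne_bot hm
    refine h.trans ?_
    have := EGA4Alg4.length_le_depth (A := R) (M := R) (rs := [x]) (by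
      refine (RingTheory.Sequence.isWeaklyRegular_singleton_iff R x).mpr ?_
      exact (IsRegular.of_ne_zero hx0).left.isSMulRegular) (by simpa using hx)
    exact WithBot.coe_le_coe.mpr (by simpa using this)

theorem isUniversallyCatenary_of_dim_le_one {R : Type u} [CommRing R] [IsDomain R] [IsNoetherianRing R]
    [IsLocalRing R] (h : ringKrullDim R ≤ 1) : CAlg.IsUniversallyCatenary R := by
  have : LocCoh.IsCohenMacaulayRing R := ⟨fun p _ => by
    refine isCohenMacaulayLocalRing_of_dim_le_one (le_trans ?_ h)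
    rw [IsLocalization.AtPrime.ringKrullDim_eq_height p (Localization.AtPrime p)]
    exact Ideal.height_le_ringKrullDim_of_ne_top (Ideal.IsPrime.ne_top ‹_›)⟩
  exact CAlg1.isUniversallyCatenary_of_cm R

variable {X Y : Scheme.{u}} (f : X ⟶ Y) [LocallyOfFiniteType f] [IsLocallyNoetherian Y] [IrreducibleSpace X]

/-- The dimension formula at every point, for a base point of dimension at most one. -/
theorem stalk_dim_add_fdeg_eq (x : X) (hη : ∀ y' : Y, f (genericPoint X) ⤳ y')
    (hd : ringKrullDim (Y.presheaf.stalk (f x)) ≤ 1) :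
    ringKrullDim (X.presheaf.stalk x) + (fdeg f x : ℕ) =
      ringKrullDim (Y.presheaf.stalk (f x)) + (fdeg f (genericPoint X) : ℕ) := by
  obtain ⟨C, ⟨q, rfl⟩, hA⟩ := exists_chart f x
  have := hA inferInstance
  have : IsNoetherianRing C.B := Algebra.FiniteType.isNoetherianRing C.A _
  obtain ⟨m, hm, hle, hrel⟩ := SchemeDimFormula.exists_generic_in_chart C q
  set p := PrimeSpectrum.comap (algebraMap C.A C.B) q with hp
  set p₀ := PrimeSpectrum.comap (algebraMap C.A C.B) m with hp₀
  have hp₀le : ∀ p' : PrimeSpectrum C.A, p₀ ≤ p' := fun p' => (C.specializesY_iff p₀ p').1 (by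
    rw [← C.apply, hm]; exact hη _)
  have hp₀p : m.asIdeal.under C.A ≤ p.asIdeal := hp₀le p
  have hmq : m.asIdeal ≤ q.asIdeal := hle q
  let mA := Ideal.Quotient.mk (m.asIdeal.under C.A)
  let mB := Ideal.Quotient.mk m.asIdeal
  have hpb : (p.asIdeal.map mA).IsPrime := Ideal.isPrime_map_quotientMk_of_isPrime hp₀p
  have hqb : (q.asIdeal.map mB).IsPrime := Ideal.isPrime_map_quotientMk_of_isPrime hmq
  have : FaithfulSMul (C.A ⧸ m.asIdeal.under C.A) (C.B ⧸ m.asIdeal) :=
    (faithfulSMul_iff_algebraMap_injective _ _).2 Ideal.algebraMap_quotient_injective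
  have : Algebra.FiniteType C.A (C.B ⧸ m.asIdeal) :=
    Algebra.FiniteType.of_surjective (Ideal.Quotient.mkₐ C.A m.asIdeal) Ideal.Quotient.mk_surjective
  have : Algebra.FiniteType (C.A ⧸ m.asIdeal.under C.A) (C.B ⧸ m.asIdeal) :=
    .of_restrictScalars_finiteType C.A _ _
  have hcA : ∀ a : C.A, algebraMap (C.A ⧸ m.asIdeal.under C.A) (C.B ⧸ m.asIdeal) (mA a) = mB (algebraMap C.A C.B a) :=
    fun a => rfl
  have hmem : ∀ b : C.B, mB b ∈ q.asIdeal.map mB ↔ b ∈ q.asIdeal := fun b => Ideal.mem_quotient_iff_mem hmq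
  have hmemA : ∀ a : C.A, mA a ∈ p.asIdeal.map mA ↔ a ∈ p.asIdeal := fun a => Ideal.mem_quotient_iff_mem hp₀p
  have hover : (q.asIdeal.map mB).LiesOver (p.asIdeal.map mA) := ⟨by
    ext z
    obtain ⟨a, rfl⟩ := Ideal.Quotient.mk_surjective z
    rw [Ideal.mem_comap, hcA, hmem, hmemA, hp]
    rfl⟩
  have e1 : (q.asIdeal.map mB).height = q.asIdeal.height := (height_map_quotient (m := m) (q := q) (hle q)).trans hrel
  have e2 : (p.asIdeal.map mA).height = p.asIdeal.height := by
    refine (height_map_quotient (m := p₀) (q := p) (hp₀le p)).trans ?_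
    refine le_antisymm (relHeight_le_height _ _) ?_
    rw [relHeight_eq (hp₀le p), PrimeSpectrum.height_eq_orderHeight]
    exact Order.height_le_height_apply_of_strictMono (fun x => (⟨x, hp₀le x⟩ : Set.Ici p₀)) (fun _ _ h => h) p
  rw [C.apply, C.ringKrullDim_stalkY] at hd
  have : IsDomain (Localization.AtPrime (p.asIdeal.map mA)) :=
    IsLocalization.isDomain_localization (Ideal.primeCompl_le_nonZeroDivisors _)
  have hA' : CAlg.IsUniversallyCatenary (Localization.AtPrime (p.asIdeal.map mA)) := by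
    refine isUniversallyCatenary_of_dim_le_one ?_
    rw [IsLocalization.AtPrime.ringKrullDim_eq_height (p.asIdeal.map mA) (Localization.AtPrime (p.asIdeal.map mA)), e2]
    exact hd
  have key := height_add_trdeg_of_lies_over (p.asIdeal.map mA) hA' (q.asIdeal.map mB)
  let eB : (C.B ⧸ m.asIdeal) ⧸ q.asIdeal.map mB ≃+* C.B ⧸ q.asIdeal := DoubleQuot.quotQuotEquivQuotOfLE hmq
  let eA : (C.A ⧸ m.asIdeal.under C.A) ⧸ p.asIdeal.map mA ≃+* C.A ⧸ q.asIdeal.under C.A :=
    DoubleQuot.quotQuotEquivQuotOfLE hp₀p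
  have e3 := trdeg_eq_of_ringEquiv eA eB (RingHom.ext fun z => by
    obtain ⟨z, rfl⟩ := Ideal.Quotient.mk_surjective z
    obtain ⟨a, rfl⟩ := Ideal.Quotient.mk_surjective z
    rfl)
  rw [e3, C.trdeg_eq_fdeg, e1, C.trdeg_eq_fdeg, e2, ← Cardinal.ofENat_nat, ← Cardinal.ofENat_nat,
    ← Cardinal.ofENat_add, ← Cardinal.ofENat_add, Cardinal.ofENat_inj] at key
  rw [C.ringKrullDim_stalk, C.apply q, C.ringKrullDim_stalkY, ← hm, ← hp,
    ← WithBot.coe_natCast, ← WithBot.coe_natCast, ← WithBot.coe_add, ← WithBot.coe_add, key]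

theorem fdeg_eq_of_isFibreMax [IrreducibleSpace Y] (hY : topologicalKrullDim Y ≤ 1)
    (hη : ∀ y' : Y, f (genericPoint X) ⤳ y') (z : X) (hz : IsFibreMax f z) :
    fdeg f z = fdeg f (genericPoint X) := by
  by_cases hy : f z = f (genericPoint X)
  · rw [hz _ (genericPoint_specializes z) hy.symm]
  have h := stalk_dim_add_fdeg_eq f z hη ((SchemeDimFormula.stalk_dim_le Y _).trans hY)
  obtain ⟨C, ⟨q, rfl⟩, hA⟩ := exists_chart f z
  have := hA inferInstance
  obtain ⟨m, hm, hle, hrel⟩ := SchemeDimFormula.exists_generic_in_chart C q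
  have hne : m ≠ q := by rintro rfl; exact hy (by rw [hm])
  rw [C.ringKrullDim_stalk, C.apply, C.ringKrullDim_stalkY, ← WithBot.coe_natCast, ← WithBot.coe_natCast,
    ← WithBot.coe_add, ← WithBot.coe_add, WithBot.coe_inj] at h
  have h1 : q.asIdeal.height ≤ (q.asIdeal.under C.A).height := C.height_le_of_isFibreMax q hz
  have h2 : (1 : ℕ∞) ≤ q.asIdeal.height := by
    rw [PrimeSpectrum.height_eq_orderHeight]
    exact Order.one_le_iff_pos.mpr (Order.height_pos.mpr fun hq => hne (le_antisymm (hle q) (hq (hle q))))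
  have h3 : (q.asIdeal.under C.A).height ≤ 1 := by
    have := (SchemeDimFormula.stalk_dim_le Y (f (C.pt q))).trans hY
    rw [C.apply, C.ringKrullDim_stalkY] at this
    exact WithBot.coe_le_coe.mp this
  have h4 : q.asIdeal.height = (q.asIdeal.under C.A).height := le_antisymm h1 (h3.trans h2)
  have h5 : q.asIdeal.height = 1 := le_antisymm (h1.trans h3) h2
  change q.asIdeal.height + _ = (q.asIdeal.under C.A).height + _ at h
  rw [← h4, h5] at h
  have h6 : 1 + fdeg f (C.pt q) = 1 + fdeg f (genericPoint X) := by exact_mod_cast h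
  omega

end Groth.Agent.Ega11.DimEq
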