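import Groth.Agent.Ega11.FibreBaseChange
import Groth.Agent.FlatMor66.FlatDescentSource
import Mathlib

/-! Geometrically normal and geometrically reduced fibres of composites. -/

set_option autoImplicit false
universe u

open TensorProduct IsLocalRing

namespace Groth.Agent.Ega11.GeomComp

theorem isNormalRing_of_fibres (A B : Type u) [CommRing A] [CommRing B] [IsNoetherianRing A] [IsNoetherianRing B]
    [Algebra A B] [Module.Flat A B] (hA : EGA4.IsNormalRing A)
    (hfib : ∀ (p : Ideal A) [p.IsPrime], EGA4.IsNormalRing (p.Fiber B)) : EGA4.IsNormalRing B := by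
  intro q _
  refine EGA4H10.normal_localization_of_flat A B (fun r _ => ?_) q (hA _).1 (hA _).2
  obtain ⟨Q, ⟨e⟩⟩ := EGA4H10.exists_fiber_equiv (A := A) r
  obtain ⟨hd, hi⟩ := hfib (r.comap (algebraMap A B)) Q.asIdeal
  exact ⟨e.symm.toMulEquiv.isDomain _,
    @IsIntegrallyClosed.of_equiv (Localization.AtPrime Q.asIdeal) (EGA4.FibLocRing A B r) _ _ e hi⟩

theorem isReduced_of_fibres (A B : Type u) [CommRing A] [CommRing B] [IsNoetherianRing A]
    [Algebra A B] [Module.Flat A B] [IsReduced A]
    (hfib : ∀ (p : Ideal A) [p.IsPrime], IsReduced (p.Fiber B)) : IsReduced B := by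
  classical
  let ι := {p : Ideal A // p ∈ minimalPrimes A}
  have : Finite ι := (minimalPrimes.finite_of_isNoetherianRing A).to_subtype
  have : Fintype ι := Fintype.ofFinite ι
  have hp : ∀ i : ι, i.1.IsPrime := fun i => i.2.1.1
  let φ : A →ₐ[A] (∀ i : ι, i.1.ResidueField) := Algebra.ofId A _
  have hφ : Function.Injective φ := by
    rw [injective_iff_map_eq_zero]
    intro a ha
    have : a ∈ nilradical A := by
      rw [nilradical, ← Ideal.sInf_minimalPrimes]
      exact Ideal.mem_sInf.mpr fun {P} hP => by
        have : P.IsPrime := hP.1.1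
        have h1 : algebraMap A P.ResidueField a = 0 := congrFun ha ⟨P, hP⟩
        exact (Ideal.algebraMap_residueField_eq_zero (I := P) (x := a)).mp h1
    rwa [nilradical_eq_zero, Submodule.zero_eq_bot, Submodule.mem_bot] at this
  let ψ : B →ₐ[A] B ⊗[A] (∀ i : ι, i.1.ResidueField) :=
    ((Algebra.TensorProduct.map (AlgHom.id A B) φ).restrictScalars A).comp
      ((Algebra.TensorProduct.rid A A B).symm.toAlgHom)
  have hψ : Function.Injective ψ :=
    (Module.Flat.lTensor_preserves_injective_linearMap (M := B) φ.toLinearMap hφ).comp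
      (Algebra.TensorProduct.rid A A B).symm.injective
  have : ∀ i : ι, IsReduced (B ⊗[A] i.1.ResidueField) := fun i =>
    isReduced_of_injective (Algebra.TensorProduct.comm A B i.1.ResidueField).toRingHom
      (Algebra.TensorProduct.comm A B i.1.ResidueField).injective
  exact isReduced_of_injective
    ((Algebra.TensorProduct.piRight A A B fun i : ι => i.1.ResidueField).toRingHom.comp ψ.toRingHom)
    ((Algebra.TensorProduct.piRight A A B fun i : ι => i.1.ResidueField).injective.comp hψ)

theorem isGeometricallyReduced_of_finite {k S : Type u} [Field k] [CommRing S] [Algebra k S]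
    (h : ∀ (K : Type u) [Field K] [Algebra k K], Module.Finite k K → IsReduced (K ⊗[k] S)) :
    Algebra.IsGeometricallyReduced k S := by
  rw [Algebra.isGeometricallyReduced_field_iff]
  let Ω := AlgebraicClosure k
  have : IsReduced (S ⊗[k] Ω) := by
    refine IsReduced.tensorProduct_of_flat_of_forall_fg fun D hD => ?_
    have : Algebra.FiniteType k D := (Subalgebra.fg_iff_finiteType D).mp hD
    have : Algebra.IsIntegral k D := ⟨fun a =>
      (isIntegral_algHom_iff D.val Subtype.val_injective).mp (Algebra.IsIntegral.isIntegral (D.val a))⟩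
    have hfin : Module.Finite k D := Algebra.IsIntegral.finite
    letI := (isField_of_isIntegral_of_isField' (S := D) (Field.toIsField k)).toField
    have := h D hfin
    exact isReduced_of_injective (Algebra.TensorProduct.comm k S D).toRingHom
      (Algebra.TensorProduct.comm k S D).injective
  exact isReduced_of_injective (Algebra.TensorProduct.comm k Ω S).toRingHom
    (Algebra.TensorProduct.comm k Ω S).injective

variable {A B C : Type u} [CommRing A] [CommRing B] [CommRing C]
  [IsNoetherianRing B] [IsNoetherianRing C] [Algebra A B] [Algebra B C] [Algebra A C] [IsScalarTower A B C]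
  (p : Ideal A) [p.IsPrime] (l : Type u) [Field l] [Algebra p.ResidueField l] [Module.Finite p.ResidueField l]
  [Algebra A l] [IsScalarTower A p.ResidueField l]

/-- the fibre of `A → B` after a finite extension of the residue field -/
noncomputable def firstEquiv : l ⊗[p.ResidueField] p.Fiber B ≃+* B ⊗[A] l :=
  (Algebra.TensorProduct.cancelBaseChange A p.ResidueField p.ResidueField l B).toRingEquiv.trans
    (Algebra.TensorProduct.comm A l B).toRingEquiv

/-- the fibre of `A → C` after a finite extension of the residue field -/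
noncomputable def compEquiv : (B ⊗[A] l) ⊗[B] C ≃+* l ⊗[p.ResidueField] p.Fiber C :=
  (FibreComp.compEquiv l).trans
    (Algebra.TensorProduct.cancelBaseChange A p.ResidueField p.ResidueField l C).symm.toRingEquiv

include p in
theorem isNoetherianRing_first : IsNoetherianRing (B ⊗[A] l) :=
  have : Algebra.EssFiniteType A l := Algebra.EssFiniteType.comp A p.ResidueField l
  Algebra.EssFiniteType.isNoetherianRing B (B ⊗[A] l)

include p in
theorem isNoetherianRing_comp : IsNoetherianRing ((B ⊗[A] l) ⊗[B] C) :=
  have : Algebra.EssFiniteType A l := Algebra.EssFiniteType.comp A p.ResidueField l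
  have : IsNoetherianRing (C ⊗[A] l) := Algebra.EssFiniteType.isNoetherianRing C (C ⊗[A] l)
  isNoetherianRing_of_ringEquiv (C ⊗[A] l) ((Algebra.TensorProduct.comm A C l).toRingEquiv.trans
    (FibreComp.compEquiv (B := B) l).symm)

include p in
theorem quasiFinite_first : Algebra.QuasiFinite B (B ⊗[A] l) :=
  have : Algebra.QuasiFinite A l := Algebra.QuasiFinite.trans A p.ResidueField l
  inferInstance

include p in
theorem exists_fibre (P : Ideal (B ⊗[A] l)) [P.IsPrime] :
    ∃ (_ : Algebra (P.under B).ResidueField P.ResidueField),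
      Module.Finite (P.under B).ResidueField P.ResidueField ∧
      Nonempty (P.ResidueField ⊗[(P.under B).ResidueField] (P.under B).Fiber C ≃+*
        P.Fiber ((B ⊗[A] l) ⊗[B] C)) := by
  have := quasiFinite_first (B := B) p l
  have : P.LiesOver (P.under B) := ⟨rfl⟩
  letI := Localization.AtPrime.algebraOfLiesOver (P.under B) P
  exact ⟨inferInstance, inferInstance,
    ⟨((Algebra.TensorProduct.cancelBaseChange B (P.under B).ResidueField (P.under B).ResidueField P.ResidueField C).toRingEquiv).trans
      (Algebra.TensorProduct.cancelBaseChange B (B ⊗[A] l) P.ResidueField P.ResidueField C).symm.toRingEquiv⟩⟩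

theorem normal_comp [Module.Flat B C] (hAB : EGA4.IsNormalRing (l ⊗[p.ResidueField] p.Fiber B))
    (hBC : ∀ (q : Ideal B) [q.IsPrime], EGA4.IsGeomNormal q.ResidueField (q.Fiber C)) :
    EGA4.IsNormalRing (l ⊗[p.ResidueField] p.Fiber C) := by
  have := isNoetherianRing_first (B := B) p l
  have := isNoetherianRing_comp (B := B) (C := C) p l
  refine EGA4H10.isNormalRing_of_ringEquiv (compEquiv (B := B) p l)
    (isNormalRing_of_fibres (B ⊗[A] l) _ (EGA4H10.isNormalRing_of_ringEquiv (firstEquiv p l) hAB) fun P _ => ?_)
  obtain ⟨_, hfin, ⟨e⟩⟩ := exists_fibre (C := C) p l P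
  exact EGA4H10.isNormalRing_of_ringEquiv e (hBC _ P.ResidueField hfin)

theorem reduced_comp [Module.Flat B C] (hAB : IsReduced (l ⊗[p.ResidueField] p.Fiber B))
    (hBC : ∀ (q : Ideal B) [q.IsPrime], Algebra.IsGeometricallyReduced q.ResidueField (q.Fiber C)) :
    IsReduced (l ⊗[p.ResidueField] p.Fiber C) := by
  have := isNoetherianRing_first (B := B) p l
  have : IsReduced (B ⊗[A] l) := isReduced_of_injective (firstEquiv p l).symm.toRingHom (firstEquiv p l).symm.injective
  have : IsReduced ((B ⊗[A] l) ⊗[B] C) := isReduced_of_fibres (B ⊗[A] l) _ fun P _ => by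
    obtain ⟨_, hfin, ⟨e⟩⟩ := exists_fibre (C := C) p l P
    have := hBC (P.under B)
    let f : P.Fiber ((B ⊗[A] l) ⊗[B] C) →+* P.ResidueField ⊗[(P.under B).ResidueField] (P.under B).Fiber C :=
      RingEquiv.toRingHom e.symm
    exact isReduced_of_injective f e.symm.injective
  exact isReduced_of_injective (compEquiv (B := B) p l).symm.toRingHom (compEquiv (B := B) p l).symm.injective

theorem reduced_of_comp [Module.FaithfullyFlat B C] (hAC : IsReduced (l ⊗[p.ResidueField] p.Fiber C)) :
    IsReduced (l ⊗[p.ResidueField] p.Fiber B) := by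
  let T := B ⊗[A] l
  have : IsReduced (T ⊗[B] C) :=
    isReduced_of_injective (compEquiv (B := B) p l).toRingHom (compEquiv (B := B) p l).injective
  have : IsReduced T := isReduced_of_injective (algebraMap T (T ⊗[B] C))
    (FaithfulSMul.algebraMap_injective T (T ⊗[B] C))
  exact isReduced_of_injective (firstEquiv p l).toRingHom (firstEquiv p l).injective

end Groth.Agent.Ega11.GeomComp
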