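import Mathlib.Algebra.Colimit.Ring
import Mathlib.RingTheory.Nilpotent.Lemmas
import Mathlib.RingTheory.IntegralClosure.IntegrallyClosed
import Mathlib.RingTheory.Localization.FractionRing

set_option autoImplicit false
set_option linter.unusedSectionVars false
universe u v

namespace Groth.Agent.Ega11.DirectLim

variable {ι : Type u} [Preorder ι] [Nonempty ι] [IsDirectedOrder ι] {G : ι → Type v}
  [∀ i, CommRing (G i)] {f : ∀ i j, i ≤ j → G i →+* G j}
  [DirectedSystem G (fun i j h ↦ f i j h)]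

local notation "L" => Ring.DirectLimit G (fun i j h ↦ f i j h)
local notation "of'" => Ring.DirectLimit.of G (fun i j h ↦ f i j h)

theorem exists_eq {i : ι} {x y : G i} (h : of' i x = of' i y) :
    ∃ (j : ι) (hij : i ≤ j), f i j hij x = f i j hij y := by
  obtain ⟨j, hij, hj⟩ := Ring.DirectLimit.of.zero_exact (f' := f) (i := i) (x := x - y)
    (by rw [map_sub, h, sub_self])
  exact ⟨j, hij, by rwa [map_sub, sub_eq_zero] at hj⟩

theorem exists_of₂ (a b : L) : ∃ (i : ι) (x y : G i), of' i x = a ∧ of' i y = b := by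
  obtain ⟨i, x, rfl⟩ := Ring.DirectLimit.exists_of a
  obtain ⟨j, y, rfl⟩ := Ring.DirectLimit.exists_of b
  obtain ⟨k, hik, hjk⟩ := exists_ge_ge i j
  exact ⟨k, f i k hik x, f j k hjk y, Ring.DirectLimit.of_f hik x, Ring.DirectLimit.of_f hjk y⟩

theorem exists_of_family {κ : Type*} [Finite κ] (a : κ → L) :
    ∃ (i : ι) (x : κ → G i), ∀ k, of' i (x k) = a k := by
  choose i x hx using fun k ↦ Ring.DirectLimit.exists_of (a k)
  obtain ⟨m, hm⟩ := Finite.exists_le i
  exact ⟨m, fun k ↦ f _ m (hm k) (x k), fun k ↦ by rw [← hx k]; exact Ring.DirectLimit.of_f (hm k) (x k)⟩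

theorem exists_isNilpotent {i : ι} {x : G i} (h : IsNilpotent (of' i x)) :
    ∃ (j : ι) (hij : i ≤ j), IsNilpotent (f i j hij x) := by
  obtain ⟨n, hn⟩ := h
  obtain ⟨j, hij, hj⟩ := Ring.DirectLimit.of.zero_exact (f' := f) (i := i) (x := x ^ n)
    (by rw [map_pow, hn])
  exact ⟨j, hij, n, by rw [← map_pow, hj]⟩

theorem exists_isUnit {i : ι} {x : G i} (h : IsUnit (of' i x)) :
    ∃ (j : ι) (hij : i ≤ j), IsUnit (f i j hij x) := by
  obtain ⟨b, hb⟩ := isUnit_iff_exists_inv.mp h
  obtain ⟨k, y, rfl⟩ := Ring.DirectLimit.exists_of b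
  obtain ⟨m, him, hkm⟩ := exists_ge_ge i k
  have : of' m (f i m him x * f k m hkm y) = of' m 1 := by
    rw [map_mul, map_one, Ring.DirectLimit.of_f, Ring.DirectLimit.of_f, hb]
  obtain ⟨n, hmn, hn⟩ := exists_eq this
  rw [map_mul, map_one] at hn
  refine ⟨n, him.trans hmn, ?_⟩
  have := DirectedSystem.map_map (f := fun i j h ↦ f i j h) him hmn x
  rw [← this]
  exact IsUnit.of_mul_eq_one _ hn

theorem nontrivial_limit [∀ i, Nontrivial (G i)] : Nontrivial L := by
  obtain ⟨i⟩ := ‹Nonempty ι›
  refine ⟨⟨of' i 1, of' i 0, fun h ↦ ?_⟩⟩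
  obtain ⟨j, hij, hj⟩ := exists_eq h
  rw [map_one, map_zero] at hj
  exact one_ne_zero hj

theorem isDomain_limit [∀ i, IsDomain (G i)] : IsDomain L := by
  have := nontrivial_limit (G := G) (f := f)
  have : NoZeroDivisors L := ⟨fun {a b} hab ↦ by
    obtain ⟨i, x, y, rfl, rfl⟩ := exists_of₂ a b
    obtain ⟨j, hij, hj⟩ := exists_eq (i := i) (x := x * y) (y := 0) (by rw [map_mul, hab, map_zero])
    rw [map_mul, map_zero] at hj
    rcases mul_eq_zero.mp hj with h | h
    · left; rw [← Ring.DirectLimit.of_f (f := fun i j h ↦ f i j h) hij x, h, map_zero]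
    · right; rw [← Ring.DirectLimit.of_f (f := fun i j h ↦ f i j h) hij y, h, map_zero]⟩
  exact NoZeroDivisors.to_isDomain L

theorem nilradical_limit :
    nilradical L = ⨆ i, (nilradical (G i)).map (of' i) := by
  refine le_antisymm (fun a ha ↦ ?_) (iSup_le fun i ↦ Ideal.map_le_iff_le_comap.mpr fun x hx ↦ ?_)
  · obtain ⟨i, x, rfl⟩ := Ring.DirectLimit.exists_of a
    obtain ⟨j, hij, hj⟩ := exists_isNilpotent (mem_nilradical.mp ha)
    refine le_iSup (fun i ↦ (nilradical (G i)).map (of' i)) j ?_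
    rw [← Ring.DirectLimit.of_f (f := fun i j h ↦ f i j h) hij x]
    exact Ideal.mem_map_of_mem _ (mem_nilradical.mpr hj)
  · exact mem_nilradical.mpr ((mem_nilradical.mp hx).map _)

theorem isIntegrallyClosed_limit [∀ i, IsDomain (G i)] [∀ i, IsIntegrallyClosed (G i)]
    (hinj : ∀ i j (h : i ≤ j), Function.Injective (f i j h)) : IsIntegrallyClosed L := by
  have := isDomain_limit (G := G) (f := f)
  have hinj' := fun i ↦ Ring.DirectLimit.of_injective (f' := f) hinj i
  rw [isIntegrallyClosed_iff (FractionRing L)]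
  intro z hz
  obtain ⟨a, ⟨b, hb⟩, rfl⟩ := IsLocalization.exists_mk'_eq (nonZeroDivisors L) z
  obtain ⟨p, hp, hp0⟩ := hz
  obtain ⟨i, c, hc⟩ := exists_of_family (G := G) (f := f)
    (κ := Option (Option (Fin p.natDegree))) (fun o ↦ o.elim a (fun o' ↦ o'.elim b (fun k ↦ p.coeff k)))
  let q : Polynomial (G i) :=
    Polynomial.X ^ p.natDegree + ∑ k : Fin p.natDegree,
      Polynomial.C (c (some (some k))) * Polynomial.X ^ (k : ℕ)
  have hq : q.map (of' i) = p := by
    conv_rhs => rw [hp.as_sum]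
    rw [Finset.sum_range]
    simp only [q, Polynomial.map_add, Polynomial.map_pow, Polynomial.map_X, Polynomial.map_sum,
      Polynomial.map_mul, Polynomial.map_C, hc, Option.elim]
  have hqm : q.Monic := by
    by_cases hd : p.natDegree = 0
    · have : IsEmpty (Fin p.natDegree) := by rw [hd]; infer_instance
      simp [q, hd]
    · exact Polynomial.monic_X_pow_add ((Polynomial.degree_sum_fin_lt _))
  set A := c none with hA
  set B := c (some none) with hB
  have hBne : B ≠ 0 := by
    intro h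
    have hb0 := hc (some none)
    rw [← hB, h, map_zero] at hb0
    exact nonZeroDivisors.ne_zero hb hb0.symm
  let φ : FractionRing (G i) →+* FractionRing L :=
    IsFractionRing.lift (g := (algebraMap L (FractionRing L)).comp (of' i))
      ((IsFractionRing.injective L (FractionRing L)).comp (hinj' i))
  have hφ : ∀ x, φ (algebraMap (G i) (FractionRing (G i)) x) = algebraMap L (FractionRing L) (of' i x) :=
    fun x ↦ IsFractionRing.lift_algebraMap _ _
  have hBL : of' i B = b := hc (some none)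
  let w : FractionRing (G i) := algebraMap _ _ A / algebraMap _ _ B
  have hw : φ w = IsLocalization.mk' (FractionRing L) a ⟨b, hb⟩ := by
    rw [IsFractionRing.mk'_eq_div, map_div₀, hφ, hφ, hBL]
    exact congrArg₂ (· / ·) (congrArg _ (hc none)) rfl
  have hint : IsIntegral (G i) w := by
    refine ⟨q, hqm, φ.injective ?_⟩
    rw [map_zero, Polynomial.hom_eval₂, hw, show φ.comp (algebraMap (G i) _) =
      (algebraMap L (FractionRing L)).comp (of' i) from RingHom.ext hφ, ← Polynomial.eval₂_map, hq]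
    exact hp0
  obtain ⟨y, hy⟩ := (isIntegrallyClosed_iff (FractionRing (G i))).mp inferInstance hint
  exact ⟨of' i y, by rw [← hw, ← hy, hφ]⟩

end Groth.Agent.Ega11.DirectLim
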