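import Groth.Agent.CAlg5.GeomRegularFG
import Groth.Agent.Ega11.GeomComp
import Groth.Agent.Ega11.NormalLoc
import Groth.Agent.FlatMor67.SmoothIsRegular
import Groth.Agent.S6279
import Groth.Agent.S6280
import Groth.Prelude.Def_EGA4b
import Mathlib

/-! Geometric normality over fields. -/

set_option autoImplicit false
universe u

open TensorProduct

namespace Groth.Agent.Ega11.GeomNormalField

theorem exists_localization_equiv {T S : Type u} [CommRing T] [CommRing S] (π : T →+* S)
    (hπ : Function.Surjective π) (P : Ideal S) [P.IsPrime]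
    (hJ : ∀ j ∈ RingHom.ker π, ∃ s ∉ P.comap π, s * j = 0) :
    Nonempty (Localization.AtPrime (P.comap π) ≃+* Localization.AtPrime P) := by
  let f := Localization.localRingHom (P.comap π) P π rfl
  have hs : Function.Surjective f := RingHom.surjective_localRingHom_of_surjective π hπ P
  have hi : Function.Injective f := by
    rw [injective_iff_map_eq_zero]
    intro z hz
    obtain ⟨⟨t, s⟩, rfl⟩ := IsLocalization.mk'_surjective (P.comap π).primeCompl z
    rw [Localization.localRingHom_mk', IsLocalization.mk'_eq_zero_iff] at hz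
    obtain ⟨⟨u, hu⟩, hut⟩ := hz
    obtain ⟨u', rfl⟩ := hπ u
    obtain ⟨v, hv, hvt⟩ := hJ (u' * t) (by rw [RingHom.mem_ker, map_mul]; exact hut)
    rw [IsLocalization.mk'_eq_zero_iff]
    exact ⟨⟨v * u', (P.comap π).primeCompl.mul_mem hv hu⟩, by rw [mul_assoc]; exact hvt⟩
  exact ⟨RingEquiv.ofBijective f ⟨hi, hs⟩⟩

theorem normal_congr {T : Type u} [CommRing T] {P Q : Ideal T} [P.IsPrime] [Q.IsPrime] (h : P = Q)
    (hr : IsDomain (Localization.AtPrime P) ∧ IsIntegrallyClosed (Localization.AtPrime P)) :
    IsDomain (Localization.AtPrime Q) ∧ IsIntegrallyClosed (Localization.AtPrime Q) := by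
  subst h; exact hr

theorem normal_of_equiv {T S : Type u} [CommRing T] [CommRing S] (e : T ≃+* S)
    (h : IsDomain T ∧ IsIntegrallyClosed T) : IsDomain S ∧ IsIntegrallyClosed S :=
  ⟨have := h.1; e.symm.toMulEquiv.isDomain T, @IsIntegrallyClosed.of_equiv T S _ _ e h.2⟩

theorem normal_iff_of_surjective {T S : Type u} [CommRing T] [CommRing S] (π : T →+* S)
    (hπ : Function.Surjective π) (P : Ideal S) [P.IsPrime]
    (hJ : ∀ j ∈ RingHom.ker π, ∃ s ∉ P.comap π, s * j = 0) :
    (IsDomain (Localization.AtPrime (P.comap π)) ∧ IsIntegrallyClosed (Localization.AtPrime (P.comap π))) ↔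
      (IsDomain (Localization.AtPrime P) ∧ IsIntegrallyClosed (Localization.AtPrime P)) := by
  obtain ⟨e⟩ := exists_localization_equiv π hπ P hJ
  exact ⟨normal_of_equiv e, normal_of_equiv e.symm⟩

theorem isNormalRing_of_idempotent_quotient {T S : Type u} [CommRing T] [CommRing S] (hT : EGA4.IsNormalRing T)
    (π : T →+* S) (hπ : Function.Surjective π) (e : T) (he : IsIdempotentElem e)
    (hker : RingHom.ker π = Ideal.span {e}) : EGA4.IsNormalRing S := by
  intro P _
  refine (normal_iff_of_surjective π hπ P fun j hj => ⟨1 - e, fun h => ?_, ?_⟩).mp (hT _)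
  · rw [Ideal.mem_comap, map_sub, map_one,
      (RingHom.mem_ker (f := π)).mp (hker.ge (Ideal.mem_span_singleton_self e)), sub_zero] at h
    exact ‹P.IsPrime›.ne_top ((Ideal.eq_top_iff_one _).mpr h)
  · rw [hker, Ideal.mem_span_singleton] at hj
    obtain ⟨c, rfl⟩ := hj
    rw [← mul_assoc, sub_mul, one_mul, he.eq, sub_self, zero_mul]

theorem isGeomNormal_of_directed (k : Type u) [Field k] {ι : Type u}
    (K : ι → Type u) [∀ i, Field (K i)] [∀ i, Algebra (K i) k]
    (hdir : ∀ i j, ∃ l, Set.range (algebraMap (K i) k) ⊆ Set.range (algebraMap (K l) k) ∧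
      Set.range (algebraMap (K j) k) ⊆ Set.range (algebraMap (K l) k))
    (hcov : ∀ x : k, ∃ i, x ∈ Set.range (algebraMap (K i) k))
    (A : Type u) [CommRing A] [Algebra k A] [∀ i, Algebra (K i) A]
    [∀ i, IsScalarTower (K i) k A] (h : ∀ i, EGA4.IsGeomNormal (K i) A) :
    EGA4.IsGeomNormal k A := by
  intro k' _ _ _
  have : Nonempty ι := ⟨(hcov 0).choose⟩
  obtain ⟨i, l, _, _, hl, he⟩ := CAlg5.exists_descent k k' K hdir hcov
  obtain ⟨e⟩ := he A
  exact EGA4H10.isNormalRing_of_ringEquiv e (h i l hl)

/-- geometric regularity restricts along a finite separable subextension -/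
theorem isGeomNormal_of_finite_separable (k F : Type u) [Field k] [Field F] [Algebra k F]
    [Module.Finite k F] [Algebra.IsSeparable k F] (A : Type u) [CommRing A] [Algebra k A] [Algebra F A]
    [IsScalarTower k F A] (h : EGA4.IsGeomNormal k A) :
    EGA4.IsGeomNormal F A := by
  intro l _ _ _
  let : Algebra k l := ((algebraMap F l).comp (algebraMap k F)).toAlgebra
  have : IsScalarTower k F l := IsScalarTower.of_algebraMap_eq fun _ => rfl
  have : Module.Finite k l := Module.Finite.trans F l
  have hlA : EGA4.IsNormalRing (l ⊗[k] A) := h l inferInstance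
  let π : l ⊗[k] A →ₐ[k] l ⊗[F] A :=
    Algebra.TensorProduct.productMap
      ((Algebra.TensorProduct.includeLeft : l →ₐ[F] l ⊗[F] A).restrictScalars k)
      ((Algebra.TensorProduct.includeRight : A →ₐ[F] l ⊗[F] A).restrictScalars k)
  have hπt : ∀ x a, π (x ⊗ₜ a) = x ⊗ₜ a := fun x a => by simp [π]
  have hπ : Function.Surjective π := fun z => by
    induction z using TensorProduct.induction_on with
    | zero => exact ⟨0, map_zero _⟩
    | tmul x a => exact ⟨x ⊗ₜ a, hπt x a⟩
    | add a b ha hb =>
      obtain ⟨⟨a, rfl⟩, ⟨b, rfl⟩⟩ := ha, hb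
      exact ⟨a + b, map_add _ _ _⟩
  have : Algebra.FormallyUnramified k F := Algebra.FormallyUnramified.of_isSeparable k F
  have : Algebra.EssFiniteType k F := inferInstance
  obtain ⟨e, he, hD⟩ := ((KaehlerDifferential.ideal k F).isIdempotentElem_iff_of_fg
    (KaehlerDifferential.ideal_fg k F)).mp
    ((Ideal.cotangent_subsingleton_iff _).mp (inferInstanceAs (Subsingleton Ω[F⁄k])))
  let ψ : F ⊗[k] F →ₐ[k] l ⊗[k] A :=
    Algebra.TensorProduct.map (IsScalarTower.toAlgHom k F l) (IsScalarTower.toAlgHom k F A)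
  refine isNormalRing_of_idempotent_quotient hlA π.toRingHom hπ (ψ e) (he.map ψ) (le_antisymm ?_ ?_)
  · set J := Ideal.span {ψ e}
    have hD' : ∀ z ∈ KaehlerDifferential.ideal k F, ψ z ∈ J := fun z hz => by
      rw [hD] at hz
      obtain ⟨c, rfl⟩ := Ideal.mem_span_singleton'.mp hz
      rw [map_mul]
      exact Ideal.mul_mem_left _ _ (Ideal.mem_span_singleton_self _)
    let : Algebra F ((l ⊗[k] A) ⧸ J) :=
      ((Ideal.Quotient.mk J).comp ((algebraMap l (l ⊗[k] A)).comp (algebraMap F l))).toAlgebra
    let f : l →ₐ[F] (l ⊗[k] A) ⧸ J :=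
      { toRingHom := (Ideal.Quotient.mk J).comp (algebraMap l (l ⊗[k] A))
        commutes' := fun _ => rfl }
    let g : A →ₐ[F] (l ⊗[k] A) ⧸ J :=
      { toRingHom := (Ideal.Quotient.mk J).comp
          (Algebra.TensorProduct.includeRight : A →ₐ[k] l ⊗[k] A).toRingHom
        commutes' := fun a => by
          show Ideal.Quotient.mk J ((1 : l) ⊗ₜ algebraMap F A a) = Ideal.Quotient.mk J (algebraMap F l a ⊗ₜ 1)
          rw [Ideal.Quotient.eq]
          have := hD' _ (KaehlerDifferential.one_smul_sub_smul_one_mem_ideal k a)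
          simpa [ψ] using this }
    let θ : l ⊗[F] A →ₐ[F] (l ⊗[k] A) ⧸ J := Algebra.TensorProduct.productMap f g
    intro z hz
    have key : ∀ z, θ (π z) = Ideal.Quotient.mk J z := fun z => by
      induction z using TensorProduct.induction_on with
      | zero => simp
      | tmul x a =>
        rw [hπt, Algebra.TensorProduct.productMap_apply_tmul]
        show Ideal.Quotient.mk J (x ⊗ₜ 1) * Ideal.Quotient.mk J (1 ⊗ₜ a) = _
        rw [← map_mul, Algebra.TensorProduct.tmul_mul_tmul, mul_one, one_mul]
      | add a b ha hb => rw [map_add, map_add, ha, hb, map_add]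
    have h0 := key z
    rw [show π z = 0 from hz, map_zero] at h0
    exact Ideal.Quotient.eq_zero_iff_mem.mp h0.symm
  · rw [Ideal.span_le, Set.singleton_subset_iff]
    show π (ψ e) = 0
    have : ∀ z, π (ψ z) = algebraMap F (l ⊗[F] A) (Algebra.TensorProduct.lmul' k z) := fun z => by
      induction z using TensorProduct.induction_on with
      | zero => simp
      | tmul a b =>
        simp only [ψ, Algebra.TensorProduct.map_tmul, IsScalarTower.coe_toAlgHom', hπt,
          Algebra.TensorProduct.lmul'_apply_tmul, map_mul]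
        rw [Algebra.TensorProduct.algebraMap_apply, Algebra.TensorProduct.algebraMap_apply',
          Algebra.TensorProduct.tmul_mul_tmul, mul_one, one_mul]
      | add a b ha hb => simp only [map_add, ha, hb]
    rw [this, show Algebra.TensorProduct.lmul' k e = 0 from hD.ge (Ideal.mem_span_singleton_self e), map_zero]

theorem isGeomNormal_iff_of_separable (k k' : Type u) [Field k] [Field k'] [Algebra k k']
    [Algebra.IsSeparable k k'] (A : Type u) [CommRing A] [Algebra k' A] [Algebra k A]
    [IsScalarTower k k' A] :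
    EGA4.IsGeomNormal k A ↔ EGA4.IsGeomNormal k' A := by
  refine ⟨fun h => ?_, fun h => ?_⟩
  · let ι := {F : IntermediateField k k' // FiniteDimensional k F}
    refine isGeomNormal_of_directed k' (fun F : ι => F.1) (fun i j => ?_) (fun x => ?_) A fun F => ?_
    · have := i.2; have := j.2
      refine ⟨⟨i.1 ⊔ j.1, IntermediateField.finiteDimensional_sup i.1 j.1⟩, ?_, ?_⟩
      · rintro _ ⟨a, rfl⟩; exact ⟨⟨a, (le_sup_left : i.1 ≤ i.1 ⊔ j.1) a.2⟩, rfl⟩
      · rintro _ ⟨a, rfl⟩; exact ⟨⟨a, (le_sup_right : j.1 ≤ i.1 ⊔ j.1) a.2⟩, rfl⟩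
    · exact ⟨⟨_, IntermediateField.adjoin.finiteDimensional (Algebra.IsSeparable.isSeparable k x).isIntegral⟩,
        ⟨x, IntermediateField.mem_adjoin_simple_self k x⟩, rfl⟩
    · have := F.2
      exact isGeomNormal_of_finite_separable k F.1 A h
  · intro l _ _ _
    have : Algebra.FormallyEtale k k' := Algebra.FormallyEtale.of_isSeparable k k'
    have : Algebra.IsGeometricallyReduced k k' :=
      Sep12.formallySmooth_iff_isGeometricallyReduced.mp inferInstance
    let E := k' ⊗[k] l
    have : IsReduced E :=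
      isReduced_of_injective (Algebra.TensorProduct.comm k k' l) (AlgEquiv.injective _)
    have : Module.Finite k' E := inferInstance
    have : IsArtinianRing E := isArtinian_of_tower k' inferInstance
    -- the base change to each residue field of `E` is regular
    let T := A ⊗[k'] E
    have hT : EGA4.IsNormalRing T := by
      intro P _
      let ι : E →ₐ[k'] T := Algebra.TensorProduct.includeRight
      let m := P.comap ι.toRingHom
      have : m.IsPrime := Ideal.IsPrime.comap _
      have : m.IsMaximal := IsArtinianRing.isMaximal_of_isPrime m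
      let := Ideal.Quotient.field m
      have : Module.Finite k' (E ⧸ m) := inferInstance
      have hEA : EGA4.IsNormalRing ((E ⧸ m) ⊗[k'] A) := h _ inferInstance
      let π : T →ₐ[k'] A ⊗[k'] (E ⧸ m) :=
        Algebra.TensorProduct.map (AlgHom.id k' A) (Ideal.Quotient.mkₐ k' m)
      have hAE : EGA4.IsNormalRing (A ⊗[k'] (E ⧸ m)) :=
        EGA4H10.isNormalRing_of_ringEquiv (Algebra.TensorProduct.comm k' (E ⧸ m) A).toRingEquiv hEA
      have hπ : Function.Surjective π :=
        LinearMap.lTensor_surjective A (g := (Ideal.Quotient.mkₐ k' m).toLinearMap) Ideal.Quotient.mk_surjective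
      have hker : RingHom.ker π.toRingHom = m.map ι := by
        have := Algebra.TensorProduct.lTensor_ker (A := A) (Ideal.Quotient.mkₐ k' m) Ideal.Quotient.mk_surjective
        rw [show RingHom.ker (Ideal.Quotient.mkₐ k' m) = m from Ideal.mk_ker] at this
        exact this
      have hmP : m.map ι ≤ P := Ideal.map_le_iff_le_comap.mpr le_rfl
      have : (P.map π.toRingHom).IsPrime := Ideal.map_isPrime_of_surjective hπ (hker.le.trans hmP)
      have hP : (P.map π.toRingHom).comap π.toRingHom = P := by
        rw [Ideal.comap_map_of_surjective π.toRingHom hπ, ← RingHom.ker_eq_comap_bot, sup_eq_left.mpr (hker.le.trans hmP)]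
      -- `m` is generated by an idempotent
      have hm2 : IsIdempotentElem m := by
        refine le_antisymm Ideal.mul_le_left fun x hx => ?_
        obtain ⟨y, hy⟩ : ∃ y, x * x * y = x := by
          let φ := IsArtinianRing.equivPi E
          have hz : ∀ i, ∃ z, φ x i * φ x i * z = φ x i := fun i => by
            by_cases hx0 : φ x i = 0
            · exact ⟨0, by rw [hx0, mul_zero]⟩
            · obtain ⟨z, hz⟩ := Ideal.Quotient.exists_inv (I := i.asIdeal) hx0
              exact ⟨z, by rw [mul_assoc, hz, mul_one]⟩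
          choose z hz using hz
          exact ⟨φ.symm z, φ.injective (by rw [map_mul, map_mul, φ.apply_symm_apply]; exact funext hz)⟩
        rw [← hy]
        exact Ideal.mul_mem_right _ _ (Ideal.mul_mem_mul hx hx)
      obtain ⟨e, he, hme⟩ := (m.isIdempotentElem_iff_of_fg (IsNoetherian.noetherian m)).mp hm2
      have key := normal_iff_of_surjective π.toRingHom hπ (P.map π.toRingHom) fun j hj => by
        refine ⟨1 - ι e, ?_, ?_⟩
        · rw [hP]
          intro hc
          have hie : ι e ∈ P := hme.ge (Ideal.mem_span_singleton_self e)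
          exact ‹P.IsPrime›.ne_top ((Ideal.eq_top_iff_one _).mpr (by simpa using add_mem hc hie))
        · rw [hker, hme, Ideal.submodule_span_eq, Ideal.map_span, Set.image_singleton,
            Ideal.mem_span_singleton] at hj
          obtain ⟨c, rfl⟩ := hj
          rw [← mul_assoc, sub_mul, one_mul, (he.map ι).eq, sub_self, zero_mul]
      have h2 := key.mpr (hAE _)
      exact normal_congr hP h2
    exact EGA4H10.isNormalRing_of_ringEquiv
      ((Algebra.TensorProduct.cancelBaseChange k k' k' A l).toRingEquiv.trans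
        (Algebra.TensorProduct.comm k A l).toRingEquiv) hT

/-- a smooth algebra over a Noetherian normal ring is normal -/
theorem isNormalRing_of_smooth (R A : Type u) [CommRing R] [IsNoetherianRing R] [CommRing A]
    [Algebra R A] [Algebra.Smooth R A] (h : EGA4.IsNormalRing R) : EGA4.IsNormalRing A := by
  have : IsNoetherianRing A := Algebra.FiniteType.isNoetherianRing R A
  refine GeomComp.isNormalRing_of_fibres R A h fun p _ => ?_
  have := FlatMor67.isRegularRing_of_smooth p.ResidueField (p.Fiber A)
  exact FlatMor67.isNormalRing_of_regular _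

/-- normality descends along faithfully flat maps -/
theorem isNormalRing_of_faithfullyFlat (R S : Type u) [CommRing R] [CommRing S] [Algebra R S]
    [Module.FaithfullyFlat R S] [IsNoetherianRing S] (h : EGA4.IsNormalRing S) : EGA4.IsNormalRing R := by
  have := CAlg5.isNoetherianRing_of_faithfullyFlat R S
  intro p _
  obtain ⟨Q, hQ⟩ := PrimeSpectrum.comap_surjective_of_faithfullyFlat (A := R) (B := S) ⟨p, ‹_›⟩
  have hQ' : Q.asIdeal.comap (algebraMap R S) = p := congrArg PrimeSpectrum.asIdeal hQ
  exact normal_congr hQ' (EGA4H10.normal_base_of_flat R S Q.asIdeal (h Q.asIdeal).1 (h Q.asIdeal).2)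

theorem isNoetherianRing_tensor (k K S : Type u) [Field k] [CommRing K] [Algebra k K]
    [Algebra.EssFiniteType k K] [CommRing S] [Algebra k S] [IsNoetherianRing S] :
    IsNoetherianRing (K ⊗[k] S) := by
  have := Algebra.EssFiniteType.isNoetherianRing S (S ⊗[k] K)
  exact isNoetherianRing_of_ringEquiv (S ⊗[k] K) (Algebra.TensorProduct.comm k S K).toRingEquiv

theorem isNormalRing_tensor_of_essFiniteType (k K S : Type u) [Field k] [Field K] [Algebra k K]
    [Algebra.EssFiniteType k K] [CommRing S] [Algebra k S] [IsNoetherianRing S]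
    (h : EGA4.IsGeomNormal k S) : EGA4.IsNormalRing (K ⊗[k] S) := by
  obtain ⟨k', B, L, _, _, _, _, _, _, _, _, _, _, _, _, hfin, hsm, ⟨ψ⟩⟩ := CAlg5.exists_smooth_model k K
  have hW : EGA4.IsNormalRing (k' ⊗[k] S) := h k' hfin
  have : Algebra.EssFiniteType k' B := inferInstance
  have : Algebra.EssFiniteType k L := by
    have : Algebra.EssFiniteType B L := Algebra.EssFiniteType.of_isLocalization L (nonZeroDivisors B)
    have : Algebra.EssFiniteType k' L := Algebra.EssFiniteType.comp k' B L
    exact Algebra.EssFiniteType.comp k k' L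
  let W := k' ⊗[k] S
  have : IsNoetherianRing W := isNoetherianRing_tensor k k' S
  have hWB : EGA4.IsNormalRing (B ⊗[k'] W) :=
    EGA4H10.isNormalRing_of_ringEquiv (Algebra.TensorProduct.comm k' W B).toRingEquiv
      (isNormalRing_of_smooth W (W ⊗[k'] B) hW)
  let : Algebra (B ⊗[k'] W) (L ⊗[k'] W) :=
    (Algebra.TensorProduct.map (IsScalarTower.toAlgHom k' B L) (AlgHom.id k' W)).toRingHom.toAlgebra
  have : IsScalarTower B (B ⊗[k'] W) (L ⊗[k'] W) := IsScalarTower.of_algebraMap_eq fun b => by
    show algebraMap B L b ⊗ₜ 1 = Algebra.TensorProduct.map (IsScalarTower.toAlgHom k' B L) (AlgHom.id k' W) (b ⊗ₜ 1)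
    rw [Algebra.TensorProduct.map_tmul, map_one]; rfl
  have := IsLocalization.tensorProduct_tensorProduct k' W (A := B) (nonZeroDivisors B) L
    (RingHom.ext fun w => by
      show Algebra.TensorProduct.map _ (AlgHom.id k' W) ((1 : B) ⊗ₜ[k'] w) = _
      rw [Algebra.TensorProduct.map_tmul, map_one]; rfl)
  have hreg : EGA4.IsNormalRing (L ⊗[k'] W) :=
    NormalLoc.isNormalRing_localization hWB (Algebra.algebraMapSubmonoid (B ⊗[k'] W) (nonZeroDivisors B)) _
  let : Algebra K L := ψ.toRingHom.toAlgebra
  have : IsScalarTower k K L := IsScalarTower.of_algebraMap_eq fun a => (ψ.commutes a).symm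
  have : IsNoetherianRing (L ⊗[k] S) := isNoetherianRing_tensor k L S
  let e : L ⊗[k] S ≃+* (K ⊗[k] S) ⊗[K] L :=
    (Algebra.TensorProduct.cancelBaseChange k K L L S).symm.toRingEquiv.trans
      (Algebra.TensorProduct.comm K L (K ⊗[k] S)).toRingEquiv
  have : IsNoetherianRing ((K ⊗[k] S) ⊗[K] L) := isNoetherianRing_of_ringEquiv (L ⊗[k] S) e
  refine isNormalRing_of_faithfullyFlat (K ⊗[k] S) ((K ⊗[k] S) ⊗[K] L) (EGA4H10.isNormalRing_of_ringEquiv e ?_)
  exact EGA4H10.isNormalRing_of_ringEquiv (Algebra.TensorProduct.cancelBaseChange k k' L L S).toRingEquiv hreg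

/-- base change of geometric normality to a finitely generated extension -/
theorem isGeomNormal_baseChange (k K S : Type u) [Field k] [Field K] [Algebra k K]
    [Algebra.EssFiniteType k K] [CommRing S] [Algebra k S] [IsNoetherianRing S] (h : EGA4.IsGeomNormal k S) :
    EGA4.IsGeomNormal K (K ⊗[k] S) := by
  intro l _ _ _
  let : Algebra k l := ((algebraMap K l).comp (algebraMap k K)).toAlgebra
  have : IsScalarTower k K l := IsScalarTower.of_algebraMap_eq fun _ => rfl
  have : Algebra.EssFiniteType k l := Algebra.EssFiniteType.comp k K l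
  exact EGA4H10.isNormalRing_of_ringEquiv (Algebra.TensorProduct.cancelBaseChange k K l l S).symm.toRingEquiv
    (isNormalRing_tensor_of_essFiniteType k l S h)

theorem isNormalRing_range {A T : Type u} [CommRing A] [CommRing T] (g : A →+* T) (hg : Function.Injective g)
    (h : EGA4.IsNormalRing A) : EGA4.IsNormalRing g.range :=
  EGA4H10.isNormalRing_of_ringEquiv (RingEquiv.ofBijective g.rangeRestrict
    ⟨fun x y hxy => hg (congrArg Subtype.val hxy), g.rangeRestrict_surjective⟩) h

/-- a directed union of normal subrings is normal -/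
theorem isNormalRing_of_union {ι : Type u} [Preorder ι] [Nonempty ι] [IsDirected ι (· ≤ ·)] {T : Type u}
    [CommRing T] (R : ι → Subring T) (hmono : Monotone R) (hcov : ∀ x : T, ∃ i, x ∈ R i)
    (h : ∀ i, EGA4.IsNormalRing (R i)) : EGA4.IsNormalRing T := by
  let f : ∀ i j : ι, i ≤ j → R i →+* R j := fun i j hij => Subring.inclusion (hmono hij)
  have : DirectedSystem (fun i => R i) (fun i j h => f i j h) :=
    ⟨fun i x => rfl, fun a b c hab hbc x => rfl⟩
  let φ := Ring.DirectLimit.lift (fun i => R i) (fun i j h => f i j h) T (fun i => (R i).subtype)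
    (fun i j hij x => rfl)
  have hinj : Function.Injective φ :=
    Ring.DirectLimit.lift_injective _ _ (fun i j hij x => rfl) fun i => Subtype.val_injective
  have hsurj : Function.Surjective φ := fun x => by
    obtain ⟨i, hi⟩ := hcov x
    exact ⟨Ring.DirectLimit.of (fun i => R i) (fun i j h => f i j h) i ⟨x, hi⟩, Ring.DirectLimit.lift_of ..⟩
  exact EGA4H10.isNormalRing_of_ringEquiv (RingEquiv.ofBijective φ ⟨hinj, hsurj⟩) (S6280.result _ f h)

theorem isNormalRing_map_range (k F K S : Type u) [Field k] [Field F] [Field K] [Algebra k F] [Algebra k K]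
    [Algebra.EssFiniteType k F] [CommRing S] [Algebra k S] [IsNoetherianRing S] (h : EGA4.IsGeomNormal k S)
    (v : F →ₐ[k] K) : EGA4.IsNormalRing (Algebra.TensorProduct.map v (AlgHom.id k S)).toRingHom.range :=
  isNormalRing_range _ (Module.Flat.rTensor_preserves_injective_linearMap (M := S) v.toLinearMap v.injective)
    (isNormalRing_tensor_of_essFiniteType k F S h)

/-- normality after an arbitrary extension, for finite type algebras -/
theorem isNormalRing_tensor_of_finiteType (k K S : Type u) [Field k] [Field K] [Algebra k K]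
    [CommRing S] [Algebra k S] [Algebra.FiniteType k S]
    (h : EGA4.IsGeomNormal k S) : EGA4.IsNormalRing (K ⊗[k] S) := by
  classical
  have : IsNoetherianRing S := Algebra.FiniteType.isNoetherianRing k S
  let ι := {F : IntermediateField k K // F.FG}
  have : Nonempty ι := ⟨⟨⊥, IntermediateField.fg_bot⟩⟩
  have : IsDirected ι (· ≤ ·) := ⟨fun a b => ⟨⟨a.1 ⊔ b.1, IntermediateField.fg_sup a.2 b.2⟩,
    (le_sup_left : a.1 ≤ a.1 ⊔ b.1), (le_sup_right : b.1 ≤ a.1 ⊔ b.1)⟩⟩
  let g : ∀ i : ι, i.1 ⊗[k] S →ₐ[k] K ⊗[k] S := fun i => Algebra.TensorProduct.map i.1.val (AlgHom.id k S)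
  let R : ι → Subring (K ⊗[k] S) := fun i => (g i).toRingHom.range
  have hmono : Monotone R := fun i j hij => by
    rintro _ ⟨x, rfl⟩
    induction x using TensorProduct.induction_on with
    | zero => rw [map_zero]; exact zero_mem _
    | tmul a b => exact ⟨IntermediateField.inclusion (show i.1 ≤ j.1 from hij) a ⊗ₜ b, rfl⟩
    | add a b ha hb => rw [map_add]; exact add_mem ha hb
  have hcov : ∀ x, ∃ i, x ∈ R i := fun x => by
    induction x using TensorProduct.induction_on with
    | zero => exact ⟨Classical.arbitrary ι, zero_mem _⟩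
    | tmul a b =>
      exact ⟨⟨IntermediateField.adjoin k {a}, IntermediateField.fg_adjoin_of_finite (Set.finite_singleton a)⟩,
        ⟨a, IntermediateField.mem_adjoin_simple_self k a⟩ ⊗ₜ b, rfl⟩
    | add a b ha hb =>
      obtain ⟨i, hi⟩ := ha
      obtain ⟨j, hj⟩ := hb
      obtain ⟨m, him, hjm⟩ := exists_ge_ge i j
      exact ⟨m, add_mem (hmono him hi) (hmono hjm hj)⟩
  refine isNormalRing_of_union R hmono hcov fun i => ?_
  have : Algebra.EssFiniteType k i.1 := IntermediateField.essFiniteType_iff.mpr i.2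
  exact isNormalRing_map_range k i.1 K S h i.1.val

theorem isGeomNormal_baseChange_of_finiteType (k K S : Type u) [Field k] [Field K] [Algebra k K]
    [CommRing S] [Algebra k S] [Algebra.FiniteType k S] (h : EGA4.IsGeomNormal k S) :
    EGA4.IsGeomNormal K (K ⊗[k] S) := by
  intro l _ _ _
  let : Algebra k l := ((algebraMap K l).comp (algebraMap k K)).toAlgebra
  have : IsScalarTower k K l := IsScalarTower.of_algebraMap_eq fun _ => rfl
  exact EGA4H10.isNormalRing_of_ringEquiv (Algebra.TensorProduct.cancelBaseChange k K l l S).symm.toRingEquiv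
    (isNormalRing_tensor_of_finiteType k l S h)

/-- a common extension -/
theorem exists_compositum (k K l : Type u) [Field k] [Field K] [Algebra k K] [Field l] [Algebra k l]
    [Module.Finite k l] :
    ∃ (L : Type u) (_ : Field L) (_ : Algebra K L) (_ : Algebra l L) (_ : Algebra k L),
      IsScalarTower k K L ∧ IsScalarTower k l L ∧ Module.Finite K L := by
  obtain ⟨M, hM⟩ := Ideal.exists_maximal (K ⊗[k] l)
  let := Ideal.Quotient.field M
  let : Algebra l ((K ⊗[k] l) ⧸ M) :=
    ((Ideal.Quotient.mk M).comp (Algebra.TensorProduct.includeRight : l →ₐ[k] K ⊗[k] l).toRingHom).toAlgebra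
  refine ⟨(K ⊗[k] l) ⧸ M, inferInstance, inferInstance, inferInstance, inferInstance, inferInstance,
    IsScalarTower.of_algebraMap_eq fun a => ?_, inferInstance⟩
  show Ideal.Quotient.mk M (algebraMap k (K ⊗[k] l) a) = Ideal.Quotient.mk M ((1 : K) ⊗ₜ algebraMap k l a)
  rw [← (Algebra.TensorProduct.includeRight : l →ₐ[k] K ⊗[k] l).commutes a]
  rfl

/-- descent of geometric normality along a field extension -/
theorem isGeomNormal_descent (k K S : Type u) [Field k] [Field K] [Algebra k K] [CommRing S] [Algebra k S]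
    [IsNoetherianRing (K ⊗[k] S)] (h : EGA4.IsGeomNormal K (K ⊗[k] S)) : EGA4.IsGeomNormal k S := by
  intro l _ _ _
  obtain ⟨L, _, _, _, _, _, _, _⟩ := exists_compositum k K l
  have : IsNoetherianRing (L ⊗[K] (K ⊗[k] S)) := isNoetherianRing_tensor K L _
  let e : L ⊗[K] (K ⊗[k] S) ≃+* (l ⊗[k] S) ⊗[l] L :=
    (Algebra.TensorProduct.cancelBaseChange k K L L S).toRingEquiv.trans
      ((Algebra.TensorProduct.cancelBaseChange k l L L S).symm.toRingEquiv.trans
        (Algebra.TensorProduct.comm l L (l ⊗[k] S)).toRingEquiv)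
  have : IsNoetherianRing ((l ⊗[k] S) ⊗[l] L) := isNoetherianRing_of_ringEquiv (L ⊗[K] (K ⊗[k] S)) e
  exact isNormalRing_of_faithfullyFlat (l ⊗[k] S) ((l ⊗[k] S) ⊗[l] L)
    (EGA4H10.isNormalRing_of_ringEquiv e (h L ‹_›))

/-- descent of geometric regularity along a field extension -/
theorem isGeometricallyRegular_descent (k K S : Type u) [Field k] [Field K] [Algebra k K] [CommRing S] [Algebra k S]
    (h : CAlg.IsGeometricallyRegular K (K ⊗[k] S)) : CAlg.IsGeometricallyRegular k S := by
  intro l _ _ _
  obtain ⟨L, _, _, _, _, _, _, _⟩ := exists_compositum k K l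
  have := h L ‹_›
  let e : L ⊗[K] (K ⊗[k] S) ≃+* (l ⊗[k] S) ⊗[l] L :=
    (Algebra.TensorProduct.cancelBaseChange k K L L S).toRingEquiv.trans
      ((Algebra.TensorProduct.cancelBaseChange k l L L S).symm.toRingEquiv.trans
        (Algebra.TensorProduct.comm l L (l ⊗[k] S)).toRingEquiv)
  have : IsRegularRing ((l ⊗[k] S) ⊗[l] L) := IsRegularRing.of_ringEquiv (R := L ⊗[K] (K ⊗[k] S)) e
  exact CAlg5.isRegularRing_of_faithfullyFlat (l ⊗[k] S) ((l ⊗[k] S) ⊗[l] L)

end Groth.Agent.Ega11.GeomNormalField
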