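import Groth.Agent.EGA4Alg4.SepFiniteType
import Groth.Agent.CAlg5.RegularHom
import Groth.Agent.VarNormal.Algebra
import Groth.Agent.Ega11.GeomNormalField
import Groth.Agent.FlatMor67.SmoothIsRegular
import Groth.Prelude.Def_EGA4b
import Mathlib

/-! Base change of regular and normal homomorphisms. -/

set_option autoImplicit false
universe u

open TensorProduct

namespace Groth.Agent.Ega11.FieldChange

theorem isGeomNormal_of_algEquiv {k S S' : Type u} [Field k] [CommRing S] [Algebra k S]
    [CommRing S'] [Algebra k S'] (e : S ≃ₐ[k] S') (h : EGA4.IsGeomNormal k S) : EGA4.IsGeomNormal k S' :=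
  fun l _ _ hl => EGA4H10.isNormalRing_of_ringEquiv
    (Algebra.TensorProduct.congr (AlgEquiv.refl (R := k) (A₁ := l)) e).toRingEquiv (h l hl)

/-- geometric regularity of finite type algebras is stable under arbitrary extensions -/
theorem isGeometricallyRegular_baseChange_of_finiteType (k K S : Type u) [Field k] [Field K] [Algebra k K]
    [CommRing S] [Algebra k S] [Algebra.FiniteType k S] (h : CAlg.IsGeometricallyRegular k S) :
    CAlg.IsGeometricallyRegular K (K ⊗[k] S) := by
  have h1 := (EGA4Alg4.SepFT13.tfae_global (k₀ := k) (k := k) (C := S)).out 3 0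
  have : Algebra.FormallySmooth k S := h1.mp h
  have : Algebra.FinitePresentation k S := Algebra.FinitePresentation.of_finiteType.mp inferInstance
  have : Algebra.Smooth k S := ⟨inferInstance, inferInstance⟩
  intro l _ _ _
  exact FlatMor67.isRegularRing_of_smooth l (l ⊗[K] (K ⊗[k] S))

variable {A B A' : Type u} [CommRing A] [CommRing B] [CommRing A'] [Algebra A B] [Algebra A A']

theorem exists_fiber_algEquiv (q : Ideal A') [q.IsPrime] :
    ∃ _ : Algebra (q.under A).ResidueField q.ResidueField,
      Nonempty (q.ResidueField ⊗[(q.under A).ResidueField] (q.under A).Fiber B ≃ₐ[q.ResidueField] q.Fiber (A' ⊗[A] B)) ∧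
      (Algebra.EssFiniteType A A' → Algebra.EssFiniteType (q.under A).ResidueField q.ResidueField) := by
  let p := q.under A
  have : q.LiesOver p := ⟨rfl⟩
  let : Algebra p.ResidueField q.ResidueField :=
    (Ideal.ResidueField.map p q (algebraMap A A') (Ideal.over_def q p)).toAlgebra
  have : IsScalarTower A p.ResidueField q.ResidueField := IsScalarTower.of_algebraMap_eq fun r => by
    rw [RingHom.algebraMap_toAlgebra, Ideal.ResidueField.map_algebraMap, ← IsScalarTower.algebraMap_apply]
  refine ⟨_, ⟨(Algebra.TensorProduct.cancelBaseChange A p.ResidueField q.ResidueField q.ResidueField B).trans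
      (Algebra.TensorProduct.cancelBaseChange A A' q.ResidueField q.ResidueField B).symm⟩, fun _ => ?_⟩
  have : Algebra.EssFiniteType A' q.ResidueField := inferInstance
  have : Algebra.EssFiniteType A q.ResidueField := Algebra.EssFiniteType.comp A A' _
  exact Algebra.EssFiniteType.of_comp A _ _

theorem finiteType_fiber [Algebra.FiniteType A B] (p : Ideal A) [p.IsPrime] :
    Algebra.FiniteType p.ResidueField (p.Fiber B) := inferInstance

theorem isRegularHom_baseChange_of_finiteType [Algebra.FiniteType A B] (h : CAlg.IsRegularHom A B) :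
    CAlg.IsRegularHom A' (A' ⊗[A] B) := by
  obtain ⟨hflat, hfib⟩ := h
  refine ⟨inferInstance, fun q _ => ?_⟩
  obtain ⟨_, ⟨e⟩, -⟩ := exists_fiber_algEquiv (A := A) (B := B) q
  have := finiteType_fiber (B := B) (q.under A)
  have hg := CAlg5.isGeometricallyRegular_of_algEquiv e
    (isGeometricallyRegular_baseChange_of_finiteType _ q.ResidueField _ (hfib (q.under A)).2)
  have := CAlg5.isRegularRing_of_isGeometricallyRegular hg
  exact ⟨inferInstance, hg⟩

theorem isNormalHom_baseChange (h : EGA4.IsNormalHom A B) : EGA4.IsNormalHom A' (A' ⊗[A] B) := by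
  obtain ⟨hflat, hfib⟩ := h
  refine ⟨inferInstance, fun q _ => ?_⟩
  obtain ⟨_, ⟨e⟩, -⟩ := exists_fiber_algEquiv (A := A) (B := B) q
  exact isGeomNormal_of_algEquiv e (VarNormal.isGeomNormal_baseChange _ _ (hfib (q.under A)) q.ResidueField)

theorem isNormalHom_descent [Module.FaithfullyFlat A A'] (h : EGA4.IsNormalHom A' (A' ⊗[A] B)) :
    EGA4.IsNormalHom A B := by
  obtain ⟨hflat, hfib⟩ := h
  refine ⟨Module.Flat.of_flat_tensorProduct A B A', fun p _ => ?_⟩
  obtain ⟨q, hq, hqp⟩ := Ideal.exists_isPrime_liesOver_of_faithfullyFlat (B := A') p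
  obtain rfl : p = q.under A := hqp.over
  obtain ⟨_, ⟨e⟩, -⟩ := exists_fiber_algEquiv (A := A) (B := B) q
  exact VarNormal.isGeomNormal_of_baseChange _ _ q.ResidueField (isGeomNormal_of_algEquiv e.symm (hfib q))

theorem isRegularHom_descent [Module.FaithfullyFlat A A'] [IsNoetherianRing B]
    (h : CAlg.IsRegularHom A' (A' ⊗[A] B)) : CAlg.IsRegularHom A B := by
  obtain ⟨hflat, hfib⟩ := h
  refine ⟨Module.Flat.of_flat_tensorProduct A B A', fun p _ => ?_⟩
  obtain ⟨q, hq, hqp⟩ := Ideal.exists_isPrime_liesOver_of_faithfullyFlat (B := A') p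
  obtain rfl : p = q.under A := hqp.over
  obtain ⟨_, ⟨e⟩, -⟩ := exists_fiber_algEquiv (A := A) (B := B) q
  exact ⟨(FibreComp.isNoetherianRing_fiber (B := B) (q.under A)).2,
    GeomNormalField.isGeometricallyRegular_descent _ q.ResidueField _
      (CAlg5.isGeometricallyRegular_of_algEquiv e.symm (hfib q).2)⟩

end Groth.Agent.Ega11.FieldChange
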