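import Groth.Agent.Ega11.NodeModules
import Mathlib

/-! Cokernel lengths of the units of pullback along the normalisation of a nodal curve. -/

set_option autoImplicit false
set_option backward.isDefEq.respectTransparency.types false
universe u

open CategoryTheory CategoryTheory.Limits AlgebraicGeometry TopologicalSpace TensorProduct
open Groth.Agent.QC70

namespace Groth.Agent.Ega11.NodeLengths

variable {X : Scheme.{u}}

theorem stalk_comp {F G H : X.Modules} (f : F ⟶ G) (g : G ⟶ H) (x : X) (z : F.presheaf.stalk x) :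
    stalkMapM (f ≫ g) x z = stalkMapM g x (stalkMapM f x z) := by
  obtain ⟨W, hxW, s, rfl⟩ := germM_exist z
  rw [stalkMapM_germ, stalkMapM_germ, stalkMapM_germ]
  rfl

theorem length_cokernel {F G : X.Modules} (f : F ⟶ G) [Mono f] (x : X) :
    Module.length (X.presheaf.stalk x) ((cokernel f).presheaf.stalk x) =
      Module.length (X.presheaf.stalk x) (G.presheaf.stalk x ⧸ LinearMap.range (stalkLinear f x)) := by
  have hker : LinearMap.ker (stalkLinear (cokernel.π f) x) = LinearMap.range (stalkLinear f x) := by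
    apply le_antisymm
    · intro z hz
      exact stalkMapM_exact (ShortComplex.mk f (cokernel.π f) (cokernel.condition f))
        (ShortComplex.exact_of_g_is_cokernel _ (cokernelIsCokernel f)) x z hz
    · rintro _ ⟨z, rfl⟩
      obtain ⟨W, hxW, s, rfl⟩ := germM_exist z
      show stalkMapM (cokernel.π f) x (stalkMapM f x (germM F W x hxW s)) = 0
      rw [stalkMapM_germ, stalkMapM_germ,
        app_f_g (ShortComplex.mk f (cokernel.π f) (cokernel.condition f)) W s, germM_zero]
  rw [← hker]
  exact ((stalkLinear (cokernel.π f) x).quotKerEquivOfSurjective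
    (surjective_stalkMapM_of_epi _ x)).length_eq.symm

theorem length_cokernel_eq_zero {F G : X.Modules} (f : F ⟶ G) (x : X) (h : Function.Surjective (stalkMapM f x)) :
    Module.length (X.presheaf.stalk x) ((cokernel f).presheaf.stalk x) = 0 :=
  have := subsingleton_stalk_cokernel f x h
  Module.length_eq_zero

variable {Y : Scheme.{u}} (π : Y ⟶ X)
variable {k : Type u} [Field k] [IsAlgClosed k] [X.Over (Spec (CommRingCat.of k))]
  [IsProper (X ↘ Spec (CommRingCat.of k))] [IsFinite π] [Smooth (π ≫ (X ↘ Spec (CommRingCat.of k)))]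
  {U : X.Opens} (hS : NodeModules.Setting k X Y π U)
  (r : ℕ) {F : X.Modules} [F.IsQuasicoherent] (a : X → ℕ)
  (hfree : ∀ x : X, ¬ Curv2.IsNode k X x →
      Nonempty (F.presheaf.stalk x ≃ₗ[X.presheaf.stalk x] (Fin r → X.presheaf.stalk x)))
  (htype : ∀ x : X, Curv2.IsNode k X x → a x ≤ r ∧
      Nonempty (F.presheaf.stalk x ≃ₗ[X.presheaf.stalk x]
        ((Fin (a x) → X.presheaf.stalk x) × (Fin (r - a x) → IsLocalRing.maximalIdeal (X.presheaf.stalk x)))))

include hfree htype in
omit [IsAlgClosed k] [IsProper (X ↘ Spec (CommRingCat.of k))] [F.IsQuasicoherent] in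
theorem isTorsionFree : TorSh.IsTorsionFree F := fun x => by
  by_cases hx : Curv2.IsNode k X x
  · obtain ⟨-, ⟨e⟩⟩ := htype x hx
    exact e.injective.moduleIsTorsionFree e (fun r m => map_smul e r m)
  · obtain ⟨e⟩ := hfree x hx
    exact e.injective.moduleIsTorsionFree e (fun r m => map_smul e r m)

include hS hfree htype in
omit [IsFinite π] [Smooth (π ≫ (X ↘ Spec (CommRingCat.of k)))] in
theorem mono_of_injective {G : X.Modules} (f : F ⟶ G) (h : ∀ z ∈ U, Function.Injective (stalkMapM f z)) :
    Mono f := by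
  have : IsLocallyNoetherian X := LocallyOfFiniteType.isLocallyNoetherian (X ↘ Spec (CommRingCat.of k))
  have : AlgebraicGeometry.IsReduced X := Curves2.isReduced_of_atWorstNodal k X hS.atWorstNodal
  refine mono_of_app_injective f fun W s t e => sub_eq_zero.1 ?_
  refine TorFreeAss.eq_zero_of_germ F inferInstance (isTorsionFree r a hfree htype) _ fun z hz hf => ?_
  refine h z (NodeModules.mem_of_isField π hS hf) ((stalkMapM_germ f hz _).trans ?_)
  rw [map_sub, e, sub_self, germM_zero]
  exact (map_zero (stalkLinear f z)).symm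

include hS in
omit [IsAlgClosed k] [IsProper (X ↘ Spec (CommRingCat.of k))] [Smooth (π ≫ (X ↘ Spec (CommRingCat.of k)))] in
theorem bijective_unit {x : X} (hx : x ∈ U) : Function.Bijective (stalkMapM (NodeModules.η π F) x) :=
  have := hS.isIso
  NodeModules.bijective_stalk_unit π F hx

include hS hfree htype in
theorem mono_unit : Mono (NodeModules.η π F) :=
  mono_of_injective π hS r a hfree htype _ fun _ hz => (bijective_unit π hS hz).1

include hS htype hfree in
theorem length_unit {x : X} (hx : Curv2.IsNode k X x) :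
    Module.length (X.presheaf.stalk x) ((cokernel (NodeModules.η π F)).presheaf.stalk x) = ((2 * r - a x : ℕ) : ℕ∞) := by
  have := mono_unit π hS r a hfree htype
  have : IsLocallyNoetherian X := LocallyOfFiniteType.isLocallyNoetherian (X ↘ Spec (CommRingCat.of k))
  obtain ⟨hax, ⟨e⟩⟩ := htype x hx
  obtain ⟨B, _, _, b, ρ, Φ, hB, hΦ, -⟩ := NodeModules.exists_nodeData π hS hx F
  have hr : LinearMap.range (stalkLinear (NodeModules.η π F) x) =
      (LinearMap.range (NodeTensor.unit (X.presheaf.stalk x) B (F.presheaf.stalk x))).map Φ.toLinearMap := by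
    rw [← LinearMap.range_comp]
    exact congrArg LinearMap.range (LinearMap.ext fun f => (hΦ f).symm)
  rw [length_cokernel, ← (Submodule.Quotient.equiv _ _ Φ hr.symm).length_eq,
    NodeTensor.length_coker_unit e (fun z hz w => NodeNormalAlg.exists_smul_eq hB hz w)
      (NodeNormalAlg.length_quot hB) (NodeNormalAlg.length_max b)]
  norm_cast
  omega

variable (E₀ : Y.Modules) (hE₀ : FlatMod.IsFinLocFreeOfRank r E₀)
  (p : (Scheme.Modules.pullback π).obj F ⟶ E₀) [Epi p]

/-- the map to the direct image of the quotient -/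
noncomputable abbrev β : F ⟶ (Scheme.Modules.pushforward π).obj E₀ :=
  NodeModules.η π F ≫ (Scheme.Modules.pushforward π).map p

include hS hfree hE₀ in
omit [IsAlgClosed k] [IsProper (X ↘ Spec (CommRingCat.of k))] [Smooth (π ≫ (X ↘ Spec (CommRingCat.of k)))] in
theorem bijective_beta {x : X} (hx : x ∈ U) : Function.Bijective (stalkMapM (β π E₀ p) x) := by
  have : ((Scheme.Modules.pullback π).obj F).IsQuasicoherent := QCPull72.isQuasicoherent_pullback π F
  have : E₀.IsQuasicoherent :=
    Props58.LocFree.isQuasicoherent_of_isFinLocFree (LimTop61.isFinLocFreeOfRank_iff.1 hE₀).1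
  have h : stalkMapM (β π E₀ p) x =
      stalkMapM ((Scheme.Modules.pushforward π).map p) x ∘ stalkMapM (NodeModules.η π F) x :=
    funext fun z => stalk_comp _ _ x z
  have hb : Function.Bijective (stalkMapM ((Scheme.Modules.pushforward π).map p) x) := by
    refine ⟨NodeModules.injective_stalk_push π p U (fun y hy => ?_) hx,
      NodeModules.surjective_stalk_push π p x⟩
    obtain ⟨eM⟩ := NodalFactor.nonempty_pullbackStalkEquiv π F y (hfree _ ((hS.mem_iff _).1 hy))
    obtain ⟨eE⟩ := NodalFactor.nonempty_stalkEquiv hE₀ y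
    exact NodalFactor.injective_stalk_of_rank_eq p y eM eE
  rw [h]
  exact hb.comp (bijective_unit π hS hx)

include hS hfree htype hE₀ in
theorem mono_beta : Mono (β π E₀ p) :=
  mono_of_injective π hS r a hfree htype _ fun _ hz => (bijective_beta π hS r hfree E₀ hE₀ p hz).1

include hS hfree htype hE₀ in
theorem exists_beta_data {x : X} (hx : Curv2.IsNode k X x) :
    Module.length (X.presheaf.stalk x)
        (((Scheme.Modules.pushforward π).obj E₀).presheaf.stalk x ⧸ LinearMap.range (stalkLinear (β π E₀ p) x)) =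
      (a x : ℕ∞) ∧
    ∃ ρ : X.presheaf.stalk x,
      (∀ z : ((Scheme.Modules.pushforward π).obj E₀).presheaf.stalk x, ∃ f, ρ • z = stalkMapM (β π E₀ p) x f) ∧
      ∀ z : ((Scheme.Modules.pushforward π).obj E₀).presheaf.stalk x, ρ • z = 0 → z = 0 := by
  have hmono := mono_beta π hS r a hfree htype E₀ hE₀ p
  have : IsLocallyNoetherian X := LocallyOfFiniteType.isLocallyNoetherian (X ↘ Spec (CommRingCat.of k))
  have : ((Scheme.Modules.pullback π).obj F).IsQuasicoherent := QCPull72.isQuasicoherent_pullback π F
  have hq : E₀.IsQuasicoherent :=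
    Props58.LocFree.isQuasicoherent_of_isFinLocFree (LimTop61.isFinLocFreeOfRank_iff.1 hE₀).1
  obtain ⟨-, ⟨e⟩⟩ := htype x hx
  obtain ⟨B, _, _, b, ρ, Φ, hB, hΦ, htf⟩ := NodeModules.exists_nodeData π hS hx F
  have hρ := htf E₀ hq (NodalFactor.isTorsionFree_of_finLocFree hE₀)
  let φ := stalkLinear ((Scheme.Modules.pushforward π).map p) x ∘ₗ Φ.toLinearMap
  have hφ : Function.Surjective φ := (NodeModules.surjective_stalk_push π p x).comp Φ.surjective
  have hβ : stalkLinear (β π E₀ p) x = φ ∘ₗ NodeTensor.unit (X.presheaf.stalk x) B (F.presheaf.stalk x) :=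
    LinearMap.ext fun f => (stalk_comp _ _ x f).trans
      (congrArg (stalkLinear ((Scheme.Modules.pushforward π).map p) x) (hΦ f).symm)
  refine ⟨?_, ρ, fun z => ?_, hρ⟩
  · rw [hβ]
    exact NodeTensor.length_coker_quot e hB.injective (fun z hz w => NodeNormalAlg.exists_smul_eq hB hz w)
      (NodeNormalAlg.length_quot hB) φ hB.mem_max hB.regular hρ hφ
      (by rw [← hβ]; exact injective_stalkMapM_of_mono (β π E₀ p) x)
  · obtain ⟨ξ, rfl⟩ := hφ z
    obtain ⟨f, hf⟩ := NodeTensor.exists_smul_mem_range (F := F.presheaf.stalk x)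
      (fun z hz w => NodeNormalAlg.exists_smul_eq hB hz w) hB.mem_max ξ
    exact ⟨f, by rw [← map_smul, hf]; exact (LinearMap.congr_fun hβ f).symm⟩

variable {E : Y.Modules} (lam : E₀ ⟶ E)

include hS hfree htype hE₀ in
theorem injective_push_lam (hi : Mono (β π E₀ p ≫ (Scheme.Modules.pushforward π).map lam)) (x : X) :
    Function.Injective (stalkMapM ((Scheme.Modules.pushforward π).map lam) x) := by
  let l := stalkLinear ((Scheme.Modules.pushforward π).map lam) x
  have hi' : ∀ f, l (stalkMapM (β π E₀ p) x f) = 0 → f = 0 := fun f hf =>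
    injective_stalkMapM_of_mono (β π E₀ p ≫ (Scheme.Modules.pushforward π).map lam) x
      ((stalk_comp _ _ x f).trans (hf.trans
        (map_zero (stalkLinear (β π E₀ p ≫ (Scheme.Modules.pushforward π).map lam) x)).symm))
  refine (injective_iff_map_eq_zero l).2 fun z hz => ?_
  by_cases hx : Curv2.IsNode k X x
  · obtain ⟨-, ρ, hρ, htf⟩ := exists_beta_data π hS r a hfree htype E₀ hE₀ p hx
    obtain ⟨f, hf⟩ := hρ z
    refine htf z ?_
    rw [hf, hi' f (by rw [← hf, map_smul, hz, smul_zero])]
    exact map_zero (stalkLinear (β π E₀ p) x)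
  · obtain ⟨f, rfl⟩ := (bijective_beta π hS r hfree E₀ hE₀ p ((hS.mem_iff x).2 hx)).2 z
    rw [hi' f hz]
    exact map_zero (stalkLinear (β π E₀ p) x)

set_option synthInstance.maxHeartbeats 400000 in
include hS hfree htype hE₀ in
theorem length_comp (hi : Mono (β π E₀ p ≫ (Scheme.Modules.pushforward π).map lam)) (x : X) :
    Module.length (X.presheaf.stalk x)
        ((cokernel (β π E₀ p ≫ (Scheme.Modules.pushforward π).map lam)).presheaf.stalk x) =
      Module.length (X.presheaf.stalk x)
        (((Scheme.Modules.pushforward π).obj E₀).presheaf.stalk x ⧸ LinearMap.range (stalkLinear (β π E₀ p) x)) +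
      Module.length (X.presheaf.stalk x)
        ((cokernel ((Scheme.Modules.pushforward π).map lam)).presheaf.stalk x) := by
  have hl := injective_push_lam π hS r a hfree htype E₀ hE₀ p lam hi
  have := mono_of_injective_stalkMapM ((Scheme.Modules.pushforward π).map lam) hl
  rw [length_cokernel, length_cokernel, show stalkLinear (β π E₀ p ≫ (Scheme.Modules.pushforward π).map lam) x =
    stalkLinear ((Scheme.Modules.pushforward π).map lam) x ∘ₗ stalkLinear (β π E₀ p) x from
      LinearMap.ext fun f => stalk_comp _ _ x f]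
  exact NodeTensor.length_coker_comp _ _ (hl x)

end Groth.Agent.Ega11.NodeLengths
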