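import Groth.Agent.Ega11.TorFreeAss
import Groth.Agent.Curves2.NodePoint
import Groth.Agent.Curves2.SmoothNormal
import Groth.Agent.Curves2.IdealFrame
import Groth.Agent.Crv77.Basic
import Groth.Agent.Crv77.Degree
import Groth.Agent.QC70.GenIso
import Groth.Agent.QC70.CohOps
import Groth.Agent.QC70.ExtZero
import Groth.Agent.LF71.Restrict
import Groth.Agent.Div89.Basic
import Mathlib

/-! Spreading isomorphisms of stalks near a node. -/

set_option autoImplicit false
set_option backward.isDefEq.respectTransparency.types false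
universe u

open CategoryTheory CategoryTheory.Limits AlgebraicGeometry TopologicalSpace
open Groth.Agent.QC70

namespace Groth.Agent.Ega11.NodeSpread

variable {X : Scheme.{u}}

theorem notMem_smoothLocus_of_isNode {k : Type u} [Field k] [X.Over (Spec (CommRingCat.of k))]
    [LocallyOfFiniteType (X ↘ Spec (CommRingCat.of k))] (hdim : topologicalKrullDim X ≤ 1) {x : X}
    (hx : Curv2.IsNode k X x) {V : X.Opens} (hxV : x ∈ V)
    [Smooth (V.ι ≫ X ↘ Spec (CommRingCat.of k))] : False := by
  have : IsLocallyNoetherian X := LocallyOfFiniteType.isLocallyNoetherian (X ↘ Spec (CommRingCat.of k))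
  obtain ⟨hdom, hic⟩ := Curves2.isIntegrallyClosed_stalk_of_smooth (V.ι ≫ X ↘ Spec (CommRingCat.of k)) ⟨x, hxV⟩
  let e := (asIso (V.ι.stalkMap ⟨x, hxV⟩)).commRingCatIsoToRingEquiv
  have : IsDomain (X.presheaf.stalk x) := e.injective.isDomain e.toRingHom
  have : IsIntegrallyClosed (X.presheaf.stalk x) := IsIntegrallyClosed.of_equiv e.symm
  have hd : Ring.KrullDimLE 1 (X.presheaf.stalk x) :=
    Ring.krullDimLE_iff.mpr (le_trans (FlatMor68.DedekindFlat.stalk_dim_le x) hdim)
  obtain ⟨p, hp⟩ : (IsLocalRing.maximalIdeal (X.presheaf.stalk x)).IsPrincipal :=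
    ((tfae_of_isNoetherianRing_of_isLocalRing_of_isDomain (X.presheaf.stalk x)).out 3 4 rfl rfl).mp
      ⟨inferInstance, fun P hP0 hP => IsLocalRing.eq_maximalIdeal
        (Ring.krullDimLE_one_iff_of_noZeroDivisors.mp hd P hP0 hP)⟩
  exact Curves2.not_isPrincipal_maximalIdeal_of_isNode k X x hx p hp

/-- an open around a node avoiding all other nodes -/
theorem exists_open_avoiding {k : Type u} [Field k] [PerfectField k] [X.Over (Spec (CommRingCat.of k))]
    [LocallyOfFiniteType (X ↘ Spec (CommRingCat.of k))] [NoetherianSpace X] [AlgebraicGeometry.IsReduced X]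
    (hdim : topologicalKrullDim X ≤ 1) (x : X) :
    ∃ W : X.Opens, x ∈ W ∧ ∀ y ∈ W, Curv2.IsNode k X y → y = x := by
  have : LocallyOfFinitePresentation (X ↘ Spec (CommRingCat.of k)) := inferInstance
  let sm : X.Opens := (X ↘ Spec (CommRingCat.of k)).smoothLocus
  have hfin : ((sm : Set X)ᶜ).Finite := by
    refine Crv77.finite_of_isClosed hdim sm.2.isClosed_compl fun z hz => ?_
    by_contra hc
    push Not at hc
    exact hz (TorFreeAss.mem_of_dense (Scheme.Hom.dense_smoothLocus_of_perfectField _) fun w hw => (hc w hw).symm)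
  let S : Set X := {y | Curv2.IsNode k X y ∧ y ≠ x}
  have hS : S.Finite := hfin.subset fun y hy hys => by
    have : Smooth (sm.ι ≫ X ↘ Spec (CommRingCat.of k)) := by
      rw [← Scheme.Hom.smoothLocus_eq_top_iff, ← Scheme.Hom.preimage_smoothLocus_eq]
      ext z
      exact iff_of_true z.2 trivial
    exact notMem_smoothLocus_of_isNode hdim hy.1 (V := sm) hys
  have hcl : IsClosed S := by
    rw [← Set.biUnion_of_singleton S]
    exact hS.isClosed_biUnion fun z hz => hz.1.1
  exact ⟨⟨Sᶜ, hcl.isOpen_compl⟩, fun h => h.2 rfl, fun y hy hn => by_contra fun hne => hy ⟨hn, hne⟩⟩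

theorem nonempty_idealMod_stalkEquiv (x : X) (hx : IsClosed ({x} : Set X)) :
    Nonempty ((ClSub.idealMod (Scheme.IdealSheafData.vanishingIdeal (⟨{x}, hx⟩ : Closeds X))).presheaf.stalk x
      ≃ₗ[X.presheaf.stalk x] IsLocalRing.maximalIdeal (X.presheaf.stalk x)) := by
  let I := Scheme.IdealSheafData.vanishingIdeal (⟨{x}, hx⟩ : Closeds X)
  have : Mono (ClSub.idealModι I) := inferInstanceAs (Mono (kernel.ι _))
  let g : (ClSub.idealMod I).presheaf.stalk x →ₗ[X.presheaf.stalk x] X.presheaf.stalk x :=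
    (unitStalkEquiv x).symm.toLinearMap ∘ₗ stalkLinear (ClSub.idealModι I) x
  have hg : Function.Injective g := (unitStalkEquiv x).symm.injective.comp (injective_stalkMapM_of_mono _ x)
  have hgerm : ∀ (V : X.affineOpens) (hV : x ∈ V.1) (m : Γ(ClSub.idealMod I, V.1)),
      g (germM _ V.1 x hV m) = X.presheaf.germ V.1 x hV (OmegaSh.idealSect I V.1 m) := fun V hV m => by
    show (unitStalkEquiv x).symm (stalkMapM _ x _) = _
    rw [stalkMapM_germ, LinearEquiv.symm_apply_eq, unitStalkEquiv_germ]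
    rfl
  have hrange : LinearMap.range g = IsLocalRing.maximalIdeal (X.presheaf.stalk x) := by
    apply le_antisymm
    · rintro _ ⟨e, rfl⟩
      obtain ⟨W, hxW, s, rfl⟩ := germM_exist e
      obtain ⟨_, ⟨V, hV, rfl⟩, hxV, hVW⟩ := X.isBasis_affineOpens.exists_subset_of_mem_open hxW W.2
      rw [← germM_res (show V ≤ W from hVW) hxV s, hgerm ⟨V, hV⟩ hxV]
      intro hu
      have hmem := Curves2.idealSect_mem_ideal I ⟨V, hV⟩ (res _ (show V ≤ W from hVW) s)
      have hz : x ∈ (I.support : Set X) :=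
        (Scheme.IdealSheafData.coe_support_vanishingIdeal (⟨{x}, hx⟩ : Closeds X)).ge rfl
      have := (Scheme.IdealSheafData.mem_support_iff_of_mem (U := ⟨V, hV⟩) hxV).1 hz
      rw [Scheme.mem_zeroLocus_iff] at this
      exact this _ hmem ((Scheme.mem_basicOpen _ _ _ hxV).2 hu)
    · intro z hz
      obtain ⟨_, ⟨V, hV, rfl⟩, hxV, -⟩ :=
        X.isBasis_affineOpens.exists_subset_of_mem_open (Set.mem_univ x) isOpen_univ
      let := Div89.stalkAlg V x hxV
      have := Div89.primeAt_isPrime ⟨V, hV⟩ x hxV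
      have : IsLocalization.AtPrime (X.presheaf.stalk x) (Div89.primeAt ⟨V, hV⟩ x hxV) :=
        Div89.isLocalization_stalk ⟨V, hV⟩ x hxV
      obtain ⟨a, t, rfl⟩ := IsLocalization.exists_mk'_eq (Div89.primeAt ⟨V, hV⟩ x hxV).primeCompl z
      have ha : a ∈ Div89.primeAt ⟨V, hV⟩ x hxV :=
        (IsLocalization.AtPrime.mk'_mem_maximal_iff (X.presheaf.stalk x) _ a t).1 hz
      have haI : a ∈ I.ideal ⟨V, hV⟩ := by
        rw [Scheme.IdealSheafData.vanishingIdeal_ideal, PrimeSpectrum.mem_vanishingIdeal]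
        intro p hp
        have hp' : hV.fromSpec p = x := hp
        have : p = hV.primeIdealOf ⟨x, hxV⟩ := hV.fromSpec.isOpenEmbedding.injective (by
          rw [hp', hV.fromSpec_primeIdealOf])
        rw [this]
        exact ha
      obtain ⟨m, hm⟩ := Curves2.exists_idealSect_of_mem I ⟨V, hV⟩ haI
      refine ⟨IsLocalization.mk' (X.presheaf.stalk x) 1 t • germM _ V x hxV m, ?_⟩
      rw [map_smul, hgerm ⟨V, hV⟩ hxV, hm, smul_eq_mul]
      exact (mul_comm _ _).trans (IsLocalization.mk'_eq_mul_mk'_one a t).symm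
  exact ⟨(LinearEquiv.ofInjective g hg).trans (LinearEquiv.ofEq _ _ hrange)⟩

/-- stalks of a binary direct sum -/
noncomputable def biprodStalkEquiv (P Q : X.Modules) (x : X) :
    (P ⊞ Q).presheaf.stalk x ≃ₗ[X.presheaf.stalk x] P.presheaf.stalk x × Q.presheaf.stalk x :=
  LinearEquiv.ofLinearMap ((stalkLinear (biprod.fst : P ⊞ Q ⟶ P) x).prod (stalkLinear biprod.snd x))
    ((stalkLinear (biprod.inl : P ⟶ P ⊞ Q) x).coprod (stalkLinear biprod.inr x))
    (by
      refine LinearMap.ext fun ⟨p, q⟩ => ?_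
      simp only [LinearMap.comp_apply, LinearMap.coprod_apply, LinearMap.prod_apply, Function.prod,
        map_add, LinearMap.id_apply]
      exact Prod.ext (by
        refine (congrArg₂ (· + ·) (stalkMapM_comp _ _ x p).symm (stalkMapM_comp _ _ x q).symm).trans ?_
        rw [biprod.inl_fst, biprod.inr_fst, stalkMapM_id, stalkMapM_zero, add_zero]) (by
        refine (congrArg₂ (· + ·) (stalkMapM_comp _ _ x p).symm (stalkMapM_comp _ _ x q).symm).trans ?_
        rw [biprod.inl_snd, biprod.inr_snd, stalkMapM_id, stalkMapM_zero, zero_add]))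
    (by
      refine LinearMap.ext fun e => ?_
      refine (congrArg₂ (· + ·) (stalkMapM_comp _ _ x e).symm (stalkMapM_comp _ _ x e).symm).trans ?_
      rw [← stalkMapM_add, biprod.total]
      exact stalkMapM_id x e)

theorem isCoh_biprod (P Q : X.Modules) (hP : Coh.IsCoh P) (hQ : Coh.IsCoh Q) : Coh.IsCoh (P ⊞ Q) :=
  isCoh_X₂ (ShortComplex.mk (biprod.inl : P ⟶ P ⊞ Q) biprod.snd biprod.inl_snd)
    (ShortComplex.Splitting.shortExact
      { r := biprod.fst, s := biprod.inr }) hP hQ

/-- an isomorphism of stalks of coherent modules extends to a neighbourhood -/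
theorem exists_restrict_iso [IsNoetherian X] {M F : X.Modules} (hM : Coh.IsCoh M) (hF : Coh.IsCoh F) (x : X)
    (e : M.presheaf.stalk x ≃ₗ[X.presheaf.stalk x] F.presheaf.stalk x) {W : X.Opens} (hxW : x ∈ W) :
    ∃ U : X.Opens, U ≤ W ∧ x ∈ U ∧ Nonempty (M.restrict U.ι ≅ F.restrict U.ι) := by
  obtain ⟨J, ψ, hxJ, hψm, hψ⟩ := exists_mono_iso_at hM hF x e
  let ι := Dual3.idealMulι J M
  have : M.IsQuasicoherent := hM.1
  have hι := bijective_stalk_idealMulι J M hxJ
  have hJ := isCoh_idealMul J hM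
  have hcψ := isCoh_cokernel ψ hJ.1 hF
  have hcι := isCoh_cokernel ι hJ.1 hM
  have := hcψ.2
  have := hcι.2
  let Z := CohB1.support (cokernel ψ) ∪ CohB1.support (cokernel ι)
  have hZ : IsClosed Z := (isClosed_support _).union (isClosed_support _)
  have hxZ : x ∉ Z := by
    rintro (h | h)
    · exact notMem_support_iff.2 (subsingleton_stalk_cokernel ψ x hψ.2) h
    · exact notMem_support_iff.2 (subsingleton_stalk_cokernel ι x hι.2) h
  let U : X.Opens := W ⊓ ⟨Zᶜ, hZ.isOpen_compl⟩
  refine ⟨U, inf_le_left, ⟨hxW, hxZ⟩, ?_⟩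
  have hiso : ∀ {N : X.Modules} (f : (Dual3.idealMul J).obj M ⟶ N) [Mono f], (∀ z ∈ U, z ∉ CohB1.support (cokernel f)) →
      IsIso ((Scheme.Modules.restrictFunctor U.ι).map f) := fun {N} f _ hf => by
    refine isIso_of_bijective_stalkMapM _ fun u => (bijective_stalkMapM_restrict_iff U.ι f u).2 ?_
    refine ⟨injective_stalkMapM_of_mono f _, fun z => ?_⟩
    have hs : Subsingleton ((cokernel f).presheaf.stalk (U.ι u)) := notMem_support_iff.1 (hf _ u.2)
    exact stalkMapM_exact (ShortComplex.mk f (cokernel.π f) (cokernel.condition f))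
      (ShortComplex.exact_of_g_is_cokernel _ (cokernelIsCokernel f)) _ z (Subsingleton.elim _ _)
  have : Mono ι := inferInstance
  have := hiso ψ fun z hz h => hz.2 (Or.inl h)
  have := hiso ι fun z hz h => hz.2 (Or.inr h)
  exact ⟨(asIso ((Scheme.Modules.restrictFunctor U.ι).map ι)).symm ≪≫ asIso ((Scheme.Modules.restrictFunctor U.ι).map ψ)⟩

end Groth.Agent.Ega11.NodeSpread
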