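import Groth.Agent.Ega11.LatticeSuper
import Groth.Agent.Ega11.NodeSpread
import Groth.Agent.Ega11.NodeLengths
import Groth.Agent.Div89.FreeStalks
import Groth.Agent.LimTop61.LocFreeStage
import Mathlib

/-! Locally free overmodules at nodes. -/

set_option autoImplicit false
set_option backward.isDefEq.respectTransparency.types false
universe u

open CategoryTheory CategoryTheory.Limits AlgebraicGeometry TopologicalSpace
open Groth.Agent.QC70

namespace Groth.Agent.Ega11.LatticeNodes

variable {X : Scheme.{u}}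

theorem isFinLocFreeOfRank_of_stalks [IsLocallyNoetherian X] {G : X.Modules} (hG : Coh.IsCoh G) (n : ℕ)
    (h : ∀ x : X, Nonempty ((Fin n → X.presheaf.stalk x) ≃ₗ[X.presheaf.stalk x] G.presheaf.stalk x)) :
    FlatMod.IsFinLocFreeOfRank n G := by
  rw [LimTop61.isFinLocFreeOfRank_iff]
  refine ⟨(Div89.isFinLocFree_iff_free_stalks hG).2 fun x => ?_, fun x => ?_⟩
  · obtain ⟨e⟩ := h x
    exact Module.Free.of_equiv e
  · obtain ⟨e⟩ := h x
    rw [LimTop61.stalkRk, ← e.finrank_eq, Module.finrank_fin_fun]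

theorem finite_smoothLocus_compl {k : Type u} [Field k] [PerfectField k] [X.Over (Spec (CommRingCat.of k))]
    [LocallyOfFiniteType (X ↘ Spec (CommRingCat.of k))] [NoetherianSpace X] [AlgebraicGeometry.IsReduced X]
    (hdim : topologicalKrullDim X ≤ 1) :
    ((X ↘ Spec (CommRingCat.of k)).smoothLocus : Set X)ᶜ.Finite ∧
      ∀ z ∈ ((X ↘ Spec (CommRingCat.of k)).smoothLocus : Set X)ᶜ, IsClosed ({z} : Set X) ∧ ¬ Mero90.MaxPt z := by
  have hnm : ∀ z ∈ ((X ↘ Spec (CommRingCat.of k)).smoothLocus : Set X)ᶜ, ¬ Mero90.MaxPt z := fun z hz hm =>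
    hz (TorFreeAss.mem_of_dense (Scheme.Hom.dense_smoothLocus_of_perfectField _) hm)
  have hgen : ∀ z ∈ ((X ↘ Spec (CommRingCat.of k)).smoothLocus : Set X)ᶜ, ∃ ζ, ζ ⤳ z ∧ z ≠ ζ := fun z hz => by
    by_contra hc
    push Not at hc
    exact hnm z hz fun w hw => (hc w hw).symm
  refine ⟨Crv77.finite_of_isClosed hdim (X ↘ Spec (CommRingCat.of k)).smoothLocus.2.isClosed_compl hgen,
    fun z hz => ⟨?_, hnm z hz⟩⟩
  obtain ⟨w, hw, hne⟩ := hgen z hz
  exact Crv77.isClosed_singleton_of_generalization hdim hw hne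

theorem finite_nodes {k : Type u} [Field k] [PerfectField k] [X.Over (Spec (CommRingCat.of k))]
    [LocallyOfFiniteType (X ↘ Spec (CommRingCat.of k))] [NoetherianSpace X] [AlgebraicGeometry.IsReduced X]
    (hdim : topologicalKrullDim X ≤ 1) :
    {x : X | Curv2.IsNode k X x}.Finite ∧ ∀ x : X, Curv2.IsNode k X x → ¬ Mero90.MaxPt x := by
  obtain ⟨hfin, hnm⟩ := finite_smoothLocus_compl (k := k) (X := X) hdim
  have hsub : ∀ x : X, Curv2.IsNode k X x → x ∈ ((X ↘ Spec (CommRingCat.of k)).smoothLocus : Set X)ᶜ :=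
    fun x hx hxs => by
      have : Smooth ((X ↘ Spec (CommRingCat.of k)).smoothLocus.ι ≫ X ↘ Spec (CommRingCat.of k)) := by
        rw [← Scheme.Hom.smoothLocus_eq_top_iff, ← Scheme.Hom.preimage_smoothLocus_eq]
        ext z
        exact iff_of_true z.2 trivial
      exact NodeSpread.notMem_smoothLocus_of_isNode hdim hx (V := (X ↘ Spec (CommRingCat.of k)).smoothLocus) hxs
  exact ⟨hfin.subset hsub, fun x hx => (hnm x (hsub x hx)).2⟩

/-- `(O)^a × m^c` inside `O^(a + c)` -/
noncomputable def incl (A : Type u) [CommRing A] [IsLocalRing A] (a c : ℕ) :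
    ((Fin a → A) × (Fin c → IsLocalRing.maximalIdeal A)) →ₗ[A] (Fin (a + c) → A) :=
  ((LinearEquiv.sumArrowLequivProdArrow (Fin a) (Fin c) A A).symm ≪≫ₗ
      LinearEquiv.funCongrLeft A A finSumFinEquiv.symm).toLinearMap ∘ₗ
    LinearMap.prodMap LinearMap.id ((IsLocalRing.maximalIdeal A).subtype.compLeft (Fin c))

theorem injective_incl (A : Type u) [CommRing A] [IsLocalRing A] (a c : ℕ) : Function.Injective (incl A a c) := by
  refine ((LinearEquiv.sumArrowLequivProdArrow (Fin a) (Fin c) A A).symm ≪≫ₗ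
      LinearEquiv.funCongrLeft A A finSumFinEquiv.symm).injective.comp
    (?_ : Function.Injective (LinearMap.prodMap LinearMap.id ((IsLocalRing.maximalIdeal A).subtype.compLeft (Fin c))))
  intro x y h
  exact Prod.ext (congrArg Prod.fst h :) (funext fun i => Subtype.ext (congrFun (congrArg Prod.snd h :) i))

theorem smul_mem_range_incl {A : Type u} [CommRing A] [IsLocalRing A] {a c : ℕ} {g : A}
    (hg : g ∈ IsLocalRing.maximalIdeal A) (p : Fin (a + c) → A) : g • p ∈ LinearMap.range (incl A a c) := by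
  let q := (LinearEquiv.sumArrowLequivProdArrow (Fin a) (Fin c) A A).symm ≪≫ₗ
      LinearEquiv.funCongrLeft A A finSumFinEquiv.symm
  obtain ⟨⟨u, v⟩, rfl⟩ := q.surjective p
  refine ⟨(g • u, fun i => ⟨g * v i, Ideal.mul_mem_right _ _ hg⟩), ?_⟩
  rw [← map_smul]
  rfl

theorem length_coker_incl (A : Type u) [CommRing A] [IsLocalRing A] (a c : ℕ) :
    Module.length A ((Fin (a + c) → A) ⧸ LinearMap.range (incl A a c)) = (c : ℕ∞) := by
  classical
  let q := (LinearEquiv.sumArrowLequivProdArrow (Fin a) (Fin c) A A).symm ≪≫ₗ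
      LinearEquiv.funCongrLeft A A finSumFinEquiv.symm
  let π : (Fin (a + c) → A) →ₗ[A] (Fin c → A ⧸ IsLocalRing.maximalIdeal A) :=
    (LinearMap.pi fun i => (IsLocalRing.maximalIdeal A).mkQ ∘ₗ LinearMap.proj i) ∘ₗ
      LinearMap.snd A _ _ ∘ₗ q.symm.toLinearMap
  have hπ : Function.Surjective π := fun y => by
    choose v hv using fun i => (IsLocalRing.maximalIdeal A).mkQ_surjective (y i)
    exact ⟨q (0, v), funext fun i => by simp [π, ← hv i]⟩
  have hker : LinearMap.ker π = LinearMap.range (incl A a c) := by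
    ext p
    obtain ⟨⟨u, v⟩, rfl⟩ := q.surjective p
    constructor
    · intro h
      have h' : ∀ i, v i ∈ IsLocalRing.maximalIdeal A := fun i => by
        have h0 : Submodule.Quotient.mk (p := IsLocalRing.maximalIdeal A) (v i) = 0 := by
          simpa [π] using congrFun h i
        exact (Submodule.Quotient.mk_eq_zero _).1 h0
      exact ⟨(u, fun i => ⟨v i, h' i⟩), rfl⟩
    · rintro ⟨⟨u', v'⟩, h⟩
      have h' : (u', fun i => (v' i : A)) = (u, v) := q.injective h
      obtain ⟨-, rfl⟩ := Prod.ext_iff.1 h'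
      refine funext fun i => ?_
      have h0 := (Submodule.Quotient.mk_eq_zero (IsLocalRing.maximalIdeal A)).2 (v' i).2
      simpa [π] using h0
  have : IsSimpleModule A (A ⧸ IsLocalRing.maximalIdeal A) :=
    isSimpleModule_iff_isCoatom.mpr (IsLocalRing.maximalIdeal.isMaximal A).out
  rw [← hker, (π.quotKerEquivOfSurjective hπ).length_eq, Module.length_pi,
    Module.length_eq_one A (A ⧸ IsLocalRing.maximalIdeal A), mul_one, ENat.card_eq_coe_fintype_card, Fintype.card_fin]

end Groth.Agent.Ega11.LatticeNodes
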