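import Groth.Agent.EGA4Alg4.DepthChange
import Groth.Agent.EGA4Alg4.IntegralDim
import Groth.Agent.Ega11.SupportLoc
import Groth.Agent.CAlg1.Sk
import Groth.Agent.LC17.LocVanish
import Mathlib

/-!
Depth and dimension of the localizations of a module which is finite over the base ring,
computed with the primes of the bigger ring over a given prime.
-/

set_option autoImplicit false
set_option linter.unusedSectionVars false
universe u

open IsLocalRing Groth.Agent.EGA4Alg4

namespace Groth.Agent.Ega11.FiniteChange

/-- An element outside all associated primes below `q` is regular on the localization at `q`. -/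
theorem isSMulRegular_loc {R : Type u} [CommRing R] [IsNoetherianRing R] {M : Type u} [AddCommGroup M] [Module R M]
    (x : R) (q : Ideal R) [q.IsPrime] (h : ∀ P ∈ associatedPrimes R M, P ≤ q → x ∉ P) :
    IsSMulRegular (LocalizedModule q.primeCompl M) (algebraMap R (Localization.AtPrime q) x) := by
  rw [isSMulRegular_iff_right_eq_zero_of_smul]
  intro z hz
  rw [algebraMap_smul] at hz
  obtain ⟨⟨m, s⟩, rfl⟩ := IsLocalizedModule.mk'_surjective q.primeCompl (LocalizedModule.mkLinearMap q.primeCompl M) z
  simp only [Function.uncurry_apply_pair] at hz ⊢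
  rw [← IsLocalizedModule.mk'_smul, IsLocalizedModule.mk'_eq_zero'] at hz
  obtain ⟨⟨u, hu⟩, hu'⟩ := hz
  simp only [Submonoid.smul_def] at hu'
  let K := Submodule.span R ({u • m} : Set M)
  by_cases hK : Module.annihilator R K ≤ q
  · exfalso
    have : Module.Finite R K := Module.Finite.span_singleton R (u • m)
    obtain ⟨P, hP, hPq⟩ := Ideal.exists_minimalPrimes_le hK
    refine h P (associatedPrimes.subset_of_injective K.injective_subtype
      (Module.associatedPrimes.minimalPrimes_annihilator_subset_associatedPrimes R K hP)) hPq (hP.1.2 ?_)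
    refine Module.mem_annihilator.mpr fun ⟨y, hy⟩ => Subtype.ext ?_
    obtain ⟨r, rfl⟩ := Submodule.mem_span_singleton.mp hy
    show x • r • u • m = 0
    rw [smul_comm, smul_comm x u, hu', smul_zero]
  · obtain ⟨c, hc, hcq⟩ := SetLike.not_le_iff_exists.mp hK
    rw [IsLocalizedModule.mk'_eq_zero']
    refine ⟨⟨c * u, fun h => (Ideal.IsPrime.mem_or_mem ‹q.IsPrime› h).elim hcq hu⟩, ?_⟩
    have := congrArg Subtype.val (Module.mem_annihilator.mp hc ⟨u • m, Submodule.mem_span_singleton_self _⟩)
    simpa [Submonoid.smul_def, mul_smul] using this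

variable {A B : Type u} [CommRing A] [CommRing B] [Algebra A B] [IsNoetherianRing A] [IsNoetherianRing B]

section

variable (M : Type u) [AddCommGroup M] [Module B M] [Module A M] [IsScalarTower A B M] [Module.Finite A M]

theorem assoc_comap {Q : Ideal B} (hQ : Q ∈ associatedPrimes B M) :
    Q.comap (algebraMap A B) ∈ associatedPrimes A M := by
  obtain ⟨hQp, x, hx⟩ := isAssociatedPrime_iff.mp hQ
  refine isAssociatedPrime_iff.mpr ⟨Ideal.comap_isPrime _ Q, x, ?_⟩
  ext a
  rw [Ideal.mem_comap, hx, Submodule.mem_colon_singleton, Submodule.mem_colon_singleton, algebraMap_smul]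
  simp

theorem isIntegral_quotient (J : Ideal B) (hJ : Module.annihilator B M ≤ J) :
    Algebra.IsIntegral A (B ⧸ J) := by
  let J₀ := Module.annihilator B M
  let f : (B ⧸ J₀) →ₐ[A] Module.End A M := Ideal.Quotient.liftₐ J₀ (Algebra.lsmul A A M)
    (fun b hb => LinearMap.ext fun m => Module.mem_annihilator.mp hb m)
  have hf : Function.Injective f := by
    rw [injective_iff_map_eq_zero]
    intro x hx
    obtain ⟨b, rfl⟩ := Ideal.Quotient.mk_surjective x
    rw [Ideal.Quotient.eq_zero_iff_mem]
    exact Module.mem_annihilator.mpr fun m => congrArg (fun g : Module.End A M => g m) hx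
  refine ⟨fun x => ?_⟩
  obtain ⟨b, rfl⟩ := Ideal.Quotient.mk_surjective x
  have h1 : IsIntegral A (Ideal.Quotient.mk J₀ b) :=
    (isIntegral_algHom_iff f hf).mp (Algebra.IsIntegral.isIntegral _)
  exact h1.map (Ideal.Quotient.factorₐ A hJ)

theorem comap_lt {y y' : PrimeSpectrum B} (hy : y ∈ Module.support B M) (h : y < y') :
    PrimeSpectrum.comap (algebraMap A B) y < PrimeSpectrum.comap (algebraMap A B) y' := by
  have : Module.Finite B M := Module.Finite.of_restrictScalars_finite A B M
  obtain ⟨hle, b, hb', hb⟩ := SetLike.lt_iff_le_and_exists.mp (show y.asIdeal < y'.asIdeal from h)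
  have := isIntegral_quotient M y.asIdeal (Module.mem_support_iff_of_finite.mp hy) (A := A)
  obtain ⟨f, hf, hfb⟩ := this.isIntegral (Ideal.Quotient.mk y.asIdeal b)
  refine Ideal.comap_lt_comap_of_root_mem_sdiff hle ⟨hb', hb⟩ (Polynomial.map_monic_ne_zero hf) ?_
  rw [← Ideal.Quotient.eq_zero_iff_mem, Polynomial.hom_eval₂, ← Ideal.Quotient.algebraMap_eq,
    ← IsScalarTower.algebraMap_eq]
  exact hfb

theorem mem_support_comap {y : PrimeSpectrum B} (hy : y ∈ Module.support B M) :
    PrimeSpectrum.comap (algebraMap A B) y ∈ Module.support A M := by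
  have : Module.Finite B M := Module.Finite.of_restrictScalars_finite A B M
  rw [Module.mem_support_iff_of_finite] at hy ⊢
  intro a ha
  exact hy (Module.mem_annihilator.mpr fun m => by rw [algebraMap_smul]; exact Module.mem_annihilator.mp ha m)

/-- Every point of the support over `A` is below a point of the support over `B`. -/
theorem exists_over {x : PrimeSpectrum A} (hx : x ∈ Module.support A M) :
    ∃ y : PrimeSpectrum B, y ∈ Module.support B M ∧ PrimeSpectrum.comap (algebraMap A B) y = x := by
  have : Module.Finite B M := Module.Finite.of_restrictScalars_finite A B M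
  have := isIntegral_quotient M (Module.annihilator B M) le_rfl (A := A)
  have hker : (⊥ : Ideal (B ⧸ Module.annihilator B M)).comap (algebraMap A _) ≤ x.asIdeal := by
    intro a ha
    rw [Ideal.mem_comap, Ideal.mem_bot, IsScalarTower.algebraMap_apply A B, Ideal.Quotient.algebraMap_eq,
      Ideal.Quotient.eq_zero_iff_mem] at ha
    exact Module.mem_support_iff_of_finite.mp hx (Module.mem_annihilator.mpr fun m => by
      rw [← algebraMap_smul B a m]; exact Module.mem_annihilator.mp ha m)
  obtain ⟨Q, -, hQ, hQc⟩ := Ideal.exists_ideal_over_prime_of_isIntegral (S := B ⧸ Module.annihilator B M) x.asIdeal ⊥ hker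
  refine ⟨⟨Q.comap (Ideal.Quotient.mk _), inferInstance⟩, Module.mem_support_iff_of_finite.mpr ?_, PrimeSpectrum.ext ?_⟩
  · intro b hb
    rw [Ideal.mem_comap, Ideal.Quotient.eq_zero_iff_mem.mpr hb]
    exact Q.zero_mem
  · rw [← hQc, PrimeSpectrum.comap_asIdeal, Ideal.comap_comap, ← Ideal.Quotient.algebraMap_eq, ← IsScalarTower.algebraMap_eq]

theorem supportDim_le (p : Ideal A) [p.IsPrime] (q : Ideal B) [q.IsPrime] (hqp : q.comap (algebraMap A B) = p) :
    Module.supportDim (Localization.AtPrime q) (LocalizedModule q.primeCompl M) ≤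
      Module.supportDim (Localization.AtPrime p) (LocalizedModule p.primeCompl M) := by
  rw [SupportLoc.supportDim_localizedModule_eq, SupportLoc.supportDim_localizedModule_eq]
  refine Order.krullDim_le_of_strictMono
    (fun y => ⟨PrimeSpectrum.comap (algebraMap A B) y.1, mem_support_comap M y.2.1, hqp ▸ Ideal.comap_mono y.2.2⟩) ?_
  intro y y' h
  exact comap_lt M y.2.1 h

theorem exists_supportDim_ge (p : Ideal A) [hp : p.IsPrime]
    (hsupp : (⟨p, hp⟩ : PrimeSpectrum A) ∈ Module.support A M) (n : ℕ)
    (hn : (n : WithBot ℕ∞) ≤ Module.supportDim (Localization.AtPrime p) (LocalizedModule p.primeCompl M)) :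
    ∃ q : PrimeSpectrum B, q.asIdeal.comap (algebraMap A B) = p ∧ q ∈ Module.support B M ∧
      (n : WithBot ℕ∞) ≤ Module.supportDim (Localization.AtPrime q.asIdeal) (LocalizedModule q.asIdeal.primeCompl M) := by
  rw [SupportLoc.supportDim_localizedModule_eq] at hn
  obtain ⟨l, hl⟩ := Order.le_krullDim_iff.mp hn
  -- lift chains
  have lift : ∀ k : ℕ, ∀ l : LTSeries (SupportLoc.suppBelow A M p), l.length = k →
      ∃ L : LTSeries (PrimeSpectrum B), L.length = k ∧ (∀ i, L i ∈ Module.support B M) ∧
        PrimeSpectrum.comap (algebraMap A B) L.last = l.last.1 := by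
    intro k
    induction k with
    | zero =>
      intro l hl
      obtain ⟨y, hy, hyx⟩ := exists_over (B := B) M l.last.2.1
      exact ⟨RelSeries.singleton _ y, rfl, fun _ => hy, hyx⟩
    | succ k ih =>
      intro l hl
      obtain ⟨L, hL, hLs, hLl⟩ := ih l.eraseLast (by simp [hl])
      have hlt : l.eraseLast.last < l.last := l.eraseLast_last_rel_last (by omega)
      have hsuppL : L.last ∈ Module.support B M := hLs _
      have : Module.Finite B M := Module.Finite.of_restrictScalars_finite A B M
      have := isIntegral_quotient M L.last.asIdeal (Module.mem_support_iff_of_finite.mp hsuppL) (A := A)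
      have hker : (⊥ : Ideal (B ⧸ L.last.asIdeal)).comap (algebraMap A _) ≤ l.last.1.asIdeal := by
        rw [IsScalarTower.algebraMap_eq A B, Ideal.Quotient.algebraMap_eq, ← Ideal.comap_comap,
          ← RingHom.ker_eq_comap_bot, Ideal.mk_ker]
        exact le_trans (le_of_eq (congrArg PrimeSpectrum.asIdeal hLl)) hlt.le
      obtain ⟨Q, -, hQ, hQc⟩ := Ideal.exists_ideal_over_prime_of_isIntegral (S := B ⧸ L.last.asIdeal) l.last.1.asIdeal ⊥ hker
      let y : PrimeSpectrum B := ⟨Q.comap (Ideal.Quotient.mk _), inferInstance⟩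
      have hy : PrimeSpectrum.comap (algebraMap A B) y = l.last.1 := by
        ext1
        rw [← hQc, PrimeSpectrum.comap_asIdeal, Ideal.comap_comap, ← Ideal.Quotient.algebraMap_eq, ← IsScalarTower.algebraMap_eq]
      have hle : L.last ≤ y := fun b hb => by
        show Ideal.Quotient.mk _ b ∈ Q
        rw [Ideal.Quotient.eq_zero_iff_mem.mpr hb]; exact Q.zero_mem
      have hne : L.last < y := lt_of_le_of_ne hle fun e => hlt.ne (Subtype.ext (hLl.symm.trans (e ▸ hy)))
      refine ⟨L.snoc y hne, by simp [hL], fun i => ?_, by rw [RelSeries.last_snoc]; exact hy⟩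
      refine Module.mem_support_mono (LTSeries.monotone (L.snoc y hne) (Fin.zero_le i)) ?_
      show (L.snoc y hne).head ∈ Module.support B M
      rw [RelSeries.head_snoc]
      exact hLs 0
  obtain ⟨L, hL, hLs, hLl⟩ := lift n l hl
  -- extend the top to a prime over `p`
  have : Module.Finite B M := Module.Finite.of_restrictScalars_finite A B M
  have hsuppL : L.last ∈ Module.support B M := hLs _
  have := isIntegral_quotient M L.last.asIdeal (Module.mem_support_iff_of_finite.mp hsuppL) (A := A)
  have hker : (⊥ : Ideal (B ⧸ L.last.asIdeal)).comap (algebraMap A _) ≤ p := by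
    rw [IsScalarTower.algebraMap_eq A B, Ideal.Quotient.algebraMap_eq, ← Ideal.comap_comap,
      ← RingHom.ker_eq_comap_bot, Ideal.mk_ker]
    exact le_trans (le_of_eq (congrArg PrimeSpectrum.asIdeal hLl)) l.last.2.2
  obtain ⟨Q, -, hQ, hQc⟩ := Ideal.exists_ideal_over_prime_of_isIntegral (S := B ⧸ L.last.asIdeal) p ⊥ hker
  refine ⟨⟨Q.comap (Ideal.Quotient.mk _), inferInstance⟩, ?_, Module.mem_support_mono ?_ hsuppL, ?_⟩
  · rw [← hQc, Ideal.comap_comap, ← Ideal.Quotient.algebraMap_eq, ← IsScalarTower.algebraMap_eq]
  · intro b hb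
    show Ideal.Quotient.mk _ b ∈ Q
    rw [Ideal.Quotient.eq_zero_iff_mem.mpr hb]; exact Q.zero_mem
  · rw [SupportLoc.supportDim_localizedModule_eq]
    refine Order.le_krullDim_iff.mpr ⟨⟨L.length, fun i => ⟨L i, hLs i, ?_⟩, fun i => L.step i⟩, hL⟩
    exact le_trans (L.monotone (Fin.le_last i) : (L i).asIdeal ≤ L.last.asIdeal) (fun b hb => by
      show Ideal.Quotient.mk L.last.asIdeal b ∈ Q
      rw [show Ideal.Quotient.mk L.last.asIdeal b = 0 from Ideal.Quotient.eq_zero_iff_mem.mpr hb]; exact Q.zero_mem)

end

theorem natCast_le_depth_iff_over (p : Ideal A) [p.IsPrime] :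
    ∀ (n : ℕ) (M : Type u) [AddCommGroup M] [Module B M] [Module A M] [IsScalarTower A B M] [Module.Finite A M],
      (n : ℕ∞) ≤ LocCoh.depth (Localization.AtPrime p) (LocalizedModule p.primeCompl M) ↔
        ∀ q : PrimeSpectrum B, q.asIdeal.comap (algebraMap A B) = p →
          (n : ℕ∞) ≤ LocCoh.depth (Localization.AtPrime q.asIdeal) (LocalizedModule q.asIdeal.primeCompl M) := by
  intro n
  induction n with
  | zero => intros; simp
  | succ n ih =>
    intro M _ _ _ _ _
    have : Module.Finite B M := Module.Finite.of_restrictScalars_finite A B M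
    by_cases hass : p ∈ associatedPrimes A M
    · -- both sides fail
      have h0 := (Groth.Agent.CAlg1.depth_atPrime_eq_zero_iff p).mpr hass
      obtain ⟨-, x, hx⟩ := isAssociatedPrime_iff.mp hass
      let N := Submodule.span B ({x} : Set M)
      have hsuppN : (⟨p, ‹_›⟩ : PrimeSpectrum A) ∈ Module.support A N := by
        rw [Module.mem_support_iff']
        refine ⟨⟨x, Submodule.mem_span_singleton_self x⟩, fun r hr h => hr ?_⟩
        show r ∈ p
        rw [hx, Submodule.mem_colon_singleton]
        exact (Submodule.mem_bot A).mpr (congrArg Subtype.val h)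
      have : Module.Finite A N := Module.Finite.of_injective (N.subtype.restrictScalars A) N.injective_subtype
      obtain ⟨y, hy, hyp⟩ := exists_over (B := B) N hsuppN
      have : Module.Finite B N := Module.Finite.of_restrictScalars_finite A B N
      obtain ⟨Q, hQ, hQy⟩ := Ideal.exists_minimalPrimes_le (Module.mem_support_iff_of_finite.mp hy)
      have hQass : Q ∈ associatedPrimes B M := associatedPrimes.subset_of_injective N.injective_subtype
        (Module.associatedPrimes.minimalPrimes_annihilator_subset_associatedPrimes B N hQ)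
      have hQp : Q.comap (algebraMap A B) = p := by
        refine le_antisymm (le_trans (Ideal.comap_mono hQy) (le_of_eq (congrArg PrimeSpectrum.asIdeal hyp))) ?_
        intro a ha
        refine hQ.1.2 (Module.mem_annihilator.mpr fun ⟨z, hz⟩ => Subtype.ext ?_)
        obtain ⟨b, rfl⟩ := Submodule.mem_span_singleton.mp hz
        show algebraMap A B a • b • x = 0
        rw [smul_comm, algebraMap_smul]
        rw [hx, Submodule.mem_colon_singleton, Submodule.mem_bot] at ha
        rw [ha, smul_zero]
      have hQprime := hQ.1.1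
      have hQ0 := (Groth.Agent.CAlg1.depth_atPrime_eq_zero_iff Q).mpr hQass
      constructor
      · intro h; rw [h0] at h; simp at h
      · intro h
        have := h ⟨Q, hQprime⟩ hQp
        rw [hQ0] at this; simp at this
    · classical
      obtain ⟨x, hxp, hx⟩ : ∃ x ∈ p, ∀ P ∈ associatedPrimes A M, P ≤ p → x ∉ P := by
        by_contra! hc
        have hsub : (p : Set A) ⊆ ⋃ P ∈ (associatedPrimes.finite A M).toFinset.filter (· ≤ p), (P : Set A) := by
          intro x hx
          obtain ⟨P, hP, hPp, hxP⟩ := hc x hx
          exact Set.mem_biUnion (Finset.mem_filter.mpr ⟨(Set.Finite.mem_toFinset _).mpr hP, hPp⟩) hxP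
        obtain ⟨P, hP, hle⟩ := (Ideal.subset_union_prime (f := id) ⊥ ⊥ fun P hP _ _ =>
          ((Set.Finite.mem_toFinset _).mp (Finset.mem_filter.mp hP).1).isPrime).mp hsub
        obtain ⟨hP, hPp⟩ := Finset.mem_filter.mp hP
        exact hass (le_antisymm hle hPp ▸ (Set.Finite.mem_toFinset _).mp hP)
      let e₀ := quotSMulTopRestrictEquiv (B := B) M x
      have : Module.Finite A (QuotSMulTop (algebraMap A B x) M) := Module.Finite.equiv e₀
      have hIH := ih (QuotSMulTop (algebraMap A B x) M)
      -- the drop at `p`
      have hP : LocCoh.depth (Localization.AtPrime p) (LocalizedModule p.primeCompl M) =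
          LocCoh.depth (Localization.AtPrime p) (LocalizedModule p.primeCompl (QuotSMulTop (algebraMap A B x) M)) + 1 := by
        have : Module.Finite (Localization.AtPrime p) (LocalizedModule p.primeCompl M) :=
          Module.Finite.of_isLocalizedModule p.primeCompl (LocalizedModule.mkLinearMap p.primeCompl M)
        rw [← depth_quotSMulTop_add_one ((IsLocalization.AtPrime.to_map_mem_maximal_iff _ p x).mpr hxp)
          (isSMulRegular_loc x p hx)]
        congr 1
        let e₁ : LocalizedModule p.primeCompl (QuotSMulTop x M) ≃ₗ[Localization.AtPrime p]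
            LocalizedModule p.primeCompl (QuotSMulTop (algebraMap A B x) M) :=
          (IsLocalizedModule.linearEquiv p.primeCompl (LocalizedModule.mkLinearMap _ (QuotSMulTop x M))
            ((LocalizedModule.mkLinearMap p.primeCompl (QuotSMulTop (algebraMap A B x) M)).comp e₀.toLinearMap)).extendScalarsOfIsLocalization p.primeCompl _
        exact depth_eq_of_equiv ((Groth.Agent.LC17.quotLocEquiv p.primeCompl (M := M) x).symm.trans e₁)
      have hQ : ∀ q : PrimeSpectrum B, q.asIdeal.comap (algebraMap A B) = p →
          LocCoh.depth (Localization.AtPrime q.asIdeal) (LocalizedModule q.asIdeal.primeCompl M) =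
            LocCoh.depth (Localization.AtPrime q.asIdeal)
              (LocalizedModule q.asIdeal.primeCompl (QuotSMulTop (algebraMap A B x) M)) + 1 := by
        intro q hq
        have : Module.Finite (Localization.AtPrime q.asIdeal) (LocalizedModule q.asIdeal.primeCompl M) :=
          Module.Finite.of_isLocalizedModule q.asIdeal.primeCompl (LocalizedModule.mkLinearMap q.asIdeal.primeCompl M)
        have hxq : algebraMap A B x ∈ q.asIdeal := by rw [← Ideal.mem_comap, hq]; exact hxp
        rw [← depth_quotSMulTop_add_one ((IsLocalization.AtPrime.to_map_mem_maximal_iff _ q.asIdeal _).mpr hxq)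
          (isSMulRegular_loc _ q.asIdeal fun P hP hPq hxP => hx _ (assoc_comap M hP) (hq ▸ Ideal.comap_mono hPq) hxP)]
        congr 1
        exact depth_eq_of_equiv (Groth.Agent.LC17.quotLocEquiv q.asIdeal.primeCompl (M := M) (algebraMap A B x)).symm
      rw [hP, Nat.cast_succ, ENat.add_le_add_iff_right (k := 1) (by simp), hIH]
      refine forall_congr' fun q => imp_congr_right fun hq => ?_
      rw [hQ q hq, ENat.add_le_add_iff_right (k := 1) (by simp)]

end Groth.Agent.Ega11.FiniteChange

namespace Groth.Agent.Ega11.FiniteChange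

theorem le_coe_of_forall_nat (D : WithBot ℕ∞) (d : ℕ∞) (h : ∀ n : ℕ, (n : WithBot ℕ∞) ≤ D → (n : ℕ∞) ≤ d) :
    D ≤ (d : WithBot ℕ∞) := by
  cases D using WithBot.recBotCoe with
  | bot => exact bot_le
  | coe a =>
    rw [WithBot.coe_le_coe]
    exact ENat.forall_natCast_le_iff_le.mp fun n hn => h n (WithBot.coe_le_coe.mpr hn)

variable {A B : Type u} [CommRing A] [CommRing B] [Algebra A B] [IsNoetherianRing A] [IsNoetherianRing B]
  (M : Type u) [AddCommGroup M] [Module B M] [Module A M] [IsScalarTower A B M] [Module.Finite A M]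

theorem depth_le_over (p : Ideal A) [p.IsPrime] (q : PrimeSpectrum B) (hq : q.asIdeal.comap (algebraMap A B) = p) :
    LocCoh.depth (Localization.AtPrime p) (LocalizedModule p.primeCompl M) ≤
      LocCoh.depth (Localization.AtPrime q.asIdeal) (LocalizedModule q.asIdeal.primeCompl M) :=
  ENat.forall_natCast_le_iff_le.mp fun n hn => (natCast_le_depth_iff_over p n M).mp hn q hq

theorem hasSk_of_hasSk (k : ℕ) (h : LocCoh.HasSk k A M) : LocCoh.HasSk k B M := by
  intro Q _
  have h1 := h (Q.comap (algebraMap A B))
  refine le_trans (min_le_min_left _ (supportDim_le M _ Q rfl)) (le_trans h1 ?_)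
  exact WithBot.coe_le_coe.mpr (depth_le_over M _ ⟨Q, ‹_›⟩ rfl)

theorem hasSk_of_equalDim (k : ℕ)
    (heq : ∀ q ∈ Module.support B M, ∀ q' ∈ Module.support B M,
      q.asIdeal.comap (algebraMap A B) = q'.asIdeal.comap (algebraMap A B) →
        Module.supportDim (Localization.AtPrime q.asIdeal) (LocalizedModule q.asIdeal.primeCompl M) =
          Module.supportDim (Localization.AtPrime q'.asIdeal) (LocalizedModule q'.asIdeal.primeCompl M))
    (h : LocCoh.HasSk k B M) : LocCoh.HasSk k A M := by
  intro p _
  refine le_coe_of_forall_nat _ _ fun n hn => ?_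
  by_cases hsupp : (⟨p, ‹_›⟩ : PrimeSpectrum A) ∈ Module.support A M
  · obtain ⟨q₀, hq₀, hs₀, hd₀⟩ := exists_supportDim_ge (B := B) M p hsupp n (le_trans hn (min_le_right _ _))
    refine (natCast_le_depth_iff_over (B := B) p n M).mpr fun q hq => ?_
    by_cases hs : q ∈ Module.support B M
    · refine WithBot.coe_le_coe.mp (le_trans (le_min (le_trans hn (min_le_left _ _)) ?_) (h q.asIdeal))
      rw [heq q hs q₀ hs₀ (hq.trans hq₀.symm)]
      exact hd₀
    · have : Subsingleton (LocalizedModule q.asIdeal.primeCompl M) := not_nontrivial_iff_subsingleton.mp hs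
      rw [depth_of_subsingleton]
      exact le_top
  · have : Subsingleton (LocalizedModule p.primeCompl M) := not_nontrivial_iff_subsingleton.mp hsupp
    rw [depth_of_subsingleton]
    exact le_top

/-- Over a local base nothing changes when localizing at the maximal ideal. -/
theorem local_self {A : Type u} [CommRing A] [IsLocalRing A] [IsNoetherianRing A] (M : Type u) [AddCommGroup M]
    [Module A M] [Module.Finite A M] :
    LocCoh.depth A M =
        LocCoh.depth (Localization.AtPrime (maximalIdeal A)) (LocalizedModule (maximalIdeal A).primeCompl M) ∧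
      Module.supportDim A M =
        Module.supportDim (Localization.AtPrime (maximalIdeal A)) (LocalizedModule (maximalIdeal A).primeCompl M) := by
  let S := (maximalIdeal A).primeCompl
  have : IsLocalizedModule S (LinearMap.id : M →ₗ[A] M) := by
    refine (isLocalizedModule_iff _ _).mpr ⟨fun ⟨x, hx⟩ => ?_, fun y => ⟨⟨y, 1⟩, one_smul _ _⟩, fun h => ⟨1, congrArg _ h⟩⟩
    have hu : IsUnit x := by simpa [S, mem_nonunits_iff] using hx
    exact hu.map (algebraMap A (Module.End A M))
  let e : M ≃ₗ[A] LocalizedModule S M := IsLocalizedModule.linearEquiv S LinearMap.id (LocalizedModule.mkLinearMap S M)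
  have : Module.Finite A (LocalizedModule S M) := Module.Finite.equiv e
  have : IsLocalHom (algebraMap A (Localization.AtPrime (maximalIdeal A))) :=
    ⟨fun a ha => by
      by_contra hu
      have := (IsLocalization.AtPrime.to_map_mem_maximal_iff (Localization.AtPrime (maximalIdeal A)) (maximalIdeal A) a).mpr hu
      exact this ha⟩
  refine ⟨(depth_eq_of_equiv e).trans (depth_eq_of_finite _), ?_⟩
  rw [Module.supportDim_eq_of_equiv e, supportDim_eq_of_finite_restrictScalars A (Localization.AtPrime (maximalIdeal A))]

theorem cm_iff [IsLocalRing A] [Nontrivial M] :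
    LocCoh.IsCohenMacaulayModule A M ↔
      (∀ q ∈ {q : PrimeSpectrum B | q.asIdeal.comap (algebraMap A B) = maximalIdeal A ∧ q ∈ Module.support B M},
        LocCoh.IsCohenMacaulayModule (Localization.AtPrime q.asIdeal) (LocalizedModule q.asIdeal.primeCompl M)) ∧
      (∀ q ∈ {q : PrimeSpectrum B | q.asIdeal.comap (algebraMap A B) = maximalIdeal A ∧ q ∈ Module.support B M},
        ∀ q' ∈ {q : PrimeSpectrum B | q.asIdeal.comap (algebraMap A B) = maximalIdeal A ∧ q ∈ Module.support B M},
          Module.supportDim (Localization.AtPrime q.asIdeal) (LocalizedModule q.asIdeal.primeCompl M) =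
            Module.supportDim (Localization.AtPrime q'.asIdeal) (LocalizedModule q'.asIdeal.primeCompl M)) := by
  obtain ⟨hdep, hdim⟩ := local_self (A := A) M
  have : Module.Finite B M := Module.Finite.of_restrictScalars_finite A B M
  have hle : ∀ q : PrimeSpectrum B, q ∈ Module.support B M →
      ((LocCoh.depth (Localization.AtPrime q.asIdeal) (LocalizedModule q.asIdeal.primeCompl M) : ℕ∞) : WithBot ℕ∞) ≤
        Module.supportDim (Localization.AtPrime q.asIdeal) (LocalizedModule q.asIdeal.primeCompl M) := by
    intro q hq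
    have : Nontrivial (LocalizedModule q.asIdeal.primeCompl M) := hq
    have : Module.Finite (Localization.AtPrime q.asIdeal) (LocalizedModule q.asIdeal.primeCompl M) :=
      Module.Finite.of_isLocalizedModule q.asIdeal.primeCompl (LocalizedModule.mkLinearMap q.asIdeal.primeCompl M)
    exact depth_le_supportDim
  simp only [LocCoh.IsCohenMacaulayModule, Set.mem_ofPred_eq]
  constructor
  · intro hcm
    have key : ∀ q : PrimeSpectrum B, q.asIdeal.comap (algebraMap A B) = maximalIdeal A → q ∈ Module.support B M →
        Module.supportDim (Localization.AtPrime q.asIdeal) (LocalizedModule q.asIdeal.primeCompl M) =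
          Module.supportDim A M ∧
        ((LocCoh.depth (Localization.AtPrime q.asIdeal) (LocalizedModule q.asIdeal.primeCompl M) : ℕ∞) : WithBot ℕ∞) =
          Module.supportDim A M := by
      intro q hq hs
      have h1 := supportDim_le M (maximalIdeal A) q.asIdeal hq
      have h2 : Module.supportDim A M ≤
          ((LocCoh.depth (Localization.AtPrime q.asIdeal) (LocalizedModule q.asIdeal.primeCompl M) : ℕ∞) : WithBot ℕ∞) := by
        rw [hcm, hdep]
        exact WithBot.coe_le_coe.mpr (depth_le_over M _ q hq)
      rw [← hdim] at h1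
      exact ⟨le_antisymm h1 (h2.trans (hle q hs)), le_antisymm ((hle q hs).trans h1) h2⟩
    exact ⟨fun q hq => (key q hq.1 hq.2).1.trans (key q hq.1 hq.2).2.symm,
      fun q hq q' hq' => (key q hq.1 hq.2).1.trans (key q' hq'.1 hq'.2).1.symm⟩
  · rintro ⟨hcm, heq⟩
    refine le_antisymm ?_ depth_le_supportDim
    refine le_coe_of_forall_nat _ _ fun n hn => ?_
    rw [hdep]
    rw [hdim] at hn
    have hsupp : (⟨maximalIdeal A, inferInstance⟩ : PrimeSpectrum A) ∈ Module.support A M :=
      IsLocalRing.closedPoint_mem_support A M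
    obtain ⟨q₀, hq₀, hs₀, hd₀⟩ := exists_supportDim_ge (B := B) M _ hsupp n hn
    refine (natCast_le_depth_iff_over (B := B) (maximalIdeal A) n M).mpr fun q hq => ?_
    by_cases hs : q ∈ Module.support B M
    · rw [heq q₀ ⟨hq₀, hs₀⟩ q ⟨hq, hs⟩, hcm q ⟨hq, hs⟩] at hd₀
      exact WithBot.coe_le_coe.mp hd₀
    · have : Subsingleton (LocalizedModule q.asIdeal.primeCompl M) := not_nontrivial_iff_subsingleton.mp hs
      rw [depth_of_subsingleton]
      exact le_top

end Groth.Agent.Ega11.FiniteChange
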