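import Groth.Prelude.Def_EGA4b
import Mathlib

/-! Normality from integral closedness in the total ring of fractions. -/

set_option autoImplicit false
universe u

open nonZeroDivisors

namespace Groth.Agent.Ega11.NormalCrit

variable {A : Type u} [CommRing A] [IsReduced A]

theorem eq_zero_of_forall_minimalPrimes {x : A} (h : ∀ P ∈ minimalPrimes A, x ∈ P) : x = 0 := by
  have : x ∈ nilradical A := by
    rw [nilradical, ← Ideal.sInf_minimalPrimes]
    exact Ideal.mem_sInf.mpr fun {P} hP => h P hP
  rwa [nilradical_eq_zero, Submodule.zero_eq_bot, Submodule.mem_bot] at this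

theorem mem_nonZeroDivisors_of_forall_minimalPrimes {x : A} (h : ∀ P ∈ minimalPrimes A, x ∉ P) : x ∈ A⁰ :=
  mem_nonZeroDivisors_iff_right.mpr fun y hy => eq_zero_of_forall_minimalPrimes fun P hP =>
    ((Ideal.IsPrime.mem_or_mem hP.1.1 (hy ▸ P.zero_mem)).resolve_right (h P hP))

variable (hfin : (minimalPrimes A).Finite)
  (hic : ∀ x : FractionRing A, IsIntegral A x → ∃ a : A, algebraMap A (FractionRing A) a = x)

include hfin hic in
/-- the idempotent of a minimal prime -/
theorem exists_idempotent {m : Ideal A} (hm : m ∈ minimalPrimes A) :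
    ∃ e : A, 1 - e ∈ m ∧ ∀ P ∈ minimalPrimes A, P ≠ m → e ∈ P := by
  classical
  let K := FractionRing A
  have : Nontrivial A := ⟨1, 0, fun h => hm.1.1.ne_top ((Ideal.eq_top_iff_one _).mpr (h ▸ m.zero_mem))⟩
  obtain ⟨c, hcm, hc⟩ : ∃ c, c ∉ m ∧ ∀ P ∈ minimalPrimes A, P ≠ m → c ∈ P := by
    have : ¬ (hfin.toFinset.erase m).inf id ≤ m := fun hle => by
      obtain ⟨P, hP, hP'⟩ := (hm.1.1.inf_le').mp hle
      obtain ⟨hne, hP⟩ := Finset.mem_erase.mp hP
      exact hne (le_antisymm hP' (hm.2 (hfin.mem_toFinset.mp hP).1 hP'))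
    obtain ⟨c, h1, h2⟩ := SetLike.not_le_iff_exists.mp this
    exact ⟨c, h2, fun P hP hne => Finset.inf_le (f := id) (Finset.mem_erase.mpr ⟨hne, hfin.mem_toFinset.mpr hP⟩) h1⟩
  obtain ⟨d, hdm, hd⟩ : ∃ d ∈ m, ∀ P ∈ minimalPrimes A, P ≠ m → d ∉ P := by
    by_contra! hall
    have hsub : (m : Set A) ⊆ ⋃ P ∈ hfin.toFinset.erase m, (P : Set A) := fun x hx => by
      obtain ⟨P, hP, hne, hxP⟩ := hall x hx
      exact Set.mem_biUnion (Finset.mem_erase.mpr ⟨hne, hfin.mem_toFinset.mpr hP⟩) hxP
    obtain ⟨P, hP, hle⟩ := (Ideal.subset_union_prime (f := id) ⊥ ⊥ fun P hP _ _ =>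
      (hfin.mem_toFinset.mp (Finset.mem_erase.mp hP).2).1.1).mp hsub
    obtain ⟨hne, hP⟩ := Finset.mem_erase.mp hP
    exact hne (le_antisymm ((hfin.mem_toFinset.mp hP).2 hm.1 hle) hle)
  have hcd : c * d = 0 := eq_zero_of_forall_minimalPrimes fun P hP => by
    by_cases h : P = m
    · exact Ideal.mul_mem_left _ _ (h ▸ hdm)
    · exact Ideal.mul_mem_right _ _ (hc P hP h)
  have hnzd : c + d ∈ A⁰ := mem_nonZeroDivisors_of_forall_minimalPrimes fun P hP hmem => by
    by_cases h : P = m
    · subst h; exact hcm ((Ideal.add_mem_iff_left P hdm).mp hmem)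
    · exact hd P hP h ((Ideal.add_mem_iff_right P (hc P hP h)).mp hmem)
  let f : K := IsLocalization.mk' K c ⟨c + d, hnzd⟩
  have hf : f * f = f := by
    rw [← IsLocalization.mk'_mul, IsLocalization.mk'_eq_iff_eq]
    refine congrArg _ ?_
    show (c + d) * (c * c) = (c + d) * (c + d) * c
    linear_combination (-(c + d)) * hcd
  obtain ⟨e, he⟩ := hic f ⟨Polynomial.X ^ 2 - Polynomial.X, by
    exact Polynomial.monic_X_pow_sub (by rw [Polynomial.degree_X]; norm_cast), by rw [Polynomial.eval₂_sub, Polynomial.eval₂_pow, Polynomial.eval₂_X, sq, hf, sub_self]⟩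
  have hec : e * (c + d) = c := by
    apply IsFractionRing.injective A K
    rw [map_mul, he]
    exact IsLocalization.mk'_spec K c _
  refine ⟨e, ?_, fun P hP hne => ?_⟩
  · have : (1 - e) * (c + d) ∈ m := by
      rw [show (1 - e) * (c + d) = d by linear_combination -hec]; exact hdm
    exact (hm.1.1.mem_or_mem this).resolve_right fun h => hcm ((Ideal.add_mem_iff_left m hdm).mp h)
  · have : e * (c + d) ∈ P := by rw [hec]; exact hc P hP hne
    exact (hP.1.1.mem_or_mem this).resolve_right fun h => hd P hP hne ((Ideal.add_mem_iff_right P (hc P hP hne)).mp h)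

include hfin hic in
theorem isNormalRing : EGA4.IsNormalRing A := by
  classical
  intro p _
  let K := FractionRing A
  let L := Localization.AtPrime p
  obtain ⟨m, hm, hmp⟩ := Ideal.exists_minimalPrimes_le (I := (⊥ : Ideal A)) (J := p) bot_le
  have hm : m ∈ minimalPrimes A := hm
  obtain ⟨e, he, he'⟩ := exists_idempotent hfin hic hm
  have hep : e ∉ p := fun h => ‹p.IsPrime›.ne_top ((Ideal.eq_top_iff_one _).mpr (by
    have := add_mem h (hmp he); rwa [add_sub_cancel] at this))
  have hzero : ∀ x : A, algebraMap A L x = 0 ↔ x ∈ m := by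
    intro x
    rw [IsLocalization.map_eq_zero_iff p.primeCompl L x]
    constructor
    · rintro ⟨⟨t, ht⟩, h⟩
      have h : t * x = 0 := h
      exact (hm.1.1.mem_or_mem (h ▸ m.zero_mem : t * x ∈ m)).resolve_left fun h' => ht (hmp h')
    · intro hx
      refine ⟨⟨e, hep⟩, eq_zero_of_forall_minimalPrimes fun P hP => ?_⟩
      by_cases h : P = m
      · exact Ideal.mul_mem_left _ _ (h ▸ hx)
      · exact Ideal.mul_mem_right _ _ (he' P hP h)
  have hdom : IsDomain L := by
    have : Nontrivial L := inferInstance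
    have : NoZeroDivisors L := ⟨fun {a b} hab => by
      obtain ⟨x, s, rfl⟩ := IsLocalization.exists_mk'_eq p.primeCompl a
      obtain ⟨y, t, rfl⟩ := IsLocalization.exists_mk'_eq p.primeCompl b
      rw [← IsLocalization.mk'_mul, IsLocalization.mk'_eq_zero_iff] at hab
      obtain ⟨⟨r, hr⟩, hr'⟩ := hab
      have h2 : r * (x * y) = 0 := hr'
      rcases hm.1.1.mem_or_mem ((hm.1.1.mem_or_mem (h2 ▸ m.zero_mem : r * (x * y) ∈ m)).resolve_left
          fun h => hr (hmp h)) with h | h
      · left
        rw [IsLocalization.mk'_eq_mul_mk'_one, (hzero x).mpr h, zero_mul]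
      · right
        rw [IsLocalization.mk'_eq_mul_mk'_one, (hzero y).mpr h, zero_mul]⟩
    exact NoZeroDivisors.to_isDomain L
  refine ⟨hdom, (isIntegrallyClosed_iff (FractionRing L)).mpr fun {x} hx => ?_⟩
  let F := FractionRing L
  let φ : A →+* F := (algebraMap L F).comp (algebraMap A L)
  have hφ : ∀ s : A⁰, IsUnit (φ s) := fun s => by
    refine IsUnit.mk0 _ fun h => ?_
    have hsm : (s : A) ∈ m := (hzero _).mp ((map_eq_zero_iff _ (IsFractionRing.injective L F)).mp h)
    exact Set.disjoint_left.mp ((Ideal.disjoint_nonZeroDivisors_of_mem_minimalPrimes hm)) hsm s.2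
  let ψ : K →+* F := IsLocalization.lift hφ
  have hψ : ∀ a : A, ψ (algebraMap A K a) = φ a := IsLocalization.lift_eq hφ
  obtain ⟨t, ht⟩ := IsIntegral.exists_multiple_integral_of_isLocalization p.primeCompl x hx
  obtain ⟨P, hP, hP0⟩ := ht
  obtain ⟨a, ⟨s, hs⟩, hz⟩ := IsLocalization.exists_mk'_eq (nonZeroDivisors L) (t • x)
  obtain ⟨a, u, rfl⟩ := IsLocalization.exists_mk'_eq p.primeCompl a
  obtain ⟨s, v, rfl⟩ := IsLocalization.exists_mk'_eq p.primeCompl s
  have hsm : s ∉ m := fun h => nonZeroDivisors.ne_zero hs (by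
    rw [IsLocalization.mk'_eq_mul_mk'_one, (hzero s).mpr h, zero_mul])
  have hsv : φ (s * u) ≠ 0 := fun h => (hm.1.1.mul_notMem hsm fun h' => u.2 (hmp h'))
    ((hzero _).mp ((map_eq_zero_iff _ (IsFractionRing.injective L F)).mp h))
  have hzx : φ (s * u) * (t • x) = φ (a * v) := by
    have h1 : (t • x) * algebraMap L F (IsLocalization.mk' L s v) = algebraMap L F (IsLocalization.mk' L a u) := by
      rw [← hz]; exact IsLocalization.mk'_spec F _ _
    have h2 := congrArg (fun w => w * algebraMap L F (algebraMap A L u) * algebraMap L F (algebraMap A L v)) h1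
    simp only [mul_assoc, ← map_mul (algebraMap L F)] at h2
    rw [show IsLocalization.mk' L s v * (algebraMap A L u * algebraMap A L v) = algebraMap A L (s * u) by
        rw [mul_comm (algebraMap A L u), ← mul_assoc, IsLocalization.mk'_spec, map_mul],
      show IsLocalization.mk' L a u * (algebraMap A L u * algebraMap A L v) = algebraMap A L (a * v) by
        rw [← mul_assoc, IsLocalization.mk'_spec, map_mul]] at h2
    rw [mul_comm]; exact h2
  let s' : A := (s * u) * e + (1 - e)
  have hs' : s' ∈ A⁰ := mem_nonZeroDivisors_of_forall_minimalPrimes fun Q hQ h => by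
    by_cases hQm : Q = m
    · subst hQm
      have h3 : (s * u) * e ∈ Q := (Ideal.add_mem_iff_left Q he).mp h
      exact (hm.1.1.mul_notMem (hm.1.1.mul_notMem hsm fun h' => u.2 (hmp h')) fun h' => hep (hmp h')) h3
    · have h3 : 1 - e ∈ Q := (Ideal.add_mem_iff_right Q (Ideal.mul_mem_left _ _ (he' Q hQ hQm))).mp h
      exact hQ.1.1.ne_top ((Ideal.eq_top_iff_one _).mpr (by
        have := add_mem (he' Q hQ hQm) h3; rwa [add_sub_cancel] at this))
  let w : K := IsLocalization.mk' K (a * v * e) ⟨s', hs'⟩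
  have hφe : φ e = 1 := by
    have : algebraMap A L (1 - e) = 0 := (hzero _).mpr he
    rw [map_sub, map_one, sub_eq_zero] at this
    show algebraMap L F (algebraMap A L e) = 1
    rw [← this, map_one]
  have hφ1e : φ (1 - e) = 0 := by rw [map_sub, map_one, hφe, sub_self]
  have hw : ψ w = t • x := by
    show IsLocalization.lift hφ (IsLocalization.mk' K _ _) = _
    rw [IsLocalization.lift_mk'_spec]
    show φ (a * v * e) = φ s' * _
    rw [map_mul, hφe, mul_one, map_add, map_mul _ (s * _) e, hφe, hφ1e, mul_one, add_zero, hzx]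
  have hwint : IsIntegral A w := by
    refine ⟨Polynomial.X * P, Polynomial.monic_X.mul hP, ?_⟩
    rw [Polynomial.eval₂_mul, Polynomial.eval₂_X]
    obtain ⟨r, ⟨q, hq⟩, hr⟩ := IsLocalization.exists_mk'_eq A⁰ (Polynomial.eval₂ (algebraMap A K) w P)
    have h0 : ψ (Polynomial.eval₂ (algebraMap A K) w P) = 0 := by
      rw [Polynomial.hom_eval₂, hw, show ψ.comp (algebraMap A K) = algebraMap A F from
        RingHom.ext fun a => (hψ a).trans (IsScalarTower.algebraMap_apply A L F a).symm]
      exact hP0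
    rw [← hr] at h0
    have hrm : r ∈ m := by
      refine (hzero r).mp ((map_eq_zero_iff _ (IsFractionRing.injective L F)).mp ?_)
      have := congrArg (fun z => z * φ q) h0
      simp only [zero_mul] at this
      rw [← this, ← hψ q, ← map_mul, IsLocalization.mk'_spec, hψ]
      rfl
    rw [← hr, ← IsLocalization.mk'_mul, IsLocalization.mk'_eq_zero_iff]
    refine ⟨1, ?_⟩
    show (1 : A) * (a * v * e * r) = 0
    rw [one_mul]
    refine eq_zero_of_forall_minimalPrimes fun Q hQ => ?_
    by_cases hQm : Q = m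
    · exact Ideal.mul_mem_left _ _ (hQm ▸ hrm)
    · exact Ideal.mul_mem_right _ _ (Ideal.mul_mem_left _ _ (he' Q hQ hQm))
  obtain ⟨z, hz'⟩ := hic w hwint
  refine ⟨IsLocalization.mk' L z t, ?_⟩
  have h1 : φ z = t • x := by rw [← hψ z, hz', hw]
  have ht0 : φ (t : A) ≠ 0 := fun h => t.2 (hmp
    ((hzero _).mp ((map_eq_zero_iff _ (IsFractionRing.injective L F)).mp h)))
  apply mul_left_cancel₀ ht0
  show algebraMap L F (algebraMap A L (t : A)) * _ = _
  rw [← map_mul, IsLocalization.mk'_spec']
  show φ z = _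
  rw [h1, Submonoid.smul_def, Algebra.smul_def, IsScalarTower.algebraMap_apply A L F]
  rfl

theorem mem_range_of_isIntegral {R B K : Type u} [CommRing R] [CommRing B] [CommRing K] [Algebra R B]
    [Algebra R K] [IsLocalization R⁰ K] (j : B →ₐ[R] K) (hj : Function.Injective j)
    (hB : EGA4.IsNormalRing B) {x : K} (hx : IsIntegral R x) : x ∈ j.range := by
  classical
  obtain ⟨b, ⟨s, hs⟩, rfl⟩ := IsLocalization.exists_mk'_eq R⁰ x
  set x := IsLocalization.mk' K b (⟨s, hs⟩ : R⁰)
  let J : Ideal B :=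
    { carrier := {c : B | ∃ e : B, j e = j c * x}
      zero_mem' := ⟨0, by rw [map_zero, zero_mul]⟩
      add_mem' := fun {c d} ⟨e, he⟩ ⟨e', he'⟩ => ⟨e + e', by rw [map_add, map_add, he, he', add_mul]⟩
      smul_mem' := fun c {d} ⟨e, he⟩ => ⟨c * e, by rw [smul_eq_mul, map_mul, map_mul, he, mul_assoc]⟩ }
  suffices J = ⊤ by
    obtain ⟨e, he⟩ : ∃ e : B, j e = j 1 * x := (Ideal.eq_top_iff_one J).mp this
    exact ⟨e, by rw [map_one, one_mul] at he; exact he⟩
  by_contra hJ
  obtain ⟨P, hP, hJP⟩ := J.exists_le_maximal hJ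
  obtain ⟨hdom, hicl⟩ := hB P
  let F := FractionRing (Localization.AtPrime P)
  let ι : B →+* F := (algebraMap (Localization.AtPrime P) F).comp (algebraMap B (Localization.AtPrime P))
  have hreg : ∀ t : R⁰, ι (algebraMap R B t) ≠ 0 := fun t h => by
    rw [show ι (algebraMap R B t) = algebraMap _ F (algebraMap B (Localization.AtPrime P) (algebraMap R B t)) from rfl,
      map_eq_zero_iff _ (IsFractionRing.injective (Localization.AtPrime P) F),
      IsLocalization.map_eq_zero_iff P.primeCompl (Localization.AtPrime P)] at h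
    obtain ⟨⟨c, hc⟩, hc'⟩ := h
    have h2 : j c * algebraMap R K t = 0 := by
      have := congrArg j hc'
      simpa using this
    rw [(IsLocalization.map_units K t).mul_left_eq_zero] at h2
    exact hc (by rw [show c = 0 from hj (h2.trans (map_zero j).symm)]; exact P.zero_mem)
  let ψ : K →+* F := IsLocalization.lift (g := ι.comp (algebraMap R B)) fun t => IsUnit.mk0 _ (hreg t)
  have hψA : ∀ a : R, ψ (algebraMap R K a) = ι (algebraMap R B a) := fun a => IsLocalization.lift_eq _ a
  have hψ : ∀ c : B, ψ (j c) = ι c := fun c => by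
    obtain ⟨d, t, hd⟩ := IsLocalization.exists_mk'_eq R⁰ (j c)
    refine mul_right_cancel₀ (hreg t) ?_
    rw [← map_mul ι, ← hψA, ← map_mul ψ, ← hd, IsLocalization.mk'_spec, hψA]
    refine congrArg ι (hj ?_)
    rw [map_mul, j.commutes, j.commutes, ← hd, IsLocalization.mk'_spec]
  obtain ⟨y, hy⟩ : ∃ y : Localization.AtPrime P, algebraMap _ F y = ψ x := by
    refine (isIntegrallyClosed_iff F).mp hicl ?_
    obtain ⟨Q, hQ, hQ0⟩ := hx
    refine ⟨Q.map ((algebraMap B (Localization.AtPrime P)).comp (algebraMap R B)), hQ.map _, ?_⟩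
    rw [Polynomial.eval₂_map, show (algebraMap (Localization.AtPrime P) F).comp
      ((algebraMap B (Localization.AtPrime P)).comp (algebraMap R B)) = ψ.comp (algebraMap R K) from
      RingHom.ext fun a => (hψA a).symm, ← Polynomial.hom_eval₂, hQ0, map_zero]
  obtain ⟨c, ⟨d, hd⟩, rfl⟩ := IsLocalization.exists_mk'_eq P.primeCompl y
  have h3 : ι (d * algebraMap R B b) = ι (algebraMap R B s * c) := by
    have e1 : ψ x * ι (algebraMap R B s) = ι (algebraMap R B b) := by
      rw [← hψA, ← map_mul, IsLocalization.mk'_spec, hψA]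
    have e2 : algebraMap _ F (IsLocalization.mk' (Localization.AtPrime P) c (⟨d, hd⟩ : P.primeCompl)) * ι d = ι c := by
      show _ * algebraMap _ F (algebraMap B (Localization.AtPrime P) d) = _
      rw [← map_mul, IsLocalization.mk'_spec]; rfl
    rw [map_mul, map_mul, ← e1, ← e2, ← hy]; ring
  obtain ⟨⟨r, hr⟩, hr'⟩ := IsLocalization.exists_of_eq (M := P.primeCompl)
    ((IsFractionRing.injective (Localization.AtPrime P) F) h3)
  have h4 : j r * (j d * algebraMap R K b) = j r * (algebraMap R K s * j c) := by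
    have := congrArg j hr'
    simpa using this
  have hmem : r * d ∈ J := by
    refine ⟨r * c, ?_⟩
    apply (IsLocalization.map_units K (⟨s, hs⟩ : R⁰)).mul_right_cancel
    rw [mul_assoc _ x, IsLocalization.mk'_spec, map_mul, map_mul]
    show j r * j c * algebraMap R K s = j r * j d * algebraMap R K b
    linear_combination -h4
  exact (hP.isPrime.mem_or_mem (hJP hmem)).elim hr hd

end Groth.Agent.Ega11.NormalCrit
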