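import Groth.Agent.VarNormal.Algebra
import Groth.Agent.VarNormal.Colim
import Groth.Agent.Ega11.NormalLoc
import Groth.Agent.Hensel20.GeomNormal
import Groth.Agent.S2707
import Groth.Prelude.Def_EGA4b
import Mathlib

/-! Tensor products of geometrically normal and normal algebras over a field. -/

set_option autoImplicit false
universe u

open TensorProduct
open scoped nonZeroDivisors

namespace Groth.Agent.Ega11.TensorNormal

theorem normal_congr' {T : Type u} [CommRing T] {P Q : Ideal T} [P.IsPrime] [Q.IsPrime] (h : P = Q)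
    (hr : IsDomain (Localization.AtPrime P) ∧ IsIntegrallyClosed (Localization.AtPrime P)) :
    IsDomain (Localization.AtPrime Q) ∧ IsIntegrallyClosed (Localization.AtPrime Q) := by
  subst h; exact hr

/-- normality at a prime read on a localization which does not see it -/
theorem normal_at_of_localization {C C' : Type u} [CommRing C] [CommRing C'] [Algebra C C'] (M : Submonoid C)
    [IsLocalization M C'] (h : EGA4.IsNormalRing C') (P : Ideal C) [P.IsPrime]
    (hd : Disjoint (M : Set C) P) :
    IsDomain (Localization.AtPrime P) ∧ IsIntegrallyClosed (Localization.AtPrime P) := by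
  let Q := P.map (algebraMap C C')
  have : Q.IsPrime := IsLocalization.isPrime_of_isPrime_disjoint M _ P ‹_› hd
  have hQ : Q.comap (algebraMap C C') = P := IsLocalization.under_map_of_isPrime_disjoint M _ ‹_› hd
  obtain ⟨h1, h2⟩ := h Q
  have : IsLocalization.AtPrime (Localization.AtPrime Q) (Q.comap (algebraMap C C')) :=
    IsLocalization.isLocalization_isLocalization_atPrime_isLocalization M (Localization.AtPrime Q) Q
  let e := (IsLocalization.algEquiv (Q.comap (algebraMap C C')).primeCompl
    (Localization.AtPrime (Q.comap (algebraMap C C'))) (Localization.AtPrime Q)).toRingEquiv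
  exact normal_congr' hQ ⟨e.toMulEquiv.isDomain _, IsIntegrallyClosed.of_equiv e.symm⟩

variable (k : Type u) [Field k]

/-- the fraction field of a geometrically normal domain is separable -/
theorem isGeometricallyReduced_fractionRing (A : Type u) [CommRing A] [IsDomain A] [Algebra k A]
    (hA : EGA4.IsGeomNormal k A) : Algebra.IsGeometricallyReduced k (FractionRing A) :=
  Hensel20.geomReduced_of_geomNormal (NormalLoc.isGeomNormal_localization A⁰ (FractionRing A) hA)

/-- both algebras domains, the second with finitely generated fraction field -/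
theorem isNormalRing_of_essFiniteType (A B K : Type u) [CommRing A] [IsDomain A] [IsIntegrallyClosed A]
    [Algebra k A] [CommRing B] [IsDomain B] [IsIntegrallyClosed B] [Algebra k B] [Field K] [Algebra k K]
    [Algebra B K] [IsScalarTower k B K] [IsFractionRing B K] [Algebra.EssFiniteType k K]
    (hA : EGA4.IsGeomNormal k A) : EGA4.IsNormalRing (A ⊗[k] B) := by
  classical
  let L := FractionRing A
  have := isGeometricallyReduced_fractionRing k A hA
  have hL : EGA4.IsNormalRing (L ⊗[k] B) :=
    VarNormal.isNormalRing_comm k B L (VarNormal.isNormalRing_tensor_separable k B L (EGA4H10.normal_of_domain B))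
  have hK : EGA4.IsNormalRing (A ⊗[k] K) :=
    EGA4H10.isNormalRing_of_ringEquiv (Algebra.TensorProduct.comm k K A).toRingEquiv
      (VarNormal.isNormalRing_of_isGeomNormal k A hA K)
  let C := A ⊗[k] B
  let gA : C →ₐ[A] A ⊗[k] K := Algebra.TensorProduct.map (AlgHom.id A A) (IsScalarTower.toAlgHom k B K)
  let gB : C →ₐ[k] L ⊗[k] B := Algebra.TensorProduct.map (IsScalarTower.toAlgHom k A L) (AlgHom.id k B)
  have hgA : Function.Injective gA :=
    Module.Flat.lTensor_preserves_injective_linearMap (M := A) (IsScalarTower.toAlgHom k B K).toLinearMap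
      (IsFractionRing.injective B K)
  have hgB : Function.Injective gB :=
    Module.Flat.rTensor_preserves_injective_linearMap (M := B) (IsScalarTower.toAlgHom k A L).toLinearMap
      (IsFractionRing.injective A L)
  let : Algebra C (A ⊗[k] K) := gA.toRingHom.toAlgebra
  let : Algebra C (L ⊗[k] B) := gB.toRingHom.toAlgebra
  have : IsScalarTower A C (A ⊗[k] K) := IsScalarTower.of_algebraMap_eq fun a => (gA.commutes a).symm
  let M1 : Submonoid C := B⁰.map (Algebra.TensorProduct.includeRight (R := k) (A := A) (B := B))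
  have hl1 : IsLocalization M1 (A ⊗[k] K) := IsLocalization.tensorProduct_tensorProduct_right k A B⁰ K (by
    ext b
    show gA ((1 : A) ⊗ₜ b) = (1 : A) ⊗ₜ algebraMap B K b
    exact Algebra.TensorProduct.map_tmul _ _ _ _)
  let M2 : Submonoid C := A⁰.map (Algebra.TensorProduct.includeLeftRingHom : A →+* A ⊗[k] B)
  have hl2 : IsLocalization (Algebra.algebraMapSubmonoid C A⁰) (L ⊗[k] B) := by
    have : IsScalarTower A C (L ⊗[k] B) := IsScalarTower.of_algebraMap_eq fun a => by
      show algebraMap A L a ⊗ₜ 1 = gB (a ⊗ₜ 1)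
      exact rfl
    exact IsLocalization.tensorProduct_tensorProduct k B A⁰ L (RingHom.ext fun b => by
      show gB ((1 : A) ⊗ₜ b) = (1 : L) ⊗ₜ b
      exact (Algebra.TensorProduct.map_tmul _ _ _ _).trans (by rw [map_one]; rfl))
  have hM1 : M1 ≤ C⁰ := fun c hc => mem_nonZeroDivisors_iff_right.mpr fun y hy => hgA (by
    rw [map_zero]
    have h0 : gA y * gA c = 0 := by rw [← map_mul, hy, map_zero]
    exact ((IsLocalization.map_units (A ⊗[k] K) ⟨c, hc⟩).mul_left_eq_zero).mp h0)
  have hM2 : Algebra.algebraMapSubmonoid C A⁰ ≤ C⁰ := fun c hc => mem_nonZeroDivisors_iff_right.mpr fun y hy => hgB (by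
    rw [map_zero]
    have h0 : gB y * gB c = 0 := by rw [← map_mul, hy, map_zero]
    exact ((IsLocalization.map_units (L ⊗[k] B) ⟨c, hc⟩).mul_left_eq_zero).mp h0)
  have hred : IsReduced (A ⊗[k] K) := Hensel20.isReduced_of_isNormalRing hK
  have : IsReduced C := isReduced_of_injective gA hgA
  have hfin : (minimalPrimes C).Finite := by
    have : IsNoetherianRing (L ⊗[k] K) := Algebra.EssFiniteType.isNoetherianRing L (L ⊗[k] K)
    let g : C →+* L ⊗[k] K :=
      (Algebra.TensorProduct.map (IsScalarTower.toAlgHom k A L) (IsScalarTower.toAlgHom k B K)).toRingHom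
    have hg : Function.Injective g := by
      have e : ∀ c, g c = Algebra.TensorProduct.map (IsScalarTower.toAlgHom k A L) (AlgHom.id k K) (gA c) := fun c => by
        induction c using TensorProduct.induction_on with
        | zero => simp
        | tmul a b =>
          show Algebra.TensorProduct.map _ _ (a ⊗ₜ b) = _
          rw [Algebra.TensorProduct.map_tmul, show gA (a ⊗ₜ b) = a ⊗ₜ algebraMap B K b from
            Algebra.TensorProduct.map_tmul _ _ _ _, Algebra.TensorProduct.map_tmul]
          rfl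
        | add a b ha hb => simp only [map_add, ha, hb]
      intro x y hxy
      rw [e, e] at hxy
      exact hgA ((Module.Flat.rTensor_preserves_injective_linearMap (M := K) (IsScalarTower.toAlgHom k A L).toLinearMap
        (IsFractionRing.injective A L)) hxy)
    refine ((minimalPrimes.finite_of_isNoetherianRing (L ⊗[k] K)).image (Ideal.comap g)).subset fun p hp => ?_
    obtain ⟨p', hp', heq⟩ := Ideal.exists_comap_eq_of_mem_minimalPrimes_of_injective hg p hp
    obtain ⟨r, hr, hrp⟩ := Ideal.exists_minimalPrimes_le (I := (⊥ : Ideal (L ⊗[k] K))) (J := p') bot_le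
    have : r.IsPrime := hr.1.1
    have hle : r.comap g ≤ p := heq ▸ Ideal.comap_mono hrp
    exact ⟨r, hr, le_antisymm hle (hp.2 ⟨Ideal.IsPrime.comap g, bot_le⟩ hle)⟩
  let F := FractionRing C
  let j1 : A ⊗[k] K →ₐ[C] F := IsLocalization.liftAlgHom (M := M1) (f := Algebra.ofId C F)
    fun y => IsLocalization.map_units F (⟨y, hM1 y.2⟩ : C⁰)
  let j2 : L ⊗[k] B →ₐ[C] F := IsLocalization.liftAlgHom (M := Algebra.algebraMapSubmonoid C A⁰) (f := Algebra.ofId C F)
    fun y => IsLocalization.map_units F (⟨y, hM2 y.2⟩ : C⁰)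
  have hj : ∀ (N : Submonoid C) (T : Type u) [CommRing T] [Algebra C T] [IsLocalization N T]
      (j : T →ₐ[C] F), N ≤ C⁰ → Function.Injective j := by
    intro N T _ _ _ j hN
    rw [injective_iff_map_eq_zero]
    intro t ht
    obtain ⟨c, s, rfl⟩ := IsLocalization.exists_mk'_eq N t
    have h1 : algebraMap C F c = 0 := by
      rw [← j.commutes c, ← IsLocalization.mk'_spec T c s, map_mul, ht, zero_mul]
    rw [show c = 0 from IsFractionRing.injective C F (h1.trans (map_zero _).symm), IsLocalization.mk'_zero]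
  refine S2707.result C hfin {j1.range, j2.range} ?_ ?_
  · rintro R (rfl | rfl)
    · exact EGA4H10.isNormalRing_of_ringEquiv (AlgEquiv.ofInjective j1 (hj M1 _ j1 hM1)).toRingEquiv hK
    · exact EGA4H10.isNormalRing_of_ringEquiv
        (AlgEquiv.ofInjective j2 (hj (Algebra.algebraMapSubmonoid C A⁰) _ j2 hM2)).toRingEquiv hL
  · refine eq_bot_iff.mpr fun x hx => ?_
    rw [sInf_insert, sInf_singleton] at hx
    obtain ⟨⟨u, hu⟩, ⟨v, hv⟩⟩ := hx
    obtain ⟨y, ⟨_, b, hb, rfl⟩, rfl⟩ := IsLocalization.exists_mk'_eq M1 u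
    obtain ⟨z, ⟨_, a, ha, rfl⟩, rfl⟩ := IsLocalization.exists_mk'_eq (Algebra.algebraMapSubmonoid C A⁰) v
    let bC : C := (1 : A) ⊗ₜ[k] b
    let aC : C := a ⊗ₜ[k] (1 : B)
    have hyb : x * algebraMap C F bC = algebraMap C F y := by
      rw [← hu, ← j1.commutes bC, ← j1.commutes y]
      exact (map_mul j1.toRingHom _ _).symm.trans (congrArg j1 (IsLocalization.mk'_spec _ _ _))
    have hza : x * algebraMap C F aC = algebraMap C F z := by
      rw [← hv, ← j2.commutes aC, ← j2.commutes z]
      exact (map_mul j2.toRingHom _ _).symm.trans (congrArg j2 (IsLocalization.mk'_spec _ _ _))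
    have hay : aC * y = bC * z := IsFractionRing.injective C F (by rw [map_mul, map_mul, ← hyb, ← hza]; ring)
    let π : B →ₐ[k] B ⧸ Ideal.span {b} := Ideal.Quotient.mkₐ k _
    let ΦC : C →ₐ[A] A ⊗[k] (B ⧸ Ideal.span {b}) := Algebra.TensorProduct.map (AlgHom.id A A) π
    have hΦCb : ΦC bC = 0 := by
      show Algebra.TensorProduct.map _ π ((1 : A) ⊗ₜ b) = 0
      rw [Algebra.TensorProduct.map_tmul, show π b = 0 from
        Ideal.Quotient.eq_zero_iff_mem.mpr (Ideal.mem_span_singleton_self b), TensorProduct.tmul_zero]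
    have h0 : a • ΦC y = 0 := by
      rw [← map_smul, Algebra.smul_def, show algebraMap A C a = aC from rfl, hay, map_mul, hΦCb, zero_mul]
    have hy : ΦC y = 0 := (smul_eq_zero.mp h0).resolve_left (nonZeroDivisors.ne_zero ha)
    have hker : y ∈ RingHom.ker (Algebra.TensorProduct.map (AlgHom.id k A) π) := hy
    rw [Algebra.TensorProduct.lTensor_ker π Ideal.Quotient.mk_surjective] at hker
    rw [show RingHom.ker π = Ideal.span {b} from Ideal.mk_ker, Ideal.map_span, Set.image_singleton,
      Ideal.mem_span_singleton'] at hker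
    obtain ⟨c, hc⟩ := hker
    refine Algebra.mem_bot.mpr ⟨c, ?_⟩
    have hbu : IsUnit (algebraMap C F bC) := IsLocalization.map_units F (⟨bC, hM1 ⟨b, hb, rfl⟩⟩ : C⁰)
    refine hbu.mul_right_cancel ?_
    rw [hyb, ← map_mul]
    exact congrArg _ hc

/-- both algebras normal domains -/
theorem isNormalRing_of_domains (A B : Type u) [CommRing A] [IsDomain A] [IsIntegrallyClosed A]
    [Algebra k A] [CommRing B] [IsDomain B] [IsIntegrallyClosed B] [Algebra k B]
    (hA : EGA4.IsGeomNormal k A) : EGA4.IsNormalRing (A ⊗[k] B) := by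
  classical
  refine VarNormal.isNormalRing_of_forall_finset_injective fun s => ?_
  choose S hS using fun x : A ⊗[k] B => TensorProduct.exists_finset x
  let T : Finset B := s.biUnion fun x => (S x).image Prod.snd
  let K := FractionRing B
  let K₀ : IntermediateField k K := IntermediateField.adjoin k ((T.image (algebraMap B K) : Finset K) : Set K)
  let B₀ : Subalgebra k B := K₀.toSubalgebra.comap (IsScalarTower.toAlgHom k B K)
  let ι : B₀ →ₐ[k] K₀ :=
    { toFun := fun x => ⟨algebraMap B K x.1, x.2⟩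
      map_one' := Subtype.ext (map_one (algebraMap B K))
      map_mul' := fun x y => Subtype.ext (map_mul (algebraMap B K) x.1 y.1)
      map_zero' := Subtype.ext (map_zero (algebraMap B K))
      map_add' := fun x y => Subtype.ext (map_add (algebraMap B K) x.1 y.1)
      commutes' := fun r => Subtype.ext (IsScalarTower.algebraMap_apply k B K r).symm }
  let : Algebra B₀ K₀ := ι.toRingHom.toAlgebra
  have : IsScalarTower k B₀ K₀ := IsScalarTower.of_algebraMap_eq fun r => (ι.commutes r).symm
  have hinj : Function.Injective ι := fun x y h =>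
    Subtype.ext (IsFractionRing.injective B K (congrArg Subtype.val h))
  have hT : ∀ t ∈ T, t ∈ B₀ := fun t ht =>
    IntermediateField.subset_adjoin k _ (Finset.mem_coe.mpr (Finset.mem_image_of_mem _ ht))
  -- `K₀` is the fraction field of `B₀`
  have : FaithfulSMul B₀ K₀ := (faithfulSMul_iff_algebraMap_injective _ _).mpr hinj
  have hfrac : IsFractionRing B₀ K₀ := by
    refine IsFractionRing.of_field _ _ fun z => ?_
    have hz : ∀ w ∈ K₀, ∃ (p q : B), p ∈ B₀ ∧ q ∈ B₀ ∧ w = algebraMap B K p / algebraMap B K q := by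
      intro w hw
      induction hw using IntermediateField.adjoin_induction with
      | mem x hx =>
        obtain ⟨t, ht, rfl⟩ := Finset.mem_image.mp (Finset.mem_coe.mp hx)
        exact ⟨t, 1, hT t ht, one_mem _, by rw [map_one, div_one]⟩
      | algebraMap r => exact ⟨algebraMap k B r, 1, B₀.algebraMap_mem r, one_mem _, by
          rw [map_one, div_one, ← IsScalarTower.algebraMap_apply]⟩
      | inv x _ hx =>
        obtain ⟨p, q, hp, hq, rfl⟩ := hx
        exact ⟨q, p, hq, hp, by rw [inv_div]⟩
      | mul x y _ _ hx hy =>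
        obtain ⟨p, q, hp, hq, rfl⟩ := hx
        obtain ⟨p', q', hp', hq', rfl⟩ := hy
        exact ⟨p * p', q * q', mul_mem hp hp', mul_mem hq hq', by rw [map_mul, map_mul, div_mul_div_comm]⟩
      | add x y hx' hy' hx hy =>
        obtain ⟨p, q, hp, hq, rfl⟩ := hx
        obtain ⟨p', q', hp', hq', rfl⟩ := hy
        by_cases h1 : algebraMap B K q = 0
        · exact ⟨p', q', hp', hq', by rw [h1, div_zero, zero_add]⟩
        by_cases h2 : algebraMap B K q' = 0
        · exact ⟨p, q, hp, hq, by rw [h2, div_zero, add_zero]⟩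
        exact ⟨p * q' + q * p', q * q', add_mem (mul_mem hp hq') (mul_mem hq hp'), mul_mem hq hq', by
          rw [div_add_div _ _ h1 h2, map_add, map_mul, map_mul, map_mul]⟩
    obtain ⟨p, q, hp, hq, h⟩ := hz z.1 z.2
    exact ⟨⟨p, hp⟩, ⟨q, hq⟩, Subtype.ext h⟩
  have : IsIntegrallyClosed B₀ := by
    refine (isIntegrallyClosed_iff K₀).mpr fun {x} hx => ?_
    obtain ⟨P, hP, hPx⟩ := hx
    have hx' : IsIntegral B (x : K) := by
      refine ⟨P.map B₀.val.toRingHom, hP.map _, ?_⟩
      rw [Polynomial.eval₂_map, show (algebraMap B K).comp B₀.val.toRingHom =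
        K₀.val.toRingHom.comp (algebraMap B₀ K₀) from RingHom.ext fun _ => rfl]
      rw [show ((x : K)) = K₀.val.toRingHom x from rfl, ← Polynomial.hom_eval₂, hPx, map_zero]
    obtain ⟨y, hy⟩ := IsIntegrallyClosed.isIntegral_iff.mp hx'
    exact ⟨⟨y, show algebraMap B K y ∈ K₀ by rw [hy]; exact x.2⟩, Subtype.ext hy⟩
  have : Algebra.EssFiniteType k K₀ :=
    IntermediateField.essFiniteType_iff.2 (IntermediateField.fg_adjoin_finset _)
  let j := Algebra.TensorProduct.map (AlgHom.id A A) B₀.val
  refine ⟨A ⊗[k] B₀, inferInstance, j.toRingHom, isNormalRing_of_essFiniteType k A B₀ K₀ hA,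
    Module.Flat.lTensor_preserves_injective_linearMap (M := A) B₀.val.toLinearMap Subtype.val_injective,
    fun x hx => ?_⟩
  rw [hS x]
  refine ⟨∑ i : (S x), i.1.1 ⊗ₜ ⟨i.1.2, hT _ (Finset.mem_biUnion.2 ⟨x, hx, Finset.mem_image_of_mem _ i.2⟩)⟩, ?_⟩
  show j _ = _
  rw [map_sum, ← Finset.sum_coe_sort (S x)]
  rfl

/-- the general statement -/
theorem isNormalRing_tensor (A B : Type u) [CommRing A] [Algebra k A] [CommRing B] [Algebra k B]
    (hA : EGA4.IsGeomNormal k A) (hB : EGA4.IsNormalRing B) : EGA4.IsNormalRing (A ⊗[k] B) := by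
  intro P _
  let p := P.comap (algebraMap A (A ⊗[k] B))
  let q := P.comap (Algebra.TensorProduct.includeRight : B →ₐ[k] A ⊗[k] B)
  let Ap := Localization.AtPrime p
  let Bq := Localization.AtPrime q
  have hA1 : EGA4.IsNormalRing A := EGA4H10.isNormalRing_of_ringEquiv
    (Algebra.TensorProduct.lid k A).toRingEquiv (hA k (Module.Finite.self k))
  obtain ⟨_, _⟩ := hA1 p
  obtain ⟨_, _⟩ := hB q
  have hAp : EGA4.IsGeomNormal k Ap := NormalLoc.isGeomNormal_localization p.primeCompl Ap hA
  have h := isNormalRing_of_domains k Ap Bq hAp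
  let g1 : A ⊗[k] B →ₐ[k] Ap ⊗[k] B := Algebra.TensorProduct.map (IsScalarTower.toAlgHom k A Ap) (AlgHom.id k B)
  let : Algebra (A ⊗[k] B) (Ap ⊗[k] B) := g1.toRingHom.toAlgebra
  have : IsScalarTower A (A ⊗[k] B) (Ap ⊗[k] B) := IsScalarTower.of_algebraMap_eq fun a => by
    show algebraMap A Ap a ⊗ₜ 1 = g1 (a ⊗ₜ 1)
    exact rfl
  have : IsLocalization (Algebra.algebraMapSubmonoid (A ⊗[k] B) p.primeCompl) (Ap ⊗[k] B) :=
    IsLocalization.tensorProduct_tensorProduct k B p.primeCompl Ap (RingHom.ext fun b => by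
      show g1 ((1 : A) ⊗ₜ b) = (1 : Ap) ⊗ₜ b
      exact (Algebra.TensorProduct.map_tmul _ _ _ _).trans (by rw [map_one]; rfl))
  let g2 : Ap ⊗[k] B →ₐ[Ap] Ap ⊗[k] Bq := Algebra.TensorProduct.map (AlgHom.id Ap Ap) (IsScalarTower.toAlgHom k B Bq)
  let : Algebra (Ap ⊗[k] B) (Ap ⊗[k] Bq) := g2.toRingHom.toAlgebra
  have : IsScalarTower Ap (Ap ⊗[k] B) (Ap ⊗[k] Bq) := IsScalarTower.of_algebraMap_eq fun a => (g2.commutes a).symm
  have : IsLocalization (q.primeCompl.map (Algebra.TensorProduct.includeRight (R := k) (A := Ap) (B := B))) (Ap ⊗[k] Bq) :=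
    IsLocalization.tensorProduct_tensorProduct_right k Ap q.primeCompl Bq (by
      ext b
      show g2 ((1 : Ap) ⊗ₜ b) = (1 : Ap) ⊗ₜ algebraMap B Bq b
      exact Algebra.TensorProduct.map_tmul _ _ _ _)
  have hd1 : Disjoint (Algebra.algebraMapSubmonoid (A ⊗[k] B) p.primeCompl : Set (A ⊗[k] B)) P :=
    Set.disjoint_left.mpr fun c hc hcP => by
      obtain ⟨a, ha, rfl⟩ := hc
      exact ha hcP
  let P1 := P.map (algebraMap (A ⊗[k] B) (Ap ⊗[k] B))
  have : P1.IsPrime := IsLocalization.isPrime_of_isPrime_disjoint _ _ P ‹_› hd1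
  have hP1 : P1.comap (algebraMap (A ⊗[k] B) (Ap ⊗[k] B)) = P :=
    IsLocalization.under_map_of_isPrime_disjoint _ _ ‹_› hd1
  have h1 := normal_at_of_localization (q.primeCompl.map (Algebra.TensorProduct.includeRight (R := k) (A := Ap) (B := B)))
    h P1 (Set.disjoint_left.mpr fun c hc hcP => by
      obtain ⟨b, hb, rfl⟩ := hc
      refine hb ?_
      show (1 : A) ⊗ₜ[k] b ∈ P
      rw [← hP1]
      show g1 ((1 : A) ⊗ₜ b) ∈ P1
      have e : g1 ((1 : A) ⊗ₜ b) = (1 : Ap) ⊗ₜ[k] b :=
        (Algebra.TensorProduct.map_tmul _ _ _ _).trans (by rw [map_one]; rfl)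
      rw [e]
      exact hcP)
  have : IsLocalization.AtPrime (Localization.AtPrime P1) (P1.comap (algebraMap (A ⊗[k] B) (Ap ⊗[k] B))) :=
    IsLocalization.isLocalization_isLocalization_atPrime_isLocalization
      (Algebra.algebraMapSubmonoid (A ⊗[k] B) p.primeCompl) (Localization.AtPrime P1) P1
  let e := (IsLocalization.algEquiv (P1.comap (algebraMap (A ⊗[k] B) (Ap ⊗[k] B))).primeCompl
    (Localization.AtPrime (P1.comap (algebraMap (A ⊗[k] B) (Ap ⊗[k] B)))) (Localization.AtPrime P1)).toRingEquiv
  exact normal_congr' hP1 ⟨have := h1.1; e.toMulEquiv.isDomain (Localization.AtPrime P1),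
    @IsIntegrallyClosed.of_equiv _ _ _ _ e.symm h1.2⟩

end Groth.Agent.Ega11.TensorNormal
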