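import Groth.Prelude.Def_EGA4c
import Groth.Agent.CAlg1.SectionPowerSeries
import Groth.Agent.CAlg1.Complete
import Groth.Agent.CAlg7.FlatLimit
import Groth.Agent.SGA3a.FiniteComplete
import Mathlib

/-! The completed tensor product of two complete local algebras over a field. -/

set_option autoImplicit false
universe u

open IsLocalRing TensorProduct

namespace Groth.Agent.Ega11.CTensorFlat

theorem isAdicComplete_of_pow_le {Q : Type u} [CommRing Q] {a b : Ideal Q} {n : ℕ} (hn : 0 < n) (hba : b ≤ a)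
    (hab : a ^ n ≤ b) [IsAdicComplete b Q] : IsAdicComplete a Q := by
  have hle : ∀ k, a ^ (n * k) ≤ b ^ k := fun k => by rw [pow_mul]; exact Ideal.pow_right_mono hab k
  refine { haus' := fun x hx => (IsAdicComplete.toIsHausdorff : IsHausdorff b Q).haus x fun k => ?_,
           prec' := fun f hf => ?_ }
  · exact (hx (n * k)).mono (Submodule.smul_mono_left (hle k))
  · obtain ⟨L, hL⟩ := IsPrecomplete.prec (IsAdicComplete.toIsPrecomplete : IsPrecomplete b Q) (f := fun k => f (n * k))
      fun {i j} hij => (hf (Nat.mul_le_mul le_rfl hij)).mono (Submodule.smul_mono_left (hle i))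
    exact ⟨L, fun k => (hf (Nat.le_mul_of_pos_left k hn)).trans
      ((hL k).mono (Submodule.smul_mono_left (Ideal.pow_right_mono hba k)))⟩

/-- A surjection onto a complete ring extends to the completion, with the expected kernel. -/
theorem exists_extend {T Q : Type u} [CommRing T] [CommRing Q] (I : Ideal T) (hI : I.FG)
    [IsNoetherianRing (AdicCompletion I T)] (ψ : T →+* Q) (hψ : Function.Surjective ψ)
    [IsAdicComplete (I.map ψ) Q] :
    ∃ Φ : AdicCompletion I T →+* Q, (∀ t, Φ (algebraMap T (AdicCompletion I T) t) = ψ t) ∧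
      Function.Surjective Φ ∧
      RingHom.ker Φ = (RingHom.ker ψ).map (algebraMap T (AdicCompletion I T)) := by
  let C := AdicCompletion I T
  let a : Ideal Q := I.map ψ
  have hle : ∀ j, I ^ j ≤ (a ^ j).comap ψ := fun j => by
    rw [← Ideal.map_le_iff_le_comap, Ideal.map_pow]
  let f : ∀ j, C →+* Q ⧸ a ^ j := fun j =>
    (Ideal.quotientMap (a ^ j) ψ (hle j)).comp (AdicCompletion.evalₐ I j).toRingHom
  have hqm : ∀ {i j : ℕ} (h : i ≤ j) (x : T ⧸ I ^ j),
      Ideal.Quotient.factorPow a h (Ideal.quotientMap (a ^ j) ψ (hle j) x) =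
        Ideal.quotientMap (a ^ i) ψ (hle i) (Ideal.Quotient.factor (Ideal.pow_le_pow_right h) x) := fun h x => by
    obtain ⟨x, rfl⟩ := Ideal.Quotient.mk_surjective x
    rfl
  let Φ : C →+* Q := IsAdicComplete.liftRingHom a f fun {i j} h => RingHom.ext fun x =>
    (hqm h _).trans (congrArg _ (CAlg1.evalₐ_compat I h x))
  have hmk : ∀ j (x : C), Ideal.Quotient.mk (a ^ j) (Φ x) = f j x := fun j x =>
    IsAdicComplete.mk_liftRingHom a f _ j x
  have hΦ : ∀ t, Φ (algebraMap T C t) = ψ t := fun t => by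
    rw [IsHausdorff.eq_iff_smodEq (I := a)]
    intro j
    rw [SModEq.sub_mem, smul_eq_mul, Ideal.mul_top, ← Ideal.Quotient.eq, hmk]
    show Ideal.quotientMap (a ^ j) ψ (hle j) (AdicCompletion.evalₐ I j (algebraMap T C t)) = _
    rw [AlgHom.commutes]
    rfl
  refine ⟨Φ, hΦ, fun q => ?_, le_antisymm (fun x hx => ?_) ?_⟩
  · obtain ⟨t, rfl⟩ := hψ q
    exact ⟨_, hΦ t⟩
  · let K : Ideal C := (RingHom.ker ψ).map (algebraMap T C)
    let J : Ideal C := I.map (algebraMap T C)
    have : IsAdicComplete J C := AdicCompletion.isAdicComplete_self I hI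
    refine (Ideal.Quotient.eq_zero_iff_mem).mp (CAlg7.eq_zero_of_forall_mem_smul J
      (IsAdicComplete.le_jacobson_bot J) (Ideal.Quotient.mk K x) fun j => ?_)
    obtain ⟨t, ht⟩ := Ideal.Quotient.mk_surjective (AdicCompletion.evalₐ I j x)
    have hxt : x - algebraMap T C t ∈ J ^ j := by
      have h0 : AdicCompletion.evalₐ I j (x - algebraMap T C t) = 0 := by
        rw [map_sub, AlgHom.commutes, Ideal.Quotient.algebraMap_eq, ht, sub_self]
      have h1 : AdicCompletion.eval I T j (x - algebraMap T C t) = 0 := by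
        rw [← AdicCompletion.factor_evalₐ_eq_eval I _ (by rw [smul_eq_mul, Ideal.mul_top]), h0, map_zero]
      rw [← LinearMap.mem_ker, ← AdicCompletion.pow_smul_top_eq_ker_eval hI, Ideal.smul_top_eq_map,
        Ideal.map_pow] at h1
      exact h1
    have htK : t ∈ I ^ j ⊔ RingHom.ker ψ := by
      have h2 : ψ t ∈ (I ^ j).map ψ := by
        rw [Ideal.map_pow, ← Ideal.Quotient.eq_zero_iff_mem]
        show Ideal.quotientMap (a ^ j) ψ (hle j) (Ideal.Quotient.mk (I ^ j) t) = 0
        rw [ht]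
        show f j x = 0
        rw [← hmk, RingHom.mem_ker.mp hx, map_zero]
      have h3 : t ∈ ((I ^ j).map ψ).comap ψ := h2
      rw [Ideal.comap_map_of_surjective ψ hψ] at h3
      exact h3
    obtain ⟨u, hu, v, hv, huv⟩ := Submodule.mem_sup.mp htK
    have hx' : Ideal.Quotient.mk K x = (x - algebraMap T C t + algebraMap T C u) • (1 : C ⧸ K) := by
      rw [Algebra.smul_def, mul_one, Ideal.Quotient.algebraMap_eq, Ideal.Quotient.eq, ← huv, map_add]
      have : x - (x - (algebraMap T C u + algebraMap T C v) + algebraMap T C u) = algebraMap T C v := by ring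
      rw [this]
      exact Ideal.mem_map_of_mem _ hv
    rw [hx']
    refine Submodule.smul_mem_smul (add_mem hxt ?_) trivial
    rw [← Ideal.map_pow]
    exact Ideal.mem_map_of_mem _ hu
  · rw [Ideal.map_le_iff_le_comap]
    intro t ht
    show Φ (algebraMap T C t) = 0
    rw [hΦ]; exact ht

theorem finite_quotient_pow {k A : Type u} [Field k] [CommRing A] [Algebra k A] [IsNoetherianRing A] [IsLocalRing A]
    [Module.Finite k (ResidueField A)] (n : ℕ) : Module.Finite k (A ⧸ maximalIdeal A ^ n) := by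
  classical
  let m := maximalIdeal A
  suffices h : ∃ S : Submodule k A, S.FG ∧ ∀ x, ∃ s ∈ S, x - s ∈ m ^ n by
    obtain ⟨S, hS, hSx⟩ := h
    have : Module.Finite k S := Module.Finite.iff_fg.mpr hS
    refine Module.Finite.of_surjective ((Ideal.Quotient.mkₐ k (m ^ n)).toLinearMap.comp S.subtype) fun y => ?_
    obtain ⟨x, rfl⟩ := Ideal.Quotient.mk_surjective y
    obtain ⟨s, hs, hxs⟩ := hSx x
    exact ⟨⟨s, hs⟩, (Ideal.Quotient.eq.mpr hxs).symm⟩
  induction n with
  | zero => exact ⟨⊥, Submodule.fg_bot, fun x => ⟨0, zero_mem _, by rw [pow_zero, Ideal.one_eq_top]; trivial⟩⟩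
  | succ n ih =>
    obtain ⟨S, hS, hSx⟩ := ih
    obtain ⟨s₀, hs₀⟩ := Module.finite_def.mp ‹Module.Finite k (ResidueField A)›
    choose w hw using IsLocalRing.residue_surjective (R := A)
    let W : Submodule k A := Submodule.span k ((s₀.image w : Finset A) : Set A)
    have hW : ∀ x, ∃ y ∈ W, x - y ∈ m := fun x => by
      have hmap : W.map (IsScalarTower.toAlgHom k A (ResidueField A)).toLinearMap = ⊤ := by
        rw [Submodule.map_span, ← hs₀, Finset.coe_image, Set.image_image]
        refine congrArg _ ((Set.image_congr fun y _ => hw y).trans (Set.image_id _))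
      obtain ⟨y, hy, hxy⟩ := (Submodule.eq_top_iff'.mp hmap) (residue A x)
      refine ⟨y, hy, (residue_eq_zero_iff _).mp ?_⟩
      rw [map_sub, sub_eq_zero]
      exact hxy.symm
    obtain ⟨d, g, hg⟩ := Submodule.fg_iff_exists_fin_generating_family.mp (IsNoetherian.noetherian m)
    refine ⟨W ⊔ ⨆ i, S.map (LinearMap.mulLeft k (g i)), (Submodule.fg_span (Finset.finite_toSet _)).sup
      (Submodule.fg_iSup _ fun i => hS.map _), fun x => ?_⟩
    obtain ⟨y, hy, hxy⟩ := hW x
    rw [← hg, Submodule.mem_span_range_iff_exists_fun] at hxy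
    obtain ⟨c, hc⟩ := hxy
    choose s hs hcs using fun i => hSx (c i)
    refine ⟨y + ∑ i, g i * s i, add_mem (Submodule.mem_sup_left hy)
      (Submodule.mem_sup_right (Submodule.sum_mem _ fun i _ => Submodule.mem_iSup_of_mem i ⟨s i, hs i, rfl⟩)), ?_⟩
    rw [← sub_sub, ← hc, ← Finset.sum_sub_distrib]
    refine Submodule.sum_mem _ fun i _ => ?_
    rw [smul_eq_mul, mul_comm (g i), ← sub_mul, pow_succ]
    exact Ideal.mul_mem_mul (hcs i) (hg ▸ Submodule.subset_span (Set.mem_range_self i))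

theorem isArtinianRing_fibre (B Q : Type u) [CommRing B] [IsLocalRing B] [CommRing Q] [Algebra B Q]
    [Module.Finite B Q] : IsArtinianRing (Q ⧸ (maximalIdeal B).map (algebraMap B Q)) := by
  have : Module.Finite B (Q ⧸ (maximalIdeal B).map (algebraMap B Q)) := Module.Finite.trans Q _
  let : Field (B ⧸ maximalIdeal B) := Ideal.Quotient.field _
  have : Module.Finite (B ⧸ maximalIdeal B) (Q ⧸ (maximalIdeal B).map (algebraMap B Q)) :=
    Module.Finite.of_restrictScalars_finite B _ _
  exact IsArtinianRing.of_finite (B ⧸ maximalIdeal B) _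

attribute [local instance] Algebra.TensorProduct.rightAlgebra

variable (k A B : Type u) [Field k] [CommRing A] [CommRing B] [Algebra k A] [Algebra k B]
  [IsNoetherianRing A] [IsNoetherianRing B] [IsLocalRing A] [IsLocalRing B] [Module.Finite k (ResidueField A)]

theorem cTensorIdeal_eq : EGA4.cTensorIdeal k A B =
    (maximalIdeal A).map (algebraMap A (A ⊗[k] B)) ⊔ (maximalIdeal B).map (algebraMap B (A ⊗[k] B)) := rfl

theorem cTensorIdeal_fg : (EGA4.cTensorIdeal k A B).FG := by
  rw [cTensorIdeal_eq]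
  exact Submodule.FG.sup (Ideal.FG.map (IsNoetherian.noetherian _) _) (Ideal.FG.map (IsNoetherian.noetherian _) _)

/-- `A/m^n ⊗ B` as a finite `B`-algebra -/
theorem finite_level (n : ℕ) : Module.Finite B ((A ⧸ maximalIdeal A ^ n) ⊗[k] B) := by
  have := finite_quotient_pow (k := k) (A := A) n
  exact Module.Finite.equiv (Algebra.TensorProduct.commRight k B (A ⧸ maximalIdeal A ^ n)).toLinearEquiv

variable {k A B}

noncomputable def lvlMap (n : ℕ) : A ⊗[k] B →ₐ[A] (A ⧸ maximalIdeal A ^ n) ⊗[k] B :=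
  Algebra.TensorProduct.map (Ideal.Quotient.mkₐ A (maximalIdeal A ^ n)) (AlgHom.id k B)

theorem lvlMap_surjective (n : ℕ) : Function.Surjective (lvlMap (k := k) (A := A) (B := B) n) :=
  LinearMap.rTensor_surjective B (g := (Ideal.Quotient.mkₐ k (maximalIdeal A ^ n)).toLinearMap) Ideal.Quotient.mk_surjective

theorem ker_lvlMap (n : ℕ) :
    RingHom.ker (lvlMap (k := k) (A := A) (B := B) n).toRingHom =
      (maximalIdeal A ^ n).map (algebraMap A (A ⊗[k] B)) := by
  have h : RingHom.ker (Algebra.TensorProduct.map (Ideal.Quotient.mkₐ k (maximalIdeal A ^ n)) (AlgHom.id k B)) =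
      (RingHom.ker (Ideal.Quotient.mkₐ k (maximalIdeal A ^ n))).map
        (Algebra.TensorProduct.includeLeft : A →ₐ[k] A ⊗[k] B) :=
    Algebra.TensorProduct.rTensor_ker _ Ideal.Quotient.mk_surjective
  rw [show RingHom.ker (Ideal.Quotient.mkₐ k (maximalIdeal A ^ n)) = maximalIdeal A ^ n from Ideal.mk_ker] at h
  exact h

theorem lvlMap_algebraMap (n : ℕ) (b : B) :
    lvlMap (k := k) (A := A) n (algebraMap B (A ⊗[k] B) b) = algebraMap B _ b := rfl

theorem isNoetherianRing_cTensor : IsNoetherianRing (EGA4.CTensor k A B) := by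
  let I := EGA4.cTensorIdeal k A B
  have : IsNoetherianRing ((A ⊗[k] B) ⧸ I) := by
    have := finite_level k A B 1
    have : IsNoetherianRing ((A ⧸ maximalIdeal A ^ 1) ⊗[k] B) := IsNoetherianRing.of_finite B _
    have hle : RingHom.ker (lvlMap (k := k) (A := A) (B := B) 1).toRingHom ≤ I := by
      rw [ker_lvlMap, pow_one]; exact le_sup_left
    exact isNoetherianRing_of_surjective ((A ⧸ maximalIdeal A ^ 1) ⊗[k] B) _
      ((lvlMap (k := k) (A := A) (B := B) 1).toRingHom.liftOfSurjective (lvlMap_surjective 1)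
        ⟨Ideal.Quotient.mk I, by rw [Ideal.mk_ker]; exact hle⟩) fun z => by
          obtain ⟨t, rfl⟩ := Ideal.Quotient.mk_surjective z
          exact ⟨lvlMap 1 t, RingHom.liftOfSurjective_comp_apply _ _ _ t⟩
  exact CAlg1.isNoetherianRing_adicCompletion I (cTensorIdeal_fg k A B)

variable [IsAdicComplete (maximalIdeal B) B]

theorem exists_levelMap (n : ℕ) (hn : 0 < n) :
    ∃ Φ : EGA4.CTensor k A B →+* (A ⧸ maximalIdeal A ^ n) ⊗[k] B,
      (∀ t, Φ (algebraMap (A ⊗[k] B) _ t) = lvlMap n t) ∧ Function.Surjective Φ ∧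
      RingHom.ker Φ = (maximalIdeal A ^ n).map (algebraMap A (EGA4.CTensor k A B)) := by
  have := isNoetherianRing_cTensor (k := k) (A := A) (B := B)
  have := finite_level k A B n
  let Q := (A ⧸ maximalIdeal A ^ n) ⊗[k] B
  have := SGA3a.isAdicComplete_map_of_finite (A := B) Q
  let ψ := (lvlMap (k := k) (A := A) (B := B) n).toRingHom
  have ha : (EGA4.cTensorIdeal k A B).map ψ =
      (maximalIdeal A).map (algebraMap A Q) ⊔ (maximalIdeal B).map (algebraMap B Q) := by
    rw [cTensorIdeal_eq, Ideal.map_sup, Ideal.map_map, Ideal.map_map,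
      show ψ.comp (algebraMap A (A ⊗[k] B)) = algebraMap A Q from RingHom.ext (lvlMap n).commutes,
      show ψ.comp (algebraMap B (A ⊗[k] B)) = algebraMap B Q from RingHom.ext (lvlMap_algebraMap n)]
  have h0 : ((maximalIdeal A).map (algebraMap A Q)) ^ n = ⊥ := by
    rw [← Ideal.map_pow, IsScalarTower.algebraMap_eq A (A ⧸ maximalIdeal A ^ n) Q, ← Ideal.map_map,
      Ideal.Quotient.algebraMap_eq, Ideal.map_quotient_self, Ideal.map_bot]
  have : IsAdicComplete ((EGA4.cTensorIdeal k A B).map ψ) Q := by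
    rw [ha]
    refine isAdicComplete_of_pow_le (b := (maximalIdeal B).map (algebraMap B Q)) hn le_sup_right ?_
    rw [← Ideal.add_eq_sup, add_pow]
    refine Finset.sum_induction _ (· ≤ _) (fun a b ha hb => sup_le ha hb) bot_le fun i hi => ?_
    by_cases h : i = n
    · subst h; rw [h0]; exact le_trans (by simp) bot_le
    · exact Ideal.mul_le_left.trans (Ideal.mul_le_right.trans (Ideal.pow_le_self
        (Nat.sub_ne_zero_of_lt (lt_of_le_of_ne (Nat.lt_succ_iff.mp (Finset.mem_range.mp hi)) h))))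
  obtain ⟨Φ, hΦ, hs, hk⟩ := exists_extend _ (cTensorIdeal_fg k A B) ψ (lvlMap_surjective n)
  refine ⟨Φ, hΦ, hs, ?_⟩
  rw [hk, ker_lvlMap, Ideal.map_map, ← IsScalarTower.algebraMap_eq]

theorem le_jacobson : (EGA4.cTensorIdeal k A B).map (algebraMap (A ⊗[k] B) (EGA4.CTensor k A B)) ≤
    (⊥ : Ideal (EGA4.CTensor k A B)).jacobson := by
  have : IsAdicComplete ((EGA4.cTensorIdeal k A B).map (algebraMap _ (EGA4.CTensor k A B))) (EGA4.CTensor k A B) :=
    AdicCompletion.isAdicComplete_self _ (cTensorIdeal_fg k A B)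
  exact IsAdicComplete.le_jacobson_bot _

theorem map_maximal_le_jacobson : (maximalIdeal A).map (algebraMap A (EGA4.CTensor k A B)) ≤
    (⊥ : Ideal (EGA4.CTensor k A B)).jacobson := by
  refine le_trans ?_ le_jacobson
  rw [IsScalarTower.algebraMap_eq A (A ⊗[k] B) (EGA4.CTensor k A B), ← Ideal.map_map]
  exact Ideal.map_mono le_sup_left

theorem main :
    (IsNoetherianRing (EGA4.CTensor k A B) ∧ (Set.univ : Set (MaximalSpectrum (EGA4.CTensor k A B))).Finite) ∧
      (Module.Flat A (EGA4.CTensor k A B) ∧ Module.Flat B (EGA4.CTensor k A B)) ∧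
      ((maximalIdeal A).map (algebraMap A (EGA4.CTensor k A B)) ≤ (⊥ : Ideal (EGA4.CTensor k A B)).jacobson ∧
        Nonempty ((EGA4.CTensor k A B ⧸ (maximalIdeal A).map (algebraMap A (EGA4.CTensor k A B))) ≃+*
          ((A ⧸ maximalIdeal A) ⊗[k] B))) ∧
      (∀ (M : Ideal (EGA4.CTensor k A B)) [M.IsMaximal], Module.Finite B (EGA4.CTensor k A B ⧸ M)) := by
  let C := EGA4.CTensor k A B
  let m := maximalIdeal A
  have hN := isNoetherianRing_cTensor (k := k) (A := A) (B := B)
  have hJm := map_maximal_le_jacobson (k := k) (A := A) (B := B)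
  have hJpow : ∀ n, (m ^ n).map (algebraMap A C) = m.map (algebraMap A C) ^ n := Ideal.map_pow _ m
  choose Φ hΦ hs hk using fun n => exists_levelMap (k := k) (A := A) (B := B) (n + 1) n.succ_pos
  have hB : ∀ n (b : B), Φ n (algebraMap B C b) = algebraMap B _ b := fun n b => by
    rw [IsScalarTower.algebraMap_apply B (A ⊗[k] B) C, hΦ, lvlMap_algebraMap]
  have hA : ∀ n (a : A), Φ n (algebraMap A C a) = algebraMap A _ a := fun n a => by
    rw [IsScalarTower.algebraMap_apply A (A ⊗[k] B) C, hΦ, AlgHom.commutes]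
  refine ⟨⟨hN, ?_⟩, ⟨?_, ?_⟩, ⟨hJm, ?_⟩, fun M _ => ?_⟩
  · let I := EGA4.cTensorIdeal k A B
    let J : Ideal C := I.map (algebraMap (A ⊗[k] B) C)
    let Q := (A ⧸ m ^ (0 + 1)) ⊗[k] B
    have := finite_level k A B (0 + 1)
    let P : Ideal Q := (maximalIdeal B).map (algebraMap B Q)
    have hart : IsArtinianRing (Q ⧸ P) := by
      have h := isArtinianRing_fibre B Q
      exact h
    let g : C →+* Q ⧸ P := (Ideal.Quotient.mk P).comp (Φ 0)
    have hg : Function.Surjective g := Ideal.Quotient.mk_surjective.comp (hs 0)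
    have hgk : RingHom.ker g ≤ (⊥ : Ideal C).jacobson := by
      intro x hx
      have h1 : Φ 0 x ∈ P := Ideal.Quotient.eq_zero_iff_mem.mp hx
      have hP : P = ((maximalIdeal B).map (algebraMap B C)).map (Φ 0) := by
        rw [Ideal.map_map, show (Φ 0).comp (algebraMap B C) = algebraMap B Q from RingHom.ext (hB 0)]
      rw [hP, ← Ideal.mem_comap, Ideal.comap_map_of_surjective (Φ 0) (hs 0)] at h1
      refine (sup_le ?_ ?_ : (maximalIdeal B).map (algebraMap B C) ⊔ RingHom.ker (Φ 0) ≤ _) h1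
      · refine le_trans ?_ le_jacobson
        rw [IsScalarTower.algebraMap_eq B (A ⊗[k] B) C, ← Ideal.map_map]
        exact Ideal.map_mono le_sup_right
      · rw [hk, zero_add, pow_one]; exact hJm
    have hsub : ∀ M : MaximalSpectrum C, RingHom.ker g ≤ M.asIdeal := fun M =>
      hgk.trans (sInf_le ⟨bot_le, M.isMaximal⟩)
    rw [Set.finite_univ_iff]
    refine Finite.of_injective
      (fun M => (⟨M.asIdeal.map g, (Ideal.map_eq_top_or_isMaximal_of_surjective g hg M.isMaximal).resolve_left fun ht => M.isMaximal.ne_top (by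
        rw [← sup_eq_left.mpr (hsub M), RingHom.ker_eq_comap_bot, ← Ideal.comap_map_of_surjective g hg, ht, Ideal.comap_top])⟩ : MaximalSpectrum (Q ⧸ P)))
      fun M M' h => MaximalSpectrum.ext ?_
    have h' : M.asIdeal.map g = M'.asIdeal.map g := congrArg MaximalSpectrum.asIdeal h
    rw [← sup_eq_left.mpr (hsub M), ← sup_eq_left.mpr (hsub M'), RingHom.ker_eq_comap_bot,
      ← Ideal.comap_map_of_surjective g hg, ← Ideal.comap_map_of_surjective g hg, h']
  · refine CAlg7.flat_of_forall_flat_mod_pow (S := C) m hJm fun n hn => ?_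
    obtain ⟨n, rfl⟩ := Nat.exists_eq_succ_of_ne_zero hn.ne'
    let Φₐ : C →ₐ[A] (A ⧸ m ^ (n + 1)) ⊗[k] B := AlgHom.mk (Φ n) (hA n)
    have hker : LinearMap.ker Φₐ.toLinearMap = (m ^ (n + 1) • ⊤ : Submodule A C) := by
      rw [Ideal.smul_top_eq_map, ← hk]
      rfl
    let e : (C ⧸ (m ^ (n + 1) • ⊤ : Submodule A C)) ≃ₗ[A] (A ⧸ m ^ (n + 1)) ⊗[k] B :=
      (Submodule.quotEquivOfEq _ _ hker.symm).trans (Φₐ.toLinearMap.quotKerEquivOfSurjective (hs n))
    exact Module.Flat.of_linearEquiv (e.extendScalarsOfSurjective Ideal.Quotient.mk_surjective)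
  · refine CAlg7.flat_of_forall_flat_quotient_pow (A := B) (B := C) (N := C) (m.map (algebraMap A C)) hJm fun n => ?_
    cases n with
    | zero =>
      have : Subsingleton (C ⧸ ((m.map (algebraMap A C)) ^ 0 • ⊤ : Submodule C C)) :=
        Submodule.Quotient.subsingleton_iff.mpr (by rw [pow_zero, Ideal.one_eq_top, Submodule.top_smul])
      exact inferInstance
    | succ n =>
      let Φb : C →ₐ[B] (A ⧸ m ^ (n + 1)) ⊗[k] B := AlgHom.mk (Φ n) (hB n)
      have hker : LinearMap.ker Φb.toLinearMap =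
          ((m.map (algebraMap A C)) ^ (n + 1) • ⊤ : Submodule C C).restrictScalars B := by
        rw [smul_eq_mul, Ideal.mul_top, ← hJpow, ← hk]
        rfl
      have : Module.Flat B ((A ⧸ m ^ (n + 1)) ⊗[k] B) :=
        Module.Flat.of_linearEquiv (Algebra.TensorProduct.commRight k B (A ⧸ m ^ (n + 1))).toLinearEquiv.symm
      let e : (C ⧸ ((m.map (algebraMap A C)) ^ (n + 1) • ⊤ : Submodule C C).restrictScalars B) ≃ₗ[B]
          (A ⧸ m ^ (n + 1)) ⊗[k] B :=
        (Submodule.quotEquivOfEq _ _ hker.symm).trans (Φb.toLinearMap.quotKerEquivOfSurjective (hs n))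
      exact Module.Flat.of_linearEquiv ((Submodule.Quotient.restrictScalarsEquiv B _).symm.trans e)
  · let e1 : (C ⧸ m.map (algebraMap A C)) ≃+* (A ⧸ m ^ (0 + 1)) ⊗[k] B :=
      (Ideal.quotEquivOfEq (by rw [hk, zero_add, pow_one])).trans (RingHom.quotientKerEquivOfSurjective (hs 0))
    exact ⟨e1.trans (Algebra.TensorProduct.congr
      (Ideal.quotientEquivAlgOfEq k (show m ^ (0 + 1) = m by rw [zero_add, pow_one]))
      (AlgEquiv.refl (R := k) (A₁ := B))).toRingEquiv⟩
  · have := finite_level k A B (0 + 1)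
    have hle : RingHom.ker (Φ 0) ≤ M := by
      rw [hk, zero_add, pow_one]
      exact hJm.trans (sInf_le ⟨bot_le, ‹M.IsMaximal›⟩)
    let g : (A ⧸ m ^ (0 + 1)) ⊗[k] B →ₐ[B] C ⧸ M :=
      AlgHom.mk ((Φ 0).liftOfSurjective (hs 0) ⟨Ideal.Quotient.mk M, by rw [Ideal.mk_ker]; exact hle⟩) fun b => by
        show (Φ 0).liftOfSurjective (hs 0) _ (algebraMap B _ b) = _
        rw [← hB 0 b, RingHom.liftOfSurjective_comp_apply]
        rfl
    exact Module.Finite.of_surjective g.toLinearMap fun z => by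
      obtain ⟨x, rfl⟩ := Ideal.Quotient.mk_surjective z
      exact ⟨Φ 0 x, (RingHom.liftOfSurjective_comp_apply _ (hs 0) _ x : (Φ 0).liftOfSurjective (hs 0) ⟨Ideal.Quotient.mk M, by rw [Ideal.mk_ker]; exact hle⟩ (Φ 0 x) = _)⟩

end Groth.Agent.Ega11.CTensorFlat
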