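import Groth.Agent.Ega11.FibreComp
import Groth.Prelude.Def_EGA4b
import Mathlib

/-! Formal fibres tested on finite algebras which are domains. -/

set_option autoImplicit false
universe u

open TensorProduct

namespace Groth.Agent.Ega11.FiniteDomainFibre

/-- every finite extension of a residue field is the fraction field of a finite domain -/
theorem exists_finite_domain {A : Type u} [CommRing A] (p : Ideal A) [p.IsPrime] (K : Type u) [Field K]
    [Algebra p.ResidueField K] [Module.Finite p.ResidueField K] [Algebra A K] [IsScalarTower A p.ResidueField K] :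
    ∃ B : Subalgebra A K, Module.Finite A B ∧ IsFractionRing B K := by
  classical
  let : Algebra (A ⧸ p) K := ((algebraMap p.ResidueField K).comp (algebraMap (A ⧸ p) p.ResidueField)).toAlgebra
  have : IsScalarTower (A ⧸ p) p.ResidueField K := IsScalarTower.of_algebraMap_eq fun _ => rfl
  have : IsScalarTower A (A ⧸ p) K := IsScalarTower.of_algebraMap_eq fun a => by
    show _ = algebraMap p.ResidueField K (algebraMap (A ⧸ p) p.ResidueField (algebraMap A (A ⧸ p) a))
    rw [← IsScalarTower.algebraMap_apply A (A ⧸ p) p.ResidueField, ← IsScalarTower.algebraMap_apply A p.ResidueField K]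
  let b := Module.finBasis p.ResidueField K
  have hint : ∀ i, ∃ t : A, t ∉ p ∧ IsIntegral A (algebraMap A K t * b i) := fun i => by
    obtain ⟨⟨t, ht⟩, h⟩ := IsIntegral.exists_multiple_integral_of_isLocalization (nonZeroDivisors (A ⧸ p))
      (b i) (Algebra.IsIntegral.isIntegral (R := p.ResidueField) (b i))
    obtain ⟨t, rfl⟩ := Ideal.Quotient.mk_surjective t
    refine ⟨t, fun htp => nonZeroDivisors.ne_zero ht (Ideal.Quotient.eq_zero_iff_mem.mpr htp), ?_⟩
    rw [IsScalarTower.algebraMap_apply A (A ⧸ p) K]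
    exact isIntegral_trans (R := A) _ (by
      rw [Submonoid.smul_def, Algebra.smul_def] at h
      exact h)
  choose t ht hti using hint
  let E : Finset K := Finset.univ.image fun i => algebraMap A K (t i) * b i
  refine ⟨Algebra.adjoin A (E : Set K), ?_, ?_⟩
  · exact Module.Finite.iff_fg.mpr (fg_adjoin_of_finite E.finite_toSet fun x hx => by
      obtain ⟨i, -, rfl⟩ := Finset.mem_image.mp hx
      exact hti i)
  set B := Algebra.adjoin A (E : Set K)
  have hne : ∀ s : A, s ∉ p → algebraMap A K s ≠ 0 := fun s hs h => by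
    rw [IsScalarTower.algebraMap_apply A p.ResidueField K, map_eq_zero] at h
    exact hs (Ideal.algebraMap_residueField_eq_zero.mp h)
  let V : Submodule p.ResidueField K :=
    { carrier := {x | ∃ s : A, s ∉ p ∧ algebraMap A K s * x ∈ B}
      zero_mem' := ⟨1, fun h => ‹p.IsPrime›.ne_top ((Ideal.eq_top_iff_one _).mpr h), by
        rw [mul_zero]; exact B.zero_mem⟩
      add_mem' := by
        rintro x y ⟨s, hs, hx⟩ ⟨s', hs', hy⟩
        refine ⟨s * s', fun h => (‹p.IsPrime›.mem_or_mem h).elim hs hs', ?_⟩
        rw [map_mul, mul_add, show algebraMap A K s * algebraMap A K s' * x = algebraMap A K s' * (algebraMap A K s * x) by ring,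
          mul_assoc]
        exact B.add_mem (B.mul_mem (B.algebraMap_mem s') hx) (B.mul_mem (B.algebraMap_mem s) hy)
      smul_mem' := by
        rintro c x ⟨s, hs, hx⟩
        obtain ⟨a, r, hr, rfl⟩ := IsFractionRing.div_surjective (A := A ⧸ p) c
        obtain ⟨a, rfl⟩ := Ideal.Quotient.mk_surjective a
        obtain ⟨r, rfl⟩ := Ideal.Quotient.mk_surjective r
        have hrp : r ∉ p := fun h => nonZeroDivisors.ne_zero hr (Ideal.Quotient.eq_zero_iff_mem.mpr h)
        refine ⟨r * s, fun h => (‹p.IsPrime›.mem_or_mem h).elim hrp hs, ?_⟩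
        have h1 : algebraMap A K r * algebraMap p.ResidueField K
            (algebraMap (A ⧸ p) p.ResidueField (Ideal.Quotient.mk p a) /
              algebraMap (A ⧸ p) p.ResidueField (Ideal.Quotient.mk p r)) = algebraMap A K a := by
          rw [IsScalarTower.algebraMap_apply A p.ResidueField K r, IsScalarTower.algebraMap_apply A p.ResidueField K a,
            ← map_mul, IsScalarTower.algebraMap_apply A (A ⧸ p) p.ResidueField,
            IsScalarTower.algebraMap_apply A (A ⧸ p) p.ResidueField, Ideal.Quotient.algebraMap_eq, mul_div_cancel₀]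
          intro h
          apply hne r hrp
          rw [IsScalarTower.algebraMap_apply A p.ResidueField K, IsScalarTower.algebraMap_apply A (A ⧸ p) p.ResidueField,
            Ideal.Quotient.algebraMap_eq, h, map_zero]
        have := B.mul_mem (B.algebraMap_mem a) hx
        rw [← h1] at this
        rw [Algebra.smul_def, map_mul]
        convert this using 1
        ring }
  have hV : ∀ x : K, x ∈ V := fun x => by
    rw [← b.sum_repr x]
    exact V.sum_mem fun i _ => V.smul_mem _ ⟨t i, ht i,
      Algebra.subset_adjoin (Finset.mem_image_of_mem _ (Finset.mem_univ i))⟩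
  refine (isLocalization_iff _ _).mpr ⟨?_, ?_, ?_⟩
  · rintro ⟨s, hs⟩
    exact IsUnit.mk0 _ fun h => nonZeroDivisors.ne_zero hs (Subtype.ext h)
  · intro x
    obtain ⟨s, hs, hx⟩ := hV x
    refine ⟨⟨⟨_, hx⟩, ⟨algebraMap A B s, mem_nonZeroDivisors_of_ne_zero fun h => hne s hs (congrArg Subtype.val h)⟩⟩, ?_⟩
    exact mul_comm _ _
  · intro x y h
    exact ⟨1, by rw [show x = y from Subtype.ext h]⟩

variable {B S : Type u} [CommRing B] [IsDomain B] [CommRing S] [Algebra B S]

/-- the local rings at primes over zero are those of the generic fibre -/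
theorem exists_fiber_localization (q : Ideal S) [q.IsPrime] (hq : q.comap (algebraMap B S) = ⊥) :
    ∃ Q : PrimeSpectrum ((⊥ : Ideal B).Fiber S),
      Nonempty (Localization.AtPrime Q.asIdeal ≃+* Localization.AtPrime q) := by
  let s : PrimeSpectrum.comap (algebraMap B S) ⁻¹' {(⟨⊥, Ideal.isPrime_bot⟩ : PrimeSpectrum B)} :=
    ⟨⟨q, inferInstance⟩, PrimeSpectrum.ext hq⟩
  let Q := PrimeSpectrum.preimageEquivFiber B S ⟨⊥, Ideal.isPrime_bot⟩ s
  have hQ : Q.asIdeal.comap (Algebra.TensorProduct.includeRight : S →ₐ[B] (⊥ : Ideal B).Fiber S) = q :=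
    congrArg (fun x => x.1.asIdeal) ((PrimeSpectrum.preimageEquivFiber B S ⟨⊥, Ideal.isPrime_bot⟩).left_inv s)
  have : (Q.asIdeal.comap (Algebra.TensorProduct.includeRight : S →ₐ[B] (⊥ : Ideal B).Fiber S)).LiesOver (⊥ : Ideal B) :=
    ⟨by rw [hQ]; exact hq.symm⟩
  let := Localization.AtPrime.algebraOfLiesOver (⊥ : Ideal B)
    (Q.asIdeal.comap (Algebra.TensorProduct.includeRight : S →ₐ[B] (⊥ : Ideal B).Fiber S))
  refine ⟨Q, ?_⟩
  have key : ∀ (r : Ideal S) [r.IsPrime], r = q →
      Nonempty ((Localization.AtPrime r ⧸ (⊥ : Ideal B).map (algebraMap B (Localization.AtPrime r))) ≃+* Localization.AtPrime q) := by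
    intro r _ hr
    subst hr
    exact ⟨(Ideal.quotEquivOfEq Ideal.map_bot).trans (RingEquiv.quotientBot _)⟩
  obtain ⟨e1⟩ := key _ hQ
  exact ⟨(Ideal.Fiber.localizationAlgEquivQuotient (⊥ : Ideal B) Q.asIdeal).toRingEquiv.trans e1⟩

theorem exists_localization_fiber (Q : Ideal ((⊥ : Ideal B).Fiber S)) [Q.IsPrime] :
    ∃ (q : Ideal S) (_ : q.IsPrime), q.comap (algebraMap B S) = ⊥ ∧
      Nonempty (Localization.AtPrime Q ≃+* Localization.AtPrime q) := by
  let r : Ideal S := Q.comap (Algebra.TensorProduct.includeRight : S →ₐ[B] (⊥ : Ideal B).Fiber S)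
  have hr : r.LiesOver (⊥ : Ideal B) := inferInstance
  let := Localization.AtPrime.algebraOfLiesOver (⊥ : Ideal B) r
  exact ⟨r, inferInstance, (Ideal.LiesOver.over (p := (⊥ : Ideal B)) (P := r)).symm,
    ⟨(Ideal.Fiber.localizationAlgEquivQuotient (⊥ : Ideal B) Q).toRingEquiv.trans
      ((Ideal.quotEquivOfEq Ideal.map_bot).trans (RingEquiv.quotientBot _))⟩⟩

/-- local properties at primes over zero read on the generic fibre -/
theorem isRegularRing_generic_iff [IsNoetherianRing ((⊥ : Ideal B).Fiber S)] :
    IsRegularRing ((⊥ : Ideal B).Fiber S) ↔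
      ∀ (q : Ideal S) [q.IsPrime], q.comap (algebraMap B S) = ⊥ → IsRegularLocalRing (Localization.AtPrime q) := by
  rw [isRegularRing_iff]
  constructor
  · intro h q _ hq
    obtain ⟨Q, ⟨e⟩⟩ := exists_fiber_localization q hq
    have := h Q.asIdeal
    exact IsRegularLocalRing.of_ringEquiv (R := Localization.AtPrime Q.asIdeal) e
  · intro h Q _
    obtain ⟨q, hq, hq', ⟨e⟩⟩ := exists_localization_fiber Q
    have := h q hq'
    exact IsRegularLocalRing.of_ringEquiv (R := Localization.AtPrime q) e.symm

theorem isReduced_generic_iff :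
    IsReduced ((⊥ : Ideal B).Fiber S) ↔
      ∀ (q : Ideal S) [q.IsPrime], q.comap (algebraMap B S) = ⊥ → IsReduced (Localization.AtPrime q) := by
  constructor
  · intro h q _ hq
    obtain ⟨Q, ⟨e⟩⟩ := exists_fiber_localization q hq
    exact isReduced_of_injective e.symm e.symm.injective
  · intro h
    refine isReduced_ofLocalizationMaximal _ fun Q _ => ?_
    obtain ⟨q, hq, hq', ⟨e⟩⟩ := exists_localization_fiber Q
    have := h q hq'
    exact isReduced_of_injective e e.injective

/-- transport to the generic fibre of a base change -/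
theorem isNoetherianRing_generic {k T : Type u} [Field k] [CommRing T] [Algebra k T] (K : Type u) [Field K]
    [Algebra k K] [Module.Finite k K] [IsNoetherianRing T] {U : Type u} [CommRing U] (e : K ⊗[k] T ≃+* U) :
    IsNoetherianRing U := by
  have := Algebra.EssFiniteType.isNoetherianRing T (T ⊗[k] K)
  have : IsNoetherianRing (K ⊗[k] T) :=
    isNoetherianRing_of_ringEquiv (T ⊗[k] K) (Algebra.TensorProduct.comm k T K).toRingEquiv
  exact isNoetherianRing_of_ringEquiv (K ⊗[k] T) e

variable {A : Type u} [CommRing A] (R : Type u) [CommRing R] [Algebra A R]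

/-- generic fibre of a base change to a finite domain -/
theorem exists_equiv (p : Ideal A) [p.IsPrime] (K : Type u) [Field K] [Algebra p.ResidueField K]
    [Algebra A K] [IsScalarTower A p.ResidueField K] (B : Type u) [CommRing B] [IsDomain B] [Algebra A B]
    [Algebra B K] [IsScalarTower A B K] [IsFractionRing B K] :
    Nonempty (K ⊗[p.ResidueField] p.Fiber R ≃+* (⊥ : Ideal B).Fiber (B ⊗[A] R)) := by
  let e : K ≃ₐ[B] (⊥ : Ideal B).ResidueField := IsLocalization.algEquiv (nonZeroDivisors B) _ _
  exact ⟨(Algebra.TensorProduct.cancelBaseChange A p.ResidueField p.ResidueField K R).toRingEquiv.trans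
    ((Algebra.TensorProduct.cancelBaseChange A B B K R).symm.toRingEquiv.trans
      (Algebra.TensorProduct.congr e (AlgEquiv.refl (R := B) (A₁ := B ⊗[A] R))).toRingEquiv)⟩

end Groth.Agent.Ega11.FiniteDomainFibre
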