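import Groth.Agent.Ega11.FibreBaseChange
import Groth.Agent.Ega11.FiniteDomainFibre
import Groth.Agent.Ega11.FormalDescent
import Groth.Agent.EGA4H10.FEquidimEFT
import Groth.Agent.EGA4H10.CMCompletion
import Groth.Agent.FBase64.AlgFields
import Groth.Agent.CAlg1.Sk
import Groth.Agent.CAlg1.SkFlat
import Groth.Agent.CAlg1.SerreNormal
import Groth.Agent.EGA4Alg4.Depth
import Groth.Prelude.Def_EGA4b
import Mathlib

/-! Strict formal catenarity of algebras essentially of finite type. -/

set_option autoImplicit false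
universe u

open TensorProduct IsLocalRing
open scoped nonZeroDivisors

namespace Groth.Agent.Ega11.StrictCat

theorem hasSk_one_iff {R : Type u} [CommRing R] [IsNoetherianRing R] :
    LocCoh.HasSk 1 R R ↔ ∀ Q ∈ associatedPrimes R R, Q ∈ minimalPrimes R := by
  have h := CAlg1.noEmbedded_iff_S1 (R := R) (M := R)
  rw [CAlg1.annihilator_self] at h
  exact h.symm

theorem hasSk_one_of_isDomain (R : Type u) [CommRing R] [IsNoetherianRing R] [IsDomain R] :
    LocCoh.HasSk 1 R R := by
  rw [hasSk_one_iff]
  intro Q hQ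
  rw [IsDomain.minimalPrimes_eq_singleton_bot]
  refine Set.mem_singleton_iff.mpr (eq_bot_iff.mpr fun x hx => ?_)
  have : x ∈ ⋃ P ∈ associatedPrimes R R, (P : Set R) := Set.mem_biUnion hQ hx
  rw [biUnion_associatedPrimes_eq_compl_nonZeroDivisors] at this
  by_contra h0
  exact this (mem_nonZeroDivisors_of_ne_zero fun h => h0 (by rw [h]; exact zero_mem _))

/-- `S₁` read off the local rings of another ring -/
theorem hasSk_of_stalks {R R' : Type u} [CommRing R] [CommRing R'] [IsNoetherianRing R] [IsNoetherianRing R']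
    (k : ℕ) (h : LocCoh.HasSk k R R)
    (hst : ∀ (P : Ideal R') [P.IsPrime], ∃ (q : Ideal R) (_ : q.IsPrime),
      Nonempty (Localization.AtPrime P ≃+* Localization.AtPrime q)) : LocCoh.HasSk k R' R' := by
  rw [CAlg1.hasSk_self_iff] at h ⊢
  intro P _
  obtain ⟨q, _, ⟨e⟩⟩ := hst P
  have : IsNoetherianRing (Localization.AtPrime P) := IsLocalization.isNoetherianRing P.primeCompl _ inferInstance
  have : IsNoetherianRing (Localization.AtPrime q) := IsLocalization.isNoetherianRing q.primeCompl _ inferInstance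
  have hh : P.height = q.height := by
    have := ringKrullDim_eq_of_ringEquiv e
    rwa [IsLocalization.AtPrime.ringKrullDim_eq_height P (Localization.AtPrime P),
      IsLocalization.AtPrime.ringKrullDim_eq_height q (Localization.AtPrime q), WithBot.coe_inj] at this
  rw [hh, CAlg1.depth_eq_of_ringEquiv e]
  exact h q

theorem hasSk_localization {R R' : Type u} [CommRing R] [CommRing R'] [IsNoetherianRing R] [Algebra R R']
    (M : Submonoid R) [IsLocalization M R'] (k : ℕ) (h : LocCoh.HasSk k R R) : LocCoh.HasSk k R' R' := by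
  have : IsNoetherianRing R' := IsLocalization.isNoetherianRing M R' inferInstance
  refine hasSk_of_stalks k h fun P _ => ⟨P.comap (algebraMap R R'), inferInstance, ?_⟩
  have : IsLocalization.AtPrime (Localization.AtPrime P) (P.comap (algebraMap R R')) :=
    IsLocalization.isLocalization_isLocalization_atPrime_isLocalization M (Localization.AtPrime P) P
  exact ⟨(IsLocalization.algEquiv (P.comap (algebraMap R R')).primeCompl
    (Localization.AtPrime (P.comap (algebraMap R R'))) (Localization.AtPrime P)).toRingEquiv.symm⟩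

/-- `S₁` descends from a localization at non zero divisors -/
theorem hasSk_one_of_localization {T Y : Type u} [CommRing T] [CommRing Y] [IsNoetherianRing T] [Algebra T Y]
    (M : Submonoid T) [IsLocalization M Y] (hM : M ≤ T⁰) (h : LocCoh.HasSk 1 Y Y) : LocCoh.HasSk 1 T T := by
  have : IsNoetherianRing Y := IsLocalization.isNoetherianRing M Y inferInstance
  rw [CAlg1.hasSk_self_iff] at h ⊢
  intro Q _
  let TQ := Localization.AtPrime Q
  have : IsNoetherianRing TQ := IsLocalization.isNoetherianRing Q.primeCompl _ inferInstance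
  by_cases hd : Disjoint (M : Set T) Q
  · let Q' := Q.map (algebraMap T Y)
    have : Q'.IsPrime := IsLocalization.isPrime_of_isPrime_disjoint M _ Q ‹_› hd
    have hQ : Q'.comap (algebraMap T Y) = Q := IsLocalization.under_map_of_isPrime_disjoint M _ ‹_› hd
    have : IsNoetherianRing (Localization.AtPrime Q') := IsLocalization.isNoetherianRing Q'.primeCompl _ inferInstance
    have : IsLocalization.AtPrime (Localization.AtPrime Q') Q := by
      convert IsLocalization.isLocalization_isLocalization_atPrime_isLocalization M (Localization.AtPrime Q') Q'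
      exact hQ.symm
    let e : TQ ≃+* Localization.AtPrime Q' :=
      (IsLocalization.algEquiv Q.primeCompl TQ (Localization.AtPrime Q')).toRingEquiv
    have hh : Q.height = Q'.height := by
      have := ringKrullDim_eq_of_ringEquiv e
      rwa [IsLocalization.AtPrime.ringKrullDim_eq_height Q TQ,
        IsLocalization.AtPrime.ringKrullDim_eq_height Q' (Localization.AtPrime Q'), WithBot.coe_inj] at this
    rw [hh, CAlg1.depth_eq_of_ringEquiv e]
    exact h Q'
  · refine (min_le_left _ _).trans ((EGA4Alg4.natCast_le_depth_iff 1).mpr ?_)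
    obtain ⟨a, haM, haQ⟩ := Set.not_disjoint_iff.mp hd
    refine ⟨[algebraMap T TQ a], rfl, fun r hr => ?_, ?_⟩
    · rw [List.mem_singleton.mp hr]
      exact (IsLocalization.AtPrime.to_map_mem_maximal_iff TQ Q a).mpr haQ
    · refine RingTheory.Sequence.IsWeaklyRegular.cons ?_ (RingTheory.Sequence.IsWeaklyRegular.nil _ _)
      have hnz : algebraMap T TQ a ∈ TQ⁰ := IsLocalization.map_nonZeroDivisors_le Q.primeCompl TQ ⟨a, hM haM, rfl⟩
      intro x y hxy
      have h0 : algebraMap T TQ a * (x - y) = 0 := by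
        rw [mul_sub, sub_eq_zero]; exact hxy
      exact sub_eq_zero.mp (hnz.1 _ h0)

/-- tensor product of fields -/
theorem hasSk_one_fields (k K L : Type u) [Field k] [Field K] [Field L] [Algebra k K] [Algebra k L]
    [IsNoetherianRing (K ⊗[k] L)] : LocCoh.HasSk 1 (K ⊗[k] L) (K ⊗[k] L) :=
  hasSk_one_iff.mpr fun _ hQ => FBase64.associatedPrimes_subset_minimalPrimes k K L hQ

/-- base change of an `S₁` algebra to a finitely generated extension of the fraction field -/
theorem hasSk_one_baseChange (A R L : Type u) [CommRing A] [IsDomain A] [CommRing R] [IsNoetherianRing R]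
    [Algebra A R] [Field L] [Algebra A L] [FaithfulSMul A L] [Algebra.EssFiniteType A L]
    (hR : LocCoh.HasSk 1 R R) : LocCoh.HasSk 1 (R ⊗[A] L) (R ⊗[A] L) := by
  let K := FractionRing A
  let : Algebra K L := FractionRing.liftAlgebra A L
  have : IsScalarTower A K L := FractionRing.isScalarTower_liftAlgebra A L
  have : Module.Flat A K := IsLocalization.flat K A⁰
  have : Module.Flat A L := Module.Flat.trans A K L
  have : IsNoetherianRing (R ⊗[A] L) := Algebra.EssFiniteType.isNoetherianRing R (R ⊗[A] L)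
  have : Module.Flat R (R ⊗[A] L) := inferInstance
  refine FibreComp.hasSk_of_fibres (A := R) 1 hR fun r _ => ?_
  let kr := r.ResidueField
  let e : r.Fiber (R ⊗[A] L) ≃+* kr ⊗[A] L :=
    (Algebra.TensorProduct.cancelBaseChange A R kr kr L).toRingEquiv
  have : IsNoetherianRing (kr ⊗[A] L) := Algebra.EssFiniteType.isNoetherianRing kr (kr ⊗[A] L)
  refine FibreComp.hasSk_of_ringEquiv e.symm 1 ?_
  by_cases hinj : ∀ a : A, algebraMap A kr a = 0 → a = 0
  · have : FaithfulSMul A kr :=
      (faithfulSMul_iff_algebraMap_injective _ _).mpr ((injective_iff_map_eq_zero _).mpr hinj)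
    let : Algebra K kr := FractionRing.liftAlgebra A kr
    have : IsScalarTower A K kr := FractionRing.isScalarTower_liftAlgebra A kr
    have : Algebra.EssFiniteType K L := Algebra.EssFiniteType.of_comp A K L
    have hN : IsNoetherianRing (kr ⊗[K] L) := Algebra.EssFiniteType.isNoetherianRing kr (kr ⊗[K] L)
    exact FibreComp.hasSk_of_ringEquiv (A := kr ⊗[K] L)
      (IsLocalization.algebraTensorEquiv A⁰ K kr L).toRingEquiv 1 (hasSk_one_fields K kr L)
  · push Not at hinj
    obtain ⟨a, ha, ha0⟩ := hinj
    have : Subsingleton (kr ⊗[A] L) := by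
      refine subsingleton_of_zero_eq_one ?_
      have hu : algebraMap A L a ≠ 0 := fun h => ha0 ((faithfulSMul_iff_algebraMap_injective A L).mp inferInstance
        (h.trans (map_zero _).symm))
      calc (0 : kr ⊗[A] L) = (algebraMap A kr a) ⊗ₜ (algebraMap A L a)⁻¹ := by rw [ha, TensorProduct.zero_tmul]
        _ = (1 : kr) ⊗ₜ (algebraMap A L a * (algebraMap A L a)⁻¹) := by
          rw [Algebra.algebraMap_eq_smul_one, TensorProduct.smul_tmul, Algebra.smul_def]
        _ = 1 := by rw [mul_inv_cancel₀ hu]; rfl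
    intro p hp
    exact absurd (Subsingleton.elim p ⊤) hp.ne_top

/-- a local ring essentially of finite type over a regular one is a quotient of a CM local ring -/
theorem exists_cm_surjection (S : Type u) [CommRing S] [IsRegularLocalRing S] (W : Type u) [CommRing W]
    [IsLocalRing W] [Algebra S W] [Algebra.EssFiniteType S W] :
    ∃ (Z : Type u) (_ : CommRing Z) (_ : LocCoh.IsCohenMacaulayLocalRing Z) (g : Z →+* W), Function.Surjective g := by
  let S0 := Algebra.EssFiniteType.subalgebra S W
  let M := Algebra.EssFiniteType.submonoid S W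
  have : IsLocalization M W := Algebra.EssFiniteType.isLocalization S W
  obtain ⟨n, f, hf⟩ := Algebra.FiniteType.iff_quotient_mvPolynomial''.mp (inferInstance : Algebra.FiniteType S S0)
  let h : MvPolynomial (Fin n) S →+* W := (algebraMap S0 W).comp f.toRingHom
  let q : Ideal (MvPolynomial (Fin n) S) := (maximalIdeal W).comap h
  have := EGA4H10.isCohenMacaulayRing_of_regular S
  have := CAlg1.cm_mvPolynomial (R := S) n
  have : LocCoh.IsCohenMacaulayLocalRing (Localization.AtPrime q) :=
    LocCoh.IsCohenMacaulayRing.isCohenMacaulayLocalRing_localization q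
  let ψ : Localization.AtPrime q →+* W := IsLocalization.lift (M := q.primeCompl) (g := h) fun y => by
    by_contra hu
    exact y.2 ((mem_maximalIdeal _).mpr hu)
  refine ⟨Localization.AtPrime q, inferInstance, inferInstance, ψ, fun b => ?_⟩
  obtain ⟨⟨x, s⟩, hxs⟩ := IsLocalization.surj M b
  obtain ⟨x0, hx0⟩ := hf x
  obtain ⟨s0, hs0⟩ := hf s
  have hu : IsUnit (h s0) := by
    show IsUnit (algebraMap S0 W (f s0))
    rw [hs0]; exact IsLocalization.map_units W s
  have hsq : s0 ∈ q.primeCompl := fun hm => (mem_maximalIdeal _).mp (hm : h s0 ∈ maximalIdeal W) hu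
  refine ⟨IsLocalization.mk' _ x0 ⟨s0, hsq⟩, ?_⟩
  rw [IsLocalization.lift_mk'_spec, mul_comm]
  show algebraMap S0 W (f x0) = b * algebraMap S0 W (f s0)
  rw [hx0, hs0]
  exact hxs.symm

/-- quotients of CM local rings: completion keeps `S₁` -/
theorem hasSk_one_cpl_of_cm_quotient {Z W : Type u} [CommRing Z] [LocCoh.IsCohenMacaulayLocalRing Z]
    [CommRing W] [IsLocalRing W] [IsNoetherianRing W] (g : Z →+* W) (hg : Function.Surjective g)
    (hW : LocCoh.HasSk 1 W W) : LocCoh.HasSk 1 (EGA4.Cpl W) (EGA4.Cpl W) := by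
  have : IsNoetherianRing (EGA4.Cpl W) := Cohen12.isNoetherianRing_completion W
  have : Module.Flat W (EGA4.Cpl W) := inferInstanceAs (Module.Flat W (AdicCompletion (maximalIdeal W) W))
  refine FibreComp.hasSk_of_fibres 1 hW fun P _ => ?_
  letI : Algebra Z (W ⧸ P) := ((Ideal.Quotient.mk P).comp g).toAlgebra
  have hs : Function.Surjective (algebraMap Z (W ⧸ P)) := Ideal.Quotient.mk_surjective.comp hg
  have : (RingHom.ker (algebraMap Z (W ⧸ P))).IsPrime := RingHom.ker_isPrime _
  have hstrict : EGA4.IsStrictlyEquidim (EGA4.Cpl (W ⧸ P)) := by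
    refine EGA4H10.strict_cpl_quotient (A := Z) (M := Z) ?_ (W ⧸ P) hs ?_
    · rw [LocCoh.IsCohenMacaulayModule]
      exact LocCoh.IsCohenMacaulayLocalRing.supportDim_eq_depth
    · rw [Module.mem_support_iff_of_finite, CAlg1.annihilator_self]
      exact bot_le
  have : IsNoetherianRing (EGA4.Cpl (W ⧸ P)) := Cohen12.isNoetherianRing_completion (W ⧸ P)
  have hX : LocCoh.HasSk 1 (EGA4.Cpl (W ⧸ P)) (EGA4.Cpl (W ⧸ P)) := hasSk_one_of_strictly _ hstrict
  obtain ⟨hsur, ⟨φ⟩⟩ := FibreBaseChange.exists_cpl_quotient W P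
  obtain ⟨e⟩ := FibreBaseChange.exists_fiber_equiv hsur φ (⊥ : Ideal (W ⧸ P))
  have hP : (⊥ : Ideal (W ⧸ P)).under W = P := by
    rw [Ideal.under_def, ← RingHom.ker_eq_comap_bot]; exact Ideal.mk_ker
  have : IsNoetherianRing (EGA4.Cpl (W ⧸ P)) := Cohen12.isNoetherianRing_completion (W ⧸ P)
  have key : ∀ (p : Ideal W) [p.IsPrime], p = P → (p.Fiber (EGA4.Cpl W) ≃+* (⊥ : Ideal (W ⧸ P)).Fiber (EGA4.Cpl (W ⧸ P))) →
      LocCoh.HasSk 1 (P.Fiber (EGA4.Cpl W)) (P.Fiber (EGA4.Cpl W)) := by
    intro p _ hp e
    subst hp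
    have : IsNoetherianRing ((⊥ : Ideal (W ⧸ p)).Fiber (EGA4.Cpl (W ⧸ p))) :=
      (FibreComp.isNoetherianRing_fiber (B := EGA4.Cpl (W ⧸ p)) (⊥ : Ideal (W ⧸ p))).2
    refine FibreComp.hasSk_of_ringEquiv e.symm 1 (hasSk_of_stalks 1 hX fun Q _ => ?_)
    obtain ⟨q, hq, -, he⟩ := FiniteDomainFibre.exists_localization_fiber Q
    exact ⟨q, hq, he⟩
  exact key _ hP e
where
  hasSk_one_of_strictly (X : Type u) [CommRing X] [IsNoetherianRing X] [IsLocalRing X]
      (h : EGA4.IsStrictlyEquidim X) : LocCoh.HasSk 1 X X := by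
    rw [hasSk_one_iff]
    intro Q hQ
    have hQp : Q.IsPrime := hQ.isPrime
    obtain ⟨m, hm, hmQ⟩ := Ideal.exists_minimalPrimes_le (I := (⊥ : Ideal X)) (J := Q) bot_le
    have : m.IsPrime := hm.1.1
    rcases eq_or_lt_of_le hmQ with he | hlt
    · exact he ▸ hm
    exfalso
    obtain ⟨x, hxQ, hxm⟩ := SetLike.exists_of_lt hlt
    obtain ⟨d, hd⟩ : ∃ d : ℕ, ringKrullDim (X ⧸ Q) = d := by
      obtain ⟨n, hn⟩ := exists_nat_dim (X ⧸ Q)
      exact ⟨n, hn⟩
    let f : X ⧸ m →+* X ⧸ Q := Ideal.Quotient.factor hmQ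
    have hxnz : Ideal.Quotient.mk m x ∈ (X ⧸ m)⁰ :=
      mem_nonZeroDivisors_of_ne_zero fun h0 => hxm (Ideal.Quotient.eq_zero_iff_mem.mp h0)
    have hlt' : ringKrullDim (X ⧸ Q) + 1 ≤ ringKrullDim (X ⧸ m) := by
      refine le_trans ?_ (ringKrullDim_quotient_succ_le_of_nonZeroDivisor hxnz)
      gcongr
      exact ringKrullDim_le_of_surjective (Ideal.Quotient.lift (Ideal.span {Ideal.Quotient.mk m x}) f fun y hy => by
          obtain ⟨c, rfl⟩ := Ideal.mem_span_singleton'.mp hy
          rw [map_mul, show f (Ideal.Quotient.mk m x) = 0 from Ideal.Quotient.eq_zero_iff_mem.mpr hxQ, mul_zero])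
        (Ideal.Quotient.lift_surjective_of_surjective _ _ (Ideal.Quotient.factor_surjective hmQ))
    have := hlt'.trans (ringKrullDim_quotient_le m)
    rw [← h Q hQ, hd] at this
    exact absurd this (by norm_cast; omega)
  exists_nat_dim (Y : Type u) [CommRing Y] [IsNoetherianRing Y] [IsLocalRing Y] :
      ∃ n : ℕ, ringKrullDim Y = n := by
    obtain ⟨n, hn⟩ := ENat.ne_top_iff_exists.mp (Ideal.height_ne_top (maximalIdeal.isMaximal Y).ne_top)
    exact ⟨n, by rw [← maximalIdeal_height_eq_ringKrullDim, ← hn]; rfl⟩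

/-- the completion of a local domain essentially of finite type over a domain with unmixed completion -/
theorem hasSk_one_cpl_domain (A C : Type u) [CommRing A] [IsDomain A] [IsNoetherianRing A] [IsLocalRing A]
    [CommRing C] [IsDomain C] [IsNoetherianRing C] [IsLocalRing C] [Algebra A C] [FaithfulSMul A C]
    [Algebra.EssFiniteType A C] (hA : LocCoh.HasSk 1 (EGA4.Cpl A) (EGA4.Cpl A)) :
    LocCoh.HasSk 1 (EGA4.Cpl C) (EGA4.Cpl C) := by
  let R := EGA4.Cpl A
  have : IsNoetherianRing R := Cohen12.isNoetherianRing_completion A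
  have : Module.Flat A R := inferInstanceAs (Module.Flat A (AdicCompletion (maximalIdeal A) A))
  have : Module.FaithfullyFlat A R := Module.FaithfullyFlat.of_flat_of_isLocalHom
  let L := FractionRing C
  have : Algebra.EssFiniteType C L := Algebra.EssFiniteType.of_isLocalization L C⁰
  have : Algebra.EssFiniteType A L := Algebra.EssFiniteType.comp A C L
  have : FaithfulSMul A L := (faithfulSMul_iff_algebraMap_injective A L).mpr (by
    rw [IsScalarTower.algebraMap_eq A C L]
    exact (IsFractionRing.injective C L).comp ((faithfulSMul_iff_algebraMap_injective A C).mp inferInstance))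
  let X := R ⊗[A] C
  let Y := R ⊗[A] L
  have hY : LocCoh.HasSk 1 Y Y := hasSk_one_baseChange A R L hA
  have : IsNoetherianRing X := Algebra.EssFiniteType.isNoetherianRing R X
  let g : X →ₐ[R] Y := Algebra.TensorProduct.map (AlgHom.id R R) (IsScalarTower.toAlgHom A C L)
  have hg : Function.Injective g :=
    Module.Flat.lTensor_preserves_injective_linearMap (M := R) (IsScalarTower.toAlgHom A C L).toLinearMap
      (IsFractionRing.injective C L)
  let : Algebra X Y := g.toRingHom.toAlgebra
  have : IsScalarTower R X Y := IsScalarTower.of_algebraMap_eq fun a => (g.commutes a).symm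
  let M : Submonoid X := C⁰.map (Algebra.TensorProduct.includeRight (R := A) (A := R) (B := C))
  have : IsLocalization M Y := IsLocalization.tensorProduct_tensorProduct_right A R C⁰ L (by
    ext b
    show g ((1 : R) ⊗ₜ b) = (1 : R) ⊗ₜ algebraMap C L b
    exact Algebra.TensorProduct.map_tmul _ _ _ _)
  have hM : M ≤ X⁰ := fun c hc => mem_nonZeroDivisors_iff_right.mpr fun y hy => hg (by
    rw [map_zero]
    have h0 : g y * g c = 0 := by rw [← map_mul, hy, map_zero]
    exact ((IsLocalization.map_units Y ⟨c, hc⟩).mul_left_eq_zero).mp h0)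
  have hX : LocCoh.HasSk 1 X X := hasSk_one_of_localization M hM hY
  -- a prime over the maximal ideal
  let T := C ⊗[A] R
  let eT : X ≃+* T := (Algebra.TensorProduct.comm A R C).toRingEquiv
  have : IsNoetherianRing T := isNoetherianRing_of_ringEquiv X eT
  have hT : LocCoh.HasSk 1 T T := FibreComp.hasSk_of_ringEquiv eT 1 hX
  obtain ⟨n', hn'⟩ := PrimeSpectrum.comap_surjective_of_faithfullyFlat (A := C) (B := T)
    ⟨maximalIdeal C, inferInstance⟩
  have hn : n'.asIdeal.comap (algebraMap C T) = maximalIdeal C := congrArg PrimeSpectrum.asIdeal hn'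
  let W := Localization.AtPrime n'.asIdeal
  have : IsNoetherianRing W := IsLocalization.isNoetherianRing n'.asIdeal.primeCompl _ inferInstance
  have hW : LocCoh.HasSk 1 W W := hasSk_localization n'.asIdeal.primeCompl 1 hT
  -- `W` is a quotient of a CM local ring
  have := Cohen12.isAdicComplete_completion (A := A)
  obtain ⟨S, _, _, π, hπ⟩ := EGA4H10.exists_regular_surjection R
  let : Algebra R T := (Algebra.TensorProduct.includeRight : R →ₐ[A] T).toRingHom.toAlgebra
  have : Algebra.EssFiniteType R T := by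
    let c : X ≃ₐ[R] T := AlgEquiv.ofRingEquiv (f := eT) fun r => rfl
    exact Algebra.EssFiniteType.of_surjective c.toAlgHom c.surjective
  let : Algebra S R := π.toAlgebra
  have : Module.Finite S R := Module.Finite.of_surjective (Algebra.linearMap S R) hπ
  let : Algebra S T := ((algebraMap R T).comp π).toAlgebra
  have : IsScalarTower S R T := IsScalarTower.of_algebraMap_eq fun _ => rfl
  have : Algebra.EssFiniteType S T := Algebra.EssFiniteType.comp S R T
  have : Algebra.EssFiniteType T W := Algebra.EssFiniteType.of_isLocalization W n'.asIdeal.primeCompl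
  have : Algebra.EssFiniteType S W := Algebra.EssFiniteType.comp S T W
  obtain ⟨Z, _, _, z, hz⟩ := exists_cm_surjection S W
  have hWc := hasSk_one_cpl_of_cm_quotient z hz hW
  -- descend
  have : IsLocalHom (algebraMap C W) := ⟨fun x hx => by
    by_contra hxu
    have h1 : algebraMap C T x ∈ n'.asIdeal := by
      show x ∈ n'.asIdeal.comap (algebraMap C T)
      rw [hn]; exact hxu
    rw [IsScalarTower.algebraMap_apply C T W] at hx
    exact (IsLocalization.AtPrime.isUnit_to_map_iff W n'.asIdeal _).mp hx h1⟩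
  have : Module.Flat T W := IsLocalization.flat W n'.asIdeal.primeCompl
  have : Module.Flat C W := Module.Flat.trans C T W
  obtain ⟨_, -, -, _, _, -, _⟩ := FormalDescent.exists_cpl_map C W
  exact FibreComp.hasSk_base (B := EGA4.Cpl W) 1 hWc

/-- the main statement -/
theorem isFormallyStrictlyCatenary_of_essFiniteType (A : Type u) [CommRing A] [IsNoetherianRing A] [IsLocalRing A]
    (hA : EGA4.IsFormallyStrictlyCatenary A) (B : Type u) [CommRing B] [IsNoetherianRing B] [IsLocalRing B]
    [Algebra A B] [Algebra.EssFiniteType A B] : EGA4.IsFormallyStrictlyCatenary B := by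
  have hFC : EGA4.IsFormallyCatenary A := fun p _ => by
    have : IsNoetherianRing (EGA4.Cpl (A ⧸ p)) :=
      have : Nontrivial (A ⧸ p) := Ideal.Quotient.nontrivial_iff.2 (Ideal.IsPrime.ne_top ‹_›)
      Cohen12.isNoetherianRing_completion (A ⧸ p)
    exact EGA4H10.isEquidim_of_strictly (hA p)
  intro p _
  let C := B ⧸ p
  have : Nontrivial C := Ideal.Quotient.nontrivial_iff.2 (Ideal.IsPrime.ne_top ‹_›)
  have : Algebra.EssFiniteType A C := Algebra.EssFiniteType.comp A B C
  let P := RingHom.ker (algebraMap A C)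
  have : P.IsPrime := RingHom.ker_isPrime _
  have : Nontrivial (A ⧸ P) := Ideal.Quotient.nontrivial_iff.2 (Ideal.IsPrime.ne_top ‹_›)
  let : Algebra (A ⧸ P) C := (RingHom.kerLift (algebraMap A C)).toAlgebra
  have : IsScalarTower A (A ⧸ P) C := IsScalarTower.of_algebraMap_eq fun _ => rfl
  have : FaithfulSMul (A ⧸ P) C :=
    (faithfulSMul_iff_algebraMap_injective _ _).mpr (RingHom.kerLift_injective _)
  have : Algebra.EssFiniteType (A ⧸ P) C := Algebra.EssFiniteType.of_comp A _ _
  have : IsNoetherianRing (EGA4.Cpl (A ⧸ P)) := Cohen12.isNoetherianRing_completion (A ⧸ P)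
  have : IsNoetherianRing (EGA4.Cpl C) := Cohen12.isNoetherianRing_completion C
  have h1 := hasSk_one_cpl_domain (A ⧸ P) C
    (hasSk_one_cpl_of_cm_quotient.hasSk_one_of_strictly _ (hA P))
  have h2 : EGA4.IsFormallyEquidim C := EGA4H10.isFormallyEquidim_of_domain hFC C
  intro Q hQ
  exact h2 Q (hasSk_one_iff.mp h1 Q hQ)

end Groth.Agent.Ega11.StrictCat
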