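import Mathlib

/-! Relative lengths of submodules. -/

set_option autoImplicit false
universe u

open Submodule

namespace Groth.Agent.Ega11.LatticeLen

variable {O : Type u} [CommRing O] {V : Type u} [AddCommGroup V] [Module O V]

/-- the length of `B / A` -/
noncomputable abbrev len (A B : Submodule O V) : ℕ∞ := Module.length O (↥B ⧸ A.comap B.subtype)

theorem len_trans {A B C : Submodule O V} (h1 : A ≤ B) (h2 : B ≤ C) : len A C = len A B + len B C := by
  let f : (↥B ⧸ A.comap B.subtype) →ₗ[O] (↥C ⧸ A.comap C.subtype) :=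
    (A.comap B.subtype).mapQ _ (Submodule.inclusion h2) fun x hx => hx
  let g : (↥C ⧸ A.comap C.subtype) →ₗ[O] (↥C ⧸ B.comap C.subtype) :=
    (A.comap C.subtype).mapQ _ LinearMap.id fun x hx => h1 hx
  refine Module.length_eq_add_of_exact f g ?_ ?_ ?_
  · rw [injective_iff_map_eq_zero]
    intro x hx
    obtain ⟨x, rfl⟩ := Submodule.Quotient.mk_surjective _ x
    exact (Submodule.Quotient.mk_eq_zero _).mpr (((Submodule.Quotient.mk_eq_zero _).mp hx : _))
  · intro x
    obtain ⟨x, rfl⟩ := Submodule.Quotient.mk_surjective _ x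
    exact ⟨Submodule.Quotient.mk x, rfl⟩
  · intro x
    obtain ⟨x, rfl⟩ := Submodule.Quotient.mk_surjective _ x
    constructor
    · intro hx
      exact ⟨Submodule.Quotient.mk ⟨x.1, (Submodule.Quotient.mk_eq_zero (B.comap C.subtype)).mp hx⟩, rfl⟩
    · rintro ⟨y, hy⟩
      obtain ⟨y, rfl⟩ := Submodule.Quotient.mk_surjective _ y
      rw [← hy]
      exact (Submodule.Quotient.mk_eq_zero _).mpr y.2

theorem len_mono_left {A B C : Submodule O V} (h1 : A ≤ B) (h2 : B ≤ C) : len B C ≤ len A C := by
  rw [len_trans h1 h2]; exact le_add_self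

theorem len_mono_right {A B C : Submodule O V} (h1 : A ≤ B) (h2 : B ≤ C) : len A B ≤ len A C := by
  rw [len_trans h1 h2]; exact le_self_add

theorem len_self (A : Submodule O V) : len A A = 0 := by
  have : Subsingleton (↥A ⧸ A.comap A.subtype) := Submodule.Quotient.subsingleton_iff.mpr (by simp)
  exact Module.length_eq_zero

theorem len_map {W : Type u} [AddCommGroup W] [Module O W] (g : V →ₗ[O] W) (hg : Function.Injective g)
    (A B : Submodule O V) : len (A.map g) (B.map g) = len A B := by
  refine (Submodule.Quotient.equiv _ _ (Submodule.equivMapOfInjective g hg B) ?_).length_eq.symm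
  ext ⟨y, hy⟩
  obtain ⟨b, hb, rfl⟩ := Submodule.mem_map.mp hy
  constructor
  · rintro ⟨x, hx, hxy⟩
    exact ⟨x.1, hx, congrArg Subtype.val hxy⟩
  · rintro ⟨a, ha, hab⟩
    obtain rfl := hg hab
    exact ⟨⟨a, hb⟩, ha, Subtype.ext (Submodule.coe_equivMapOfInjective_apply g hg B _)⟩

theorem len_pi {n : ℕ} {A B : Submodule O V} :
    len (Submodule.pi Set.univ fun _ : Fin n => A) (Submodule.pi Set.univ fun _ : Fin n => B) = n * len A B := by
  let π : ↥(Submodule.pi Set.univ fun _ : Fin n => B) →ₗ[O] (Fin n → ↥B ⧸ A.comap B.subtype) :=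
    LinearMap.pi fun i => (A.comap B.subtype).mkQ ∘ₗ
      ((LinearMap.proj i ∘ₗ Submodule.subtype _).codRestrict B fun x => x.2 i trivial)
  have hπ : Function.Surjective π := fun y => by
    choose b hb using fun i => Submodule.Quotient.mk_surjective _ (y i)
    exact ⟨⟨fun i => (b i).1, fun i _ => (b i).2⟩, funext fun i => hb i⟩
  have hker : LinearMap.ker π = (Submodule.pi Set.univ fun _ : Fin n => A).comap (Submodule.subtype _) := by
    ext x
    constructor
    · intro hx i _
      exact (Submodule.Quotient.mk_eq_zero (A.comap B.subtype)).mp (congrFun hx i)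
    · intro hx
      exact funext fun i => (Submodule.Quotient.mk_eq_zero _).mpr (hx i trivial)
  rw [len, ← hker, π.quotKerEquivOfSurjective hπ |>.length_eq, Module.length_pi, ENat.card_eq_coe_fintype_card,
    Fintype.card_fin]

end Groth.Agent.Ega11.LatticeLen
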