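import Groth.Agent.Ega11.CanDual
import Groth.Agent.Ega11.LatticeLen
import Groth.Agent.TFCurv38.Series
import Groth.Agent.TFCurv38.Semigroup
import Groth.Agent.TFCurv38.LenDim
import Mathlib

/-! Value sets of duals into the canonical ideal of a closed subalgebra of a power series ring. -/

set_option autoImplicit false
universe u

open PowerSeries CategoryTheory

namespace Groth.Agent.Ega11.BranchValues

open LatticeLen

variable {k : Type u} [Field k] {A : Subalgebra k (PowerSeries k)} {c : ℕ}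

/-- series of order at least `n` -/
noncomputable def ordGe (A : Subalgebra k (PowerSeries k)) (n : ℕ) : Submodule A (PowerSeries k) :=
  (⊤ : Submodule A (PowerSeries k)).map (LinearMap.mulLeft A ((X : PowerSeries k) ^ n))

theorem mem_ordGe {n : ℕ} {f : PowerSeries k} : f ∈ ordGe A n ↔ (n : ℕ∞) ≤ order f := by
  constructor
  · rintro ⟨g, -, rfl⟩
    exact TFCurv38.le_order_of_X_pow_mul g
  · intro h
    obtain ⟨g, hg⟩ := TFCurv38.exists_eq_X_pow_mul h
    exact ⟨g, Submodule.mem_top, hg.symm⟩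

theorem ordGe_fg (hA : Module.Finite A (PowerSeries k)) (n : ℕ) : (ordGe A n).FG := hA.fg_top.map _

theorem finite_quot {n : ℕ} {N : Submodule A (PowerSeries k)} (h : ordGe A n ≤ N) :
    Module.Finite k (PowerSeries k ⧸ N) := by
  let Φ : (Fin n → k) →ₗ[k] (PowerSeries k ⧸ N) :=
    (N.mkQ.restrictScalars k).comp (∑ i : Fin n, (monomial (i : ℕ)) ∘ₗ LinearMap.proj i)
  refine Module.Finite.of_surjective Φ fun q => ?_
  obtain ⟨f, rfl⟩ := Submodule.Quotient.mk_surjective N q
  refine ⟨fun i => coeff (i : ℕ) f, (Submodule.Quotient.eq N).2 (h ?_)⟩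
  rw [mem_ordGe, TFCurv38.nat_le_order_iff]
  intro j hj
  simp only [LinearMap.sum_apply, LinearMap.comp_apply, LinearMap.proj_apply, map_sub, map_sum, coeff_monomial]
  rw [Finset.sum_eq_single (⟨j, hj⟩ : Fin n)]
  · simp
  · intro b _ hb
    rw [if_neg fun e => hb (Fin.ext e.symm)]
  · simp

section Ring

variable (hA : Module.Finite A (PowerSeries k)) (hcA : ∀ f : PowerSeries k, (c : ℕ∞) ≤ order f → f ∈ A)
include hcA

theorem ordGe_le {N : Submodule A (PowerSeries k)} (h1 : (1 : PowerSeries k) ∈ N) : ordGe A c ≤ N := fun f hf => by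
  have := N.smul_mem (⟨f, hcA f (mem_ordGe.1 hf)⟩ : A) h1
  rwa [show (⟨f, hcA f (mem_ordGe.1 hf)⟩ : A) • (1 : PowerSeries k) = f from mul_one f] at this

include hA in
theorem isNoetherian_series : IsNoetherian A (PowerSeries k) := by
  refine (isNoetherian_def).2 fun N => ?_
  by_cases hN : N = ⊥
  · rw [hN]; exact Submodule.fg_bot
  obtain ⟨f, hf, hf0⟩ := Submodule.exists_mem_ne_zero_of_ne_bot hN
  obtain ⟨m, hm⟩ : ∃ m : ℕ, order f = m := ⟨_, (coe_toNat_order hf0).symm⟩
  have hle : ordGe A (m + c) ≤ N := fun g hg => by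
    obtain ⟨g', hg'⟩ := TFCurv38.exists_eq_X_pow_mul (mem_ordGe.1 hg)
    obtain ⟨f', hf'⟩ := TFCurv38.exists_eq_X_pow_mul hm.ge
    have hu : IsUnit f' := by
      rw [isUnit_iff_constantCoeff, ← coeff_zero_eq_constantCoeff_apply, isUnit_iff_ne_zero]
      have := TFCurv38.coeff_ne_zero_of_order_eq hm
      rwa [hf', coeff_X_pow_mul', if_pos le_rfl, Nat.sub_self] at this
    let b : PowerSeries k := (X : PowerSeries k) ^ c * g' * ↑hu.unit⁻¹
    have hb : b ∈ A := hcA b (by
      show (c : ℕ∞) ≤ order b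
      simp only [b, mul_assoc]
      exact TFCurv38.le_order_of_X_pow_mul _)
    have h2 := N.smul_mem (⟨b, hb⟩ : A) hf
    rwa [show (⟨b, hb⟩ : A) • f = g from by
      show b * f = g
      rw [hg', hf', pow_add]
      linear_combination ((X : PowerSeries k) ^ c * g' * (X : PowerSeries k) ^ m) * hu.val_inv_mul] at h2
  refine Submodule.fg_of_fg_map_of_fg_inf_ker (ordGe A (m + c)).mkQ ?_ ?_
  · have := finite_quot (N := ordGe A (m + c)) le_rfl
    have : IsNoetherian A (PowerSeries k ⧸ ordGe A (m + c)) := isNoetherian_of_tower k inferInstance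
    exact IsNoetherian.noetherian _
  · rw [Submodule.ker_mkQ, inf_eq_right.2 hle]
    exact ordGe_fg hA _

include hA in
theorem isNoetherianRing : IsNoetherianRing A :=
  have := isNoetherian_series hA hcA
  isNoetherianRing_iff.2 (isNoetherian_of_injective (Algebra.linearMap A (PowerSeries k)) Subtype.val_injective)

include hA in
omit hcA in
theorem isUnit_iff (a : A) : IsUnit a ↔ constantCoeff (a : PowerSeries k) ≠ 0 := by
  constructor
  · intro h
    exact ((isUnit_iff_constantCoeff).1 (h.map A.val)).ne_zero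
  · intro h
    have : IsLocalHom (algebraMap A (PowerSeries k)) :=
      RingHom.IsIntegral.isLocalHom (fun x => Algebra.IsIntegral.isIntegral (R := A) x) Subtype.val_injective
    exact IsUnit.of_map (algebraMap A (PowerSeries k)) a (isUnit_iff_constantCoeff.2 (isUnit_iff_ne_zero.2 h))

include hA in
omit hcA in
theorem isLocalRing : IsLocalRing A :=
  IsLocalRing.of_nonunits_add fun a b ha hb => by
    simp only [mem_nonunits_iff, isUnit_iff hA, not_not] at ha hb ⊢
    rw [show ((a + b : A) : PowerSeries k) = (a : PowerSeries k) + b from rfl, map_add, ha, hb, add_zero]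

include hA in
omit hcA in
theorem residue_surjective [IsLocalRing A] :
    Function.Surjective (algebraMap k (IsLocalRing.ResidueField A)) := fun r => by
  obtain ⟨a, rfl⟩ := IsLocalRing.residue_surjective r
  refine ⟨constantCoeff (a : PowerSeries k), ?_⟩
  rw [IsScalarTower.algebraMap_apply k A (IsLocalRing.ResidueField A), IsLocalRing.ResidueField.algebraMap_eq,
    ← sub_eq_zero, ← map_sub, IsLocalRing.residue_eq_zero_iff, IsLocalRing.mem_maximalIdeal, mem_nonunits_iff,
    isUnit_iff hA, not_not]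
  show constantCoeff (C (constantCoeff (a : PowerSeries k)) - (a : PowerSeries k)) = 0
  simp

include hA in
theorem ringKrullDim_eq_one (hc0 : c ≠ 0) [IsLocalRing A] : ringKrullDim A = 1 := by
  refine ringKrullDim_eq_one_iff_of_isLocalRing_isDomain.2 ⟨fun hF => ?_, fun x hx y hy => ?_⟩
  · obtain ⟨b, hb⟩ := hF.mul_inv_cancel (a := ⟨_, hcA _ (order_X_pow c).ge⟩)
      (fun h => pow_ne_zero c (X_ne_zero (R := k)) (congrArg Subtype.val h))
    have := congrArg (fun z : A => constantCoeff (z : PowerSeries k)) hb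
    simp [zero_pow hc0] at this
  · rw [IsLocalRing.mem_maximalIdeal, mem_nonunits_iff, isUnit_iff hA, not_not] at hy
    obtain ⟨m, hm⟩ : ∃ m : ℕ, order (x : PowerSeries k) = m :=
      ⟨_, (coe_toNat_order fun h => hx (Subtype.ext h)).symm⟩
    obtain ⟨y', hy'⟩ := TFCurv38.exists_eq_X_pow_mul (n := 1) (f := (y : PowerSeries k))
      (TFCurv38.nat_le_order_iff.2 fun i hi => by
        obtain rfl : i = 0 := by omega
        rwa [coeff_zero_eq_constantCoeff_apply])
    obtain ⟨x', hx'⟩ := TFCurv38.exists_eq_X_pow_mul hm.ge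
    have hu : IsUnit x' := by
      rw [isUnit_iff_constantCoeff, ← coeff_zero_eq_constantCoeff_apply, isUnit_iff_ne_zero]
      have := TFCurv38.coeff_ne_zero_of_order_eq hm
      rwa [hx', coeff_X_pow_mul', if_pos le_rfl, Nat.sub_self] at this
    let b : PowerSeries k := (X : PowerSeries k) ^ c * y' ^ (m + c) * ↑hu.unit⁻¹
    have hb : b ∈ A := hcA b (by simp only [b, mul_assoc]; exact TFCurv38.le_order_of_X_pow_mul _)
    refine ⟨m + c, Ideal.mem_span_singleton'.2 ⟨⟨b, hb⟩, Subtype.ext ?_⟩⟩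
    show b * (x : PowerSeries k) = ((y ^ (m + c) : A) : PowerSeries k)
    rw [SubmonoidClass.coe_pow, hy', hx', pow_one, mul_pow, pow_add]
    linear_combination ((X : PowerSeries k) ^ c * y' ^ (m + c) * (X : PowerSeries k) ^ m) * hu.val_inv_mul

end Ring

theorem colength_eq [IsLocalRing A] (hres : Function.Surjective (algebraMap k (IsLocalRing.ResidueField A)))
    (N : Submodule A (PowerSeries k)) (hN : ordGe A c ≤ N) (G : Set ℕ)
    (hG : ∀ n : ℕ, n ∈ G ↔ ∃ f ∈ N, order f = n) : len N ⊤ = (Gᶜ.ncard : ℕ∞) := by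
  have := finite_quot hN
  have h1 : len N ⊤ = Module.length A (PowerSeries k ⧸ N) := by
    refine (Submodule.Quotient.equiv _ _ Submodule.topEquiv ?_).length_eq
    exact Submodule.map_comap_eq_of_surjective Submodule.topEquiv.surjective N
  rw [h1, TFCurv38.length_eq_finrank_of_residue (k := k) hres,
    ← TFCurv38.finrank_quotient_eq (N.restrictScalars k) (c := c) (fun f hf => hN (mem_ordGe.2 hf)) G hG,
    (Submodule.Quotient.restrictScalarsEquiv k N).finrank_eq]

set_option maxHeartbeats 1000000 in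
theorem orders_dual (hA : Module.Finite A (PowerSeries k))
    (hcA : ∀ f : PowerSeries k, (c : ℕ∞) ≤ order f → f ∈ A) (hc0 : c ≠ 0)
    (hc1 : ¬ ∃ f ∈ A, order f = ((c - 1 : ℕ) : ℕ∞)) (ω : Submodule A (PowerSeries k))
    (hω1 : (1 : PowerSeries k) ∈ ω) (hωinj : HasInjectiveDimensionLT (ModuleCat.of A ω) 2)
    (M : Submodule A (PowerSeries k)) (hM1 : (1 : PowerSeries k) ∈ M) (n : ℕ) :
    (∃ u : PowerSeries k, order u = n ∧ ∀ m ∈ M, u * m ∈ ω) ↔
      (c ≤ n ∨ ¬ ∃ m ∈ M, order m = ((c - 1 - n : ℕ) : ℕ∞)) := by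
  classical
  have hloc := isLocalRing hA
  have hnoe := isNoetherianRing hA hcA
  have hser := isNoetherian_series hA hcA
  have hdim : ringKrullDim A = 1 := ringKrullDim_eq_one hA hcA hc0
  have hres := residue_surjective hA
  -- the fraction field
  let K := FractionRing (PowerSeries k)
  have : FaithfulSMul A K := (faithfulSMul_iff_algebraMap_injective A K).2 (by
    rw [IsScalarTower.algebraMap_eq A (PowerSeries k) K]
    exact (IsFractionRing.injective (PowerSeries k) K).comp Subtype.val_injective)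
  have : IsFractionRing A K := by
    refine IsFractionRing.of_field A K fun z => ?_
    obtain ⟨f, g, hg, rfl⟩ := IsFractionRing.div_surjective (A := PowerSeries k) z
    refine ⟨⟨_, hcA _ (TFCurv38.le_order_of_X_pow_mul (n := c) f)⟩,
      ⟨_, hcA _ (TFCurv38.le_order_of_X_pow_mul (n := c) g)⟩, ?_⟩
    rw [IsScalarTower.algebraMap_apply A (PowerSeries k) K, IsScalarTower.algebraMap_apply A (PowerSeries k) K]
    show _ = algebraMap _ K ((X : PowerSeries k) ^ c * f) / algebraMap _ K ((X : PowerSeries k) ^ c * g)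
    rw [map_mul, map_mul, mul_div_mul_left]
    exact fun h => pow_ne_zero c X_ne_zero (IsFractionRing.injective (PowerSeries k) K (h.trans (map_zero _).symm))
  let j : PowerSeries k →ₗ[A] K := (Algebra.linearMap (PowerSeries k) K).restrictScalars A
  have hj : Function.Injective j := IsFractionRing.injective (PowerSeries k) K
  have hjmul : ∀ f g, j (f * g) = j f * j g := fun f g => map_mul (algebraMap (PowerSeries k) K) f g
  let W := ω.map j
  have hWinj : HasInjectiveDimensionLT (ModuleCat.of A W) 2 :=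
    let e : ↥ω ≃ₗ[A] ↥W := Submodule.equivMapOfInjective j hj ω
    hasInjectiveDimensionLT_of_iso (X := ModuleCat.of A ↥ω) (X' := ModuleCat.of A ↥W)
      { hom := ModuleCat.ofHom (e : ↥ω →ₗ[A] ↥W)
        inv := ModuleCat.ofHom (e.symm : ↥W →ₗ[A] ↥ω)
        hom_inv_id := ModuleCat.hom_ext (LinearMap.ext fun x => e.symm_apply_apply x)
        inv_hom_id := ModuleCat.hom_ext (LinearMap.ext fun x => e.apply_symm_apply x) } 2
  have hW0 : W ≠ ⊥ := fun h => by
    have := Submodule.mem_map_of_mem (f := j) hω1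
    rw [show ω.map j = ⊥ from h, Submodule.mem_bot] at this
    exact one_ne_zero (hj (this.trans (map_zero j).symm))
  have hWfg : W.FG := (IsNoetherian.noetherian ω).map j
  have hdiv : ∀ N : Submodule A (PowerSeries k), (1 : PowerSeries k) ∈ N → W / N.map j = (ω / N).map j := by
    intro N hN
    ext x
    constructor
    · intro hx
      obtain ⟨u, hu, hux⟩ := hx (j 1) (Submodule.mem_map_of_mem hN)
      rw [show j 1 = 1 from map_one (algebraMap (PowerSeries k) K), mul_one] at hux
      refine ⟨u, fun m hm => ?_, hux⟩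
      obtain ⟨v, hv, hvx⟩ := hx (j m) (Submodule.mem_map_of_mem hm)
      rw [← hux, ← hjmul] at hvx
      exact hj hvx ▸ hv
    · rintro ⟨u, hu, rfl⟩ _ ⟨m, hm, rfl⟩
      exact ⟨u * m, hu m hm, hjmul u m⟩
  have hordc1 : ∀ f : PowerSeries k, (∀ g, f * g ∈ ω) → (c : ℕ∞) ≤ order f := by
    intro f hf
    have hfA : ∀ g, f * g ∈ A := fun g => by
      have h1 : j (f * g) ∈ W / W := by
        rintro _ ⟨w, -, rfl⟩
        exact ⟨f * (g * w), hf _, by rw [hjmul, hjmul, hjmul, mul_assoc]⟩
      rw [CanDual.omega_div_self hdim hW0 hWfg hWinj] at h1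
      obtain ⟨a, ha⟩ := Submodule.mem_one.1 h1
      rw [IsScalarTower.algebraMap_apply A (PowerSeries k) K] at ha
      exact hj ha ▸ a.2
    rcases eq_or_ne f 0 with rfl | hf0
    · simp
    · obtain ⟨m, hm⟩ : ∃ m : ℕ, order f = m := ⟨_, (coe_toNat_order hf0).symm⟩
      rw [hm]
      by_contra hlt
      have hlt' : m < c := lt_of_not_ge fun h' => hlt (by exact_mod_cast h')
      refine hc1 ⟨_, hfA ((X : PowerSeries k) ^ (c - 1 - m)), ?_⟩
      rw [order_mul, order_X_pow, hm]
      norm_cast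
      omega
  have hTω : ω / ⊤ = ordGe A c := by
    ext f
    constructor
    · intro hf
      exact mem_ordGe.2 (hordc1 f fun g => hf g Submodule.mem_top)
    · intro hf g _
      exact ordGe_le hcA hω1 (mem_ordGe.2 ((mem_ordGe.1 hf).trans (by rw [order_mul]; exact le_self_add)))
  have hωgap : ¬ ∃ g ∈ ω, order g = ((c - 1 : ℕ) : ℕ∞) := by
    rintro ⟨g, hg, hgord⟩
    have hall : ∀ f : PowerSeries k, ((c - 1 : ℕ) : ℕ∞) ≤ order f → f ∈ ω := by
      intro f hf
      let r := coeff (c - 1) f / coeff (c - 1) g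
      have h1 : f - algebraMap k A r • g ∈ ω := ordGe_le hcA hω1 (mem_ordGe.2 (TFCurv38.nat_le_order_iff.2
        fun i hi => by
          rw [algebraMap_smul, map_sub, coeff_smul, smul_eq_mul]
          rcases Nat.lt_or_ge i (c - 1) with h | h
          · rw [TFCurv38.coeff_eq_zero_of_lt hf h, TFCurv38.coeff_eq_zero_of_lt hgord.ge h, mul_zero, sub_zero]
          · obtain rfl : i = c - 1 := by omega
            rw [div_mul_cancel₀ _ (TFCurv38.coeff_ne_zero_of_order_eq hgord), sub_self]))
      simpa using ω.add_mem h1 (ω.smul_mem (algebraMap k A r) hg)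
    have := hordc1 ((X : PowerSeries k) ^ (c - 1)) fun g => hall _ (TFCurv38.le_order_of_X_pow_mul g)
    rw [order_X_pow] at this
    have : c ≤ c - 1 := by exact_mod_cast this
    omega
  -- value sets
  let G : Set ℕ := {m | ∃ f ∈ M, order f = m}
  let S : Set ℕ := {m | ∃ f ∈ ω / M, order f = m}
  have hTM : ordGe A c ≤ M := ordGe_le hcA hM1
  have hTU : ordGe A c ≤ ω / M := fun f hf g _ =>
    ordGe_le hcA hω1 (mem_ordGe.2 ((mem_ordGe.1 hf).trans (by rw [order_mul]; exact le_self_add)))
  have hlenM : len M ⊤ = (Gᶜ.ncard : ℕ∞) := colength_eq hres M hTM G fun _ => Iff.rfl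
  have hlenU : len (ω / M) ⊤ = (Sᶜ.ncard : ℕ∞) := colength_eq hres _ hTU S fun _ => Iff.rfl
  have hlenT : len (ordGe A c) ⊤ = (c : ℕ∞) := by
    rw [colength_eq hres (ordGe A c) le_rfl (Set.Ici c) fun m => ?_]
    · rw [Set.compl_Ici, ← Finset.coe_range, Set.ncard_coe_finset, Finset.card_range]
    · constructor
      · intro hm
        exact ⟨_, mem_ordGe.2 ((Nat.cast_le.2 hm).trans (order_X_pow m).ge), order_X_pow m⟩
      · rintro ⟨f, hf, hfm⟩
        have := mem_ordGe.1 hf
        rw [hfm] at this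
        exact Nat.cast_le.1 this
  have hdual : len M ⊤ = len (ordGe A c) (ω / M) := by
    have hN0 : M.map j ≠ ⊥ := fun h => by
      have := Submodule.mem_map_of_mem (f := j) hM1
      rw [h, Submodule.mem_bot] at this
      exact one_ne_zero (hj (this.trans (map_zero j).symm))
    have h := CanDual.length_duality hdim hW0 hWfg hWinj hN0 (hA.fg_top.map j) (Submodule.map_mono le_top)
    rw [hdiv M hM1, hdiv ⊤ Submodule.mem_top, hTω] at h
    rw [← len_map j hj M ⊤, ← len_map j hj (ordGe A c) (ω / M)]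
    exact h
  have hsum : Gᶜ.ncard + Sᶜ.ncard = c := by
    have h := len_trans hTU (le_top : ω / M ≤ ⊤)
    rw [← hdual, hlenM, hlenU, hlenT] at h
    exact_mod_cast h.symm
  have hGc : ∀ m, c ≤ m → m ∈ G := fun m hm =>
    ⟨_, hTM (mem_ordGe.2 ((Nat.cast_le.2 hm).trans (order_X_pow m).ge)), order_X_pow m⟩
  have hSc : ∀ m, c ≤ m → m ∈ S := fun m hm =>
    ⟨_, hTU (mem_ordGe.2 ((Nat.cast_le.2 hm).trans (order_X_pow m).ge)), order_X_pow m⟩
  let D : Set ℕ := {m | c ≤ m ∨ c - 1 - m ∉ G}
  have hD : Dᶜ = (fun m => c - 1 - m) '' (G ∩ Set.Iio c) := by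
    ext m
    simp only [D, Set.mem_compl_iff, Set.mem_ofPred_eq, not_or, not_le, not_not, Set.mem_image, Set.mem_inter_iff,
      Set.mem_Iio]
    constructor
    · rintro ⟨hm, hG⟩
      exact ⟨c - 1 - m, ⟨hG, by omega⟩, by omega⟩
    · rintro ⟨a, ⟨haG, ha⟩, rfl⟩
      exact ⟨by omega, by rwa [show c - 1 - (c - 1 - a) = a by omega]⟩
  have hDcard : Dᶜ.ncard = Sᶜ.ncard := by
    rw [hD, Set.ncard_image_of_injOn, TFCurv38.count_inter]
    · have := TFCurv38.ncard_compl_inter (S := G) c
      rw [Set.inter_eq_left.2 (TFCurv38.compl_subset_Iio hGc)] at this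
      omega
    · intro a ha b hb hab
      simp only [Set.mem_inter_iff, Set.mem_Iio] at ha hb
      simp only at hab
      omega
  have hsub : Dᶜ ⊆ Sᶜ := by
    intro m hm hmS
    simp only [D, Set.mem_compl_iff, Set.mem_ofPred_eq, not_or, not_le, not_not] at hm
    obtain ⟨u, hu, hum⟩ := hmS
    obtain ⟨f, hf, hfm⟩ := hm.2
    refine hωgap ⟨u * f, hu f hf, ?_⟩
    rw [order_mul, hum, hfm]
    norm_cast
    omega
  have hSD : Dᶜ = Sᶜ := Set.eq_of_subset_of_ncard_le hsub hDcard.ge (TFCurv38.finite_compl hSc)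
  have key : n ∈ S ↔ n ∈ D := by rw [compl_inj_iff.1 hSD]
  exact ⟨fun ⟨u, hu, h⟩ => key.1 ⟨u, fun m hm => h m hm, hu⟩, fun h =>
    let ⟨u, h, hu⟩ := key.2 h; ⟨u, hu, fun m hm => h m hm⟩⟩

end Groth.Agent.Ega11.BranchValues
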