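import Groth.Agent.TFCurv38.Bidual
import Groth.Agent.Gor18.GlobalDim
import Mathlib

/-! Duality of lattices into a canonical ideal of a one-dimensional local domain. -/

set_option autoImplicit false
universe u

open CategoryTheory Submodule

namespace Groth.Agent.Ega11.CanDual

variable {O : Type u} [CommRing O] [IsDomain O] {K : Type u} [Field K] [Algebra O K] [IsFractionRing O K]

/-- every homomorphism between lattices of rank one is a multiplication -/
theorem exists_mul_of_hom {M W : Submodule O K} (φ : M →ₗ[O] W) : ∃ x : K, ∀ m : M, (φ m : K) = x * m := by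
  by_cases hM : M = ⊥
  · exact ⟨0, fun m => by
      have : m = 0 := Subtype.ext ((Submodule.mem_bot O).mp (hM ▸ m.2))
      rw [this, map_zero]; simp⟩
  obtain ⟨m0, hm0, hm00⟩ := Submodule.exists_mem_ne_zero_of_ne_bot hM
  refine ⟨(φ ⟨m0, hm0⟩ : K) / m0, fun w => ?_⟩
  obtain ⟨⟨a, s⟩, hs⟩ := IsLocalization.surj (nonZeroDivisors O) ((w : K) / m0)
  have hs0 : algebraMap O K s ≠ 0 := IsFractionRing.to_map_ne_zero_of_mem_nonZeroDivisors s.2
  have hw : (s : O) • w = a • (⟨m0, hm0⟩ : M) := Subtype.ext (by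
    show (s : O) • (w : K) = a • m0
    rw [Algebra.smul_def, Algebra.smul_def, ← hs]
    field_simp)
  have h := congrArg (fun z => ((φ z : W) : K)) hw
  simp only [map_smul, Submodule.coe_smul, Algebra.smul_def] at h
  rw [div_mul_eq_mul_div, eq_div_iff hm00]
  have hw' := congrArg Subtype.val hw
  simp only [Submodule.coe_smul, Algebra.smul_def] at hw'
  refine mul_left_cancel₀ hs0 ?_
  linear_combination m0 * h - ((φ ⟨m0, hm0⟩ : W) : K) * hw'

variable [IsNoetherianRing O]

omit [IsDomain O] [IsFractionRing O K] in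
theorem fg_of_le {M N : Submodule O K} (hN : N.FG) (h : M ≤ N) : M.FG :=
  have : Module.Finite O N := Module.Finite.of_fg hN
  Submodule.fg_of_fg_map_injective _ (Submodule.inclusion_injective h)
    (IsNoetherian.noetherian ((⊤ : Submodule O M).map (Submodule.inclusion h))) |> fun h1 =>
      (Submodule.fg_top M).mp h1

omit [IsDomain O] [IsFractionRing O K] in
theorem div_fg {M W : Submodule O K} (hM : M ≠ ⊥) (hW : W.FG) : (W / M).FG := by
  obtain ⟨m0, hm0, hm00⟩ := Submodule.exists_mem_ne_zero_of_ne_bot hM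
  refine fg_of_le (N := W.map (LinearMap.mulLeft O m0⁻¹)) (hW.map _) fun z hz => ?_
  exact ⟨z * m0, hz m0 hm0, by show m0⁻¹ * (z * m0) = z; field_simp⟩

omit [IsNoetherianRing O] in
theorem exists_smul_mem {M : Submodule O K} (hM : M.FG) :
    ∃ s : O, s ≠ 0 ∧ ∀ m ∈ M, algebraMap O K s * m ∈ (1 : Submodule O K) := by
  classical
  obtain ⟨t, ht⟩ := hM
  obtain ⟨⟨s, hs⟩, hst⟩ := IsLocalization.exist_integer_multiples_of_finset (nonZeroDivisors O) t
  refine ⟨s, nonZeroDivisors.ne_zero hs, fun m hm => ?_⟩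
  rw [← ht] at hm
  induction hm using Submodule.span_induction with
  | mem x hx =>
    obtain ⟨a, ha⟩ := hst x hx
    exact Submodule.mem_one.mpr ⟨a, by rw [ha, Algebra.smul_def]⟩
  | zero => simp
  | add x y _ _ hx hy => rw [mul_add]; exact add_mem hx hy
  | smul r x _ hx => rw [mul_smul_comm]; exact Submodule.smul_mem _ _ hx

omit [IsNoetherianRing O] in
theorem div_ne_bot {M W : Submodule O K} (hM : M.FG) (hW : W ≠ ⊥) : W / M ≠ ⊥ := by
  obtain ⟨w0, hw0, hw00⟩ := Submodule.exists_mem_ne_zero_of_ne_bot hW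
  obtain ⟨s, hs, hsM⟩ := exists_smul_mem hM
  intro h
  have h1 : algebraMap O K s * w0 ∈ W / M := fun m hm => by
    obtain ⟨a, ha⟩ := Submodule.mem_one.mp (hsM m hm)
    rw [show algebraMap O K s * w0 * m = algebraMap O K a * w0 by rw [ha]; ring, ← Algebra.smul_def]
    exact W.smul_mem _ hw0
  rw [h, Submodule.mem_bot] at h1
  exact mul_ne_zero (IsFractionRing.to_map_ne_zero_of_mem_nonZeroDivisors (mem_nonZeroDivisors_of_ne_zero hs)) hw00 h1

variable [IsLocalRing O] (hdim : ringKrullDim O = 1) {ω : Submodule O K} (hω0 : ω ≠ ⊥) (hωfg : ω.FG)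
  (hωinj : HasInjectiveDimensionLT (ModuleCat.of O ↥ω) 2)

include hdim hω0 hωfg hωinj in
theorem div_div {M : Submodule O K} (hM : M.FG) (hM0 : M ≠ ⊥) : ω / (ω / M) = M := by
  refine le_antisymm (fun z hz => ?_) fun m hm x hx => by rw [mul_comm]; exact hx m hm
  have : Module.Finite O M := Module.Finite.of_fg hM
  have : NoZeroSMulDivisors O M := ⟨fun {c x} h => by
    have h1 : algebraMap O K c * (x : K) = 0 := (Algebra.smul_def c (x : K)).symm.trans (congrArg Subtype.val h)
    exact (mul_eq_zero.mp h1).imp (fun h2 => IsFractionRing.injective O K (h2.trans (map_zero _).symm))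
      fun h2 => Subtype.ext h2⟩
  obtain ⟨m0, hm0, hm00⟩ := Submodule.exists_mem_ne_zero_of_ne_bot hM0
  choose x hx using fun φ : M →ₗ[O] ω => exists_mul_of_hom φ
  have hxmem : ∀ φ, x φ ∈ ω / M := fun φ m hm => by
    rw [← hx φ ⟨m, hm⟩]; exact (φ ⟨m, hm⟩).2
  have huniq : ∀ (φ : M →ₗ[O] ω) (y : K), (φ ⟨m0, hm0⟩ : K) = y * m0 → y = x φ := fun φ y hy =>
    mul_right_cancel₀ hm00 (hy.symm.trans (hx φ ⟨m0, hm0⟩))
  let Φ : (M →ₗ[O] ω) →ₗ[O] ω :=
    { toFun := fun φ => ⟨z * x φ, hz _ (hxmem φ)⟩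
      map_add' := fun φ ψ => Subtype.ext <| by
        show z * x (φ + ψ) = z * x φ + z * x ψ
        rw [← huniq (φ + ψ) (x φ + x ψ) ?_, mul_add]
        rw [LinearMap.add_apply, Submodule.coe_add, hx, hx, add_mul]
      map_smul' := fun r φ => Subtype.ext <| by
        show z * x (r • φ) = r • (z * x φ)
        rw [← huniq (r • φ) (r • x φ) ?_, mul_smul_comm]
        rw [LinearMap.smul_apply, Submodule.coe_smul, hx, smul_mul_assoc] }
  obtain ⟨m, hm⟩ := (TFCurv38.bijective_eval hdim hω0 hωfg hωinj M).2 Φ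
  obtain ⟨y, hy, hy0⟩ := Submodule.exists_mem_ne_zero_of_ne_bot (div_ne_bot hM hω0)
  let φ : M →ₗ[O] ω := (LinearMap.mulLeft O y ∘ₗ M.subtype).codRestrict ω fun m => hy m m.2
  have h := congrArg Subtype.val (LinearMap.congr_fun hm φ)
  have hxφ : y = x φ := huniq φ y rfl
  have h2 : y * (m : K) = z * y := by rw [show z * y = z * x φ from congrArg _ hxφ]; exact h
  rw [mul_comm z y] at h2
  exact (mul_left_cancel₀ hy0 h2) ▸ m.2

omit [IsDomain O] [IsFractionRing O K] [IsNoetherianRing O] [IsLocalRing O] in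
/-- the length of a quotient of lattices as a dimension of an interval -/
theorem coe_length_eq {M N : Submodule O K} (h : M ≤ N) :
    (Module.length O (↥N ⧸ M.comap N.subtype) : WithBot ℕ∞) = Order.krullDim (Set.Icc M N) := by
  rw [Module.coe_length]
  refine Order.krullDim_eq_of_orderIso
    ((Submodule.comapMkQRelIso (M.comap N.subtype)).trans
      { toFun := fun L => ⟨L.1.map N.subtype, by
          refine ⟨?_, Submodule.map_subtype_le N L.1⟩
          calc M = (M.comap N.subtype).map N.subtype := by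
                rw [Submodule.map_comap_subtype, inf_eq_right.mpr h]
            _ ≤ _ := Submodule.map_mono L.2⟩
        invFun := fun L => ⟨L.1.comap N.subtype, Submodule.comap_mono L.2.1⟩
        left_inv := fun L => Subtype.ext (Submodule.comap_map_eq_of_injective N.subtype_injective L.1)
        right_inv := fun L => Subtype.ext (by
          show (L.1.comap N.subtype).map N.subtype = L.1
          rw [Submodule.map_comap_subtype, inf_eq_right.mpr L.2.2])
        map_rel_iff' := fun {L L'} => by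
          show L.1.map N.subtype ≤ L'.1.map N.subtype ↔ L.1 ≤ L'.1
          exact Submodule.map_le_map_iff_of_injective N.subtype_injective _ _ })

omit [IsDomain O] [IsFractionRing O K] [IsNoetherianRing O] [IsLocalRing O] in
theorem div_mono {W M N : Submodule O K} (h : M ≤ N) : W / N ≤ W / M := fun _ hz m hm => hz m (h hm)

include hdim hω0 hωfg hωinj in
/-- duality preserves lengths -/
theorem length_duality {M N : Submodule O K} (hM0 : M ≠ ⊥) (hN : N.FG) (h : M ≤ N) :
    Module.length O (↥N ⧸ M.comap N.subtype) =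
      Module.length O (↥(ω / M) ⧸ (ω / N).comap (ω / M).subtype) := by
  refine WithBot.coe_injective ?_
  rw [coe_length_eq h, coe_length_eq (div_mono h)]
  have hM : M.FG := fg_of_le hN h
  have hN0 : N ≠ ⊥ := fun h0 => hM0 (eq_bot_iff.mpr (h0 ▸ h))
  have hgood : ∀ L : Submodule O K, M ≤ L → L ≤ N → L.FG ∧ L ≠ ⊥ := fun L h1 h2 =>
    ⟨fg_of_le hN h2, fun h0 => hM0 (eq_bot_iff.mpr (h0 ▸ h1))⟩
  rw [← Order.krullDim_orderDual (α := Set.Icc (ω / N) (ω / M))]
  refine Order.krullDim_eq_of_orderIso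
    { toFun := fun L => OrderDual.toDual ⟨ω / L.1, div_mono L.2.2, div_mono L.2.1⟩
      invFun := fun L => ⟨ω / (OrderDual.ofDual L).1, ?_, ?_⟩
      left_inv := fun L => Subtype.ext (div_div hdim hω0 hωfg hωinj (hgood _ L.2.1 L.2.2).1 (hgood _ L.2.1 L.2.2).2)
      right_inv := fun L => ?_
      map_rel_iff' := fun {L L'} => ?_ }
  · exact (div_div hdim hω0 hωfg hωinj hM hM0).ge.trans (div_mono (OrderDual.ofDual L).2.2)
  · exact (div_mono (OrderDual.ofDual L).2.1).trans (div_div hdim hω0 hωfg hωinj hN hN0).le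
  · obtain ⟨h1, h2⟩ := (OrderDual.ofDual L).2
    refine OrderDual.ofDual.injective (Subtype.ext (div_div hdim hω0 hωfg hωinj
      (fg_of_le (div_fg hM0 hωfg) h2) fun h0 => div_ne_bot hN hω0 (eq_bot_iff.mpr (h0 ▸ h1))))
  · show ω / L'.1 ≤ ω / L.1 ↔ L.1 ≤ L'.1
    refine ⟨fun hle => ?_, div_mono⟩
    rw [← div_div hdim hω0 hωfg hωinj (hgood _ L.2.1 L.2.2).1 (hgood _ L.2.1 L.2.2).2,
      ← div_div hdim hω0 hωfg hωinj (hgood _ L'.2.1 L'.2.2).1 (hgood _ L'.2.1 L'.2.2).2]
    exact div_mono hle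

include hdim hω0 hωfg hωinj in
theorem omega_div_self : ω / ω = (1 : Submodule O K) := by
  have h1 : ω / (1 : Submodule O K) = ω := le_antisymm
    (fun z hz => by simpa using hz 1 (Submodule.mem_one.mpr ⟨1, map_one _⟩))
    fun z hz x hx => by
      obtain ⟨a, rfl⟩ := Submodule.mem_one.mp hx
      rw [mul_comm, ← Algebra.smul_def]; exact ω.smul_mem _ hz
  have h2 := div_div hdim hω0 hωfg hωinj (M := (1 : Submodule O K))
    (by rw [Submodule.one_eq_span]; exact Submodule.fg_span_singleton _)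
    (by rw [Submodule.one_eq_span, Ne, Submodule.span_singleton_eq_bot]; exact one_ne_zero)
  rwa [h1] at h2

omit [IsLocalRing O] [IsNoetherianRing O] in
/-- a one-dimensional Gorenstein domain is its own canonical ideal -/
theorem injDim_one [LocCoh.IsGorensteinLocalRing O] (hdim : ringKrullDim O = 1) :
    HasInjectiveDimensionLT (ModuleCat.of O ↥(1 : Submodule O K)) 2 := by
  have h : HasInjectiveDimensionLT (ModuleCat.of O O) 2 := Gor18.injDimLE_of_dim_le (n := 1) hdim.le
  have e : O ≃ₗ[O] ↥(1 : Submodule O K) :=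
    (LinearEquiv.ofInjective (Algebra.linearMap O K) (IsFractionRing.injective O K)).trans
      (LinearEquiv.ofEq _ _ Submodule.one_eq_range.symm)
  exact hasInjectiveDimensionLT_of_iso e.toModuleIso 2

end Groth.Agent.Ega11.CanDual
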