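import Mathlib

/-! Codimension of inverse images under surjective morphisms. -/

set_option autoImplicit false
universe u

open AlgebraicGeometry CategoryTheory

namespace Groth.Agent.Ega11.Codim

theorem height_zero_map_quotient {B : Type u} [CommRing B] {I P : Ideal B} (hP : P ∈ I.minimalPrimes) :
    (P.map (Ideal.Quotient.mk I)).height = 0 := by
  have := hP.1.1
  have hp : (P.map (Ideal.Quotient.mk I)).IsPrime := Ideal.isPrime_map_quotientMk_of_isPrime hP.1.2
  rw [Ideal.height_eq_zero_iff]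
  refine ⟨⟨hp, bot_le⟩, fun Q ⟨hQ, _⟩ hQP => ?_⟩
  intro z hz
  obtain ⟨z, rfl⟩ := Ideal.Quotient.mk_surjective z
  have hle : Q.comap (Ideal.Quotient.mk I) ≤ P := fun y hy => (Ideal.mem_quotient_iff_mem hP.1.2).mp (hQP hy)
  have hI : I ≤ Q.comap (Ideal.Quotient.mk I) := fun y hy => by
    rw [Ideal.mem_comap, Ideal.Quotient.eq_zero_iff_mem.mpr hy]; exact Q.zero_mem
  exact hP.2 ⟨inferInstance, hI⟩ hle ((Ideal.mem_quotient_iff_mem hP.1.2).mp hz)

theorem ringKrullDim_stalk {X : Scheme.{u}} {U : X.Opens} (hU : IsAffineOpen U) (y : PrimeSpectrum Γ(X, U))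
    (hy : hU.fromSpec y ∈ U) :
    ringKrullDim (X.presheaf.stalk (hU.fromSpec y)) = y.asIdeal.height := by
  letI := TopCat.Presheaf.algebra_section_stalk X.presheaf ⟨hU.fromSpec y, hy⟩
  have := hU.isLocalization_stalk' y hy
  exact @IsLocalization.AtPrime.ringKrullDim_eq_height _ _ y.asIdeal _ _ _ _ this

variable {X Y : Scheme.{u}} (f : X ⟶ Y) [IsLocallyNoetherian X] [IsLocallyNoetherian Y]

theorem exists_point (x₀ : X) : ∃ x : X, f.base x = f.base x₀ ∧
    ringKrullDim (X.presheaf.stalk x) ≤ ringKrullDim (Y.presheaf.stalk (f.base x₀)) ∧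
    (Flat f → ∀ x : X, ringKrullDim (Y.presheaf.stalk (f.base x)) ≤ ringKrullDim (X.presheaf.stalk x)) := by
  obtain ⟨U, hU, hyU, -⟩ := Y.isBasis_affineOpens.exists_subset_of_mem_open (Set.mem_univ (f.base x₀)) isOpen_univ
  obtain ⟨U, rfl⟩ : ∃ U' : Y.Opens, (U' : Set Y) = U := by
    obtain ⟨U', -, rfl⟩ := hU; exact ⟨U', rfl⟩
  replace hU : IsAffineOpen U := by
    obtain ⟨U', hU', e⟩ := hU; exact SetLike.coe_injective e ▸ hU'
  obtain ⟨V, hV, hxV, hVU⟩ := X.isBasis_affineOpens.exists_subset_of_mem_open (show x₀ ∈ (f ⁻¹ᵁ U : Set X) from hyU) (f ⁻¹ᵁ U).isOpen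
  obtain ⟨V', hV', rfl⟩ := hV
  replace hV' : IsAffineOpen (V' : X.Opens) := hV'
  have e : V' ≤ f ⁻¹ᵁ U := hVU
  let φ := (f.appLE U V' e).hom
  letI := φ.toAlgebra
  have : IsNoetherianRing Γ(X, V') := IsLocallyNoetherian.component_noetherian ⟨V', hV'⟩
  have : IsNoetherianRing Γ(Y, U) := IsLocallyNoetherian.component_noetherian ⟨U, hU⟩
  let q₀ := hV'.primeIdealOf ⟨x₀, hxV⟩
  let p := hU.primeIdealOf ⟨f.base x₀, e hxV⟩
  have hc : PrimeSpectrum.comap φ q₀ = p := IsAffineOpen.comap_primeIdealOf_appLE U hU V' hV' e hxV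
  have hle : p.asIdeal.map φ ≤ q₀.asIdeal := Ideal.map_le_iff_le_comap.mpr (hc ▸ le_rfl)
  obtain ⟨P, hP, hPq⟩ := Ideal.exists_minimalPrimes_le hle
  have hPp := hP.1.1
  have hPc : P.comap φ = p.asIdeal :=
    le_antisymm (hc ▸ Ideal.comap_mono hPq) (Ideal.map_le_iff_le_comap.mp hP.1.2)
  let y : PrimeSpectrum Γ(X, V') := ⟨P, hPp⟩
  let x := hV'.fromSpec y
  have hxV' : x ∈ V' := by
    show x ∈ (V' : Set X)
    rw [← hV'.range_fromSpec]
    exact ⟨y, rfl⟩
  have hfx : f.base x = f.base x₀ := by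
    have h1 : f.base x = hU.fromSpec (Spec.map (f.appLE U V' e) y) := by
      show f.base (hV'.fromSpec y) = _
      exact congr($(hU.SpecMap_appLE_fromSpec f hV' e) y).symm
    rw [h1, show Spec.map (f.appLE U V' e) y = p from PrimeSpectrum.ext hPc]
    exact hU.fromSpec_primeIdealOf ⟨f.base x₀, e hxV⟩
  have hpy : hU.fromSpec p = f.base x₀ := hU.fromSpec_primeIdealOf ⟨f.base x₀, e hxV⟩
  have hpU : hU.fromSpec p ∈ U := by rw [hpy]; exact e hxV
  refine ⟨x, hfx, ?_, ?_⟩
  · rw [ringKrullDim_stalk hV' y hxV']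
    have h2 := ringKrullDim_stalk hU p hpU
    rw [hpy] at h2
    rw [h2]
    have : P.LiesOver p.asIdeal := ⟨hPc.symm⟩
    have := Ideal.height_le_height_add_of_liesOver p.asIdeal P
    rw [RingHom.algebraMap_toAlgebra, height_zero_map_quotient hP, add_zero] at this
    exact WithBot.coe_le_coe.mpr this
  · intro hflat x
    have hfl : (f.stalkMap x).hom.Flat := Flat.stalkMap f x
    algebraize [(f.stalkMap x).hom]
    have : IsLocalHom (algebraMap (Y.presheaf.stalk (f.base x)) (X.presheaf.stalk x)) :=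
      inferInstanceAs (IsLocalHom (f.stalkMap x).hom)
    have : (IsLocalRing.maximalIdeal (X.presheaf.stalk x)).LiesOver (IsLocalRing.maximalIdeal (Y.presheaf.stalk (f.base x))) :=
      ⟨(congrArg PrimeSpectrum.asIdeal (IsLocalRing.comap_closedPoint (algebraMap (Y.presheaf.stalk (f.base x)) (X.presheaf.stalk x)))).symm⟩
    rw [← IsLocalRing.maximalIdeal_height_eq_ringKrullDim, ← IsLocalRing.maximalIdeal_height_eq_ringKrullDim (R := X.presheaf.stalk x),
      Ideal.height_eq_height_add_of_liesOver_of_hasGoingDown (IsLocalRing.maximalIdeal (Y.presheaf.stalk (f.base x))) (IsLocalRing.maximalIdeal (X.presheaf.stalk x))]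
    exact WithBot.coe_le_coe.mpr le_self_add

end Groth.Agent.Ega11.Codim
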