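import Groth.Agent.EGA4H10.Catenary
import Mathlib

set_option autoImplicit false
universe u

open IsLocalRing Groth.Agent.EGA4H10

namespace Groth.Agent.Ega11.CodimSOP

variable {A : Type u} [CommRing A] [IsNoetherianRing A] [IsLocalRing A]

theorem height_quotient_succ_le {t : A} (ht : ∀ P ∈ minimalPrimes A, t ∉ P) (p : PrimeSpectrum A) (htp : t ∈ p.asIdeal) :
    (p.asIdeal.map (Ideal.Quotient.mk (Ideal.span {t}))).height + 1 ≤ p.asIdeal.height := by
  set I := Ideal.span {t}
  have hle : I ≤ p.asIdeal := (Ideal.span_singleton_le_iff_mem _).mpr htp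
  have hp : (p.asIdeal.map (Ideal.Quotient.mk I)).IsPrime := Ideal.isPrime_map_quotientMk_of_isPrime hle
  let pb : PrimeSpectrum (A ⧸ I) := ⟨_, hp⟩
  have hpb : PrimeSpectrum.comap (Ideal.Quotient.mk I) pb = p := PrimeSpectrum.ext (by
    show (p.asIdeal.map (Ideal.Quotient.mk I)).comap (Ideal.Quotient.mk I) = p.asIdeal
    rw [Ideal.comap_map_quotientMk, sup_eq_right.mpr hle])
  have : IsNoetherianRing (A ⧸ I) := inferInstance
  rw [show p.asIdeal.map (Ideal.Quotient.mk I) = pb.asIdeal from rfl, PrimeSpectrum.height_eq_orderHeight,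
    PrimeSpectrum.height_eq_orderHeight]
  obtain ⟨n, hn⟩ := ENat.ne_top_iff_exists.mp (show Order.height pb ≠ ⊤ by
    rw [← PrimeSpectrum.height_eq_orderHeight]; exact Ideal.height_ne_top hp.ne_top)
  obtain ⟨l, hlast, hlen⟩ := Order.exists_series_of_le_height pb hn.le
  have hmono : StrictMono (PrimeSpectrum.comap (Ideal.Quotient.mk I)) :=
    Monotone.strictMono_of_injective (fun _ _ h => Ideal.comap_mono h)
      (PrimeSpectrum.comap_injective_of_surjective _ Ideal.Quotient.mk_surjective)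
  let l' := l.map (PrimeSpectrum.comap (Ideal.Quotient.mk I)) hmono
  have hthead : t ∈ l'.head.asIdeal := by
    show Ideal.Quotient.mk I t ∈ l.head.asIdeal
    rw [Ideal.Quotient.eq_zero_iff_mem.mpr (Ideal.mem_span_singleton_self t)]
    exact l.head.asIdeal.zero_mem
  obtain ⟨P, hP, hPh⟩ := Ideal.exists_minimalPrimes_le (I := (⊥ : Ideal A)) (J := l'.head.asIdeal) bot_le
  have hlt : (⟨P, hP.1.1⟩ : PrimeSpectrum A) < l'.head :=
    lt_of_le_of_ne hPh fun e => ht P hP (show t ∈ (⟨P, hP.1.1⟩ : PrimeSpectrum A).asIdeal from e ▸ hthead)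
  have h1 := Order.length_le_height (p := (l'.cons _ hlt : LTSeries (PrimeSpectrum A))) (x := p) (by
    rw [RelSeries.last_cons]
    show PrimeSpectrum.comap _ l.last ≤ p
    rw [hlast, hpb])
  rw [← hn]
  simpa [l', hlen] using h1

theorem exists_le (he : EGA4.IsEquidim A) (hc : CAlg.IsCatenary A) (t : A)
    (ht : ringKrullDim (A ⧸ Ideal.span {t}) + 1 = ringKrullDim A) (Z : Set (PrimeSpectrum A))
    (hZ : StableUnderSpecialization Z) (p : PrimeSpectrum A) (hp : p ∈ Z) :
    ∃ p' ∈ Z, t ∈ p'.asIdeal ∧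
      (p'.asIdeal.map (Ideal.Quotient.mk (Ideal.span {t}))).height ≤ p.asIdeal.height := by
  obtain ⟨d, hd⟩ : ∃ d : ℕ, ringKrullDim A = d := by
    obtain ⟨d, hd⟩ := ENat.ne_top_iff_exists.mp (Ideal.height_ne_top (I := maximalIdeal A) (maximalIdeal.isMaximal A).ne_top)
    exact ⟨d, by rw [← maximalIdeal_height_eq_ringKrullDim, ← hd]; rfl⟩
  have htu : t ∈ maximalIdeal A := by
    by_contra hu
    have : Subsingleton (A ⧸ Ideal.span {t}) := Ideal.Quotient.subsingleton_iff.mpr
      (Ideal.span_singleton_eq_top.mpr (by simpa using hu))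
    rw [ringKrullDim_eq_bot_of_subsingleton, hd, WithBot.bot_add] at ht
    exact WithBot.bot_ne_natCast d ht
  have hmin : ∀ P ∈ minimalPrimes A, t ∉ P := by
    intro P hP htP
    have h1 : ringKrullDim (A ⧸ P) ≤ ringKrullDim (A ⧸ Ideal.span {t}) :=
      ringKrullDim_le_of_surjective (Ideal.Quotient.factor ((Ideal.span_singleton_le_iff_mem P).mpr htP))
        (Ideal.Quotient.factor_surjective _)
    rw [he P hP] at h1
    have : Nontrivial (A ⧸ Ideal.span {t}) := Ideal.Quotient.nontrivial_iff.mpr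
      (fun h => (maximalIdeal.isMaximal A).ne_top (top_le_iff.mp (h ▸ (Ideal.span_singleton_le_iff_mem _).mpr htu)))
    obtain ⟨e, he'⟩ := WithBot.ne_bot_iff_exists.mp (ringKrullDim_ne_bot (R := A ⧸ Ideal.span {t}))
    rw [← he', hd] at h1 ht
    have h2 : (d : ℕ∞) ≤ e := WithBot.coe_le_coe.mp h1
    have h3 : e + 1 = (d : ℕ∞) := WithBot.coe_injective ht
    rw [← h3] at h2
    have hfin : e ≠ ⊤ := fun h => by rw [h] at h3; simp at h3
    exact absurd h2 (not_le.mpr ((ENat.lt_add_one_iff hfin).mpr le_rfl))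
  by_cases htp : t ∈ p.asIdeal
  · exact ⟨p, hp, htp, le_trans le_self_add (height_quotient_succ_le hmin p htp)⟩
  obtain ⟨P, hP, -⟩ := Ideal.exists_minimalPrimes_le (I := p.asIdeal ⊔ Ideal.span {t}) (J := maximalIdeal A)
    (sup_le (le_maximalIdeal p.2.ne_top) ((Ideal.span_singleton_le_iff_mem _).mpr htu))
  let p' : PrimeSpectrum A := ⟨P, hP.1.1⟩
  have hpp : p ≤ p' := show p.asIdeal ≤ P from le_trans le_sup_left hP.1.2
  have htP : t ∈ P := hP.1.2 (Submodule.mem_sup_right (Ideal.mem_span_singleton_self t))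
  have : P.IsPrime := hP.1.1
  have hlt : p < p' := lt_of_le_of_ne hpp fun e => htp (by rw [e]; exact htP)
  have hcov : p ⋖ p' := by
    refine ⟨hlt, fun r hpr hrp => ?_⟩
    have h1 := Ideal.map_height_le_one_of_mem_minimalPrimes hP
    have hr : (r.asIdeal.map (Ideal.Quotient.mk p.asIdeal)).IsPrime := Ideal.isPrime_map_quotientMk_of_isPrime hpr.le
    have hp' : (P.map (Ideal.Quotient.mk p.asIdeal)).IsPrime := Ideal.isPrime_map_quotientMk_of_isPrime hpp
    have hlt' : r.asIdeal.map (Ideal.Quotient.mk p.asIdeal) < P.map (Ideal.Quotient.mk p.asIdeal) := by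
      refine lt_of_le_of_ne (Ideal.map_mono hrp.le) fun e => hrp.ne (PrimeSpectrum.ext ?_)
      have := congrArg (Ideal.comap (Ideal.Quotient.mk p.asIdeal)) e
      rwa [Ideal.comap_map_quotientMk, Ideal.comap_map_quotientMk, sup_eq_right.mpr (show p.asIdeal ≤ r.asIdeal from hpr.le),
        sup_eq_right.mpr (show p.asIdeal ≤ P from hpp)] at this
    have h2 := Ideal.height_strict_mono_of_isPrime hlt'
    have h3 : (r.asIdeal.map (Ideal.Quotient.mk p.asIdeal)).height < 1 := lt_of_lt_of_le h2 h1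
    rw [ENat.lt_one_iff_eq_zero, Ideal.height_eq_zero_iff] at h3
    have h4 : r.asIdeal ≤ p.asIdeal := by
      intro x hx
      have := h3.2 ⟨Ideal.isPrime_bot, le_rfl⟩ bot_le (Ideal.mem_map_of_mem _ hx)
      rwa [Ideal.mem_bot, Ideal.Quotient.eq_zero_iff_mem] at this
    exact absurd h4 (not_le_of_gt hpr)
  refine ⟨p', hZ ((PrimeSpectrum.le_iff_specializes p p').mp hpp) hp, htP, ?_⟩
  have h1 := height_quotient_succ_le hmin p' htP
  rw [coverSucc_of_catenary_equidim hc he p p' hcov] at h1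
  exact (ENat.add_le_add_iff_right (k := 1) (by simp)).mp h1

end Groth.Agent.Ega11.CodimSOP
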