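import Groth.Agent.H98Strict.Admissible
import Groth.Agent.RegImm10.BlowModel
import Groth.Agent.FBlow13.Exist
import Groth.Agent.Div89.BlowUp
import Mathlib

/-! Compactifications with Cartier boundary, given Nagata compactification. -/

set_option autoImplicit false
set_option backward.isDefEq.respectTransparency.types false
universe u

open CategoryTheory CategoryTheory.Limits AlgebraicGeometry TopologicalSpace

namespace Groth.Agent.Ega11.Compactify

/-- An open immersion can be given Cartier boundary by blowing up the boundary. -/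
theorem exists_cartier_boundary {X P : Scheme.{u}} (j : X ⟶ P) [IsOpenImmersion j] [QuasiCompact j]
    [CompactSpace P] [QuasiSeparatedSpace P] :
    ∃ (P' : Scheme.{u}) (b : P' ⟶ P) (j' : X ⟶ P') (E : P'.IdealSheafData),
      IsProper b ∧ IsOpenImmersion j' ∧ j' ≫ b = j ∧ BlowUp.IsEffCartierIdeal E ∧
      (E.support : Set P') = (Set.range j'.base)ᶜ := by
  have hU : IsCompact (j.opensRange : Set P) := by
    have : CompactSpace X := QuasiCompact.compactSpace_of_compactSpace j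
    rw [Scheme.Hom.coe_opensRange]
    exact isCompact_range j.continuous
  obtain ⟨I, hI, hIs⟩ := H98Strict.exists_ideal_support j.opensRange hU
  obtain ⟨P', b, hb⟩ := FBlow13.exists_isBlowUp_scheme P I
  have hc : I.support.compl = j.opensRange := by
    ext x
    show x ∉ (I.support : Set P) ↔ _
    rw [hIs]
    simp
  have hiso := Div89.isIso_off_center hb
  rw [hc] at hiso
  let W : P'.Opens := b ⁻¹ᵁ j.opensRange
  let j' : X ⟶ P' := j.isoOpensRange.hom ≫ inv (b ∣_ j.opensRange) ≫ W.ι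
  have hj' : j' ≫ b = j := by
    simp only [j', W, Category.assoc]
    rw [← morphismRestrict_ι, IsIso.inv_hom_id_assoc, Scheme.Hom.isoOpensRange_hom_ι]
  refine ⟨P', b, j', I.comap b, RegImm10.BlowModel.isProper_of_isBlowUp hI hb, inferInstance, hj', hb.1, ?_⟩
  have hr : Set.range j'.base = (W : Set P') := by
    have h1 : j'.opensRange = W := by
      simp only [j']
      rw [Scheme.Hom.opensRange_comp_of_isIso, Scheme.Hom.opensRange_comp_of_isIso, Scheme.Opens.opensRange_ι]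
    rw [← h1]; rfl
  rw [hr, Scheme.IdealSheafData.support_comap, Closeds.coe_preimage, hIs]
  rfl

/-- Morphisms extend to compactifications with Cartier boundary, given Nagata compactification. -/
theorem exists_extension
    (nagata : ∀ {X S : Scheme.{u}} (f : X ⟶ S) [CompactSpace S] [QuasiSeparatedSpace S] [IsSeparated f]
      [QuasiCompact f] [LocallyOfFiniteType f],
      ∃ (Xc : Scheme.{u}) (j : X ⟶ Xc) (g : Xc ⟶ S), IsOpenImmersion j ∧ QuasiCompact j ∧ IsProper g ∧ j ≫ g = f)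
    {S X X' : Scheme.{u}} [CompactSpace S] [QuasiSeparatedSpace S] (f : X ⟶ S) [IsSeparated f] [QuasiCompact f]
    [LocallyOfFiniteType f] (f' : X' ⟶ S) [IsSeparated f'] [QuasiCompact f'] [LocallyOfFiniteType f']
    (φ : X' ⟶ X) (hφ : φ ≫ f = f') :
    ∃ (Xb Xb' : Scheme.{u}) (j : X ⟶ Xb) (j' : X' ⟶ Xb') (g : Xb ⟶ S)
      (g' : Xb' ⟶ S) (ψ : Xb' ⟶ Xb) (E : Xb.IdealSheafData) (E' : Xb'.IdealSheafData),
      IsOpenImmersion j ∧ IsOpenImmersion j' ∧ IsProper g ∧ IsProper g' ∧ j ≫ g = f ∧ j' ≫ g' = f' ∧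
      IsProper ψ ∧ ψ ≫ g = g' ∧ j' ≫ ψ = φ ≫ j ∧
      BlowUp.IsEffCartierIdeal E ∧ (E.support : Set Xb) = (Set.range j.base)ᶜ ∧
      BlowUp.IsEffCartierIdeal E' ∧ (E'.support : Set Xb') = (Set.range j'.base)ᶜ := by
  obtain ⟨P, j₀, g₀, hj₀, hqc, hg₀, hfac⟩ := nagata f
  have : CompactSpace P := QuasiCompact.compactSpace_of_compactSpace g₀
  have : QuasiSeparatedSpace P := quasiSeparatedSpace_of_quasiSeparated g₀
  obtain ⟨Xb, b, j, E, hb, hj, hjb, hE, hEs⟩ := exists_cartier_boundary j₀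
  have hgf : j ≫ b ≫ g₀ = f := by rw [← Category.assoc, hjb, hfac]
  have hgf' : (φ ≫ j) ≫ b ≫ g₀ = f' := by rw [Category.assoc, hgf, hφ]
  have : CompactSpace Xb := QuasiCompact.compactSpace_of_compactSpace b
  have : QuasiSeparatedSpace Xb := quasiSeparatedSpace_of_quasiSeparated b
  have : IsSeparated ((φ ≫ j) ≫ b ≫ g₀) := by rw [hgf']; infer_instance
  have : IsSeparated (φ ≫ j) := IsSeparated.of_comp _ (b ≫ g₀)
  have : LocallyOfFiniteType ((φ ≫ j) ≫ b ≫ g₀) := by rw [hgf']; infer_instance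
  have : LocallyOfFiniteType (φ ≫ j) := locallyOfFiniteType_of_comp _ (b ≫ g₀)
  have : QuasiCompact ((φ ≫ j) ≫ b ≫ g₀) := by rw [hgf']; infer_instance
  have : QuasiCompact (φ ≫ j) := QuasiCompact.of_comp _ (b ≫ g₀)
  obtain ⟨P', j₁, g₁, hj₁, hqc₁, hg₁, hfac₁⟩ := nagata (φ ≫ j)
  have : CompactSpace P' := QuasiCompact.compactSpace_of_compactSpace g₁
  have : QuasiSeparatedSpace P' := quasiSeparatedSpace_of_quasiSeparated g₁
  obtain ⟨Xb', b', j', E', hb', hj', hjb', hE', hEs'⟩ := exists_cartier_boundary j₁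
  refine ⟨Xb, Xb', j, j', b ≫ g₀, (b' ≫ g₁) ≫ b ≫ g₀, b' ≫ g₁, E, E', hj, hj', inferInstance, inferInstance,
    hgf, ?_, inferInstance, rfl, ?_, hE, hEs, hE', hEs'⟩
  · rw [show j' ≫ (b' ≫ g₁) ≫ b ≫ g₀ = (j' ≫ b') ≫ g₁ ≫ b ≫ g₀ by simp, hjb', ← Category.assoc, hfac₁, hgf']
  · rw [← Category.assoc, hjb', hfac₁]

end Groth.Agent.Ega11.Compactify
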