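import Groth.Agent.Ega11.CanDual
import Groth.Agent.Ega11.LatticeLen
import Groth.Agent.TFCurv38.ExtOne
import Groth.Agent.TFCurv38.DualExt
import Mathlib

/-! Conductor of a one-dimensional local domain and canonical ideals. -/

set_option autoImplicit false
universe u

open CategoryTheory Abelian Submodule

namespace Groth.Agent.Ega11.Conductor

open CanDual LatticeLen

variable {O : Type u} [CommRing O] {K : Type u} [Field K] [Algebra O K]

/-- the conductor, as a submodule of the fraction field, is `1 / Õ` -/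
theorem cond_eq (S : Subalgebra O K) :
    ((1 : Submodule O K).colon (Subalgebra.toSubmodule S : Set K)) • (1 : Submodule O K) =
      (1 : Submodule O K) / Subalgebra.toSubmodule S := by
  refine le_antisymm (Submodule.smul_le.mpr fun a ha x hx => ?_) fun x hx => ?_
  · intro y hy
    obtain ⟨b, rfl⟩ := Submodule.mem_one.mp hx
    have h1 : a • y ∈ (1 : Submodule O K) := Submodule.mem_colon.mp ha y hy
    rw [show (a • algebraMap O K b) * y = b • (a • y) by simp only [Algebra.smul_def]; ring]
    exact Submodule.smul_mem _ _ h1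
  · have h1 := hx 1 (one_mem S)
    rw [mul_one] at h1
    obtain ⟨a, rfl⟩ := Submodule.mem_one.mp h1
    have ha : a ∈ (1 : Submodule O K).colon (Subalgebra.toSubmodule S : Set K) :=
      Submodule.mem_colon.mpr fun y hy => by rw [Algebra.smul_def]; exact hx y hy
    rw [show algebraMap O K a = a • (1 : K) by rw [Algebra.smul_def, mul_one]]
    exact Submodule.smul_mem_smul ha (Submodule.mem_one.mpr ⟨1, map_one _⟩)

theorem smul_top_eq (S : Subalgebra O K) :
    ((1 : Submodule O K).colon (Subalgebra.toSubmodule S : Set K)) • (⊤ : Submodule O ↥S) =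
      ((1 : Submodule O K) / Subalgebra.toSubmodule S).comap (Subalgebra.toSubmodule S).subtype := by
  refine le_antisymm (Submodule.smul_le.mpr fun a ha x _ => ?_) fun x hx => ?_
  · intro y hy
    show (a • (x : K)) * y ∈ (1 : Submodule O K)
    rw [smul_mul_assoc]
    exact Submodule.mem_colon.mp ha _ (S.mul_mem x.2 hy)
  · have hx' : (x : K) ∈ (1 : Submodule O K) / Subalgebra.toSubmodule S := hx
    have h1 : (x : K) ∈ (1 : Submodule O K) := by simpa using hx' 1 (one_mem S)
    obtain ⟨a, ha⟩ := Submodule.mem_one.mp h1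
    have hmem : a ∈ (1 : Submodule O K).colon (Subalgebra.toSubmodule S : Set K) :=
      Submodule.mem_colon.mpr fun y hy => by rw [Algebra.smul_def, ha]; exact hx' y hy
    have hxa : x = a • (1 : ↥S) := Subtype.ext (by
      show (x : K) = a • (1 : K)
      rw [Algebra.smul_def, mul_one, ha])
    rw [hxa]
    exact Submodule.smul_mem_smul hmem trivial

theorem one_le_integralClosure : (1 : Submodule O K) ≤ Subalgebra.toSubmodule (integralClosure O K) := by
  intro x hx
  obtain ⟨a, rfl⟩ := Submodule.mem_one.mp hx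
  exact (integralClosure O K).algebraMap_mem a

variable [IsDomain O] [IsNoetherianRing O] [IsLocalRing O] [IsFractionRing O K] (hdim : ringKrullDim O = 1)
  {ω : Submodule O K} (hω0 : ω ≠ ⊥) (hωfg : ω.FG) (hωinj : HasInjectiveDimensionLT (ModuleCat.of O ↥ω) 2)

include hdim hω0 hωfg hωinj in
/-- a canonical ideal between `1` and a ring `S` takes `S` into the conductor -/
theorem omega_div_ring (S : Subalgebra O K) (h1 : (1 : Submodule O K) ≤ ω) (h2 : ω ≤ Subalgebra.toSubmodule S) :
    ω / Subalgebra.toSubmodule S = (1 : Submodule O K) / Subalgebra.toSubmodule S := by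
  refine le_antisymm (fun x hx y hy => ?_) fun x hx y hy => h1 (hx y hy)
  rw [← omega_div_self hdim hω0 hωfg hωinj]
  intro w hw
  rw [mul_assoc]
  exact hx _ (S.mul_mem hy (h2 hw))

include hdim hω0 hωfg hωinj in
theorem omega_div_one : ω / (1 : Submodule O K) = ω := by
  refine le_antisymm (fun z hz => by simpa using hz 1 (Submodule.mem_one.mpr ⟨1, map_one _⟩)) fun z hz x hx => ?_
  obtain ⟨a, rfl⟩ := Submodule.mem_one.mp hx
  rw [mul_comm, ← Algebra.smul_def]; exact ω.smul_mem _ hz

theorem length_overmodule {O : Type u} [CommRing O] [IsDomain O] [IsNoetherianRing O] [IsLocalRing O]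
    (hdim : ringKrullDim O = 1) {K : Type u} [Field K] [Algebra O K] [IsFractionRing O K]
    (hfin : Module.Finite O ↥(integralClosure O K)) (ω : Submodule O K) (hω1 : (1 : Submodule O K) ≤ ω)
    (hω2 : ω ≤ Subalgebra.toSubmodule (integralClosure O K))
    (hωinj : HasInjectiveDimensionLT (ModuleCat.of O ↥ω) 2) :
    len (1 : Submodule O K) ω +
      len ((1 : Submodule O K) / Subalgebra.toSubmodule (integralClosure O K)) (Subalgebra.toSubmodule (integralClosure O K)) =
      2 * len (1 : Submodule O K) (Subalgebra.toSubmodule (integralClosure O K)) := by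
  let S := Subalgebra.toSubmodule (integralClosure O K)
  have hSfg : S.FG := Module.Finite.iff_fg.mp hfin
  have hωfg : ω.FG := fg_of_le hSfg hω2
  have h10 : (1 : Submodule O K) ≠ ⊥ := by
    rw [Submodule.one_eq_span, Ne, Submodule.span_singleton_eq_bot]; exact one_ne_zero
  have hω0 : ω ≠ ⊥ := fun h => h10 (eq_bot_iff.mpr (h ▸ hω1))
  have hC1 : (1 : Submodule O K) / S ≤ (1 : Submodule O K) := fun x hx => by simpa using hx 1 (one_mem (integralClosure O K))
  have h := length_duality hdim hω0 hωfg hωinj h10 hSfg one_le_integralClosure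
  rw [omega_div_one hdim hω0 hωfg hωinj, omega_div_ring hdim hω0 hωfg hωinj _ hω1 hω2] at h
  have ha : len (1 : Submodule O K) S = len ((1 : Submodule O K) / S) ω := h
  have hb := len_trans hC1 hω1
  have hc := len_trans hC1 (one_le_integralClosure (O := O) (K := K))
  rw [hc, two_mul]
  calc len (1 : Submodule O K) ω + (len ((1 : Submodule O K) / S) 1 + len (1 : Submodule O K) S)
      = (len ((1 : Submodule O K) / S) 1 + len (1 : Submodule O K) ω) + len (1 : Submodule O K) S := by ring
    _ = _ := by rw [← hb, ← ha]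

noncomputable def extCongrRight {R : Type u} [CommRing R] (X : ModuleCat.{u} R) {Y Y' : ModuleCat.{u} R} (e : Y ≅ Y') (n : ℕ) :
    Ext X Y n ≃+ Ext X Y' n where
  toFun x := x.comp (Ext.mk₀ e.hom) (add_zero n)
  invFun x := x.comp (Ext.mk₀ e.inv) (add_zero n)
  left_inv x := by simp
  right_inv x := by simp
  map_add' x y := Ext.add_comp _ _ _ _

set_option maxHeartbeats 800000 in
theorem ext_self_overring {O : Type u} [CommRing O] [IsDomain O] [LocCoh.IsGorensteinLocalRing O]
    (hdim : ringKrullDim O = 1) {K : Type u} [Field K] [Algebra O K] [IsFractionRing O K] (M : Subalgebra O K)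
    (hM : (Subalgebra.toSubmodule M).FG) :
    Nonempty (Ext (ModuleCat.of O ↥M) (ModuleCat.of O ↥M) 1 ≃+
      (↥((1 : Submodule O K) / Subalgebra.toSubmodule M) →ₗ[O]
        (O ⧸ Submodule.comap (Algebra.linearMap O K) ((1 : Submodule O K) / Subalgebra.toSubmodule M)))) := by
  let ω : Submodule O K := 1
  let Ms := Subalgebra.toSubmodule M
  let I : Submodule O K := ω / Ms
  let I' : Submodule O O := I.comap (Algebra.linearMap O K)
  have hω0 : ω ≠ ⊥ := by
    show (1 : Submodule O K) ≠ ⊥
    rw [Submodule.one_eq_span, Ne, Submodule.span_singleton_eq_bot]; exact one_ne_zero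
  have hωfg : ω.FG := by
    show (1 : Submodule O K).FG
    rw [Submodule.one_eq_span]; exact Submodule.fg_span_singleton _
  have hωinj := injDim_one (O := O) (K := K) hdim
  have hM0 : Ms ≠ ⊥ := fun h => one_ne_zero (α := K) ((Submodule.mem_bot O).mp (by rw [← h]; exact one_mem M))
  have hIfg : I.FG := div_fg hM0 hωfg
  have hI0 : I ≠ ⊥ := div_ne_bot hM hω0
  have hdd : ω / I = Ms := div_div hdim hω0 hωfg hωinj hM hM0
  have hI1 : I ≤ ω := fun x hx => by simpa using hx 1 (one_mem M)
  have hI'map : I'.map (Algebra.linearMap O K) = I := by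
    rw [Submodule.map_comap_eq, ← Submodule.one_eq_range]
    exact inf_eq_right.mpr hI1
  let eI : ↥I' ≃ₗ[O] ↥I :=
    (Submodule.equivMapOfInjective _ (IsFractionRing.injective O K) I').trans (LinearEquiv.ofEq _ _ hI'map)
  have : Module.Finite O I := Module.Finite.of_fg hIfg
  have : NoZeroSMulDivisors O I := ⟨fun {c x} h => by
    have h1 : algebraMap O K c * (x : K) = 0 := (Algebra.smul_def c (x : K)).symm.trans (congrArg Subtype.val h)
    exact (mul_eq_zero.mp h1).imp (fun h2 => IsFractionRing.injective O K (h2.trans (map_zero _).symm))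
      fun h2 => Subtype.ext h2⟩
  have : Module.Finite O ↥M := Module.Finite.of_fg (N := Ms) hM
  have : NoZeroSMulDivisors O ↥M := ⟨fun {c x} h => by
    have h1 : algebraMap O K c * (x : K) = 0 := (Algebra.smul_def c (x : K)).symm.trans (congrArg Subtype.val h)
    exact (mul_eq_zero.mp h1).imp (fun h2 => IsFractionRing.injective O K (h2.trans (map_zero _).symm))
      fun h2 => Subtype.ext h2⟩
  -- `M` is the dual of `I`
  let mulI : ↥M →ₗ[O] (↥I →ₗ[O] ↥ω) :=
    LinearMap.mk₂ O (fun (m : ↥M) (i : ↥I) => (⟨(i : K) * m, i.2 m m.2⟩ : ↥ω))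
      (fun a b i => Subtype.ext (mul_add _ _ _)) (fun r a i => Subtype.ext (mul_smul_comm r _ _))
      (fun a i j => Subtype.ext (add_mul _ _ _)) (fun r a i => Subtype.ext (smul_mul_assoc r _ _))
  have hmulI : Function.Bijective mulI := by
    obtain ⟨i0, hi0, hi00⟩ := Submodule.exists_mem_ne_zero_of_ne_bot hI0
    refine ⟨fun a b hab => Subtype.ext (mul_left_cancel₀ hi00
      (congrArg Subtype.val (LinearMap.congr_fun hab ⟨i0, hi0⟩))), fun φ => ?_⟩
    obtain ⟨x, hx⟩ := exists_mul_of_hom φ
    have hxM : x ∈ Ms := by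
      rw [← hdd]
      intro i hi
      rw [← hx ⟨i, hi⟩]
      exact (φ ⟨i, hi⟩).2
    exact ⟨⟨x, hxM⟩, LinearMap.ext fun i => Subtype.ext (by rw [hx]; exact mul_comm _ _)⟩
  let eM : ↥M ≃ₗ[O] (↥I →ₗ[O] ↥ω) := LinearEquiv.ofBijective mulI hmulI
  let eB : ↥I ≃ₗ[O] ((↥I →ₗ[O] ↥ω) →ₗ[O] ↥ω) := LinearEquiv.ofBijective LinearMap.applyₗ
    (TFCurv38.bijective_eval hdim hω0 hωfg hωinj ↥I)
  -- presentation of `Ext(I, I)`
  obtain ⟨E⟩ := TFCurv38.ext_dual_symm hωfg hωinj 1 ↥I ↥M
  let eI' : ↥I ≃ₗ[O] (↥M →ₗ[O] ↥ω) := eB.trans (LinearEquiv.arrowCongr eM.symm (LinearEquiv.refl O ↥ω))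
  have hS := TFCurv38.sesShort_shortExact I'.subtype I'.mkQ Subtype.val_injective (Submodule.mkQ_surjective _)
    (by rw [Submodule.range_subtype, Submodule.ker_mkQ])
  let X : ModuleCat.{u} O := ModuleCat.of O ↥I
  have hvan : Subsingleton (Ext X (ModuleCat.of O O) 1) := by
    have h1 := TFCurv38.ext_omega_subsingleton (O := O) (ω := ω) hωinj ↥I 1 le_rfl
    let e : O ≃ₗ[O] ↥ω := (LinearEquiv.ofInjective (Algebra.linearMap O K) (IsFractionRing.injective O K)).trans
      (LinearEquiv.ofEq _ _ Submodule.one_eq_range.symm)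
    exact (extCongrRight X e.toModuleIso 1).toEquiv.subsingleton
  let S := TFCurv38.sesShort I'.subtype I'.mkQ (by rw [Submodule.range_subtype, Submodule.ker_mkQ])
  -- the connecting map
  let δ : Ext X S.X₃ 0 →+ Ext X S.X₁ 1 := hS.extClass.postcomp X (zero_add 1)
  have hδs : Function.Surjective δ := fun y =>
    Ext.covariant_sequence_exact₁ X hS y (hvan.elim _ _) rfl
  have hδi : Function.Injective δ := by
    rw [injective_iff_map_eq_zero]
    intro z hz
    obtain ⟨w, rfl⟩ := Ext.covariant_sequence_exact₃ X hS z (zero_add 1) hz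
    obtain ⟨φ, rfl⟩ := (Ext.mk₀_bijective _ _).2 w
    have hzero : φ ≫ S.g = 0 := ModuleCat.hom_ext (LinearMap.ext fun i => by
      show Submodule.Quotient.mk (φ.hom i) = 0
      rw [Submodule.Quotient.mk_eq_zero]
      let ψ : ↥I →ₗ[O] ↥ω := ((Algebra.linearMap O K) ∘ₗ φ.hom).codRestrict ω fun j => Submodule.mem_one.mpr ⟨_, rfl⟩
      obtain ⟨x, hx⟩ := exists_mul_of_hom ψ
      have hxM : x ∈ Ms := by
        rw [← hdd]
        intro j hj
        rw [← hx ⟨j, hj⟩]
        exact (ψ ⟨j, hj⟩).2
      show algebraMap O K (φ.hom i) ∈ I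
      rw [show algebraMap O K (φ.hom i) = x * (i : K) from hx i]
      intro m hm
      rw [show x * (i : K) * m = (i : K) * (x * m) by ring]
      exact i.2 (x * m) (M.mul_mem (show x ∈ M from hxM) hm))
    rw [Ext.mk₀_comp_mk₀, hzero, Ext.mk₀_zero]
  let eδ : (↥I →ₗ[O] (O ⧸ I')) ≃+ Ext X S.X₁ 1 :=
    (ModuleCat.homAddEquiv (M := X) (N := S.X₃)).symm.trans
      (Ext.addEquiv₀.symm.trans (AddEquiv.ofBijective δ ⟨hδi, hδs⟩))
  let φI : Ext X X 1 ≃+ Ext X S.X₁ 1 := extCongrRight X eI.symm.toModuleIso 1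
  let φ1 : Ext (ModuleCat.of O ↥M) (ModuleCat.of O ↥M) 1 ≃+ Ext (ModuleCat.of O ↥M) (ModuleCat.of O (↥I →ₗ[O] ↥ω)) 1 :=
    extCongrRight _ eM.toModuleIso 1
  let φ2 : Ext X (ModuleCat.of O (↥M →ₗ[O] ↥ω)) 1 ≃+ Ext X X 1 := extCongrRight X eI'.symm.toModuleIso 1
  exact ⟨φ1.trans (E.symm.trans (φ2.trans (φI.trans eδ.symm)))⟩

end Groth.Agent.Ega11.Conductor
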