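import Groth.Agent.S0335
import Groth.Agent.EGA4Alg4.Depth
import Mathlib

/-! Connectedness in codimension `d - 1` from depth two in codimension at least `d`. -/

set_option autoImplicit false
universe u

open IsLocalRing Topology

namespace Groth.Agent.Ega11.ConnCodim

variable {A : Type u} [CommRing A] [IsNoetherianRing A] (d : ℕ)

/-- Two primes have a common specialization of height less than `d`. -/
def Link (P Q : PrimeSpectrum A) : Prop :=
  ∃ r : PrimeSpectrum A, P ≤ r ∧ Q ≤ r ∧ r.asIdeal.height + 1 ≤ (d : ℕ∞)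

theorem reflTransGen [ConnectedSpace (PrimeSpectrum A)]
    (h : ∀ p : PrimeSpectrum A, (d : ℕ∞) ≤ p.asIdeal.height →
      (2 : ℕ∞) ≤ LocCoh.depth (Localization.AtPrime p.asIdeal) (Localization.AtPrime p.asIdeal))
    (P Q : PrimeSpectrum A) (hP : P.asIdeal ∈ minimalPrimes A) (hQ : Q.asIdeal ∈ minimalPrimes A) :
    Relation.ReflTransGen (fun a b => b.asIdeal ∈ minimalPrimes A ∧ Link d a b) P Q := by
  classical
  by_contra hne
  let G : PrimeSpectrum A → Prop :=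
    Relation.ReflTransGen (fun a b => b.asIdeal ∈ minimalPrimes A ∧ Link d a b) P
  have hfin : {R : PrimeSpectrum A | R.asIdeal ∈ minimalPrimes A}.Finite :=
    (minimalPrimes.finite_of_isNoetherianRing A).preimage fun a _ b _ hab => PrimeSpectrum.ext hab
  let T : Set (PrimeSpectrum A) := {R | R.asIdeal ∈ minimalPrimes A ∧ G R}
  let T' : Set (PrimeSpectrum A) := {R | R.asIdeal ∈ minimalPrimes A ∧ ¬ G R}
  let X₁ : Set (PrimeSpectrum A) := ⋃ R ∈ T, PrimeSpectrum.zeroLocus R.asIdeal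
  let X₂ : Set (PrimeSpectrum A) := ⋃ R ∈ T', PrimeSpectrum.zeroLocus R.asIdeal
  have h₁ : IsClosed X₁ := (hfin.subset fun _ h => h.1).isClosed_biUnion fun _ _ => PrimeSpectrum.isClosed_zeroLocus _
  have h₂ : IsClosed X₂ := (hfin.subset fun _ h => h.1).isClosed_biUnion fun _ _ => PrimeSpectrum.isClosed_zeroLocus _
  have hcover : Set.univ ⊆ X₁ ∪ X₂ := fun x _ => by
    obtain ⟨R, hR, hRx⟩ := Ideal.exists_minimalPrimes_le (I := (⊥ : Ideal A)) (J := x.asIdeal) bot_le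
    have hm : (⟨R, hR.1.1⟩ : PrimeSpectrum A).asIdeal ∈ minimalPrimes A := hR
    by_cases hG : G ⟨R, hR.1.1⟩
    · exact Or.inl (Set.mem_biUnion (show _ ∈ T from ⟨hm, hG⟩) hRx)
    · exact Or.inr (Set.mem_biUnion (show _ ∈ T' from ⟨hm, hG⟩) hRx)
  obtain ⟨x, -, hx₁, hx₂⟩ := isPreconnected_closed_iff.mp PreconnectedSpace.isPreconnected_univ X₁ X₂ h₁ h₂
    hcover
    ⟨P, trivial, Set.mem_biUnion (show P ∈ T from ⟨hP, .refl⟩) (fun _ h => h)⟩
    ⟨Q, trivial, Set.mem_biUnion (show Q ∈ T' from ⟨hQ, hne⟩) (fun _ h => h)⟩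
  obtain ⟨q, ⟨hq₁, hq₂⟩, hqmin⟩ : ∃ q, q ∈ X₁ ∩ X₂ ∧ ∀ y ∈ X₁ ∩ X₂, y ≤ q → y = q := by
    obtain ⟨J, hJ⟩ := (PrimeSpectrum.isClosed_iff_zeroLocus_ideal _).mp (h₁.inter h₂)
    obtain ⟨I, hI, -⟩ := Ideal.exists_minimalPrimes_le ((PrimeSpectrum.mem_zeroLocus x J).mp (hJ ▸ ⟨hx₁, hx₂⟩))
    exact ⟨⟨I, hI.1.1⟩, hJ ▸ hI.1.2, fun y hy hle => PrimeSpectrum.ext
      (le_antisymm hle (hI.2 ⟨y.2, (PrimeSpectrum.mem_zeroLocus y J).mp (hJ ▸ hy)⟩ hle))⟩
  simp only [X₁, X₂, Set.mem_iUnion₂] at hq₁ hq₂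
  obtain ⟨R₁, ⟨hR₁, hG₁⟩, hR₁q⟩ := hq₁
  obtain ⟨R₂, ⟨hR₂, hG₂⟩, hR₂q⟩ := hq₂
  have hd : (d : ℕ∞) ≤ q.asIdeal.height := by
    by_contra hlt
    exact hG₂ (hG₁.tail ⟨hR₂, q, hR₁q, hR₂q, Order.add_one_le_of_lt (not_le.mp hlt)⟩)
  let L := Localization.AtPrime q.asIdeal
  have : IsNoetherianRing L := IsLocalization.isNoetherianRing q.asIdeal.primeCompl L inferInstance
  have h2 := h q hd
  have hnot : ∀ R : PrimeSpectrum A, R.asIdeal ∈ minimalPrimes A → R ≠ q := by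
    intro R hR he
    rw [he] at hR
    have h0 : q.asIdeal.height = 0 := Ideal.height_eq_zero_iff.mpr hR
    have h3 := EGA4Alg4.depth_le_supportDim (A := L) (M := L)
    rw [Module.supportDim_self_eq_ringKrullDim, IsLocalization.AtPrime.ringKrullDim_eq_height q.asIdeal L, h0,
      WithBot.coe_le_coe] at h3
    exact absurd (h2.trans h3) (by simp)
  let cm := PrimeSpectrum.comap (algebraMap A L)
  have hcm : Continuous cm := PrimeSpectrum.continuous_comap _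
  have hlift : ∀ R : PrimeSpectrum A, R ≤ q → R ≠ q →
      ∃ z : PrimeSpectrum L, z.asIdeal ≠ maximalIdeal L ∧ cm z = R := by
    intro R hle hne
    obtain ⟨z, rfl⟩ : R ∈ Set.range cm := by
      rw [PrimeSpectrum.localization_comap_range L q.asIdeal.primeCompl]
      exact Set.disjoint_left.mpr fun a ha h => ha (hle h)
    refine ⟨z, fun hz => hne (PrimeSpectrum.ext ?_), rfl⟩
    show z.asIdeal.comap (algebraMap A L) = q.asIdeal
    rw [hz]
    exact Localization.AtPrime.comap_maximalIdeal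
  obtain ⟨-, hpre⟩ := Groth.Agent.S0335.result L h2
  obtain ⟨z₁, hz₁, e₁⟩ := hlift R₁ hR₁q (hnot R₁ hR₁)
  obtain ⟨z₂, hz₂, e₂⟩ := hlift R₂ hR₂q (hnot R₂ hR₂)
  obtain ⟨z, hz, hzX₁, hzX₂⟩ := isPreconnected_closed_iff.mp hpre (cm ⁻¹' X₁) (cm ⁻¹' X₂)
    (h₁.preimage hcm) (h₂.preimage hcm) (fun z _ => hcover (Set.mem_univ (cm z)))
    ⟨z₁, hz₁, by rw [Set.mem_preimage, e₁]; exact Set.mem_biUnion (show R₁ ∈ T from ⟨hR₁, hG₁⟩) (fun _ h => h)⟩
    ⟨z₂, hz₂, by rw [Set.mem_preimage, e₂]; exact Set.mem_biUnion (show R₂ ∈ T' from ⟨hR₂, hG₂⟩) (fun _ h => h)⟩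
  have hle : cm z ≤ q := fun a ha => by
    by_contra haq
    exact z.2.ne_top (z.asIdeal.eq_top_of_isUnit_mem ha (IsLocalization.map_units L (⟨a, haq⟩ : q.asIdeal.primeCompl)))
  refine hz (le_antisymm (le_maximalIdeal z.2.ne_top) ?_)
  rw [← Localization.AtPrime.map_eq_maximalIdeal, Ideal.map_le_iff_le_comap]
  exact (congrArg PrimeSpectrum.asIdeal (hqmin (cm z) ⟨hzX₁, hzX₂⟩ hle)).ge

end Groth.Agent.Ega11.ConnCodim
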