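import Groth.Prelude.Def_EGA4b
import Groth.Agent.CAlg1.SectionPowerSeries
import Mathlib

/-! Completion of a localization of `B ⊗_A Â`. -/

set_option autoImplicit false
universe u

open IsLocalRing TensorProduct

namespace Groth.Agent.Ega11.CplBaseChange

variable {A B : Type u} [CommRing A] [CommRing B] [IsNoetherianRing A] [IsLocalRing A] [IsLocalRing B] [Algebra A B]
  [IsLocalHom (algebraMap A B)]

theorem pow_maximal_map_le (k : ℕ) :
    (maximalIdeal A ^ k).map (algebraMap A B) ≤ maximalIdeal B ^ k := by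
  rw [Ideal.map_pow]
  exact Ideal.pow_right_mono (((IsLocalRing.local_hom_TFAE (algebraMap A B)).out 0 2).mp ‹_›) k

theorem sub_mem_pow (k : ℕ) (x : B ⊗[A] EGA4.Cpl A) :
    ∃ b : B, x - algebraMap B (B ⊗[A] EGA4.Cpl A) b ∈ ((maximalIdeal B).map (algebraMap B (B ⊗[A] EGA4.Cpl A))) ^ k := by
  induction x with
  | zero => exact ⟨0, by rw [map_zero, sub_zero]; exact zero_mem _⟩
  | add x y hx hy =>
    obtain ⟨b, hb⟩ := hx
    obtain ⟨c, hc⟩ := hy
    exact ⟨b + c, by rw [map_add, add_sub_add_comm]; exact add_mem hb hc⟩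
  | tmul b t =>
    obtain ⟨a, ha⟩ := Ideal.Quotient.mk_surjective (AdicCompletion.evalₐ (maximalIdeal A) k t)
    have hd : t - algebraMap A (EGA4.Cpl A) a ∈ (maximalIdeal A ^ k).map (algebraMap A (EGA4.Cpl A)) := by
      have h0 : AdicCompletion.evalₐ (maximalIdeal A) k (t - algebraMap A (EGA4.Cpl A) a) = 0 := by
        rw [map_sub, AlgHom.commutes, ← ha, Ideal.Quotient.algebraMap_eq, sub_self]
      have h1 : AdicCompletion.eval (maximalIdeal A) A k (t - algebraMap A (EGA4.Cpl A) a) = 0 := by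
        rw [← AdicCompletion.factor_evalₐ_eq_eval (maximalIdeal A) _ (by rw [smul_eq_mul, Ideal.mul_top]), h0, map_zero]
      rw [← LinearMap.mem_ker, ← AdicCompletion.pow_smul_top_eq_ker_eval (IsNoetherian.noetherian _),
        Ideal.smul_top_eq_map] at h1
      exact h1
    refine ⟨algebraMap A B a * b, ?_⟩
    have e : b ⊗ₜ[A] t - algebraMap B (B ⊗[A] EGA4.Cpl A) (algebraMap A B a * b) =
        (b ⊗ₜ[A] (1 : EGA4.Cpl A)) * (Algebra.TensorProduct.includeRight (R := A) (A := B)) (t - algebraMap A (EGA4.Cpl A) a) := by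
      rw [Algebra.TensorProduct.includeRight_apply, Algebra.TensorProduct.tmul_mul_tmul, mul_one, one_mul,
        tmul_sub, Algebra.TensorProduct.algebraMap_apply, Algebra.algebraMap_eq_smul_one (A := EGA4.Cpl A),
        ← smul_tmul, Algebra.smul_def]
      rfl
    rw [e]
    refine Ideal.mul_mem_left _ _ ?_
    have h1 := Ideal.mem_map_of_mem (Algebra.TensorProduct.includeRight (R := A) (A := B) (B := EGA4.Cpl A)).toRingHom hd
    rw [Ideal.map_map,
      show (Algebra.TensorProduct.includeRight (R := A) (A := B) (B := EGA4.Cpl A)).toRingHom.comp (algebraMap A (EGA4.Cpl A)) = algebraMap A _ from RingHom.ext fun a => (Algebra.TensorProduct.includeRight (R := A) (A := B) (B := EGA4.Cpl A)).commutes a,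
      IsScalarTower.algebraMap_eq A B (B ⊗[A] EGA4.Cpl A), ← Ideal.map_map] at h1
    rw [← Ideal.map_pow]
    exact Ideal.map_mono (pow_maximal_map_le k) h1

theorem mem_of_map_mem_pow (k : ℕ) (b : B)
    (h : algebraMap B (B ⊗[A] EGA4.Cpl A) b ∈ ((maximalIdeal B).map (algebraMap B (B ⊗[A] EGA4.Cpl A))) ^ k) :
    b ∈ maximalIdeal B ^ k := by
  have hle : maximalIdeal A ^ k ≤ (maximalIdeal B ^ k).comap (algebraMap A B) :=
    Ideal.map_le_iff_le_comap.mp (pow_maximal_map_le k)
  let g : EGA4.Cpl A →ₐ[A] B ⧸ maximalIdeal B ^ k :=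
    (Ideal.quotientMapₐ (maximalIdeal B ^ k) (Algebra.ofId A B) hle).comp (AdicCompletion.evalₐ (maximalIdeal A) k)
  let ψ : B ⊗[A] EGA4.Cpl A →ₐ[B] B ⧸ maximalIdeal B ^ k :=
    Algebra.TensorProduct.lift (Algebra.ofId B _) g fun _ _ => Commute.all _ _
  have h1 := Ideal.mem_map_of_mem ψ.toRingHom h
  rw [Ideal.map_pow, Ideal.map_map, show ψ.toRingHom.comp (algebraMap B (B ⊗[A] EGA4.Cpl A)) = algebraMap B _ from RingHom.ext fun a => ψ.commutes a, ← Ideal.map_pow, Ideal.Quotient.algebraMap_eq,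
    Ideal.map_quotient_self, Ideal.mem_bot] at h1
  have h2 : ψ (algebraMap B (B ⊗[A] EGA4.Cpl A) b) = 0 := h1
  rwa [AlgHom.commutes, Ideal.Quotient.algebraMap_eq, Ideal.Quotient.eq_zero_iff_mem] at h2

omit [IsNoetherianRing A] [IsLocalRing A] [Algebra A B] [IsLocalHom (algebraMap A B)] in
theorem cpl_iso_aux [IsNoetherianRing B] {T : Type u} [CommRing T] [Algebra B T] (n : Ideal T) [n.IsPrime]
    (h1 : n.comap (algebraMap B T) = maximalIdeal B)
    (hsub : ∀ k x, ∃ b : B, x - algebraMap B T b ∈ ((maximalIdeal B).map (algebraMap B T)) ^ k)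
    (hmem : ∀ k b, algebraMap B T b ∈ ((maximalIdeal B).map (algebraMap B T)) ^ k → b ∈ maximalIdeal B ^ k) :
    Nonempty (EGA4.Cpl B ≃+* EGA4.Cpl (Localization.AtPrime n)) := by
  let L := Localization.AtPrime n
  let J : Ideal T := (maximalIdeal B).map (algebraMap B T)
  have hJn : J ≤ n := Ideal.map_le_iff_le_comap.mpr h1.ge
  have hnJ : n = J := le_antisymm (fun x hx => by
    obtain ⟨b, hb⟩ := hsub 1 x
    have hb : x - algebraMap B T b ∈ J := by simpa only [Submodule.pow_one] using hb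
    have hbn : algebraMap B T b ∈ n := by
      have := sub_mem hx (hJn hb)
      rwa [sub_sub_cancel] at this
    have hbm : b ∈ maximalIdeal B := h1.le hbn
    rw [← sub_add_cancel x (algebraMap B T b)]
    exact add_mem hb (Ideal.mem_map_of_mem (algebraMap B T) hbm)) hJn
  have hmax : maximalIdeal L = (maximalIdeal B).map (algebraMap B L) := by
    rw [← Localization.AtPrime.map_eq_maximalIdeal, congrArg (fun K : Ideal T => K.map (algebraMap T L)) hnJ, Ideal.map_map, ← IsScalarTower.algebraMap_eq]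
  have hunit : ∀ (s : T), s ∉ n → ∀ k, ∃ c : Bˣ, s - algebraMap B T c ∈ J ^ k := fun s hs k => by
    obtain ⟨c, hc⟩ := hsub (k + 1) s
    have hcn : c ∉ maximalIdeal B := fun hcm => hs (by
      rw [← sub_add_cancel s (algebraMap B T c)]
      exact add_mem (hJn (Ideal.pow_le_self (Nat.succ_ne_zero k) hc)) (hJn (Ideal.mem_map_of_mem (algebraMap B T) hcm)))
    obtain ⟨u, hu⟩ := IsLocalRing.notMem_maximalIdeal.mp hcn
    exact ⟨u, by rw [hu]; exact Ideal.pow_le_pow_right (Nat.le_succ k) hc⟩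
  have hle : ∀ k, maximalIdeal B ^ k ≤ (maximalIdeal L ^ k).comap (Algebra.ofId B L) := fun k x hx => by
    show algebraMap B L x ∈ maximalIdeal L ^ k
    rw [hmax, ← Ideal.map_pow]
    exact Ideal.mem_map_of_mem _ hx
  have hLk : ∀ k, maximalIdeal L ^ k = (J ^ k).map (algebraMap T L) := fun k => by
    rw [Ideal.map_pow, show J.map (algebraMap T L) = maximalIdeal L from (congrArg (Ideal.map _) hnJ.symm).trans Localization.AtPrime.map_eq_maximalIdeal]
  refine (Groth.Agent.CAlg1.completion_equiv_of_bijective_quotients (maximalIdeal B) (maximalIdeal L)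
    (Algebra.ofId B L) hle fun k => ⟨(injective_iff_map_eq_zero _).mpr fun x hx => ?_, fun y => ?_⟩).map fun e => e.toRingEquiv
  · obtain ⟨b, rfl⟩ := Ideal.Quotient.mk_surjective x
    have hb : algebraMap B L b ∈ maximalIdeal L ^ k := Ideal.Quotient.eq_zero_iff_mem.mp hx
    rw [hLk, IsScalarTower.algebraMap_apply B T L, IsLocalization.algebraMap_mem_map_algebraMap_iff n.primeCompl] at hb
    obtain ⟨s, hs, hsb⟩ := hb
    obtain ⟨c, hc⟩ := hunit s hs k
    have h2 : algebraMap B T (c * b) ∈ J ^ k := by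
      have := sub_mem hsb (Ideal.mul_mem_right (algebraMap B T b) _ hc)
      rw [map_mul]
      rwa [← sub_mul, sub_sub_cancel] at this
    rw [Ideal.Quotient.eq_zero_iff_mem]
    exact (Ideal.unit_mul_mem_iff_mem _ c.isUnit).mp (hmem k _ h2)
  · obtain ⟨y, rfl⟩ := Ideal.Quotient.mk_surjective y
    obtain ⟨a, s, rfl⟩ := IsLocalization.exists_mk'_eq n.primeCompl y
    obtain ⟨c, hc⟩ := hunit s.1 s.2 k
    obtain ⟨b, hb⟩ := hsub k (a * algebraMap B T ↑c⁻¹)
    refine ⟨Ideal.Quotient.mk _ b, ?_⟩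
    show Ideal.Quotient.mk _ (algebraMap B L b) = _
    rw [Ideal.Quotient.eq, hLk]
    have hj : algebraMap B T b * s.1 - a ∈ J ^ k := by
      have e : algebraMap B T b * s.1 - a =
          -((a * algebraMap B T ↑c⁻¹ - algebraMap B T b) * s.1) + a * algebraMap B T ↑c⁻¹ * (s.1 - algebraMap B T c) := by
        have hcc : algebraMap B T ↑c⁻¹ * algebraMap B T c = 1 := by rw [← map_mul, Units.inv_mul, map_one]
        linear_combination a * hcc
      rw [e]
      exact add_mem (neg_mem (Ideal.mul_mem_right _ _ hb)) (Ideal.mul_mem_left _ _ hc)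
    refine (Ideal.mul_unit_mem_iff_mem _ (IsLocalization.map_units L s)).mp ?_
    rw [sub_mul, IsLocalization.mk'_spec, IsScalarTower.algebraMap_apply B T L, ← map_mul, ← map_sub]
    exact Ideal.mem_map_of_mem _ hj

theorem cpl_iso [IsNoetherianRing B] (n : Ideal (B ⊗[A] EGA4.Cpl A)) [n.IsPrime]
    (h1 : n.comap (algebraMap B (B ⊗[A] EGA4.Cpl A)) = maximalIdeal B) :
    Nonempty (EGA4.Cpl B ≃+* EGA4.Cpl (Localization.AtPrime n)) :=
  cpl_iso_aux n h1 sub_mem_pow mem_of_map_mem_pow

end Groth.Agent.Ega11.CplBaseChange
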