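import Groth.Agent.Ega11.SkOpen
import Groth.Agent.Ega11.FiniteChange

/-! Depth and dimension of a finite module near the generic point of a closed set. -/

set_option autoImplicit false
universe u

open IsLocalRing CategoryTheory Abelian Groth.Agent.EGA4Alg4 Groth.Agent.Ega11.SkAt

namespace Groth.Agent.Ega11.DepthSpread

theorem depth_eq_left_of_exact {R : Type u} [CommRing R] [IsLocalRing R] [IsNoetherianRing R]
    {N₁ N₂ N₃ : Type u} [AddCommGroup N₁] [Module R N₁] [Module.Finite R N₁] [AddCommGroup N₂] [Module R N₂]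
    [Module.Finite R N₂] [AddCommGroup N₃] [Module R N₃] [Module.Finite R N₃] [Nontrivial N₁]
    (f : N₁ →ₗ[R] N₂) (g : N₂ →ₗ[R] N₃) (hf : Function.Injective f) (hg : Function.Surjective g)
    (hfg : Function.Exact f g) (hle : LocCoh.depth R N₁ ≤ LocCoh.depth R N₃) :
    LocCoh.depth R N₂ = LocCoh.depth R N₁ := by
  have : Nontrivial N₂ := hf.nontrivial
  obtain ⟨d, hd⟩ := exists_depth_eq (A := R) (M := N₁)
  refine le_antisymm (not_lt.mp fun hlt => ?_) ?_
  · have h2 : ((d + 1 : ℕ) : ℕ∞) ≤ LocCoh.depth R N₂ := by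
      rw [hd] at hlt; exact_mod_cast ENat.add_one_le_iff (ENat.natCast_ne_top d) |>.mpr hlt
    have key : ((d + 1 : ℕ) : ℕ∞) ≤ LocCoh.depth R N₁ := by
      refine (natCast_le_depth_iff_ext (d + 1)).mpr fun i hi => ?_
      let S : ShortComplex (ModuleCat.{u} R) := ShortComplex.mk (ModuleCat.ofHom f) (ModuleCat.ofHom g)
        (ModuleCat.hom_ext (LinearMap.ext fun x => (hfg _).mpr ⟨x, rfl⟩))
      have hS : S.ShortExact :=
        { exact := (ShortComplex.ShortExact.moduleCat_exact_iff_function_exact S).mpr hfg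
          mono_f := (ModuleCat.mono_iff_injective _).mpr hf
          epi_g := (ModuleCat.epi_iff_surjective _).mpr hg }
      have z2 := (natCast_le_depth_iff_ext (d + 1)).mp h2 i hi
      refine ⟨fun a b => ?_⟩
      suffices h : ∀ x : Ext (ModuleCat.of R (ResidueField R)) (ModuleCat.of R N₁) i, x = 0 by rw [h a, h b]
      intro x
      have hx : x.comp (Ext.mk₀ S.f) (add_zero i) = 0 := @Subsingleton.elim _ z2 _ _
      rcases i with _ | i
      · have := (ModuleCat.mono_iff_injective S.f).mpr hf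
        exact Ext.postcomp_mk₀_injective_of_mono _ S.f (hx.trans (by simp))
      · rcases subsingleton_or_nontrivial N₃ with h3 | h3
        · obtain ⟨x₃, rfl⟩ := Ext.covariant_sequence_exact₁ _ hS x hx rfl
          have : Limits.IsZero (ModuleCat.of R N₃) := ModuleCat.isZero_of_subsingleton _
          rw [← Ext.comp_mk₀_id x₃, this.eq_of_src (𝟙 _) 0, Ext.mk₀_zero, Ext.comp_zero, Ext.zero_comp]
        · obtain ⟨x₃, rfl⟩ := Ext.covariant_sequence_exact₁ _ hS x hx rfl
          have h3d : (d : ℕ∞) ≤ LocCoh.depth R N₃ := hd ▸ hle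
          have z3 := (natCast_le_depth_iff_ext d).mp h3d i (by omega)
          rw [@Subsingleton.elim _ z3 x₃ 0, Ext.zero_comp]
    rw [hd, Nat.cast_le] at key
    omega
  · exact (le_min le_rfl hle).trans (SkOpen.depth_le_of_exact f g hf hg hfg)

variable {A : Type u} [CommRing A] [IsNoetherianRing A]

theorem finite_loc (N : Type u) [AddCommGroup N] [Module A N] [Module.Finite A N] (q : PrimeSpectrum A) :
    Module.Finite (Localization.AtPrime q.asIdeal) (LocalizedModule q.asIdeal.primeCompl N) :=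
  Module.Finite.of_isLocalizedModule q.asIdeal.primeCompl (LocalizedModule.mkLinearMap q.asIdeal.primeCompl N)

/-- depth of a localized module -/
noncomputable abbrev dp (N : Type u) [AddCommGroup N] [Module A N] (q : PrimeSpectrum A) : ℕ∞ :=
  LocCoh.depth (Localization.AtPrime q.asIdeal) (LocalizedModule q.asIdeal.primeCompl N)

/-- dimension of a localized module -/
noncomputable abbrev dm (N : Type u) [AddCommGroup N] [Module A N] (q : PrimeSpectrum A) : WithBot ℕ∞ :=
  Module.supportDim (Localization.AtPrime q.asIdeal) (LocalizedModule q.asIdeal.primeCompl N)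

theorem dp_congr {N N' : Type u} [AddCommGroup N] [Module A N] [AddCommGroup N'] [Module A N'] (e : N ≃ₗ[A] N')
    (q : PrimeSpectrum A) : dp N q = dp N' q :=
  depth_eq_of_equiv ((IsLocalizedModule.linearEquiv q.asIdeal.primeCompl
    (LocalizedModule.mkLinearMap _ N)
    ((LocalizedModule.mkLinearMap q.asIdeal.primeCompl N').comp e.toLinearMap)).extendScalarsOfIsLocalization
    q.asIdeal.primeCompl _)

omit [IsNoetherianRing A] in
theorem dm_congr {N N' : Type u} [AddCommGroup N] [Module A N] [AddCommGroup N'] [Module A N'] (e : N ≃ₗ[A] N')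
    (q : PrimeSpectrum A) : dm N q = dm N' q :=
  Module.supportDim_eq_of_equiv ((IsLocalizedModule.linearEquiv q.asIdeal.primeCompl
    (LocalizedModule.mkLinearMap _ N)
    ((LocalizedModule.mkLinearMap q.asIdeal.primeCompl N').comp e.toLinearMap)).extendScalarsOfIsLocalization
    q.asIdeal.primeCompl _)

theorem dp_of_subsingleton {N : Type u} [AddCommGroup N] [Module A N] {q : PrimeSpectrum A}
    (h : Subsingleton (LocalizedModule q.asIdeal.primeCompl N)) : dp N q = ⊤ :=
  depth_of_subsingleton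

omit [IsNoetherianRing A] in
theorem dm_of_subsingleton {N : Type u} [AddCommGroup N] [Module A N] {q : PrimeSpectrum A}
    (h : Subsingleton (LocalizedModule q.asIdeal.primeCompl N)) : dm N q = ⊥ := by
  simp only [dm]
  exact (Module.supportDim_eq_bot_iff_subsingleton _ _).mpr h

/-- the dimension of an extension is the maximum of the dimensions -/
theorem dm_of_exact {N₁ N₂ N₃ : Type u} [AddCommGroup N₁] [Module A N₁] [AddCommGroup N₂] [Module A N₂]
    [AddCommGroup N₃] [Module A N₃] (f : N₁ →ₗ[A] N₂) (g : N₂ →ₗ[A] N₃) (hf : Function.Injective f)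
    (hg : Function.Surjective g) (hfg : Function.Exact f g) (q : PrimeSpectrum A) :
    dm N₂ q = max (dm N₁ q) (dm N₃ q) := by
  have hsupp := Module.support_of_exact hfg hf hg
  simp only [dm, SupportLoc.supportDim_localizedModule_eq]
  refine le_antisymm (iSup_le fun l => ?_) (max_le ?_ ?_)
  · rcases (hsupp ▸ (l.head).2.1 : (l.head).1 ∈ Module.support A N₁ ∪ Module.support A N₃) with h | h
    · refine le_max_of_le_left (Order.LTSeries.length_le_krullDim
        ⟨l.length, fun i => ⟨(l i).1, Module.mem_support_mono (show (l.head).1 ≤ (l i).1 from l.head_le i) h, (l i).2.2⟩,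
          fun i => l.step i⟩)
    · refine le_max_of_le_right (Order.LTSeries.length_le_krullDim
        ⟨l.length, fun i => ⟨(l i).1, Module.mem_support_mono (show (l.head).1 ≤ (l i).1 from l.head_le i) h, (l i).2.2⟩,
          fun i => l.step i⟩)
  · exact Order.krullDim_le_of_strictMono (fun x => ⟨x.1, hsupp ▸ Or.inl x.2.1, x.2.2⟩) fun _ _ h => h
  · exact Order.krullDim_le_of_strictMono (fun x => ⟨x.1, hsupp ▸ Or.inr x.2.1, x.2.2⟩) fun _ _ h => h

/-- An element regular near a prime that is not associated. -/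
theorem exists_regular (p : PrimeSpectrum A) {N : Type u} [AddCommGroup N] [Module A N] [Module.Finite A N]
    (hp : p.asIdeal ∉ associatedPrimes A N) :
    ∃ x ∈ p.asIdeal, ∃ c ∉ p.asIdeal, ∀ q : PrimeSpectrum A, c ∉ q.asIdeal →
      IsSMulRegular (LocalizedModule q.asIdeal.primeCompl N) (algebraMap A (Localization.AtPrime q.asIdeal) x) := by
  classical
  obtain ⟨x, hxp, hx⟩ : ∃ x ∈ p.asIdeal, ∀ P ∈ associatedPrimes A N, P ≤ p.asIdeal → x ∉ P := by
    by_contra! hc
    have hsub : (p.asIdeal : Set A) ⊆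
        ⋃ P ∈ (associatedPrimes.finite A N).toFinset.filter (· ≤ p.asIdeal), (P : Set A) := by
      intro x hx
      obtain ⟨P, hP, hPp, hxP⟩ := hc x hx
      exact Set.mem_biUnion (Finset.mem_filter.mpr ⟨(Set.Finite.mem_toFinset _).mpr hP, hPp⟩) hxP
    obtain ⟨P, hP, hle⟩ := (Ideal.subset_union_prime (f := id) ⊥ ⊥ fun P hP _ _ =>
      ((Set.Finite.mem_toFinset _).mp (Finset.mem_filter.mp hP).1).isPrime).mp hsub
    obtain ⟨hP, hPp⟩ := Finset.mem_filter.mp hP
    exact hp (le_antisymm hle hPp ▸ (Set.Finite.mem_toFinset _).mp hP)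
  obtain ⟨c, hc, hcP⟩ := SkOpen.exists_sep p.asIdeal {P | P ∈ associatedPrimes A N ∧ ¬ P ≤ p.asIdeal}
    ((associatedPrimes.finite A N).subset fun P hP => hP.1) fun P hP => hP.2
  refine ⟨x, hxp, c, hc, fun q hcq => FiniteChange.isSMulRegular_loc x q.asIdeal fun P hP hPq hxP => ?_⟩
  by_cases hPp : P ≤ p.asIdeal
  · exact hx P hP hPp hxP
  · exact hcq (hPq (hcP P ⟨hP, hPp⟩))

variable (p : PrimeSpectrum A)

/-- Depth and dimension near `p` differ from those at `p` by those of `A ⧸ p`. -/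
def SP (N : Type u) [AddCommGroup N] [Module A N] : Prop :=
  ∃ f : A, f ∉ p.asIdeal ∧ ∀ q : PrimeSpectrum A, p ≤ q → f ∉ q.asIdeal →
    dp N q = dp N p + dp (A ⧸ p.asIdeal) q ∧ dm N q = dm N p + dm (A ⧸ p.asIdeal) q

theorem one_notMem : (1 : A) ∉ p.asIdeal := fun h => p.2.ne_top ((Ideal.eq_top_iff_one _).mpr h)

theorem sp_of_smul {N : Type u} [AddCommGroup N] [Module A N] {c : A} (hc : c ∉ p.asIdeal)
    (h : ∀ m : N, c • m = 0) : SP p N := by
  refine ⟨c, hc, fun q _ hq => ?_⟩
  rw [dp_of_subsingleton (SkOpen.subsingleton_loc c h q.asIdeal hq),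
    dp_of_subsingleton (SkOpen.subsingleton_loc c h p.asIdeal hc),
    dm_of_subsingleton (SkOpen.subsingleton_loc c h q.asIdeal hq),
    dm_of_subsingleton (SkOpen.subsingleton_loc c h p.asIdeal hc)]
  exact ⟨(top_add _).symm, (WithBot.bot_add _).symm⟩

theorem sp_congr {N N' : Type u} [AddCommGroup N] [Module A N] [AddCommGroup N'] [Module A N'] (e : N ≃ₗ[A] N')
    (h : SP p N) : SP p N' := by
  obtain ⟨f, hf, h⟩ := h
  refine ⟨f, hf, fun q h1 h2 => ?_⟩
  rw [← dp_congr e q, ← dp_congr e p, ← dm_congr e q, ← dm_congr e p]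
  exact h q h1 h2

theorem sp_exact {N₁ N₂ N₃ : Type u} [AddCommGroup N₁] [Module A N₁] [Module.Finite A N₁] [AddCommGroup N₂]
    [Module A N₂] [Module.Finite A N₂] [AddCommGroup N₃] [Module A N₃] [Module.Finite A N₃]
    (g₁ : N₁ →ₗ[A] N₂) (g₂ : N₂ →ₗ[A] N₃) (hg₁ : Function.Injective g₁) (hg₂ : Function.Surjective g₂)
    (hg : Function.Exact g₁ g₂) (h₁ : SP p N₁) (h₃ : SP p N₃)
    (hp : dp N₁ p = ⊤ ∨ dp N₁ p ≤ dp N₃ p) :
    SP p N₂ ∧ ((dp N₁ p = ⊤ → dp N₂ p = dp N₃ p) ∧ (dp N₁ p ≠ ⊤ → dp N₂ p = dp N₁ p)) := by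
  obtain ⟨f₁, hf₁, h₁⟩ := h₁
  obtain ⟨f₃, hf₃, h₃⟩ := h₃
  have key : ∀ q : PrimeSpectrum A, p ≤ q → f₁ ∉ q.asIdeal → f₃ ∉ q.asIdeal →
      (dp N₁ p = ⊤ → dp N₂ q = dp N₃ q) ∧ (dp N₁ p ≠ ⊤ → dp N₂ q = dp N₁ q) := by
    intro q hpq hq₁ hq₃
    let S := q.asIdeal.primeCompl
    let L := Localization.AtPrime q.asIdeal
    have := finite_loc N₁ q
    have := finite_loc N₂ q
    have := finite_loc N₃ q
    have : IsNoetherianRing L := IsLocalization.isNoetherianRing S _ inferInstance
    obtain ⟨e₁, -⟩ := h₁ q hpq hq₁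
    obtain ⟨e₃, -⟩ := h₃ q hpq hq₃
    rcases subsingleton_or_nontrivial (LocalizedModule S N₁) with hs | hs
    · have hinj : Function.Injective (LocalizedModule.map S g₂) :=
        (injective_iff_map_eq_zero _).mpr fun x hx => by
          obtain ⟨y, rfl⟩ := (LocalizedModule.map_exact S g₁ g₂ hg x).mp hx
          rw [Subsingleton.elim y 0, map_zero]
      have he : dp N₂ q = dp N₃ q := depth_eq_of_equiv
        (LinearEquiv.ofBijective (LocalizedModule.map S g₂) ⟨hinj, LocalizedModule.map_surjective S g₂ hg₂⟩)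
      refine ⟨fun _ => he, fun hne => ?_⟩
      rcases hp with hp | hp
      · exact absurd hp hne
      · refine he.trans (le_antisymm ?_ ?_)
        · rw [dp_of_subsingleton hs]; exact le_top
        · rw [e₁, e₃]; exact add_le_add hp le_rfl
    · have hne : dp N₁ q ≠ ⊤ := depth_ne_top (A := L) (M := LocalizedModule S N₁)
      have hne' : dp N₁ p ≠ ⊤ := fun h => hne (by rw [e₁, h, top_add])
      refine ⟨fun h => absurd h hne', fun _ => ?_⟩
      exact depth_eq_left_of_exact (LocalizedModule.map S g₁) (LocalizedModule.map S g₂)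
        (LocalizedModule.map_injective S g₁ hg₁) (LocalizedModule.map_surjective S g₂ hg₂)
        (LocalizedModule.map_exact S g₁ g₂ hg) (by
          show dp N₁ q ≤ dp N₃ q
          rw [e₁, e₃]
          exact add_le_add (hp.resolve_left hne') le_rfl)
  refine ⟨⟨f₁ * f₃, fun h => (p.2.mem_or_mem h).elim hf₁ hf₃, fun q hpq hq => ?_⟩, key p le_rfl hf₁ hf₃⟩
  have hq₁ : f₁ ∉ q.asIdeal := fun h => hq (q.asIdeal.mul_mem_right _ h)
  have hq₃ : f₃ ∉ q.asIdeal := fun h => hq (q.asIdeal.mul_mem_left _ h)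
  obtain ⟨e₁, d₁⟩ := h₁ q hpq hq₁
  obtain ⟨e₃, d₃⟩ := h₃ q hpq hq₃
  refine ⟨?_, ?_⟩
  · by_cases ht : dp N₁ p = ⊤
    · rw [(key q hpq hq₁ hq₃).1 ht, (key p le_rfl hf₁ hf₃).1 ht, e₃]
    · rw [(key q hpq hq₁ hq₃).2 ht, (key p le_rfl hf₁ hf₃).2 ht, e₁]
  · rw [dm_of_exact g₁ g₂ hg₁ hg₂ hg, dm_of_exact g₁ g₂ hg₁ hg₂ hg, d₁, d₃, max_add_add_right]

theorem dp_dm_self : dp (A ⧸ p.asIdeal) p = 0 ∧ dm (A ⧸ p.asIdeal) p = 0 := by
  have hsupp : p ∈ Module.support A (A ⧸ p.asIdeal) := by
    rw [Module.mem_support_iff_of_finite, Ideal.annihilator_quotient]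
  refine ⟨(CAlg1.depth_atPrime_eq_zero_iff p.asIdeal).mpr (associatedPrimes.eq_singleton_of_isPrimary
    p.2.isPrimary ▸ (by simp [p.2.radical])), le_antisymm ?_ ?_⟩
  · exact (CAlg1.supportDim_atPrime_le_zero_iff p.asIdeal hsupp).mpr (by
      rw [Ideal.annihilator_quotient, Ideal.minimalPrimes_eq_subsingleton_self]; exact rfl)
  · have : Nonempty (SupportLoc.suppBelow A (A ⧸ p.asIdeal) p.asIdeal) := ⟨⟨p, hsupp, le_rfl⟩⟩
    simp only [dm, SupportLoc.supportDim_localizedModule_eq]
    exact Order.krullDim_nonneg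

/-- Modules killed by a power of `p`. -/
theorem sp_torsion (N : Type u) [AddCommGroup N] [Module A N] [Module.Finite A N] :
    ∀ k : ℕ, p.asIdeal ^ k ≤ Module.annihilator A N → SP p N ∧ (dp N p = 0 ∨ dp N p = ⊤) := by
  induction ‹Module.Finite A N› using IsNoetherianRing.induction_on_isQuotientEquivQuotientPrime A with
  | subsingleton N =>
    exact fun _ _ => ⟨sp_of_smul p (one_notMem p) fun m => Subsingleton.elim _ _,
      Or.inr (dp_of_subsingleton (SkOpen.subsingleton_loc 1 (fun m => Subsingleton.elim _ _) _ (one_notMem p)))⟩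
  | quotient N P e =>
    intro k hk
    rw [e.annihilator_eq, Ideal.annihilator_quotient] at hk
    have hpP : p.asIdeal ≤ P.asIdeal := P.2.le_of_pow_le hk
    by_cases hPp : P.asIdeal ≤ p.asIdeal
    · obtain rfl : P = p := le_antisymm hPp hpP
      refine ⟨sp_congr P e.symm ⟨1, one_notMem P, fun q _ _ => ?_⟩, Or.inl ?_⟩
      · rw [(dp_dm_self P).1, (dp_dm_self P).2, zero_add, zero_add]; exact ⟨rfl, rfl⟩
      · rw [dp_congr e P]; exact (dp_dm_self P).1
    · obtain ⟨c, hcP, hcp⟩ := SetLike.not_le_iff_exists.mp hPp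
      have hc : ∀ n : N, c • n = 0 := fun n => e.injective (by
        rw [map_smul, map_zero, Algebra.smul_def, Ideal.Quotient.algebraMap_eq,
          Ideal.Quotient.eq_zero_iff_mem.mpr hcP, zero_mul])
      exact ⟨sp_of_smul p hcp hc, Or.inr (dp_of_subsingleton (SkOpen.subsingleton_loc c hc _ hcp))⟩
  | exact N₁ N₂ N₃ g₁ g₂ hg₁ hg₂ hg h₁ h₃ =>
    intro k hk
    obtain ⟨s₁, t₁⟩ := h₁ k (hk.trans (LinearMap.annihilator_le_of_injective g₁ hg₁))
    obtain ⟨s₃, t₃⟩ := h₃ k (hk.trans (LinearMap.annihilator_le_of_surjective g₂ hg₂))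
    obtain ⟨h, ha, hb⟩ := sp_exact p g₁ g₂ hg₁ hg₂ hg s₁ s₃
      (t₁.symm.imp id fun h => by rw [h]; exact zero_le)
    refine ⟨h, ?_⟩
    rcases t₁ with t₁ | t₁
    · exact Or.inl ((hb (by simp [t₁])).trans t₁)
    · rw [ha t₁]; exact t₃

theorem sp_of_not_mem_support {N : Type u} [AddCommGroup N] [Module A N] [Module.Finite A N]
    (h : p ∉ Module.support A N) : SP p N := by
  obtain ⟨c, hc, hcp⟩ := SetLike.not_le_iff_exists.mp fun h' => h (Module.mem_support_iff_of_finite.mpr h')
  exact sp_of_smul p hcp fun m => Module.mem_annihilator.mp hc m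

theorem sp_main : ∀ (n : ℕ) (N : Type u) [AddCommGroup N] [Module A N] [Module.Finite A N],
    dm N p < (n : WithBot ℕ∞) → SP p N := by
  intro n
  induction n with
  | zero =>
    intro N _ _ _ h
    refine sp_of_not_mem_support p fun hs => ?_
    have : Nonempty (SupportLoc.suppBelow A N p.asIdeal) := ⟨⟨p, hs, le_rfl⟩⟩
    simp only [dm, SupportLoc.supportDim_localizedModule_eq] at h
    exact absurd h (not_lt.mpr Order.krullDim_nonneg)
  | succ n ih =>
    intro N _ _ _ h
    obtain ⟨L, ⟨k, hk⟩, hmax⟩ := set_has_maximal_iff_noetherian.mpr (inferInstance : IsNoetherian A N)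
      {L : Submodule A N | ∃ k : ℕ, ∀ a ∈ p.asIdeal ^ k, ∀ m ∈ L, a • m = 0}
      ⟨⊥, 0, fun a _ m hm => by rw [(Submodule.mem_bot A).mp hm, smul_zero]⟩
    obtain ⟨hL, tL⟩ := sp_torsion p L k fun a ha =>
      Module.mem_annihilator.mpr fun m => Subtype.ext (hk a ha m m.2)
    have hass : p.asIdeal ∉ associatedPrimes A (N ⧸ L) := by
      intro hp
      obtain ⟨-, z, hz⟩ := isAssociatedPrime_iff.mp hp
      obtain ⟨z, rfl⟩ := Submodule.Quotient.mk_surjective L z
      have hzL : ∀ a, a • z ∈ L ↔ a ∈ p.asIdeal := fun a => by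
        rw [hz, Submodule.mem_colon_singleton, Submodule.mem_bot, ← Submodule.Quotient.mk_smul,
          Submodule.Quotient.mk_eq_zero]
      have hzL' : z ∉ L := fun h => one_notMem p ((hzL 1).mp (by rwa [one_smul]))
      refine hmax (L ⊔ Submodule.span A {z}) ⟨k + 1, fun a ha m hm => ?_⟩
        (lt_of_le_of_ne le_sup_left fun he => hzL' (he ▸ Submodule.mem_sup_right (Submodule.mem_span_singleton_self z)))
      obtain ⟨l, hl, _, hw, rfl⟩ := Submodule.mem_sup.mp hm
      obtain ⟨b, rfl⟩ := Submodule.mem_span_singleton.mp hw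
      rw [pow_succ] at ha
      refine Submodule.mul_induction_on ha (fun u hu v hv => ?_) (fun u v hu hv => by rw [add_smul, hu, hv, add_zero])
      have h1 : v • (l + b • z) ∈ L := by
        rw [smul_add, smul_comm]; exact add_mem (L.smul_mem _ hl) (L.smul_mem _ ((hzL v).mpr hv))
      rw [mul_smul]
      exact hk u hu _ h1
    have hN : SP p (N ⧸ L) := by
      by_cases hsupp : p ∈ Module.support A (N ⧸ L)
      swap
      · exact sp_of_not_mem_support p hsupp
      obtain ⟨x, hxp, c, hc, hreg⟩ := exists_regular p hass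
      have cmp : ∀ q : PrimeSpectrum A, x ∈ q.asIdeal → c ∉ q.asIdeal →
          dp (N ⧸ L) q = dp (QuotSMulTop x (N ⧸ L)) q + 1 ∧ dm (N ⧸ L) q = dm (QuotSMulTop x (N ⧸ L)) q + 1 := by
        intro q hxq hcq
        let S := q.asIdeal.primeCompl
        have : IsNoetherianRing (Localization.AtPrime q.asIdeal) := IsLocalization.isNoetherianRing S _ inferInstance
        have := finite_loc (N ⧸ L) q
        have hxm : algebraMap A (Localization.AtPrime q.asIdeal) x ∈ maximalIdeal (Localization.AtPrime q.asIdeal) :=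
          (IsLocalization.AtPrime.to_map_mem_maximal_iff (Localization.AtPrime q.asIdeal) q.asIdeal x).mpr hxq
        let e := LC17.quotLocEquiv S (M := N ⧸ L) x
        simp only [dp, dm]
        rw [← depth_quotSMulTop_add_one hxm (hreg q hcq), depth_eq_of_equiv e,
          ← Module.supportDim_quotSMulTop_succ_eq_supportDim (hreg q hcq) hxm, Module.supportDim_eq_of_equiv e]
        exact ⟨rfl, rfl⟩
      have hlt : dm (QuotSMulTop x (N ⧸ L)) p < (n : WithBot ℕ∞) := by
        have h2 : dm (N ⧸ L) p < ((n + 1 : ℕ) : WithBot ℕ∞) := lt_of_le_of_lt (by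
          rw [dm_of_exact L.subtype L.mkQ L.injective_subtype L.mkQ_surjective
            (LinearMap.exact_subtype_mkQ L) p]
          exact le_max_right _ _) h
        rw [(cmp p hxp hc).2, Nat.cast_succ] at h2
        exact lt_of_add_lt_add_right h2
      obtain ⟨f, hf, hq'⟩ := ih _ hlt
      refine ⟨f * c, fun h => (p.2.mem_or_mem h).elim hf hc, fun q hpq hq => ?_⟩
      obtain ⟨e1, e2⟩ := hq' q hpq fun h => hq (q.asIdeal.mul_mem_right _ h)
      obtain ⟨c1, c2⟩ := cmp q (hpq hxp) fun h => hq (q.asIdeal.mul_mem_left _ h)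
      rw [c1, c2, (cmp p hxp hc).1, (cmp p hxp hc).2, e1, e2]
      exact ⟨add_right_comm _ _ _, add_right_comm _ _ _⟩
    exact (sp_exact p L.subtype L.mkQ L.injective_subtype L.mkQ_surjective (LinearMap.exact_subtype_mkQ L)
      hL hN (tL.symm.imp id fun h => by rw [h]; exact zero_le)).1

theorem sp_all (N : Type u) [AddCommGroup N] [Module A N] [Module.Finite A N] : SP p N := by
  have : IsNoetherianRing (Localization.AtPrime p.asIdeal) :=
    IsLocalization.isNoetherianRing p.asIdeal.primeCompl _ inferInstance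
  have := finite_loc N p
  have hlt : dm N p < ((⊤ : ℕ∞) : WithBot ℕ∞) :=
    supportDim_lt_top (A := Localization.AtPrime p.asIdeal) (M := LocalizedModule p.asIdeal.primeCompl N)
  obtain ⟨n, hn⟩ : ∃ n : ℕ, dm N p < (n : WithBot ℕ∞) := by
    cases hd : dm N p using WithBot.recBotCoe with
    | bot => exact ⟨0, WithBot.bot_lt_coe _⟩
    | coe a =>
      rw [hd, WithBot.coe_lt_coe] at hlt
      obtain ⟨b, rfl⟩ := ENat.ne_top_iff_exists.mp hlt.ne
      exact ⟨b + 1, WithBot.coe_lt_coe.mpr (by exact_mod_cast Nat.lt_succ_self b)⟩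
  exact sp_main p n N hn

end Groth.Agent.Ega11.DepthSpread
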