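import Groth.Agent.Ega11.DirectLim
import Mathlib

/-! Descent of finitely presented modules along directed limits of rings. -/

set_option autoImplicit false
universe u

open TensorProduct

namespace Groth.Agent.Ega11.DescFP

theorem baseChange_quotient {R A : Type u} [CommRing R] [CommRing A] [Algebra R A] {n m : ℕ}
    (r : Fin m → (Fin n → R)) :
    Nonempty (((Fin n → A) ⧸ Submodule.span A (Set.range fun j => algebraMap R A ∘ r j)) ≃ₗ[A]
      A ⊗[R] ((Fin n → R) ⧸ Submodule.span R (Set.range r))) := by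
  let N := Submodule.span R (Set.range r)
  let K := Submodule.span A (Set.range fun j => algebraMap R A ∘ r j)
  let f₀ : (Fin n → R) →ₗ[R] (Fin n → A) ⧸ K :=
    (K.mkQ.restrictScalars R).comp ((Algebra.linearMap R A).compLeft (Fin n))
  have hf₀ : N ≤ LinearMap.ker f₀ := by
    rw [Submodule.span_le]
    rintro _ ⟨j, rfl⟩
    exact (Submodule.Quotient.mk_eq_zero K).mpr (Submodule.subset_span ⟨j, rfl⟩)
  let F : A ⊗[R] ((Fin n → R) ⧸ N) →ₗ[A] (Fin n → A) ⧸ K := LinearMap.liftBaseChange A (N.liftQ f₀ hf₀)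
  let g₀ : (Fin n → A) →ₗ[A] A ⊗[R] ((Fin n → R) ⧸ N) :=
    Fintype.linearCombination A fun k => (1 : A) ⊗ₜ[R] N.mkQ (Pi.single k 1)
  have hg₀mem : ∀ v : Fin n → R, g₀ (algebraMap R A ∘ v) = (1 : A) ⊗ₜ[R] N.mkQ v := by
    intro v
    conv_rhs => rw [pi_eq_sum_univ' v, map_sum, TensorProduct.tmul_sum]
    rw [Fintype.linearCombination_apply]
    refine Finset.sum_congr rfl fun k _ => ?_
    rw [Function.comp_apply, algebraMap_smul, map_smul, tmul_smul]
  have hg₀ : K ≤ LinearMap.ker g₀ := by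
    rw [Submodule.span_le]
    rintro _ ⟨j, rfl⟩
    rw [SetLike.mem_coe, LinearMap.mem_ker, hg₀mem, Submodule.mkQ_apply,
      (Submodule.Quotient.mk_eq_zero N).mpr (Submodule.subset_span ⟨j, rfl⟩), tmul_zero]
  let Gm : ((Fin n → A) ⧸ K) →ₗ[A] A ⊗[R] ((Fin n → R) ⧸ N) := K.liftQ g₀ hg₀
  refine ⟨LinearEquiv.ofLinearMap Gm F ?_ ?_⟩
  · refine TensorProduct.AlgebraTensorModule.curry_injective ?_
    refine LinearMap.ext_ring ?_
    refine Submodule.linearMap_qext N (LinearMap.ext fun v => ?_)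
    simp [Gm, F, f₀, Function.comp_def]
    exact hg₀mem v
  · refine Submodule.linearMap_qext K ?_
    refine LinearMap.pi_ext' fun k => LinearMap.ext_ring ?_
    have : g₀ (Pi.single k 1) = (1 : A) ⊗ₜ[R] N.mkQ (Pi.single k 1) := by
      rw [Fintype.linearCombination_apply_single, one_smul]
    simp only [LinearMap.comp_apply, LinearMap.single_apply, Submodule.mkQ_apply, LinearMap.id_apply]
    show F (g₀ (Pi.single k 1)) = _
    rw [this, LinearMap.liftBaseChange_tmul, one_smul, Submodule.mkQ_apply, Submodule.liftQ_apply]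
    show K.mkQ _ = K.mkQ _
    congr 1
    ext i
    by_cases h : i = k <;> simp [h, Pi.single_apply]

variable {ι : Type u} [Preorder ι] [Nonempty ι] [IsDirectedOrder ι]
  {G : ι → Type u} [∀ i, CommRing (G i)] {f : ∀ i j, i ≤ j → G i →+* G j}
  [DirectedSystem G (fun i j h ↦ f i j h)]

theorem exists_descent (M : Type u) [AddCommGroup M] [Module (Ring.DirectLimit G (fun i j h ↦ f i j h)) M]
    [Module.FinitePresentation (Ring.DirectLimit G (fun i j h ↦ f i j h)) M] :
    ∃ (i : ι) (Mi : Type u) (_ : AddCommGroup Mi) (_ : Module (G i) Mi), Module.FinitePresentation (G i) Mi ∧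
      letI : Algebra (G i) (Ring.DirectLimit G (fun i j h ↦ f i j h)) :=
        (Ring.DirectLimit.of G (fun i j h ↦ f i j h) i).toAlgebra
      Nonempty (M ≃ₗ[Ring.DirectLimit G (fun i j h ↦ f i j h)] (Ring.DirectLimit G (fun i j h ↦ f i j h)) ⊗[G i] Mi) := by
  obtain ⟨n, K, e, hK⟩ := Module.FinitePresentation.exists_fin (Ring.DirectLimit G (fun i j h ↦ f i j h)) M
  obtain ⟨m, k, hk⟩ := Submodule.fg_iff_exists_fin_generating_family.mp hK
  obtain ⟨i, x, hx⟩ := Groth.Agent.Ega11.DirectLim.exists_of_family (fun jk : Fin m × Fin n => k jk.1 jk.2)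
  let r : Fin m → (Fin n → G i) := fun j l => x (j, l)
  have hFP : Module.FinitePresentation (G i) ((Fin n → G i) ⧸ Submodule.span (G i) (Set.range r)) :=
    Module.finitePresentation_of_surjective _ (Submodule.mkQ_surjective _) (by
      rw [Submodule.ker_mkQ]; exact Submodule.fg_span (Set.finite_range r))
  refine ⟨i, _, inferInstance, inferInstance, hFP, ?_⟩
  letI : Algebra (G i) (Ring.DirectLimit G (fun i j h ↦ f i j h)) :=
    (Ring.DirectLimit.of G (fun i j h ↦ f i j h) i).toAlgebra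
  obtain ⟨e'⟩ := baseChange_quotient (A := Ring.DirectLimit G (fun i j h ↦ f i j h)) r
  have hr : (fun j => algebraMap (G i) (Ring.DirectLimit G (fun i j h ↦ f i j h)) ∘ r j) = k :=
    funext fun j => funext fun l => hx (j, l)
  refine ⟨e.trans ((Submodule.quotEquivOfEq _ _ ?_).trans e')⟩
  rw [hr, hk]

end Groth.Agent.Ega11.DescFP
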