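import Groth.Agent.Ega11.StrictExists
import Groth.Agent.Ega11.Compactify
import Groth.Agent.S1272
import Groth.Agent.KLoc46.Main
import Groth.Agent.ZClos93.Exact
import Groth.Agent.FDesc60.FlatFree
import Groth.Agent.QCCohInd72.Basic
import Groth.Agent.QCohPush72.FlatAmp
import Groth.Agent.Props58.LocFree.Affine
import Groth.Agent.SerreD94.HomSeq
import Groth.Agent.LimTop61.LocFreeStage
import Groth.Agent.CD47.Resolution
import Groth.Agent.E4O.InfDescent
import Groth.Agent.QC70.GenIso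
import Groth.Agent.ParaF26.Free
import Groth.Agent.Strict99.Basic
import Mathlib

/-! Extending exact sequences of vector bundles to a compactification. -/

set_option autoImplicit false
set_option backward.isDefEq.respectTransparency.types false
universe u

open CategoryTheory CategoryTheory.Limits AlgebraicGeometry TopologicalSpace

namespace Groth.Agent.Ega11.ExtendBundle

open QC70

variable {X P : Scheme.{u}} (j : X ⟶ P) [IsOpenImmersion j]

theorem mono_pullback_map {F G : P.Modules} (m : F ⟶ G) [Mono m] :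
    Mono ((Scheme.Modules.pullback j).map m) := by
  have := ZClos93.preservesFiniteLimits_restrictFunctor j
  have h := NatIso.naturality_1 (Scheme.Modules.restrictFunctorIsoPullback j) m
  rw [← h]
  infer_instance

theorem exists_extension [IsNoetherian P] {A : X.Modules} (hA : Coh.IsCoh A) :
    ∃ G : P.Modules, Coh.IsCoh G ∧ Nonempty ((Scheme.Modules.pullback j).obj G ≅ A) := by
  obtain ⟨G, hG, ⟨e⟩⟩ := KLoc46.exists_coh_extension j hA
  exact ⟨G, hG, ⟨((Scheme.Modules.restrictFunctorIsoPullback j).app G).symm ≪≫ e⟩⟩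

theorem exists_quot_extension [IsNoetherian P] {G : P.Modules} (hG : Coh.IsCoh G) {A B : X.Modules}
    (e : (Scheme.Modules.pullback j).obj G ≅ A) (g : A ⟶ B) [Epi g] (hB : Coh.IsCoh B) :
    ∃ (F : P.Modules) (p : G ⟶ F) (e' : (Scheme.Modules.pullback j).obj F ≅ B),
      Coh.IsCoh F ∧ Epi p ∧ (Scheme.Modules.pullback j).map p ≫ e'.hom = e.hom ≫ g := by
  have := hB.1
  let adj := Scheme.Modules.pullbackPushforwardAdjunction j
  let α := adj.homEquiv G B (e.hom ≫ g)
  have hq : ((Scheme.Modules.pushforward j).obj B).IsQuasicoherent :=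
    QCqs72.isQuasicoherent_pushforward (M := B) j
  let p := Abelian.coimage.π α
  let m := Abelian.factorThruCoimage α
  have hF : Coh.IsCoh (Abelian.coimage α) := isCoh_cokernel _ (isCoh_kernel α hG hq).1 hG
  have := mono_pullback_map j m
  have : PreservesColimitsOfSize.{0, 0} (Scheme.Modules.pullback j) := adj.leftAdjoint_preservesColimits
  have : IsIso (adj.counit.app B) := inferInstance
  let r : (Scheme.Modules.pullback j).obj (Abelian.coimage α) ⟶ B :=
    (Scheme.Modules.pullback j).map m ≫ adj.counit.app B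
  have hr : (Scheme.Modules.pullback j).map p ≫ r = e.hom ≫ g := by
    simp only [r]
    rw [← Category.assoc, ← Functor.map_comp, show p ≫ m = α from Abelian.coimage.fac α, ← adj.homEquiv_counit,
      Equiv.symm_apply_apply]
  have : Mono r := mono_comp _ _
  have : Epi ((Scheme.Modules.pullback j).map p ≫ r) := by rw [hr]; infer_instance
  have : Epi r := epi_of_epi ((Scheme.Modules.pullback j).map p) r
  have : IsIso r := isIso_of_mono_of_epi r
  exact ⟨_, p, asIso r, hF, inferInstance, hr⟩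

/-- A coherent module that is locally free on an open becomes locally free after an admissible blow-up. -/
theorem exists_flatten [IsNoetherian P] {F : P.Modules} (hF : Coh.IsCoh F)
    (hFj : FlatMod.IsFinLocFree ((Scheme.Modules.pullback j).obj F)) :
    ∃ (P' : Scheme.{u}) (b : P' ⟶ P) (j' : X ⟶ P') (G : P'.Modules) (π : (Scheme.Modules.pullback b).obj F ⟶ G),
      IsProper b ∧ IsOpenImmersion j' ∧ j' ≫ b = j ∧ FlatMod.IsFinLocFree G ∧ Epi π ∧
      IsIso ((Scheme.Modules.pullback j').map π) := by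
  have := hF.1
  have := hF.2
  have hU : IsCompact (j.opensRange : Set P) := NoetherianSpace.isCompact _
  obtain ⟨I, P', b, hb, ⟨hIft, hId⟩, hflat⟩ := Groth.Agent.S1272.result (𝟙 P) j.opensRange hU F hF.1 hF.2
    (QCCohInd72.isFP_of_isCoh (E4O.isCoh_pullback _ _ hF)) fun x hx => by
      obtain ⟨u, rfl⟩ : ∃ u, j u = x := hx
      have := (FDesc60.free_stalk_pullback_iff j F u).1 (FDesc60.free_stalk_of_isFinLocFree _ hFj u)
      have e : FlatMod.moduleStalkOver (𝟙 P) F (j u) =
          (inferInstance : Module (P.presheaf.stalk (j u)) (F.presheaf.stalk (j u))) := by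
        refine Module.ext' _ _ fun r m => ?_
        change ((Scheme.Hom.stalkMap (𝟙 P) (j u)).hom r : P.presheaf.stalk (j u)) • m =
          @HSMul.hSMul (P.presheaf.stalk (j u)) _ _ _ r m
        rw [Scheme.Hom.stalkMap_id]
        rfl
      show @Module.Flat (P.presheaf.stalk (j u)) (F.presheaf.stalk (j u)) _ _ (FlatMod.moduleStalkOver (𝟙 P) F (j u))
      rw [e]
      exact Module.Flat.of_free
  have hp : IsProper b := RegImm10.BlowModel.isProper_of_isBlowUp hIft hb
  have : IsLocallyNoetherian P' := LocallyOfFiniteType.isLocallyNoetherian b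
  have : CompactSpace P' := QuasiCompact.compactSpace_of_compactSpace b
  have hJft : BlowUp.IsFiniteTypeIdeal (I.comap b) := fun V => by
    have : IsNoetherianRing Γ(P', V.1) := IsLocallyNoetherian.component_noetherian V
    exact Ideal.fg_of_isNoetherianRing _
  have hPc : Coh.IsCoh ((Scheme.Modules.pullback b).obj F) := E4O.isCoh_pullback b F hF
  have := hPc.1
  obtain ⟨G, π, hπ, hker, hiso⟩ := StrictExists.exists_strictQuot (I.comap b) hJft ((Scheme.Modules.pullback b).obj F)
  have hG : BlowUp.IsStrictTransform b (I.comap (𝟙 P)) F G π := by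
    refine ⟨hπ, ?_⟩
    rw [Scheme.IdealSheafData.comap_id]
    exact hker
  obtain ⟨hGfp, hGflat⟩ := hflat P' b (𝟙 P') (IsPullback.of_vert_isIso ⟨by simp⟩) G π hG
  have hGc : Coh.IsCoh G := StrictTransformCoh.isCoh b I hb.1 F hF G π ⟨hπ, hker⟩
  have := hGc.1
  have := hGc.2
  have hGl : FlatMod.IsFinLocFree G := Props58.LocFree.isFinLocFree_of_isFP hGfp fun y => by
    have := QC70.finite_stalk G y
    have : Module.Flat (P'.presheaf.stalk y) (G.presheaf.stalk y) := QCohPush72.isFlat_of_isFlatOver_id G hGflat y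
    exact Module.free_of_flat_of_isLocalRing
  -- lift
  have hle : j.opensRange ≤ I.support.compl := fun x hx hxs => Set.disjoint_left.1 hId hxs hx
  have hiI := Div89.isIso_off_center hb
  let jU : X ⟶ (I.support.compl : P.Opens) := IsOpenImmersion.lift (Scheme.Opens.ι I.support.compl) j (by
    rw [Scheme.Opens.range_ι]; exact fun x hx => hle hx)
  have hjU : jU ≫ Scheme.Opens.ι I.support.compl = j := IsOpenImmersion.lift_fac _ _ _
  have : IsOpenImmersion (jU ≫ Scheme.Opens.ι I.support.compl) := by rw [hjU]; infer_instance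
  have : IsOpenImmersion jU := IsOpenImmersion.of_comp jU (Scheme.Opens.ι I.support.compl)
  let j' : X ⟶ P' := jU ≫ inv (b ∣_ I.support.compl) ≫ (b ⁻¹ᵁ I.support.compl).ι
  have hj' : j' ≫ b = j := by
    simp only [j', Category.assoc]
    rw [← morphismRestrict_ι, IsIso.inv_hom_id_assoc, hjU]
  refine ⟨P', b, j', G, π, hp, inferInstance, hj', hGl, hπ, ?_⟩
  let U' : P'.Opens := (I.comap b).support.compl
  have hr : Set.range j' ⊆ Set.range U'.ι := by
    rintro _ ⟨x, rfl⟩
    rw [Scheme.Opens.range_ι]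
    show j' x ∉ ((I.comap b).support : Set P')
    rw [Scheme.IdealSheafData.support_comap]
    show b (j' x) ∉ (I.support : Set P)
    rw [← Scheme.Hom.comp_apply, hj']
    exact hle ⟨x, rfl⟩
  have hfac : IsOpenImmersion.lift U'.ι j' hr ≫ U'.ι = j' := IsOpenImmersion.lift_fac _ _ _
  have hU' : IsIso ((Scheme.Modules.pullback U'.ι).map π) := by
    rw [← NatIso.naturality_1 (Scheme.Modules.restrictFunctorIsoPullback U'.ι) π]
    infer_instance
  rw [← hfac]
  rw [← NatIso.naturality_1 (Scheme.Modules.pullbackComp (IsOpenImmersion.lift U'.ι j' hr) U'.ι) π]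
  simp only [Functor.comp_map]
  infer_instance

/-- Exact sequences of vector bundles extend to suitable compactifications, given Nagata compactification. -/
theorem exists_extend_sequence
    (nagata : ∀ {X S : Scheme.{u}} (f : X ⟶ S) [CompactSpace S] [QuasiSeparatedSpace S] [IsSeparated f]
      [QuasiCompact f] [LocallyOfFiniteType f],
      ∃ (Xc : Scheme.{u}) (j : X ⟶ Xc) (g : Xc ⟶ S), IsOpenImmersion j ∧ QuasiCompact j ∧ IsProper g ∧ j ≫ g = f)
    {S : Scheme.{u}} [IsNoetherian S] {X : Scheme.{u}} (f : X ⟶ S) [IsSeparated f] [QuasiCompact f]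
    [LocallyOfFiniteType f] (C : ShortComplex X.Modules) (hC : C.ShortExact)
    (h₂ : FlatMod.IsFinLocFree C.X₂) (h₃ : FlatMod.IsFinLocFree C.X₃) :
    ∃ (Xb : Scheme.{u}) (j : X ⟶ Xb) (g : Xb ⟶ S) (E : Xb.IdealSheafData),
      IsOpenImmersion j ∧ IsProper g ∧ j ≫ g = f ∧
      BlowUp.IsEffCartierIdeal E ∧ (E.support : Set Xb) = (Set.range j.base)ᶜ ∧
      ∃ (T : ShortComplex Xb.Modules), T.ShortExact ∧
        FlatMod.IsFinLocFree T.X₁ ∧ FlatMod.IsFinLocFree T.X₂ ∧ FlatMod.IsFinLocFree T.X₃ ∧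
        ∃ (e₁ : (Scheme.Modules.pullback j).obj T.X₁ ≅ C.X₁) (e₂ : (Scheme.Modules.pullback j).obj T.X₂ ≅ C.X₂)
          (e₃ : (Scheme.Modules.pullback j).obj T.X₃ ≅ C.X₃),
          (Scheme.Modules.pullback j).map T.f ≫ e₂.hom = e₁.hom ≫ C.f ∧
          (Scheme.Modules.pullback j).map T.g ≫ e₃.hom = e₂.hom ≫ C.g := by
  classical
  obtain ⟨P₀, j₀, g₀, hj₀, -, hg₀, hf₀⟩ := nagata f
  have : IsLocallyNoetherian P₀ := LocallyOfFiniteType.isLocallyNoetherian g₀
  have : CompactSpace P₀ := QuasiCompact.compactSpace_of_compactSpace g₀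
  have : IsNoetherian P₀ := {}
  obtain ⟨F₀, hF₀, ⟨i₀⟩⟩ := exists_extension j₀ (CD47.isCoh_of_isFinLocFree h₂)
  obtain ⟨P₁, b₁, j₁, G₂, π₁, hb₁, hj₁, hfac₁, hG₂, hπ₁, hiso₁⟩ := exists_flatten j₀ hF₀
    (ParaF26.isFinLocFree_of_iso i₀.symm h₂)
  have : IsLocallyNoetherian P₁ := LocallyOfFiniteType.isLocallyNoetherian b₁
  have : CompactSpace P₁ := QuasiCompact.compactSpace_of_compactSpace b₁
  have : IsNoetherian P₁ := {}
  let i₁ : (Scheme.Modules.pullback j₁).obj G₂ ≅ C.X₂ :=
    (asIso ((Scheme.Modules.pullback j₁).map π₁)).symm ≪≫ (Scheme.Modules.pullbackComp j₁ b₁).app F₀ ≪≫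
      (Scheme.Modules.pullbackCongr hfac₁).app F₀ ≪≫ i₀
  have := hC.epi_g
  obtain ⟨F₁, p₁, i₁', hF₁, hp₁, hp₁eq⟩ := exists_quot_extension j₁ (CD47.isCoh_of_isFinLocFree hG₂) i₁ C.g
    (CD47.isCoh_of_isFinLocFree h₃)
  obtain ⟨P₂, b₂, j₂, G₃, π₂, hb₂, hj₂, hfac₂, hG₃, hπ₂, hiso₂⟩ := exists_flatten j₁ hF₁
    (ParaF26.isFinLocFree_of_iso i₁'.symm h₃)
  have : IsLocallyNoetherian P₂ := LocallyOfFiniteType.isLocallyNoetherian b₂
  have : CompactSpace P₂ := QuasiCompact.compactSpace_of_compactSpace b₂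
  have : IsNoetherian P₂ := {}
  obtain ⟨P₃, b₃, j₃, E, hb₃, hj₃, hfac₃, hE, hEs⟩ := Compactify.exists_cartier_boundary j₂
  have : IsLocallyNoetherian P₃ := LocallyOfFiniteType.isLocallyNoetherian b₃
  have : PreservesColimitsOfSize.{0, 0} (Scheme.Modules.pullback b₂) :=
    (Scheme.Modules.pullbackPushforwardAdjunction b₂).leftAdjoint_preservesColimits
  have : PreservesColimitsOfSize.{0, 0} (Scheme.Modules.pullback b₃) :=
    (Scheme.Modules.pullbackPushforwardAdjunction b₃).leftAdjoint_preservesColimits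
  let r₂ : (Scheme.Modules.pullback b₂).obj G₂ ⟶ G₃ := (Scheme.Modules.pullback b₂).map p₁ ≫ π₂
  let M₂ := (Scheme.Modules.pullback b₃).obj ((Scheme.Modules.pullback b₂).obj G₂)
  let M₃ := (Scheme.Modules.pullback b₃).obj G₃
  let r : M₂ ⟶ M₃ := (Scheme.Modules.pullback b₃).map r₂
  have : Epi r := inferInstance
  have hM₂ : FlatMod.IsFinLocFree M₂ := Strict99.isFinLocFree_pullback b₃ (Strict99.isFinLocFree_pullback b₂ hG₂)
  have hM₃ : FlatMod.IsFinLocFree M₃ := Strict99.isFinLocFree_pullback b₃ hG₃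
  let T : ShortComplex P₃.Modules := ShortComplex.mk (kernel.ι r) r (kernel.condition r)
  have hT : T.ShortExact := { exact := ShortComplex.exact_of_f_is_kernel _ (kernelIsKernel r) }
  have hg : j₃ ≫ b₃ ≫ b₂ ≫ b₁ ≫ g₀ = f := by
    rw [← Category.assoc, hfac₃, ← Category.assoc, hfac₂, ← Category.assoc, hfac₁, hf₀]
  refine ⟨P₃, j₃, b₃ ≫ b₂ ≫ b₁ ≫ g₀, E, hj₃, inferInstance, hg, hE, hEs, T, hT,
    SerreD94.isFinLocFree_kernel (CD47.isCoh_of_isFinLocFree hM₂) (CD47.isCoh_of_isFinLocFree hM₃) hM₂ hM₃ r,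
    hM₂, hM₃, ?_⟩
  let c₃₂ := Scheme.Modules.pullbackComp j₃ b₃ ≪≫ Scheme.Modules.pullbackCongr hfac₃
  let c₂₁ := Scheme.Modules.pullbackComp j₂ b₂ ≪≫ Scheme.Modules.pullbackCongr hfac₂
  let e₂ : (Scheme.Modules.pullback j₃).obj M₂ ≅ C.X₂ :=
    c₃₂.app ((Scheme.Modules.pullback b₂).obj G₂) ≪≫ c₂₁.app G₂ ≪≫ i₁
  let e₃ : (Scheme.Modules.pullback j₃).obj M₃ ≅ C.X₃ :=
    c₃₂.app G₃ ≪≫ (asIso ((Scheme.Modules.pullback j₂).map π₂)).symm ≪≫ c₂₁.app F₁ ≪≫ i₁'
  have hcomm : (Scheme.Modules.pullback j₃).map r ≫ e₃.hom = e₂.hom ≫ C.g := by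
    have n₁ : (Scheme.Modules.pullback j₃).map ((Scheme.Modules.pullback b₃).map r₂) ≫ c₃₂.hom.app G₃ =
        c₃₂.hom.app _ ≫ (Scheme.Modules.pullback j₂).map r₂ := c₃₂.hom.naturality r₂
    have n₂ : (Scheme.Modules.pullback j₂).map ((Scheme.Modules.pullback b₂).map p₁) ≫ c₂₁.hom.app F₁ =
        c₂₁.hom.app _ ≫ (Scheme.Modules.pullback j₁).map p₁ := c₂₁.hom.naturality p₁
    simp only [e₂, e₃, Iso.trans_hom, Iso.app_hom, Iso.symm_hom, asIso_inv, r, r₂, Category.assoc] at n₁ ⊢
    rw [← Category.assoc, n₁, Category.assoc, Functor.map_comp, Category.assoc, IsIso.hom_inv_id_assoc,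
      ← Category.assoc ((Scheme.Modules.pullback j₂).map _), n₂, Category.assoc, hp₁eq]
  have : PreservesColimitsOfSize.{0, 0} (Scheme.Modules.pullback j₃) :=
    (Scheme.Modules.pullbackPushforwardAdjunction j₃).leftAdjoint_preservesColimits
  have := ZClos93.preservesFiniteLimits_restrictFunctor j₃
  have : PreservesFiniteLimits (Scheme.Modules.pullback j₃) :=
    preservesFiniteLimits_of_natIso (Scheme.Modules.restrictFunctorIsoPullback j₃)
  have : (Scheme.Modules.pullback j₃).PreservesZeroMorphisms :=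
    Functor.preservesZeroMorphisms_of_isLeftAdjoint _
  let k₁ := hC.fIsKernel.conePointUniqueUpToIso (kernelIsKernel C.g)
  have hk : k₁.inv ≫ C.f = kernel.ι C.g :=
    IsLimit.conePointUniqueUpToIso_inv_comp hC.fIsKernel (kernelIsKernel C.g) WalkingParallelPair.zero
  let e₁ : (Scheme.Modules.pullback j₃).obj T.X₁ ≅ C.X₁ :=
    PreservesKernel.iso (Scheme.Modules.pullback j₃) r ≪≫ kernel.mapIso _ C.g e₂ e₃ hcomm ≪≫ k₁.symm
  refine ⟨e₁, e₂, e₃, ?_, hcomm⟩
  simp only [e₁, T, Iso.trans_hom, Iso.symm_hom, Category.assoc, hk, PreservesKernel.iso_hom, kernel.mapIso_hom,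
    kernel.map, kernel.lift_ι]
  rw [← Category.assoc, kernelComparison_comp_ι]

end Groth.Agent.Ega11.ExtendBundle
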