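import Mathlib.RingTheory.Flat.Basic
import Mathlib.RingTheory.Flat.Stability
import Mathlib.LinearAlgebra.TensorProduct.Quotient
import Mathlib.RingTheory.Support
import Mathlib.RingTheory.Ideal.Height
import Mathlib.RingTheory.Ideal.GoingDown

/-! Going down along the support of a finite module that is flat over the base. -/

set_option autoImplicit false
universe u v w

open TensorProduct

namespace Groth.Agent.Ega11.FlatSupp

variable {A : Type u} {B : Type v} [CommRing A] [CommRing B] [Algebra A B]
  (N : Type w) [AddCommGroup N] [Module B N] [Module A N] [IsScalarTower A B N] [Module.Finite B N] [Module.Flat A N]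

theorem exists_le_of_support (q : PrimeSpectrum B) (hq : q ∈ Module.support B N) (p : PrimeSpectrum A)
    (hpq : p ≤ PrimeSpectrum.comap (algebraMap A B) q) :
    ∃ q' : PrimeSpectrum B, q' ≤ q ∧ q' ∈ Module.support B N ∧ PrimeSpectrum.comap (algebraMap A B) q' = p := by
  let J : Ideal B := p.asIdeal.map (algebraMap A B) ⊔ Module.annihilator B N
  let S : Submonoid B := p.asIdeal.primeCompl.map (algebraMap A B) ⊔ q.asIdeal.primeCompl
  have hdisj : Disjoint (J : Set B) S := by
    refine Set.disjoint_left.mpr fun z hzJ hzS => ?_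
    obtain ⟨_, ⟨a, ha, rfl⟩, s, hs, rfl⟩ := Submonoid.mem_sup.mp hzS
    -- `s` carries `N` into `p N`
    have hmem : ∀ n : N, s • n ∈ p.asIdeal • (⊤ : Submodule A N) := by
      intro n
      have hinj : Function.Injective (LinearMap.rTensor N
          (LinearMap.lsmul A (A ⧸ p.asIdeal) a)) := by
        refine Module.Flat.rTensor_preserves_injective_linearMap _ ?_
        intro x y hxy
        simp only [LinearMap.lsmul_apply, Algebra.smul_def] at hxy
        exact mul_left_cancel₀ (fun h => ha (Ideal.Quotient.eq_zero_iff_mem.mp h)) hxy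
      have h1 : a • (s • n) ∈ p.asIdeal • (⊤ : Submodule A N) := by
        obtain ⟨j, hj, k, hk, hjk⟩ := Submodule.mem_sup.mp hzJ
        rw [← algebraMap_smul B a, ← mul_smul, ← hjk, add_smul, Module.mem_annihilator.mp hk, add_zero]
        refine Submodule.span_induction ?_ ?_ ?_ ?_ hj
        · rintro _ ⟨b, hb, rfl⟩
          rw [algebraMap_smul]
          exact Submodule.smul_mem_smul hb Submodule.mem_top
        · rw [zero_smul]; exact Submodule.zero_mem _
        · intro x y _ _ hx hy; rw [add_smul]; exact Submodule.add_mem _ hx hy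
        · intro r x _ hx
          rw [smul_eq_mul, mul_smul]
          refine Submodule.smul_induction_on hx (fun b hb m _ => ?_) (fun m m' hm hm' => ?_)
          · rw [smul_comm]; exact Submodule.smul_mem_smul hb Submodule.mem_top
          · rw [smul_add]; exact Submodule.add_mem _ hm hm'
      have h2 : (Ideal.Quotient.mk p.asIdeal 1) ⊗ₜ[A] (s • n) = 0 := by
        apply hinj
        rw [map_zero, LinearMap.rTensor_tmul, LinearMap.lsmul_apply, smul_tmul]
        apply (TensorProduct.quotTensorEquivQuotSMul N p.asIdeal).injective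
        rw [map_zero, TensorProduct.quotTensorEquivQuotSMul_mk_tmul, one_smul, Submodule.Quotient.mk_eq_zero]
        exact h1
      have h3 := congrArg (TensorProduct.quotTensorEquivQuotSMul N p.asIdeal) h2
      rwa [map_zero, TensorProduct.quotTensorEquivQuotSMul_mk_tmul, one_smul, Submodule.Quotient.mk_eq_zero] at h3
    have hle : ∀ m : N, m ∈ p.asIdeal • (⊤ : Submodule A N) → m ∈ q.asIdeal • (⊤ : Submodule B N) := by
      intro m hm
      refine Submodule.smul_induction_on hm (fun b hb x _ => ?_) (fun x y hx hy => Submodule.add_mem _ hx hy)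
      rw [← algebraMap_smul B b]
      exact Submodule.smul_mem_smul (hpq hb) Submodule.mem_top
    have hsupp : q ∈ Module.support B (N ⧸ q.asIdeal • (⊤ : Submodule B N)) := by
      rw [Module.support_quotient]
      exact ⟨hq, (PrimeSpectrum.mem_zeroLocus _ _).mpr le_rfl⟩
    exact hs (Module.mem_support_iff_of_finite.mp hsupp (Module.mem_annihilator.mpr fun x => by
      obtain ⟨n, rfl⟩ := Submodule.Quotient.mk_surjective _ x
      rw [← Submodule.Quotient.mk_smul, Submodule.Quotient.mk_eq_zero]
      exact hle _ (hmem n)))
  obtain ⟨Q, hQ, hJQ, hQS⟩ := Ideal.exists_le_prime_disjoint J S hdisj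
  refine ⟨⟨Q, hQ⟩, fun z hz => ?_, Module.mem_support_iff_of_finite.mpr (le_trans le_sup_right hJQ), ?_⟩
  · by_contra hzq
    exact Set.disjoint_left.mp hQS hz (Submonoid.mem_sup_right (show z ∈ q.asIdeal.primeCompl from hzq))
  · refine PrimeSpectrum.ext (le_antisymm (fun a ha => ?_) (Ideal.map_le_iff_le_comap.mp (le_trans le_sup_left hJQ)))
    by_contra hap
    exact Set.disjoint_left.mp hQS ha (Submonoid.mem_sup_left (Submonoid.mem_map_of_mem _ hap))

/-- Heights do not decrease along the support. -/
theorem height_le (q : PrimeSpectrum B) (hq : q ∈ Module.support B N) :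
    (PrimeSpectrum.comap (algebraMap A B) q).asIdeal.height ≤ q.asIdeal.height := by
  rw [PrimeSpectrum.height_eq_orderHeight, PrimeSpectrum.height_eq_orderHeight]
  suffices h : ∀ p : PrimeSpectrum A, ∀ q : PrimeSpectrum B, q ∈ Module.support B N →
      PrimeSpectrum.comap (algebraMap A B) q = p → ∀ n : ℕ, (n : ℕ∞) ≤ Order.height p → (n : ℕ∞) ≤ Order.height q by
    refine ENat.forall_natCast_le_iff_le.mp fun n hn => h _ q hq rfl n hn
  intro p q hq hpq n
  induction n generalizing p q with
  | zero => intro _; simp
  | succ n ih =>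
    intro hn
    obtain ⟨s, hlast, hlen⟩ := Order.exists_series_of_le_height p hn
    let p' := s.eraseLast.last
    have hlt : p' < p := hlast ▸ s.eraseLast_last_rel_last (by omega)
    obtain ⟨q', hq'q, hq', hq'p⟩ := exists_le_of_support N q hq p' (hpq ▸ hlt.le)
    have hne : q' < q := lt_of_le_of_ne hq'q fun e => hlt.ne (by rw [← hq'p, e, hpq])
    refine le_trans ?_ (Order.height_add_one_le hne)
    push_cast
    gcongr
    refine ih p' q' hq' hq'p ?_
    have := Order.length_le_height_last (p := s.eraseLast)
    rw [RelSeries.eraseLast_length, hlen, Nat.add_sub_cancel] at this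
    exact this

end Groth.Agent.Ega11.FlatSupp
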