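import Groth.Agent.Crv77.TwistSection
import Groth.Agent.Amp73.Avoid
import Groth.Agent.Amp73.GlobGen
import Groth.Agent.FlatMor68.PullbackDescent
import Groth.Agent.Props58.LocFree.Basis
import Groth.Agent.Ega11.NodeLengths
import Groth.Agent.QC70.CohOps
import Groth.Agent.RegSh99.Basic
import Mathlib

/-! Coherent modules without embedded points embed into sums of powers of an ample module, generically
isomorphically. -/

set_option autoImplicit false
set_option backward.isDefEq.respectTransparency.types false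
universe u

open CategoryTheory CategoryTheory.Limits AlgebraicGeometry TopologicalSpace
open Groth.Agent.Var76.LineBundle Groth.Agent.Var76.ZeroScheme
open Groth.Agent.QC70 (germM stalkMapM stalkLinear germM_exist stalkMapM_germ germM_smul germM_zero germM_res)

namespace Groth.Agent.Ega11.GenEmbed

variable {X : Scheme.{u}}

/-- in finitely many vector spaces a group avoids finitely many subspaces -/
theorem exists_avoid {k G ι : Type*} [Field k] [Infinite k] [AddCommGroup G] (act : k → G →+ G)
    (V : ι → Type*) [∀ i, AddCommGroup (V i)] {K : ι → Type*} [∀ i, Field (K i)] [∀ i, Module (K i) (V i)]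
    (g : ∀ i, G →+ V i) (κ : ∀ i, k →+* K i) (hg : ∀ i c t, g i (act c t) = κ i c • g i t)
    (W : ∀ i, Submodule (K i) (V i)) (S : Finset ι) (h : ∀ i ∈ S, ∃ t, g i t ∉ W i) :
    ∃ t, ∀ i ∈ S, g i t ∉ W i := by
  classical
  induction S using Finset.induction_on with
  | empty => exact ⟨0, by simp⟩
  | @insert a S haS ih =>
    obtain ⟨v, hv⟩ := ih fun i hi => h i (Finset.mem_insert_of_mem hi)
    obtain ⟨w, hw⟩ := h a (Finset.mem_insert_self a S)
    have key : ∀ i, ¬ (g i v ∈ W i ∧ g i w ∈ W i) → {c : k | g i (v + act c w) ∈ W i}.Subsingleton := by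
      intro i hi c hc c' hc'
      by_contra hne
      have h1 := sub_mem (Set.mem_setOf_eq ▸ hc : g i (v + act c w) ∈ W i) (Set.mem_setOf_eq ▸ hc' : g i (v + act c' w) ∈ W i)
      rw [map_add, map_add, hg, hg, add_sub_add_left_eq_sub, ← sub_smul, ← map_sub] at h1
      have hu : κ i (c - c') ≠ 0 := (map_ne_zero _).2 (sub_ne_zero.2 hne)
      have h2 : g i w ∈ W i := (Submodule.smul_mem_iff _ hu).1 h1
      refine hi ⟨?_, h2⟩
      have h3 := hc
      rw [Set.mem_setOf_eq, map_add, hg, Submodule.add_mem_iff_left _ (Submodule.smul_mem _ _ h2)] at h3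
      exact h3
    have hfin : (⋃ i ∈ insert a S, {c : k | g i (v + act c w) ∈ W i}).Finite :=
      (Finset.finite_toSet _).biUnion fun i hi => (key i (by
        rintro ⟨h1, h2⟩
        rcases Finset.mem_insert.1 hi with rfl | hiS
        · exact hw h2
        · exact hv i hiS h1)).finite
    obtain ⟨c, hc⟩ := hfin.infinite_compl.nonempty
    exact ⟨v + act c w, fun i hi hmem => hc (Set.mem_iUnion₂.2 ⟨i, hi, hmem⟩)⟩

/-- `y ↦ y ⊗ t` for a global section `t`. -/
noncomputable def tmRight {G : X.Modules} (t : Γ(G, ⊤)) (N : X.Modules) : N ⟶ CohB1.tensorMod N G :=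
  ⟨PresheafOfModules.homMk (M₁ := N.val) (M₂ := (CohB1.tensorMod N G).val)
    { app := fun U => AddCommGrpCat.ofHom
        { toFun := fun (y : Γ(N, U.unop)) => Amp73.tm N G y (res G (le_top : U.unop ≤ ⊤) t)
          map_zero' := by
            have h := Amp73.tm_smul_left (L := N) (M := G) (0 : Γ(X, U.unop)) 0 (res G (le_top : U.unop ≤ ⊤) t)
            rwa [zero_smul, zero_smul] at h
          map_add' := fun y y' => Amp73.tm_add_left y y' _ }
      naturality := fun U V i => by
        ext y
        show Amp73.tm N G (res N i.unop.le y) (res G (le_top : V.unop ≤ ⊤) t) =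
          res (CohB1.tensorMod N G) i.unop.le (Amp73.tm N G y (res G (le_top : U.unop ≤ ⊤) t))
        rw [Amp73.res_tm, res_res] }
    (fun _ r y => Amp73.tm_smul_left r y _)⟩

theorem tmRight_app {G : X.Modules} (t : Γ(G, ⊤)) (N : X.Modules) (U : X.Opens) (y : Γ(N, U)) :
    (tmRight t N).app U y = Amp73.tm N G y (res G le_top t) := rfl

theorem tmRight_naturality {G A B : X.Modules} (t : Γ(G, ⊤)) (g : A ⟶ B) :
    g ≫ tmRight t B = tmRight t A ≫ Crv77.twistMap g G := by
  refine Scheme.Modules.hom_ext _ _ fun U => ?_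
  ext y
  show (tmRight t B).app U (g.app U y) = (Crv77.twistMap g G).app U ((tmRight t A).app U y)
  rw [tmRight_app, tmRight_app, Crv77.twist_map_tm]

variable {L : X.Modules}

/-- tensoring with a power of a section is bijective on stalks in its generating locus -/
theorem bijective_tmRight (σ : Coh.structureModule X ⟶ L) (N : ℕ) (A : X.Modules) {x : X}
    (hx : x ∈ CohB1.genLocus L σ) :
    Function.Bijective (stalkMapM (tmRight (Amp73.epow (val L σ ⊤) N) A) x) := by
  set D := CohB1.genLocus L σ
  have hf : IsFrame (CohB1.tensorPow L N) D (res _ (le_top : D ≤ ⊤) (Amp73.epow (val L σ ⊤) N)) := by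
    rw [Amp73.res_epow, res_val]
    exact Amp73.isFrame_epow (Amp73.isFrame_genLocus σ) N
  have hres : ∀ (V : X.Opens) (hV : V ≤ D),
      res _ hV (res _ (le_top : D ≤ ⊤) (Amp73.epow (val L σ ⊤) N)) =
        res _ (le_top : V ≤ ⊤) (Amp73.epow (val L σ ⊤) N) := fun V hV => res_res _ _ _ _
  constructor
  · refine (injective_iff_map_eq_zero (stalkLinear (tmRight (Amp73.epow (val L σ ⊤) N) A) x)).2 ?_
    intro z hz
    obtain ⟨W, hxW, s, rfl⟩ := germM_exist z
    change stalkMapM _ x _ = 0 at hz
    rw [stalkMapM_germ] at hz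
    obtain ⟨W', hle, hxW', h0⟩ := QC70.germM_eq_zero hz
    have hle' : W' ⊓ D ≤ W := inf_le_left.trans hle
    rw [← germM_res hle' (show x ∈ W' ⊓ D from ⟨hxW', hx⟩) s]
    refine (congrArg _ ?_).trans (germM_zero _)
    refine Amp73.tm_frame_injective (L := A) hf (inf_le_right : W' ⊓ D ≤ D) (QC70.res A hle' s) 0 ?_
    rw [Amp73.tm_zero_left, hres]
    refine (tmRight_app (Amp73.epow (val L σ ⊤) N) A _ _).symm.trans ?_
    rw [QC70.app_res, ← QC70.res_res hle (inf_le_left : W' ⊓ D ≤ W'), h0]
    exact QC70.res_zero _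
  · intro z
    obtain ⟨W, hxW, m, rfl⟩ := germM_exist z
    obtain ⟨a, ha⟩ := Amp73.exists_eq_tm_frame (L := A) hf (inf_le_right : W ⊓ D ≤ D)
      (QC70.res _ (inf_le_left : W ⊓ D ≤ W) m)
    refine ⟨germM A (W ⊓ D) x ⟨hxW, hx⟩ a, ?_⟩
    rw [stalkMapM_germ, tmRight_app, ← hres _ inf_le_right, ha, germM_res]

/-- modules vanishing on a generating locus are killed by a power of the section -/
theorem exists_tmRight_eq_zero [CompactSpace X] (hL : PicF.IsInvertible L) (σ : Coh.structureModule X ⟶ L)
    {C : X.Modules} (hC : Coh.IsCoh C)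
    (h : ∀ x ∈ CohB1.genLocus L σ, Subsingleton (C.presheaf.stalk x)) :
    ∃ N₀ : ℕ, ∀ N, N₀ ≤ N → tmRight (Amp73.epow (val L σ ⊤) N) C = 0 := by
  classical
  obtain ⟨ι, _, W, e, hW, he, hcov⟩ := Amp73.exists_finite_frames (L := L) hL
  cases nonempty_fintype ι
  have := hC.1
  have := hC.2
  choose c hc using fun i => Amp73.exists_coord σ (he i)
  choose T hT using fun i => (QC70.finite_sections_of_isFiniteType C (hW i)).fg_top
  have hk : ∀ (i : ι) (g : Γ(C, W i)), ∃ k : ℕ, c i ^ k • g = 0 := fun i g => by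
    refine (QC70.isLocAt_of_isQuasicoherent C (hW i)).eq_zero_of (c i) g ?_
    refine QC70.section_ext _ _ _ fun y hy => ?_
    have hyD : y ∈ CohB1.genLocus L σ :=
      ((Amp73.genLocus_inf_eq_basicOpen σ (he i) (hc i)).ge hy).1
    have := h y hyD
    have h0 : germM C (X.basicOpen (c i)) y hy (QC70.res C (X.basicOpen_le (c i)) g) = 0 := Subsingleton.elim _ _
    obtain ⟨W', hle, hyW', h0⟩ := QC70.germM_eq_zero h0
    exact ⟨W', hle, hyW', h0.trans (QC70.res_zero _).symm⟩
  choose k hk using hk
  refine ⟨∑ i, ∑ g ∈ T i, k i g, fun N hN => ?_⟩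
  refine (FlatMor68.PullbackDescent.zero_iff _).2 fun x z => ?_
  obtain ⟨i, hi⟩ := Opens.mem_iSup.1 (hcov.ge (Set.mem_univ x))
  let := Div89.stalkAlg (W i) x hi
  let := Div89.stalkModule C (W i) x hi
  have := Div89.isScalarTower_stalk C (W i) x hi
  have := Div89.primeAt_isPrime ⟨W i, hW i⟩ x hi
  let S := (Div89.primeAt ⟨W i, hW i⟩ x hi).primeCompl
  have : IsLocalization S (X.presheaf.stalk x) := Div89.isLocalization_stalk ⟨W i, hW i⟩ x hi
  have : IsLocalizedModule S (Div89.germLin C (W i) x hi) :=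
    Div89.isLocalizedModule_germLin C inferInstance ⟨W i, hW i⟩ x hi
  set u := tmRight (Amp73.epow (val L σ ⊤) N) C
  have h1 : ∀ g : Γ(C, W i), stalkMapM u x (germM C (W i) x hi g) = 0 := by
    intro g
    have hg : g ∈ Submodule.span Γ(X, W i) (T i : Set Γ(C, W i)) := (hT i).ge Submodule.mem_top
    rw [stalkMapM_germ]
    refine (congrArg _ ?_).trans (germM_zero hi)
    induction hg using Submodule.span_induction with
    | mem g hg =>
      rw [tmRight_app, Amp73.res_epow, res_val]
      refine (Amp73.tw_of_coord σ N (hc i) g).trans ?_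
      have hle : k i g ≤ N := le_trans (le_trans
        (Finset.single_le_sum (f := fun g => k i g) (fun _ _ => Nat.zero_le _) hg)
        (Finset.single_le_sum (f := fun i => ∑ g ∈ T i, k i g) (fun _ _ => Nat.zero_le _) (Finset.mem_univ i))) hN
      obtain ⟨d, hd⟩ := Nat.exists_eq_add_of_le hle
      rw [hd, add_comm, pow_add, mul_smul, hk, smul_zero, Amp73.tm_zero_left]
    | zero => exact map_zero _
    | add a b _ _ ha hb => rw [map_add, ha, hb, add_zero]
    | smul r a _ ha => rw [Scheme.Modules.Hom.app_smul, ha, smul_zero]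
  obtain ⟨⟨g, t⟩, hgt⟩ := IsLocalizedModule.surj S (Div89.germLin C (W i) x hi) z
  have hu : IsUnit (algebraMap Γ(X, W i) (X.presheaf.stalk x) t.1) := IsLocalization.map_units _ t
  refine hu.smul_left_cancel.1 ?_
  rw [smul_zero]
  refine ((stalkLinear u x).map_smul _ z).symm.trans ?_
  refine (congrArg (stalkLinear u x) ((algebraMap_smul (X.presheaf.stalk x) t.1 z).trans hgt)).trans ?_
  exact h1 g

/-- the map from a free module given by global sections whose germs form a basis is bijective on the stalk -/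
theorem bijective_desc {n : ℕ} {M : X.Modules} (v : Fin n → Γ(M, ⊤)) {x : X}
    (hv : Function.Bijective (Fintype.linearCombination (X.presheaf.stalk x)
      fun i => germM M ⊤ x trivial (v i))) :
    Function.Bijective (stalkMapM (Sigma.desc fun i => EGA73.unitHom M (v i) : FlatMod.freeMod X n ⟶ M) x) := by
  set ψ := (Sigma.desc fun i => EGA73.unitHom M (v i) : FlatMod.freeMod X n ⟶ M)
  let e : Fin n → (FlatMod.freeMod X n).presheaf.stalk x := fun i =>
    germM _ ⊤ x trivial (Props58.LocFree.unitVec X n i)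
  have he : ∀ i, stalkMapM ψ x (e i) = germM M ⊤ x trivial (v i) := fun i => by
    rw [stalkMapM_germ]
    refine congrArg _ ?_
    show ψ.app ⊤ ((Sigma.ι (fun _ : Fin n => Coh.structureModule X) i).app ⊤ (QC70.toUnit 1)) = v i
    refine (ConcreteCategory.congr_hom (congrArg (fun f => Scheme.Modules.Hom.app f ⊤)
      (Sigma.ι_desc (fun i => EGA73.unitHom M (v i)) i)) _).trans ?_
    refine (EGA73.unitHom_app M (v i) ⊤ 1).trans ((one_smul _ _).trans ?_)
    exact QC70.res_self _
  have hsurj : Function.Surjective (Fintype.linearCombination (X.presheaf.stalk x) e) := by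
    intro z
    obtain ⟨W, hxW, m, rfl⟩ := germM_exist z
    obtain ⟨a, rfl⟩ := Props58.LocFree.free_exists_comb m
    refine ⟨fun i => X.presheaf.germ W x hxW (a i), ?_⟩
    rw [Fintype.linearCombination_apply]
    refine Eq.trans (Finset.sum_congr rfl fun i _ => ?_)
      (map_sum ((FlatMod.freeMod X n).presheaf.germ W x hxW).hom _ _).symm
    refine Eq.trans ?_ (germM_smul hxW _ _).symm
    exact congrArg (X.presheaf.germ W x hxW (a i) • ·) (germM_res (le_top : W ≤ ⊤) hxW _).symm
  have hcomp : stalkLinear ψ x ∘ₗ Fintype.linearCombination (X.presheaf.stalk x) e =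
      Fintype.linearCombination (X.presheaf.stalk x) fun i => germM M ⊤ x trivial (v i) := by
    refine LinearMap.ext fun a => ?_
    rw [LinearMap.comp_apply, Fintype.linearCombination_apply, Fintype.linearCombination_apply, map_sum]
    exact Finset.sum_congr rfl fun i _ => ((stalkLinear ψ x).map_smul _ _).trans (congrArg _ (he i))
  refine ⟨fun z z' hz => ?_, fun w => ?_⟩
  · obtain ⟨a, rfl⟩ := hsurj z
    obtain ⟨a', rfl⟩ := hsurj z'
    rw [hv.1 (((LinearMap.congr_fun hcomp a).symm.trans hz).trans (LinearMap.congr_fun hcomp a'))]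
  · obtain ⟨a, ha⟩ := hv.2 w
    exact ⟨_, (LinearMap.congr_fun hcomp a).trans ha⟩

end Groth.Agent.Ega11.GenEmbed
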