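import Groth.Prelude.Def_TorSh
import Groth.Prelude.Def_Coh
import Groth.Prelude.Def_CurvBase
import Groth.Agent.Div89.WeakAss
import Groth.Agent.Div89.HomSheaf
import Groth.Agent.Mero90.Dense
import Groth.Agent.RatFun90.Dense
import Groth.Agent.QC70.UnitSub
import Groth.Agent.Cyc90.Gen
import Mathlib

/-! Associated points of torsion-free modules on reduced schemes. -/

set_option autoImplicit false
universe u

open CategoryTheory CategoryTheory.Limits AlgebraicGeometry TopologicalSpace

namespace Groth.Agent.Ega11.TorFreeAss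

/-- in a reduced Noetherian local ring whose maximal ideal consists of zero divisors is a field -/
theorem isField_of_forall_zeroDivisor {R : Type u} [CommRing R] [IsLocalRing R] [IsNoetherianRing R] [IsReduced R]
    (h : ∀ a ∈ IsLocalRing.maximalIdeal R, ∃ b : R, b ≠ 0 ∧ a * b = 0) : IsField R := by
  have hfin := minimalPrimes.finite_of_isNoetherianRing R
  have hsub : (IsLocalRing.maximalIdeal R : Set R) ⊆ ⋃ p ∈ (minimalPrimes R), (p : Set R) := by
    intro a ha
    obtain ⟨b, hb, hab⟩ := h a ha
    by_contra hmem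
    simp only [Set.mem_iUnion, SetLike.mem_coe, not_exists] at hmem
    refine hb ?_
    have : b ∈ sInf (minimalPrimes R) := by
      refine Submodule.mem_sInf.2 fun p hp => ?_
      exact ((Ideal.minimalPrimes_isPrime hp).mem_or_mem (show a * b ∈ p by rw [hab]; exact p.zero_mem)).resolve_left
        (hmem p hp)
    rwa [minimalPrimes, Ideal.sInf_minimalPrimes, show (⊥ : Ideal R).radical = nilradical R from rfl,
      nilradical_eq_zero, Submodule.zero_eq_bot, Submodule.mem_bot] at this
  obtain ⟨p, hp, hle⟩ := (Ideal.subset_union_prime_finite hfin ⊥ ⊥ (fun p hp _ _ => Ideal.minimalPrimes_isPrime hp)).1 hsub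
  have hm : IsLocalRing.maximalIdeal R ∈ minimalPrimes R := by
    have hpe : p = IsLocalRing.maximalIdeal R := le_antisymm (IsLocalRing.le_maximalIdeal (Ideal.minimalPrimes_isPrime hp).ne_top) hle
    exact hpe ▸ hp
  have hbot : IsLocalRing.maximalIdeal R = ⊥ := by
    rw [eq_bot_iff]
    intro a ha
    have : a ∈ sInf (minimalPrimes R) := by
      refine Submodule.mem_sInf.2 fun q hq => ?_
      exact hm.2 (Ideal.minimalPrimes_isPrime hq |> fun h => ⟨h, bot_le⟩) (IsLocalRing.le_maximalIdeal (Ideal.minimalPrimes_isPrime hq).ne_top) ha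
    rwa [minimalPrimes, Ideal.sInf_minimalPrimes, show (⊥ : Ideal R).radical = nilradical R from rfl,
      nilradical_eq_zero, Submodule.zero_eq_bot] at this
  exact IsLocalRing.isField_iff_maximalIdeal_eq.2 hbot

variable {X : Scheme.{u}}

/-- weakly associated points of torsion-free modules on reduced schemes are the points with field stalks -/
theorem isField_of_weakAss [IsLocallyNoetherian X] [AlgebraicGeometry.IsReduced X] (F : X.Modules)
    (htF : TorSh.IsTorsionFree F) (x : X) (hx : Curv2.IsWeakAssPoint F x) : IsField (X.presheaf.stalk x) := by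
  obtain ⟨m, hm⟩ := hx
  refine isField_of_forall_zeroDivisor fun a ha => ?_
  obtain ⟨n, hn⟩ := hm.ge ha
  have hn' : a ^ n • m = 0 := hn
  have hm0 : m ≠ 0 := fun h0 => (IsLocalRing.maximalIdeal.isMaximal _).ne_top (by
    rw [← hm, h0]; simp)
  have hnr : ¬ IsRegular (a ^ n) := fun hr => hm0 ((htF x).isSMulRegular hr (by simpa using hn'))
  have hnr' : ¬ IsRegular a := fun hr => hnr (hr.pow n)
  rw [isRegular_iff_mem_nonZeroDivisors, mem_nonZeroDivisors_iff_right] at hnr'
  push Not at hnr'
  obtain ⟨b, hab, hb⟩ := hnr'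
  exact ⟨b, hb, by rw [mul_comm]; exact hab⟩

/-- a point with field stalk has no proper generization -/
theorem maxPt_of_isField {η : X} (h : IsField (X.presheaf.stalk η)) : Mero90.MaxPt η := by
  intro w hw
  let := h.toField
  refine (Cyc90.genPrime_eq_iff hw (specializes_refl η)).1 ?_
  apply PrimeSpectrum.ext
  rw [(Ideal.eq_bot_or_top (Cyc90.genPrime hw).asIdeal).resolve_right (Cyc90.genPrime hw).isPrime.ne_top,
    (Ideal.eq_bot_or_top (Cyc90.genPrime (specializes_refl η)).asIdeal).resolve_right
      (Cyc90.genPrime (specializes_refl η)).isPrime.ne_top]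

/-- a dense open contains every maximal point -/
theorem mem_of_dense [NoetherianSpace X] {U : X.Opens} (hU : Dense (U : Set X)) {η : X} (h : Mero90.MaxPt η) :
    η ∈ U :=
  RatFun90.generic_mem_of_dense (NoetherianSpace.finite_irreducibleComponents) U.2 hU h.closure_mem
    (isGenericPoint_closure)

/-- closed maximal points are open -/
theorem isOpen_singleton [NoetherianSpace X] {x : X} (hx : IsClosed ({x} : Set X)) (h : Mero90.MaxPt x) :
    IsOpen ({x} : Set X) := by
  have hZ : ({x} : Set X) ∈ irreducibleComponents X := hx.closure_eq ▸ h.closure_mem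
  obtain ⟨y, hy, hyc⟩ := RatFun90.compOpen_nonempty NoetherianSpace.finite_irreducibleComponents hZ
  have heq : (RatFun90.compOpen NoetherianSpace.finite_irreducibleComponents ({x} : Set X) : Set X) = {x} :=
    le_antisymm (RatFun90.compOpen_subset _ _) (by
      rintro z rfl
      exact (Set.mem_singleton_iff.1 hy) ▸ hyc)
  exact heq ▸ (RatFun90.compOpen NoetherianSpace.finite_irreducibleComponents ({x} : Set X)).2

/-- a section vanishes when its germs at points with field stalk vanish -/
theorem eq_zero_of_germ [IsLocallyNoetherian X] [AlgebraicGeometry.IsReduced X] (F : X.Modules)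
    (hF : Coh.IsQCoh F) (htF : TorSh.IsTorsionFree F) {V : X.Opens} (m : Γ(F, V))
    (h : ∀ (x : X) (hx : x ∈ V), IsField (X.presheaf.stalk x) → F.presheaf.germ V x hx m = 0) : m = 0 :=
  Div89.section_eq_zero_of_germ_weakAss F hF m fun x hx hw => h x hx (isField_of_weakAss F htF x hw)

theorem not_isAssPoint_dual [IsLocallyNoetherian X] [NoetherianSpace X] [AlgebraicGeometry.IsReduced X]
    (F : X.Modules) [F.IsFiniteType] (x : X) (hx : IsClosed ({x} : Set X)) (hxo : ¬ IsOpen ({x} : Set X)) :
    ¬ Curv2.IsAssPoint (RefHull.dual F) x := by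
  intro h
  obtain ⟨θ, hθ⟩ := (Div89.isAssPoint_iff_isWeakAssPoint _ x).1 h
  refine hxo (isOpen_singleton hx (maxPt_of_isField (isField_of_forall_zeroDivisor fun a ha => ?_)))
  obtain ⟨n, hn⟩ := hθ.ge ha
  have hθ0 : θ ≠ 0 := fun h0 => (IsLocalRing.maximalIdeal.isMaximal _).ne_top (by rw [← hθ, h0]; simp)
  let φ := RefHull.evalStalk F (Coh.structureModule X) x θ
  have hφ : φ ≠ 0 := fun e => hθ0 (Div89.evalStalk_injective F _ x (e.trans (map_zero _).symm))
  obtain ⟨e, he⟩ : ∃ e, φ e ≠ 0 := by
    by_contra hc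
    push Not at hc
    exact hφ (LinearMap.ext hc)
  have hn' : a ^ n • θ = 0 := hn
  have h1 : a ^ n • φ e = 0 := by
    rw [← LinearMap.smul_apply, show a ^ n • φ = RefHull.evalStalk F _ x (a ^ n • θ) from (map_smul _ _ _).symm,
      hn', map_zero, LinearMap.zero_apply]
  obtain ⟨ψ, hψ⟩ : ∃ ψ : (Coh.structureModule X).presheaf.stalk x ≃ₗ[X.presheaf.stalk x] X.presheaf.stalk x, True :=
    ⟨(QC70.unitStalkEquiv x).symm, trivial⟩
  have h2 : a ^ n * ψ (φ e) = 0 := by rw [← smul_eq_mul, ← map_smul, h1, map_zero]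
  have h3 : ψ (φ e) ≠ 0 := fun e' => he (ψ.injective (e'.trans (map_zero _).symm))
  by_contra hc
  push Not at hc
  have : ∀ m : ℕ, ∀ b : X.presheaf.stalk x, a ^ m * b = 0 → b = 0 := by
    intro m
    induction m with
    | zero => intro b hb; simpa using hb
    | succ m ih =>
      intro b hb
      rw [pow_succ, mul_assoc] at hb
      by_contra hb0
      exact hc b hb0 (ih _ hb)
  exact h3 (this n _ h2)

end Groth.Agent.Ega11.TorFreeAss
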