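import Groth.Agent.Ega11.GenEmbed
import Groth.Agent.Ega11.TorFreeAss
import Groth.Agent.CD47.Resolution
import Groth.Agent.QC70.ExtCoh
import Groth.Agent.Div89.WeakAss
import Groth.Agent.Div89.FreeStalks
import Mathlib

/-! Embedding coherent modules into sums of powers of an ample module. -/

set_option autoImplicit false
set_option backward.isDefEq.respectTransparency.types false
universe u

open CategoryTheory CategoryTheory.Limits AlgebraicGeometry TopologicalSpace
open Groth.Agent.Var76.LineBundle Groth.Agent.Var76.ZeroScheme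
open Groth.Agent.QC70 (germM stalkMapM stalkLinear germM_exist stalkMapM_germ germM_smul germM_zero germM_res)

namespace Groth.Agent.Ega11.GenEmbed

variable {X : Scheme.{u}}

theorem finite_fieldPts [NoetherianSpace X] : {η : X | IsField (X.presheaf.stalk η)}.Finite := by
  refine (NoetherianSpace.finite_irreducibleComponents.preimage (f := fun η : X => closure ({η} : Set X))
    fun a _ b _ h => ?_).subset fun η hη => (TorFreeAss.maxPt_of_isField hη).closure_mem
  exact ((isGenericPoint_closure (x := a)).eq ((show closure ({a} : Set X) = closure {b} from h) ▸ isGenericPoint_closure))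

theorem span_globals {P : X.Modules} [P.IsQuasicoherent] {x : X}
    (h : ∃ U : X.Opens, x ∈ U ∧ IsAffineOpen U ∧ Amp73.SpanAt P U) :
    Submodule.span (X.presheaf.stalk x) (Set.range fun t : Γ(P, ⊤) => germM P ⊤ x trivial t) = ⊤ := by
  obtain ⟨U, hxU, hU, hsp⟩ := h
  let := Div89.stalkAlg U x hxU
  let := Div89.stalkModule P U x hxU
  have := Div89.isScalarTower_stalk P U x hxU
  have := Div89.primeAt_isPrime ⟨U, hU⟩ x hxU
  let S := (Div89.primeAt ⟨U, hU⟩ x hxU).primeCompl
  have : IsLocalization S (X.presheaf.stalk x) := Div89.isLocalization_stalk ⟨U, hU⟩ x hxU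
  have : IsLocalizedModule S (Div89.germLin P U x hxU) :=
    Div89.isLocalizedModule_germLin P inferInstance ⟨U, hU⟩ x hxU
  refine eq_top_iff.2 fun z _ => ?_
  obtain ⟨⟨g, t⟩, hgt⟩ := IsLocalizedModule.surj S (Div89.germLin P U x hxU) z
  have hu : IsUnit (algebraMap Γ(X, U) (X.presheaf.stalk x) t.1) := IsLocalization.map_units _ t
  refine (Submodule.smul_mem_iff_of_isUnit _ hu).1 ?_
  rw [show algebraMap Γ(X, U) (X.presheaf.stalk x) t.1 • z = germM P U x hxU g from
    (algebraMap_smul (X.presheaf.stalk x) t.1 z).trans hgt]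
  have hg : g ∈ Submodule.span Γ(X, U) (Set.range fun t : Γ(P, ⊤) => res P (le_top : U ≤ ⊤) t) :=
    hsp.ge Submodule.mem_top
  clear hgt
  induction hg using Submodule.span_induction with
  | mem g hg =>
    obtain ⟨t₀, rfl⟩ := hg
    exact Submodule.subset_span ⟨t₀, (germM_res (le_top : U ≤ ⊤) hxU t₀).symm⟩
  | zero => rw [germM_zero]; exact zero_mem _
  | add a b _ _ ha hb =>
    rw [show germM P U x hxU (a + b) = germM P U x hxU a + germM P U x hxU b from
      map_add (P.presheaf.germ U x hxU).hom a b]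
    exact add_mem ha hb
  | smul r a _ ha => rw [germM_smul]; exact Submodule.smul_mem _ _ ha

/-- global sections forming bases at all points with field stalks -/
theorem exists_bases {k : Type u} [Field k] [Infinite k] (κ : k →+* Γ(X, ⊤)) [NoetherianSpace X] (r : ℕ)
    {P : X.Modules} [P.IsQuasicoherent] (hsp : ∀ x : X, ∃ U : X.Opens, x ∈ U ∧ IsAffineOpen U ∧ Amp73.SpanAt P U)
    (hrk : ∀ η : X, IsField (X.presheaf.stalk η) →
      Nonempty (P.presheaf.stalk η ≃ₗ[X.presheaf.stalk η] (Fin r → X.presheaf.stalk η))) :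
    ∃ v : Fin r → Γ(P, ⊤), ∀ η : X, IsField (X.presheaf.stalk η) →
      Function.Bijective (Fintype.linearCombination (X.presheaf.stalk η) fun i => germM P ⊤ η trivial (v i)) := by
  classical
  let Z : Type u := {η : X // IsField (X.presheaf.stalk η)}
  have : Finite Z := finite_fieldPts.to_subtype
  let _ : Fintype Z := Fintype.ofFinite Z
  letI : ∀ z : Z, Field (X.presheaf.stalk z.1) := fun z => z.2.toField
  let g : ∀ z : Z, Γ(P, ⊤) →+ P.presheaf.stalk z.1 := fun z => (P.presheaf.germ ⊤ z.1 trivial).hom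
  let act : k → Γ(P, ⊤) →+ Γ(P, ⊤) := fun c => DistribSMul.toAddMonoidHom Γ(P, ⊤) (κ c)
  have hrank : ∀ z : Z, Module.finrank (X.presheaf.stalk z.1) (P.presheaf.stalk z.1) = r := fun z => by
    rw [(hrk z.1 z.2).some.finrank_eq, Module.finrank_fin_fun]
  have hfd : ∀ z : Z, Module.Finite (X.presheaf.stalk z.1) (P.presheaf.stalk z.1) := fun z =>
    Module.Finite.equiv (hrk z.1 z.2).some.symm
  have key : ∀ j ≤ r, ∃ v : Fin j → Γ(P, ⊤), ∀ z : Z,
      LinearIndependent (X.presheaf.stalk z.1) fun i => g z (v i) := by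
    intro j
    induction j with
    | zero => exact fun _ => ⟨Fin.elim0, fun z => linearIndependent_empty_type⟩
    | succ j ih =>
      intro hj
      obtain ⟨v, hv⟩ := ih (Nat.le_of_succ_le hj)
      let W : ∀ z : Z, Submodule (X.presheaf.stalk z.1) (P.presheaf.stalk z.1) := fun z =>
        Submodule.span _ (Set.range fun i => g z (v i))
      obtain ⟨t, ht⟩ := exists_avoid act (fun z : Z => P.presheaf.stalk z.1) g
        (fun z => (X.presheaf.germ ⊤ z.1 trivial).hom.comp κ) (fun z c t => germM_smul (M := P) _ (κ c) t) W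
        Finset.univ (fun z _ => by
          by_contra hcon
          push Not at hcon
          have htop : W z = ⊤ := eq_top_iff.2 ((span_globals (hsp z.1)).ge.trans (Submodule.span_le.2 (by
            rintro _ ⟨t, rfl⟩
            exact hcon t)))
          have := hfd z
          have h1 := finrank_range_le_card (R := X.presheaf.stalk z.1) (fun i => g z (v i))
          rw [Set.finrank, show Submodule.span (X.presheaf.stalk z.1) (Set.range fun i => g z (v i)) = ⊤ from htop,
            finrank_top, hrank, Fintype.card_fin] at h1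
          omega)
      refine ⟨Fin.snoc v t, fun z => ?_⟩
      have hs : (g z : Γ(P, ⊤) → P.presheaf.stalk z.1) ∘ Fin.snoc v t = Fin.snoc (g z ∘ v) (g z t) :=
        Fin.comp_snoc (g z) v t
      show LinearIndependent _ ((g z : Γ(P, ⊤) → P.presheaf.stalk z.1) ∘ Fin.snoc v t)
      rw [hs]
      exact linearIndependent_finSnoc.2 ⟨hv z, ht z (Finset.mem_univ z)⟩
  obtain ⟨v, hv⟩ := key r le_rfl
  refine ⟨v, fun η hη => ?_⟩
  have := hfd ⟨η, hη⟩
  refine ⟨fun a b hab => ?_, fun w => ?_⟩
  · exact (hv ⟨η, hη⟩).fintypeLinearCombination_injective hab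
  · have hsp' := (hv ⟨η, hη⟩).span_eq_top_of_card_eq_finrank' (by rw [Fintype.card_fin, hrank])
    obtain ⟨a, ha⟩ := (Submodule.mem_span_range_iff_exists_fun (X.presheaf.stalk η)).1
      (hsp'.ge (Submodule.mem_top : w ∈ ⊤))
    exact ⟨a, (Fintype.linearCombination_apply _ _ _).trans ha⟩

theorem isField_of_weakAss_free [IsLocallyNoetherian X] [AlgebraicGeometry.IsReduced X] (r : ℕ) (x : X)
    (hw : Curv2.IsWeakAssPoint (FlatMod.freeMod X r) x) : IsField (X.presheaf.stalk x) := by
  refine TorFreeAss.isField_of_weakAss _ (fun y => ?_) x hw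
  have hfree := (Div89.isFinLocFree_iff_free_stalks
    (CD47.isCoh_of_isFinLocFree (QC70.isFinLocFree_freeMod X r))).1 (QC70.isFinLocFree_freeMod X r) y
  obtain ⟨ι, b⟩ := Module.Free.exists_basis (X.presheaf.stalk y) ((FlatMod.freeMod X r).presheaf.stalk y)
  exact b.repr.injective.moduleIsTorsionFree b.repr (fun r m => map_smul b.repr r m)

theorem stalkMapM_comp_bijective {A B C : X.Modules} (f : A ⟶ B) (g : B ⟶ C) {x : X}
    (hf : Function.Bijective (stalkMapM f x)) (hg : Function.Bijective (stalkMapM g x)) :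
    Function.Bijective (stalkMapM (f ≫ g) x) := by
  rw [show stalkMapM (f ≫ g) x = stalkMapM g x ∘ stalkMapM f x from funext fun z => QC70.stalkMapM_comp f g x z]
  exact hg.comp hf

/-- coherent modules without embedded points, of constant generic rank, embed generically isomorphically into
sums of a power of an ample module -/
theorem exists_embedding {k : Type u} [Field k] [Infinite k] (κ : k →+* Γ(X, ⊤)) [IsLocallyNoetherian X]
    [NoetherianSpace X] [AlgebraicGeometry.IsReduced X] {L : X.Modules} (hL : CohB1.IsAmple L) {F : X.Modules} (hF : Coh.IsCoh F)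
    (hass : ∀ x : X, Curv2.IsWeakAssPoint F x → IsField (X.presheaf.stalk x)) (r : ℕ)
    (hrk : ∀ η : X, IsField (X.presheaf.stalk η) →
      Nonempty (F.presheaf.stalk η ≃ₗ[X.presheaf.stalk η] (Fin r → X.presheaf.stalk η))) :
    ∃ (m : ℕ) (ι : F ⟶ ∐ fun _ : Fin r => CohB1.tensorPow L m), Mono ι ∧
      ∀ η : X, IsField (X.presheaf.stalk η) → Function.Bijective (stalkMapM ι η) := by
  classical
  have := hL.2.1
  let Z : Set X := {η | IsField (X.presheaf.stalk η)}
  have hZ : Z.Finite := finite_fieldPts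
  obtain ⟨_, ⟨d, σ₀, rfl⟩, hσ₀, -, -⟩ := Amp73.exists_affine_genSet_of_finite hL hZ
    (U := (⊤ : X.Opens)) (fun _ _ => trivial)
  let L₁ := CohB1.tensorPow L (d + 1)
  have hL₁ : CohB1.IsAmple L₁ := (Amp73.isAmple_tensorPow_iff hL.1 (Nat.succ_pos d)).1 hL
  obtain ⟨a, ha⟩ := Amp73.eventually_spanAt_twist hL₁ hF
  let M₁ := CohB1.tensorPow L₁ a
  let P := CohB1.tensorMod F M₁
  have hM₁i : PicF.IsInvertible M₁ := EGA73.isInvertible_tensorPow hL₁.1 a
  have hcohInv : ∀ {M : X.Modules}, PicF.IsInvertible M → Coh.IsCoh M := fun hM =>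
    CD47.isCoh_of_isFinLocFree ((LimTop61.isFinLocFreeOfRank_iff.1 (RegSh99.rankOne_of_isInvertible hM)).1)
  have hP : Coh.IsCoh P := Amp73.isCoh_tensorMod hF (hcohInv hM₁i)
  have := hP.1
  let u₀ : F ⟶ P := tmRight (Amp73.epow (val L₁ σ₀ ⊤) a) F
  have hu₀ : ∀ η : X, IsField (X.presheaf.stalk η) → Function.Bijective (stalkMapM u₀ η) :=
    fun η hη => bijective_tmRight σ₀ a F (hσ₀ hη)
  obtain ⟨v, hv⟩ := exists_bases κ r (P := P) (ha a le_rfl) (fun η hη =>
    ⟨(LinearEquiv.ofBijective (stalkLinear u₀ η) (hu₀ η hη)).symm.trans (hrk η hη).some⟩)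
  let ψ : FlatMod.freeMod X r ⟶ P := Sigma.desc fun i => EGA73.unitHom P (v i)
  have hψ : ∀ η : X, IsField (X.presheaf.stalk η) → Function.Bijective (stalkMapM ψ η) :=
    fun η hη => bijective_desc v (hv η hη)
  let C := cokernel ψ
  have hfree : Coh.IsCoh (FlatMod.freeMod X r) := CD47.isCoh_of_isFinLocFree (QC70.isFinLocFree_freeMod X r)
  have hC : Coh.IsCoh C := QC70.isCoh_cokernel ψ hfree.1 hP
  have := hC.2
  let D : X.Opens := ⟨(CohB1.support C)ᶜ, (QC70.isClosed_support C).isOpen_compl⟩
  have hZD : Z ⊆ D := fun η hη => QC70.notMem_support_iff.2 (QC70.subsingleton_stalk_cokernel ψ η (hψ η hη).2)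
  obtain ⟨_, ⟨e, σ₁, rfl⟩, hσ₁, hle, -⟩ := Amp73.exists_affine_genSet_of_finite hL hZ hZD
  let L₂ := CohB1.tensorPow L (e + 1)
  have hL₂ : PicF.IsInvertible L₂ := EGA73.isInvertible_tensorPow hL.1 _
  obtain ⟨N, hN⟩ := exists_tmRight_eq_zero hL₂ σ₁ hC fun x hx => QC70.notMem_support_iff.1 (hle hx)
  let M₂ := CohB1.tensorPow L₂ N
  have hM₂ := RegSh99.rankOne_of_isInvertible (EGA73.isInvertible_tensorPow hL₂ N : PicF.IsInvertible M₂)
  let t := Amp73.epow (val L₂ σ₁ ⊤) N
  have hZψ : ∀ x : X, IsField (X.presheaf.stalk x) → Function.Bijective (stalkMapM ψ x) := hψ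
  -- the exact sequence after twisting
  let K := kernel ψ
  let T₁ := (Crv77.twist M₂).map (cokernel.π ψ)
  let T₀ := (Crv77.twist M₂).map (Abelian.image.ι ψ)
  have hse : (ShortComplex.mk (Abelian.image.ι ψ) (cokernel.π ψ) (kernel.condition _)).ShortExact :=
    { exact := ShortComplex.exact_of_f_is_kernel _ (kernelIsKernel _)
      mono_f := inferInstance
      epi_g := inferInstance }
  have hT := Crv77.shortExact_tR_of_locally_flat (O := X.sheaf) M₂ (Crv77.locally_flat_of_rank_one hM₂) hse
  have hkill : tmRight t P ≫ T₁ = 0 := by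
    refine (tmRight_naturality t (cokernel.π ψ)).symm.trans ?_
    rw [show tmRight t C = 0 from hN N le_rfl, comp_zero]
    rfl
  have := hT.mono_f
  let i₁ : P ⟶ CohB1.tensorMod (Abelian.image ψ) M₂ := hT.exact.lift (tmRight t P) hkill
  have hi₁ : i₁ ≫ T₀ = tmRight t P := hT.exact.lift_f _ _
  let q := Abelian.factorThruImage ψ
  have hbij : ∀ η : X, IsField (X.presheaf.stalk η) → Function.Bijective (stalkMapM i₁ η) := fun η hη => by
    have h1 : Function.Bijective (stalkMapM (tmRight t P) η) := bijective_tmRight σ₁ N P (hσ₁ hη)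
    have h2 : Function.Injective (stalkMapM T₀ η) := @QC70.injective_stalkMapM_of_mono _ _ _ T₀ hT.mono_f η
    rw [show stalkMapM (tmRight t P) η = stalkMapM T₀ η ∘ stalkMapM i₁ η from
      funext fun z => by rw [← hi₁]; exact QC70.stalkMapM_comp i₁ T₀ η z] at h1
    refine ⟨Function.Injective.of_comp h1.1, fun w => ?_⟩
    obtain ⟨z, hz⟩ := h1.2 (stalkMapM T₀ η w)
    exact ⟨z, h2 hz⟩
  -- back to the free module
  have hq : Mono q := by
    refine QC70.mono_of_app_injective q fun W => ?_
    have hψinj : Function.Injective (ψ.app W) := by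
      rw [injective_iff_map_eq_zero]
      intro s hs
      refine Div89.section_eq_zero_of_germ_weakAss _ hfree.1 s fun x hx hw => ?_
      have hf : IsField (X.presheaf.stalk x) := isField_of_weakAss_free r x hw
      refine (hψ x hf).1 ?_
      show stalkMapM ψ x (germM _ W x hx s) = stalkMapM ψ x 0
      rw [stalkMapM_germ, hs, germM_zero]
      exact (map_zero (stalkLinear ψ x)).symm
    intro s t hst
    refine hψinj ?_
    have h := congrArg ((Abelian.image.ι ψ).app W) hst
    rw [← Abelian.image.fac ψ]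
    exact h
  have : IsIso q := isIso_of_mono_of_epi q
  let j : CohB1.tensorMod (Abelian.image ψ) M₂ ⟶ CohB1.tensorMod (FlatMod.freeMod X r) M₂ :=
    (Crv77.twist M₂).map (inv q)
  have : (Crv77.twist M₂).Additive := inferInstanceAs ((Mod48.tR (O := X.sheaf) M₂).Additive)
  have := preservesCoproductsOfShape_of_preservesBiproductsOfShape (F := Crv77.twist M₂) (J := Fin r)
  have : IsIso j := inferInstanceAs (IsIso ((Crv77.twist M₂).map (inv q)))
  let dist : (Crv77.twist M₂).obj (FlatMod.freeMod X r) ≅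
      ∐ fun _ : Fin r => CohB1.tensorPow L ((e + 1) * N) :=
    PreservesCoproduct.iso (Crv77.twist M₂) _ ≪≫ Sigma.mapIso fun _ =>
      (@asIso _ _ _ _ (Crv77.unitTm M₂) (Crv77.isIso_unitTm (EGA73.isInvertible_tensorPow hL₂ N))).symm ≪≫
        Amp73.powMul L (e + 1) N
  refine ⟨(e + 1) * N, u₀ ≫ i₁ ≫ j ≫ dist.hom, ?_, fun η hη => ?_⟩
  · refine QC70.mono_of_app_injective _ fun W => ?_
    rw [injective_iff_map_eq_zero]
    intro s hs
    refine Div89.section_eq_zero_of_germ_weakAss _ hF.1 s fun x hx hw => ?_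
    have hf := hass x hw
    have hb : Function.Bijective (stalkMapM (u₀ ≫ i₁ ≫ j ≫ dist.hom) x) :=
      stalkMapM_comp_bijective _ _ (hu₀ x hf) (stalkMapM_comp_bijective _ _ (hbij x hf)
        (QC70.bijective_stalkMapM_of_isIso (j ≫ dist.hom) x))
    refine hb.1 ?_
    show stalkMapM _ x (germM F W x hx s) = stalkMapM _ x 0
    rw [stalkMapM_germ, hs, germM_zero]
    exact (map_zero (stalkLinear _ x)).symm
  · exact stalkMapM_comp_bijective _ _ (hu₀ η hη) (stalkMapM_comp_bijective _ _ (hbij η hη)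
      (QC70.bijective_stalkMapM_of_isIso (j ≫ dist.hom) η))

end Groth.Agent.Ega11.GenEmbed
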