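import Groth.Agent.Ega11.NormCurve
import Groth.Agent.Grpd80.ComponentsGeom
import Groth.Agent.Crv77.FFBridge
import Groth.Prelude.Def_Curv2

/-! The normalisation of a geometrically irreducible curve is geometrically irreducible. -/

set_option autoImplicit false
set_option backward.isDefEq.respectTransparency.types false
universe u

open CategoryTheory CategoryTheory.Limits AlgebraicGeometry TopologicalSpace

namespace Groth.Agent.Ega11.GeomIrrNorm

variable {K : Type u} [Field K]

/-- An irreducible scheme which agrees with a geometrically irreducible one on a nonempty open is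
geometrically irreducible. -/
theorem geometricallyIrreducible_of_birational {Y Z : Scheme.{u}} [IrreducibleSpace Y] (π : Y ⟶ Z)
    (s : Z ⟶ Spec (CommRingCat.of K)) [GeometricallyIrreducible s] (V : Z.Opens) [IsIso (π ∣_ V)]
    (hV : (V : Set Z).Nonempty) : GeometricallyIrreducible (π ≫ s) := by
  refine ⟨fun L _ y P fst snd h => ?_⟩
  let j : (V : Scheme.{u}) ⟶ Y := inv (π ∣_ V) ≫ (π ⁻¹ᵁ V).ι
  have hj : j ≫ π = V.ι := by rw [Category.assoc, ← morphismRestrict_ι, IsIso.inv_hom_id_assoc]
  let Q := pullback fst j
  let a : Q ⟶ P := pullback.fst fst j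
  let b : Q ⟶ (V : Scheme.{u}) := pullback.snd fst j
  have hQ : IsPullback b (a ≫ snd) (V.ι ≫ s) y := by
    have h1 : IsPullback b a j fst := (IsPullback.of_hasPullback fst j).flip
    have h2 := h1.paste_vert h
    rwa [← Category.assoc j π s, hj] at h2
  let ZL := pullback s y
  have hZL : IrreducibleSpace ↥ZL :=
    GeometricallyIrreducible.geometrically_irreducibleSpace (f := s) y _ _ (IsPullback.of_hasPullback s y)
  let c : Q ⟶ ZL := pullback.lift (b ≫ V.ι) (a ≫ snd) (by rw [Category.assoc]; exact hQ.w)
  have hc : IsPullback b c V.ι (pullback.fst s y) := by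
    refine IsPullback.of_bot ?_ (pullback.lift_fst _ _ _).symm (IsPullback.of_hasPullback s y)
    rw [show c ≫ pullback.snd s y = a ≫ snd from pullback.lift_snd _ _ _]
    exact hQ
  have : IsOpenImmersion c := MorphismProperty.of_isPullback hc inferInstance
  obtain ⟨v, hv⟩ := hV
  have hne : Nonempty ↥Q := by
    haveI : Surjective b := MorphismProperty.of_isPullback hQ.flip
      (⟨fun x => ⟨IsLocalRing.closedPoint L, Subsingleton.elim _ _⟩⟩ : Surjective y)
    exact ⟨(b.surjective ⟨v, hv⟩).choose⟩
  have hQirr : IrreducibleSpace ↥Q := by
    have hr : IsIrreducible (Set.range c) :=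
      ⟨Set.range_nonempty _, hZL.isPreirreducible_univ.open_subset c.isOpenEmbedding.isOpen_range
        (Set.subset_univ _)⟩
    exact c.isOpenEmbedding.isEmbedding.toHomeomorph.irreducibleSpace_iff.mpr
      (isIrreducible_iff_irreducibleSpace.mp hr)
  have ha : DenseRange a := by
    have hopen : IsOpenMap fst := by
      haveI : UniversallyOpen fst := MorphismProperty.of_isPullback h.flip (inferInstance : UniversallyOpen y)
      exact fst.isOpenMap
    have hr : Set.range a = fst ⁻¹' Set.range j := by
      rw [show a = pullback.fst fst j from rfl, Scheme.Pullback.range_fst]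
    rw [DenseRange, hr]
    haveI : Nonempty ↥(V : Scheme.{u}) := ⟨⟨v, hv⟩⟩
    exact Dense.preimage (j.isOpenEmbedding.isOpen_range.dense (Set.range_nonempty _)) hopen
  refine (irreducibleSpace_def _).mpr ?_
  have := (((irreducibleSpace_def _).mp hQirr).image a a.continuous.continuousOn).closure
  rw [Set.top_eq_univ, Set.image_univ, ha.closure_range] at this
  exact this

/-- The reduction of a geometrically irreducible scheme is geometrically irreducible. -/
theorem geometricallyIrreducible_nilradical {X : Scheme.{u}} (s : X ⟶ Spec (CommRingCat.of K))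
    [GeometricallyIrreducible s] : GeometricallyIrreducible (X.nilradical.subschemeι ≫ s) := by
  refine Grpd80.geometricallyIrreducible_of_preimage s _ ?_
  rw [Scheme.IdealSheafData.range_subschemeι, Scheme.support_nilradical]
  simp only [Closeds.coe_top, Set.preimage_univ]
  haveI : IrreducibleSpace ↥(pullback s (Spec.map (CommRingCat.ofHom (algebraMap K (AlgebraicClosure K))))) :=
    GeometricallyIrreducible.geometrically_irreducibleSpace (f := s) _ _ _ (IsPullback.of_hasPullback _ _)
  exact (irreducibleSpace_def _).mp inferInstance

end Groth.Agent.Ega11.GeomIrrNorm
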