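import Groth.Agent.Ega11.Conductor
import Groth.Agent.TFCurv38.Semilocal
import Mathlib

/-! Torsion-free modules over one-dimensional Gorenstein local domains as lattices near the conductor. -/

set_option autoImplicit false
universe u

open Submodule TensorProduct

namespace Groth.Agent.Ega11.GorLattice

open CanDual LatticeLen

section Perp

variable {O : Type u} [CommRing O] [IsDomain O] {K : Type u} [Field K] [Algebra O K] {n : ℕ}

/-- vectors pairing `N` into `W` -/
def perp (W : Submodule O K) (N : Submodule O (Fin n → K)) : Submodule O (Fin n → K) where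
  carrier := {x | ∀ y ∈ N, ∑ i, x i * y i ∈ W}
  add_mem' := fun {a b} ha hb y hy => by
    simpa [add_mul, Finset.sum_add_distrib] using add_mem (ha y hy) (hb y hy)
  zero_mem' := fun y _ => by simp
  smul_mem' := fun r x hx y hy => by
    simpa [smul_mul_assoc, ← Finset.smul_sum] using W.smul_mem r (hx y hy)

omit [IsDomain O] in
theorem mem_perp {W : Submodule O K} {N : Submodule O (Fin n → K)} {x : Fin n → K} :
    x ∈ perp W N ↔ ∀ y ∈ N, ∑ i, x i * y i ∈ W := Iff.rfl

omit [IsDomain O] in
theorem single_mem {N : Submodule O (Fin n → K)} (hN : pi Set.univ (fun _ : Fin n => (1 : Submodule O K)) ≤ N)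
    (i : Fin n) : (Pi.single i 1 : Fin n → K) ∈ N := hN fun j _ => by
  by_cases h : j = i
  · subst h; rw [Pi.single_eq_same]; exact mem_one.mpr ⟨1, map_one _⟩
  · rw [Pi.single_eq_of_ne h]; exact zero_mem _

omit [IsDomain O] in
theorem perp_le_pi {W : Submodule O K} {N : Submodule O (Fin n → K)}
    (hN : pi Set.univ (fun _ : Fin n => (1 : Submodule O K)) ≤ N) :
    perp W N ≤ pi Set.univ fun _ : Fin n => W := fun x hx i _ => by
  have h := hx _ (single_mem hN i)
  rwa [Finset.sum_eq_single i (fun j _ hj => by rw [Pi.single_eq_of_ne hj, mul_zero]) (by simp),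
    Pi.single_eq_same, mul_one] at h

omit [IsDomain O] in
theorem pi_div_le_perp {W S : Submodule O K} {N : Submodule O (Fin n → K)}
    (hN : N ≤ pi Set.univ fun _ : Fin n => S) : pi Set.univ (fun _ : Fin n => W / S) ≤ perp W N :=
  fun x hx y hy => Submodule.sum_mem _ fun i _ => hx i trivial (y i) (hN hy i trivial)

variable [IsFractionRing O K]

omit [IsDomain O] in
theorem exists_smul_mem_pi (y : Fin n → K) :
    ∃ s : O, IsUnit (algebraMap O K s) ∧ ∀ i, ∃ a : O, algebraMap O K a = algebraMap O K s * y i := by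
  obtain ⟨⟨s, hs⟩, hsy⟩ := IsLocalization.exist_integer_multiples_of_finite (nonZeroDivisors O) y
  refine ⟨s, IsLocalization.map_units K (⟨s, hs⟩ : nonZeroDivisors O), fun i => ?_⟩
  obtain ⟨a, ha⟩ := hsy i
  exact ⟨a, ha.trans (Algebra.smul_def _ _)⟩

/-- homomorphisms out of a lattice containing `O^n` are given by pairing -/
noncomputable def homEquivPerp (W : Submodule O K) (N : Submodule O (Fin n → K))
    (hN : pi Set.univ (fun _ : Fin n => (1 : Submodule O K)) ≤ N) : (↥N →ₗ[O] ↥W) ≃ₗ[O] ↥(perp W N) :=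
  let fwd : (↥N →ₗ[O] ↥W) →ₗ[O] ↥(perp W N) :=
    { toFun := fun φ => ⟨fun i => (φ ⟨_, single_mem hN i⟩ : K), fun y hy => by
        obtain ⟨s, hs, ha⟩ := exists_smul_mem_pi (O := O) y
        choose a ha using ha
        have h1 : s • (⟨y, hy⟩ : N) = ∑ i, a i • (⟨_, single_mem hN i⟩ : N) := Subtype.ext (funext fun j => by
          simp only [Submodule.coe_smul, Submodule.coe_sum, Pi.smul_apply, Finset.sum_apply]
          rw [Finset.sum_eq_single j (fun i _ hi => by rw [Pi.single_eq_of_ne hi.symm, smul_zero]) (by simp),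
            Pi.single_eq_same, Algebra.smul_def, Algebra.smul_def, mul_one, ha])
        have h2 := congrArg (fun z => ((φ z : W) : K)) h1
        simp only [map_smul, map_sum, Submodule.coe_smul, Submodule.coe_sum, Algebra.smul_def, ha, mul_assoc,
          ← Finset.mul_sum] at h2
        have h3 := hs.mul_left_cancel h2
        simp_rw [mul_comm (y _)] at h3
        rw [← h3]
        exact (φ ⟨y, hy⟩).2⟩
      map_add' := fun φ ψ => rfl
      map_smul' := fun r φ => rfl }
  let bwd : ↥(perp W N) →ₗ[O] (↥N →ₗ[O] ↥W) :=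
    LinearMap.mk₂ O (fun (x : ↥(perp W N)) (y : ↥N) => (⟨∑ i, x.1 i * y.1 i, x.2 y y.2⟩ : ↥W))
      (fun a b y => Subtype.ext (by simp [add_mul, Finset.sum_add_distrib]))
      (fun r a y => Subtype.ext (by simp [smul_mul_assoc, Finset.smul_sum]))
      (fun a y z => Subtype.ext (by simp [mul_add, Finset.sum_add_distrib]))
      (fun r a y => Subtype.ext (by simp [mul_smul_comm, Finset.smul_sum]))
  LinearEquiv.ofLinear fwd bwd
    (by
      refine LinearMap.ext fun x => Subtype.ext (funext fun j => ?_)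
      show ∑ i, x.1 i * (Pi.single j 1 : Fin n → K) i = x.1 j
      rw [Finset.sum_eq_single j (fun i _ hi => by rw [Pi.single_eq_of_ne hi, mul_zero]) (by simp),
        Pi.single_eq_same, mul_one])
    (by
      refine LinearMap.ext fun φ => LinearMap.ext fun y => Subtype.ext ?_
      obtain ⟨s, hs, ha⟩ := exists_smul_mem_pi (O := O) y.1
      choose a ha using ha
      have h1 : s • y = ∑ i, a i • (⟨_, single_mem hN i⟩ : N) := Subtype.ext (funext fun j => by
        simp only [Submodule.coe_smul, Submodule.coe_sum, Pi.smul_apply, Finset.sum_apply]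
        rw [Finset.sum_eq_single j (fun i _ hi => by rw [Pi.single_eq_of_ne hi.symm, smul_zero]) (by simp),
          Pi.single_eq_same, Algebra.smul_def, Algebra.smul_def, mul_one, ha])
      have h2 := congrArg (fun z => ((φ z : W) : K)) h1
      simp only [map_smul, map_sum, Submodule.coe_smul, Submodule.coe_sum, Algebra.smul_def, ha, mul_assoc,
        ← Finset.mul_sum] at h2
      have h3 := hs.mul_left_cancel h2
      simp_rw [mul_comm (y.1 _)] at h3
      exact h3.symm)

end Perp

variable {O : Type u} [CommRing O] [IsDomain O] {K : Type u} [Field K] [Algebra O K] [IsFractionRing O K]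

theorem exists_cond_ne_zero (hfin : Module.Finite O ↥(integralClosure O K)) :
    ∃ c : O, c ≠ 0 ∧ algebraMap O K c ∈ (1 : Submodule O K) / Subalgebra.toSubmodule (integralClosure O K) := by
  obtain ⟨s, hs, h⟩ := exists_smul_mem (M := Subalgebra.toSubmodule (integralClosure O K)) (Module.Finite.iff_fg.mp hfin)
  exact ⟨s, hs, fun y hy => h y hy⟩

set_option maxHeartbeats 1000000 in
theorem exists_between_cond_one [LocCoh.IsGorensteinLocalRing O] (hdim : ringKrullDim O = 1)
    [Infinite (IsLocalRing.ResidueField O)] (hfin : Module.Finite O ↥(integralClosure O K))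
    (M : Type u) [AddCommGroup M] [Module O M] [Module.Finite O M] [NoZeroSMulDivisors O M] (n : ℕ)
    (hn : Module.finrank K (K ⊗[O] M) = n) :
    ∃ M'' : Submodule O (Fin n → K),
      pi Set.univ (fun _ : Fin n => (1 : Submodule O K) / Subalgebra.toSubmodule (integralClosure O K)) ≤ M'' ∧
      M'' ≤ pi Set.univ (fun _ : Fin n => (1 : Submodule O K)) ∧ Nonempty (M ≃ₗ[O] ↥M'') := by
  have hω0 : (1 : Submodule O K) ≠ ⊥ := by
    rw [Submodule.one_eq_span, Ne, Submodule.span_singleton_eq_bot]; exact one_ne_zero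
  have hωfg : (1 : Submodule O K).FG := by rw [Submodule.one_eq_span]; exact Submodule.fg_span_singleton _
  have hωinj := injDim_one (O := O) (K := K) hdim
  obtain ⟨N₁, hN₁, hN₁', ⟨e₁⟩⟩ := TFCurv38.exists_sandwich hdim K hfin M n hn
  let P := perp (1 : Submodule O K) N₁
  let eH : (M →ₗ[O] ↥(1 : Submodule O K)) ≃ₗ[O] ↥P :=
    (LinearEquiv.arrowCongr e₁ (LinearEquiv.refl O _)).trans (homEquivPerp _ N₁ hN₁)
  have := TFCurv38.finite_dual (K := K) hωfg M
  have := TFCurv38.noZeroSMulDivisors_dual (ω := (1 : Submodule O K)) M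
  let H := M →ₗ[O] ↥(1 : Submodule O K)
  let j : (Fin n → O) →ₗ[O] (Fin n → K) := (Algebra.linearMap O K).compLeft (Fin n)
  have hj : Function.Injective j := (IsFractionRing.injective O K).comp_left
  have hPle : P ≤ LinearMap.range j := fun x hx => by
    choose a ha using fun i => mem_one.mp (perp_le_pi hN₁ hx i trivial)
    exact ⟨a, funext ha⟩
  let eP : ↥(P.comap j) ≃ₗ[O] ↥P :=
    (Submodule.equivMapOfInjective j hj _).trans (LinearEquiv.ofEq _ _ (by
      rw [Submodule.map_comap_eq]; exact inf_eq_right.mpr hPle))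
  obtain ⟨c, hc, hcmem⟩ := exists_cond_ne_zero (K := K) hfin
  let f : H →ₗ[O] (Fin n → O) := (P.comap j).subtype ∘ₗ (eH.trans eP.symm).toLinearMap
  have hf : Function.Injective f := fun a b h => (eH.trans eP.symm).injective (Subtype.ext h)
  have hnH : Module.finrank K (K ⊗[O] H) = n := by
    refine TFCurv38.finrank_baseChange_eq (M := H) K f hf hc fun y => ?_
    have hrange : LinearMap.range f = P.comap j := by
      rw [LinearMap.range_comp, LinearEquiv.range, Submodule.map_top, Submodule.range_subtype]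
    obtain ⟨y, rfl⟩ := Submodule.Quotient.mk_surjective _ y
    rw [← Submodule.Quotient.mk_smul, Submodule.Quotient.mk_eq_zero, hrange]
    refine pi_div_le_perp hN₁' fun i _ z hz => ?_
    show algebraMap O K (c • y i) * z ∈ (1 : Submodule O K)
    rw [smul_eq_mul, map_mul, mul_comm (algebraMap O K c), mul_assoc, ← Algebra.smul_def]
    exact Submodule.smul_mem _ _ (hcmem z hz)
  obtain ⟨N₂, hN₂, hN₂', ⟨e₂⟩⟩ := TFCurv38.exists_sandwich hdim K hfin H n hnH
  refine ⟨perp (1 : Submodule O K) N₂, pi_div_le_perp hN₂', perp_le_pi hN₂, ⟨?_⟩⟩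
  exact (LinearEquiv.ofBijective LinearMap.applyₗ (TFCurv38.bijective_eval hdim hω0 hωfg hωinj M)).trans
    ((LinearEquiv.arrowCongr e₂ (LinearEquiv.refl O _)).trans (homEquivPerp _ N₂ hN₂))

theorem len_cond (S : Subalgebra O K) :
    len ((1 : Submodule O K) / Subalgebra.toSubmodule S) 1 =
      Module.length O (O ⧸ (1 : Submodule O K).colon (Subalgebra.toSubmodule S : Set K)) := by
  let π : O →ₗ[O] (↥(1 : Submodule O K) ⧸ ((1 : Submodule O K) / Subalgebra.toSubmodule S).comap (1 : Submodule O K).subtype) :=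
    Submodule.mkQ _ ∘ₗ (Algebra.linearMap O K).codRestrict _ fun a => mem_one.mpr ⟨a, rfl⟩
  have hπ : Function.Surjective π := fun z => by
    obtain ⟨⟨x, hx⟩, rfl⟩ := Submodule.Quotient.mk_surjective _ z
    obtain ⟨a, rfl⟩ := mem_one.mp hx
    exact ⟨a, rfl⟩
  have hker : LinearMap.ker π = (1 : Submodule O K).colon (Subalgebra.toSubmodule S : Set K) := by
    ext a
    refine (Submodule.Quotient.mk_eq_zero _).trans ?_
    show (∀ y ∈ Subalgebra.toSubmodule S, algebraMap O K a * y ∈ (1 : Submodule O K)) ↔ _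
    rw [Submodule.mem_colon]
    simp only [Algebra.smul_def]
    rfl
  rw [len, ← (π.quotKerEquivOfSurjective hπ).length_eq, hker]

/-- a full lattice over the normalisation, seen over `O` -/
abbrev res {n : ℕ} (X : Submodule ↥(integralClosure O K) (Fin n → K)) : Submodule O (Fin n → K) := X.restrictScalars O

variable [IsNoetherianRing O] [IsLocalRing O]

theorem exists_len_one_step {n : ℕ} (hdim : ringKrullDim O = 1) [IsAlgClosed (IsLocalRing.ResidueField O)]
    (hfin : Module.Finite O ↥(integralClosure O K))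
    (X D : Submodule ↥(integralClosure O K) (Fin n → K)) (hlt : X < D) (c : O) (hc : c ≠ 0)
    (hcX : ∀ v ∈ D, algebraMap O K c • v ∈ X) :
    ∃ X', X < X' ∧ X' ≤ D ∧ len (res X) (res X') = 1 := by
  classical
  obtain ⟨hded, -⟩ := TFCurv38.isDedekind_normalisation hdim K hfin
  let R := ↥(integralClosure O K)
  have : IsNoetherianRing R := IsNoetherianRing.of_finite O R
  let S : Set (Ideal R) := {J | ∃ v ∈ D, v ∉ X ∧ J = X.comap (LinearMap.toSpanSingleton R _ v)}
  obtain ⟨v₀, hv₀, hv₀'⟩ := SetLike.exists_of_lt hlt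
  obtain ⟨P, ⟨v, hvD, hvX, rfl⟩, hmax⟩ := WellFounded.has_min (wellFounded_gt (α := Ideal R)) S ⟨_, v₀, hv₀, hv₀', rfl⟩
  let P : Ideal R := X.comap (LinearMap.toSpanSingleton R _ v)
  have hmemP : ∀ r : R, r ∈ P ↔ r • v ∈ X := fun r => Iff.rfl
  have hPne : P ≠ ⊤ := fun h => hvX (by
    have h1 := (hmemP 1).mp (h ▸ Submodule.mem_top)
    rwa [one_smul] at h1)
  have hPprime : P.IsPrime := by
    refine ⟨hPne, fun {a b} hab => or_iff_not_imp_right.mpr fun hb => ?_⟩
    have hbv : b • v ∈ D := D.smul_mem b hvD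
    have hbX : b • v ∉ X := fun h => hb ((hmemP b).mpr h)
    have hle : P ≤ X.comap (LinearMap.toSpanSingleton R _ (b • v)) := fun r hr => by
      show r • b • v ∈ X
      rw [smul_comm]; exact X.smul_mem b ((hmemP r).mp hr)
    have heq : P = X.comap (LinearMap.toSpanSingleton R _ (b • v)) := by
      by_contra hne
      exact hmax _ ⟨b • v, hbv, hbX, rfl⟩ (lt_of_le_of_ne hle hne)
    rw [heq]
    show a • b • v ∈ X
    rw [smul_smul]; exact (hmemP (a * b)).mp hab
  have hcP : algebraMap O R c ∈ P := (hmemP _).mpr (by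
    have h := hcX v hvD
    exact h)
  have hP0 : P ≠ ⊥ := fun h => hc (by
    rw [h, Ideal.mem_bot] at hcP
    exact IsFractionRing.injective O K ((congrArg Subtype.val hcP).trans (map_zero (algebraMap O K)).symm))
  have hPmax : P.IsMaximal := hPprime.isMaximal hP0
  let m := IsLocalRing.maximalIdeal O
  have hcomap : P.comap (algebraMap O R) = m :=
    IsLocalRing.eq_maximalIdeal (Ideal.isMaximal_comap_of_isIntegral_of_isMaximal P)
  have hres : ∀ r : R, ∃ a : O, r - algebraMap O R a ∈ P := by
    let : Field (R ⧸ P) := Ideal.Quotient.field P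
    let ρ : IsLocalRing.ResidueField O →+* R ⧸ P :=
      Ideal.Quotient.lift m ((Ideal.Quotient.mk P).comp (algebraMap O R))
        fun a ha => Ideal.Quotient.eq_zero_iff_mem.mpr (hcomap.ge ha)
    let : Algebra (IsLocalRing.ResidueField O) (R ⧸ P) := ρ.toAlgebra
    have : IsScalarTower O (IsLocalRing.ResidueField O) (R ⧸ P) := IsScalarTower.of_algebraMap_eq fun _ => rfl
    have : Algebra.IsIntegral (IsLocalRing.ResidueField O) (R ⧸ P) :=
      ⟨fun x => (Algebra.IsIntegral.isIntegral (R := O) x).tower_top⟩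
    intro r
    obtain ⟨b, hb⟩ := (IsAlgClosed.algebraMap_bijective_of_isIntegral (k := IsLocalRing.ResidueField O)
      (K := R ⧸ P)).2 (Ideal.Quotient.mk P r)
    obtain ⟨a, rfl⟩ := IsLocalRing.residue_surjective b
    exact ⟨a, Ideal.Quotient.eq.mp hb.symm⟩
  let X' : Submodule R (Fin n → K) := X ⊔ R ∙ v
  have hlt' : X < X' := lt_of_le_of_ne le_sup_left fun h => hvX (h ▸ Submodule.mem_sup_right (mem_span_singleton_self v))
  refine ⟨X', hlt', sup_le hlt.le ((span_singleton_le_iff_mem _ _).mpr hvD), ?_⟩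
  let π : O →ₗ[O] (↥(res X') ⧸ (res X).comap (res X').subtype) :=
    LinearMap.toSpanSingleton O _ (Submodule.Quotient.mk ⟨v, Submodule.mem_sup_right (mem_span_singleton_self v)⟩)
  have hπ : Function.Surjective π := fun z => by
    obtain ⟨⟨z, hz⟩, rfl⟩ := Submodule.Quotient.mk_surjective _ z
    obtain ⟨x, hx, w, hw, rfl⟩ := Submodule.mem_sup.mp hz
    obtain ⟨r, rfl⟩ := mem_span_singleton.mp hw
    obtain ⟨a, ha⟩ := hres r
    refine ⟨a, ?_⟩
    rw [LinearMap.toSpanSingleton_apply, ← Submodule.Quotient.mk_smul, Submodule.Quotient.eq]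
    show a • v - (x + r • v) ∈ X
    have h1 : (r - algebraMap O R a) • v ∈ X := (hmemP _).mp ha
    rw [sub_smul, algebraMap_smul] at h1
    rw [show a • v - (x + r • v) = -(r • v - a • v) - x by abel]
    exact sub_mem (neg_mem h1) hx
  have hker : LinearMap.ker π = m := by
    ext a
    rw [← hcomap, LinearMap.mem_ker, LinearMap.toSpanSingleton_apply, ← Submodule.Quotient.mk_smul,
      Submodule.Quotient.mk_eq_zero]
    show a • v ∈ X ↔ algebraMap O R a • v ∈ X
    rw [algebraMap_smul]
  have hsimple : IsSimpleModule O (O ⧸ m) := isSimpleModule_iff_isCoatom.mpr (IsLocalRing.maximalIdeal.isMaximal O).out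
  rw [len, ← (π.quotKerEquivOfSurjective hπ).length_eq, hker]
  exact Module.length_eq_one O (O ⧸ m)

end Groth.Agent.Ega11.GorLattice
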