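import Groth.Agent.Ega11.GorLattice
import Mathlib

/-! Lattices of prescribed colength over the conductor. -/

set_option autoImplicit false
universe u

open Submodule TensorProduct

namespace Groth.Agent.Ega11.GorLattice

open CanDual LatticeLen

variable {O : Type u} [CommRing O] [IsDomain O] {K : Type u} [Field K] [Algebra O K] [IsFractionRing O K]
  [IsNoetherianRing O] [IsLocalRing O]

set_option maxHeartbeats 1600000 in
theorem exists_lattice_colength [LocCoh.IsGorensteinLocalRing O] (hdim : ringKrullDim O = 1)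
    [IsAlgClosed (IsLocalRing.ResidueField O)] (hfin : Module.Finite O ↥(integralClosure O K))
    (M : Type u) [AddCommGroup M] [Module O M] [Module.Finite O M] [NoZeroSMulDivisors O M] (n : ℕ)
    (hn : Module.finrank K (K ⊗[O] M) = n) :
    ∃ M' : Submodule O (Fin n → K),
      pi Set.univ (fun _ : Fin n => (1 : Submodule O K) / Subalgebra.toSubmodule (integralClosure O K)) ≤ M' ∧
      M' ≤ pi Set.univ (fun _ : Fin n => Subalgebra.toSubmodule (integralClosure O K)) ∧
      Nonempty (M ≃ₗ[O] ↥M') ∧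
      len (pi Set.univ (fun _ : Fin n => (1 : Submodule O K) / Subalgebra.toSubmodule (integralClosure O K))) M' =
        (n : ℕ∞) * Module.length O (O ⧸ (1 : Submodule O K).colon (Subalgebra.toSubmodule (integralClosure O K) : Set K)) := by
  classical
  let R := ↥(integralClosure O K)
  let S := Subalgebra.toSubmodule (integralClosure O K)
  let C1 : Submodule O K := (1 : Submodule O K) / S
  let T : ℕ∞ := (n : ℕ∞) * Module.length O (O ⧸ (1 : Submodule O K).colon (S : Set K))
  obtain ⟨hded, hmax⟩ := TFCurv38.isDedekind_normalisation hdim K hfin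
  have : IsPrincipalIdealRing R := IsPrincipalIdealRing.of_finite_maximals hmax
  have : IsFractionRing R K := integralClosure.isFractionRing_of_finite_extension (A := O) (K := K) (L := K)
  have : IsNoetherianRing R := IsNoetherianRing.of_finite O R
  obtain ⟨c, hc, hcC⟩ := exists_cond_ne_zero (K := K) hfin
  have hC1one : C1 ≤ (1 : Submodule O K) := fun x hx => by simpa using hx 1 (one_mem (integralClosure O K))
  -- the conductor is principal
  let CR : Submodule R K :=
    { C1 with
      smul_mem' := fun r x hx y hy => by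
        show ((r : K) * x) * y ∈ (1 : Submodule O K)
        rw [mul_comm (r : K), mul_assoc]
        exact hx _ ((integralClosure O K).mul_mem r.2 hy) }
  obtain ⟨c₀, hc₀⟩ := (IsPrincipalIdealRing.principal (CR.comap (Algebra.linearMap R K))).principal
  have hCR : ∀ x : K, x ∈ C1 ↔ ∃ r : R, x = (r : K) * (c₀ : K) := by
    intro x
    constructor
    · intro hx
      have h1 := hC1one hx
      obtain ⟨a, rfl⟩ := mem_one.mp h1
      have h2 : algebraMap O R a ∈ CR.comap (Algebra.linearMap R K) := hx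
      rw [hc₀] at h2
      obtain ⟨r, hr⟩ := mem_span_singleton.mp h2
      exact ⟨r, (congrArg Subtype.val hr).symm⟩
    · rintro ⟨r, rfl⟩
      have h2 : r * c₀ ∈ CR.comap (Algebra.linearMap R K) := by
        rw [hc₀]; exact mem_span_singleton.mpr ⟨r, rfl⟩
      exact h2
  have hc₀ne : (c₀ : K) ≠ 0 := fun h => by
    obtain ⟨r, hr⟩ := (hCR _).mp hcC
    rw [h, mul_zero] at hr
    exact hc (IsFractionRing.injective O K (hr.trans (map_zero _).symm))
  let Cn : Submodule R (Fin n → K) := pi Set.univ fun _ : Fin n => CR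
  have hCn : res Cn = pi Set.univ fun _ : Fin n => C1 := rfl
  -- two normal forms
  obtain ⟨M₀, hM₀, hM₀', ⟨e₀⟩⟩ := TFCurv38.exists_sandwich hdim K hfin M n hn
  obtain ⟨M₁, hM₁, hM₁', ⟨e₁⟩⟩ := exists_between_cond_one hdim hfin M n hn
  let ψ : ↥M₀ ≃ₗ[O] ↥M₁ := e₀.symm.trans e₁
  let G : (Fin n → K) →ₗ[K] (Fin n → K) := Fintype.linearCombination K fun i => (ψ ⟨_, single_mem hM₀ i⟩ : Fin n → K)
  have hG : ∀ m : M₀, G m = ψ m := fun m => by
    obtain ⟨s, hs, ha⟩ := exists_smul_mem_pi (O := O) (m : Fin n → K)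
    choose a ha using ha
    have h1 : s • m = ∑ i, a i • (⟨_, single_mem hM₀ i⟩ : M₀) := Subtype.ext (funext fun j => by
      simp only [Submodule.coe_smul, Submodule.coe_sum, Pi.smul_apply, Finset.sum_apply]
      rw [Finset.sum_eq_single j (fun i _ hi => by rw [Pi.single_eq_of_ne hi.symm, smul_zero]) (by simp),
        Pi.single_eq_same, Algebra.smul_def, Algebra.smul_def, mul_one, ha])
    have h2 := congrArg (fun z => ((ψ z : M₁) : Fin n → K)) h1
    simp only [map_smul, map_sum, Submodule.coe_smul, Submodule.coe_sum] at h2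
    simp only [← algebraMap_smul K (_ : O)] at h2
    simp only [ha, mul_smul, ← Finset.smul_sum] at h2
    rw [Fintype.linearCombination_apply]
    exact ((smul_right_injective _ hs.ne_zero) h2).symm
  have hGinj : Function.Injective G := by
    rw [injective_iff_map_eq_zero]
    intro x hx
    obtain ⟨s, hs, ha⟩ := exists_smul_mem_pi (O := O) x
    have hmem : algebraMap O K s • x ∈ M₀ := hM₀ fun i _ => by
      obtain ⟨a, ha⟩ := ha i
      exact mem_one.mpr ⟨a, ha⟩
    have h1 := hG ⟨_, hmem⟩
    rw [map_smul, hx, smul_zero] at h1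
    have h2 : (⟨_, hmem⟩ : M₀) = 0 := ψ.injective (Subtype.ext (h1.symm.trans (by rw [map_zero]; rfl)))
    exact (smul_eq_zero.mp (congrArg Subtype.val h2)).resolve_left hs.ne_zero
  let GR : (Fin n → K) →ₗ[R] (Fin n → K) := G.restrictScalars R
  have hM₀C : res Cn ≤ M₀ := fun x hx => hM₀ fun i _ => hC1one (hx i trivial)
  have hM₁C : res Cn ≤ M₁ := hM₁
  have hpre : res (Cn.comap GR) ≤ M₀ := fun x hx => by
    obtain ⟨m, hm⟩ := ψ.surjective ⟨G x, hM₁C hx⟩
    have h1 : G m = G x := (hG m).trans (congrArg Subtype.val hm)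
    exact hGinj h1 ▸ m.2
  let D : Submodule R (Fin n → K) := Cn ⊔ Cn.comap GR
  have hDM : res D ≤ M₀ := fun x hx => by
    obtain ⟨a, ha, b, hb, rfl⟩ := Submodule.mem_sup.mp hx
    exact add_mem (hM₀C ha) (hpre hb)
  have hlen1 : len (res D) M₀ ≤ T := by
    have hle : res (Cn.comap GR) ≤ res D := fun x hx => Submodule.mem_sup_right hx
    refine le_trans (len_mono_left hle hDM) ?_
    rw [← len_map (G.restrictScalars O) hGinj]
    have hmapM : M₀.map (G.restrictScalars O) = M₁ := by
      ext x
      constructor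
      · rintro ⟨m, hm, rfl⟩
        exact (hG ⟨m, hm⟩).symm ▸ (ψ ⟨m, hm⟩).2
      · intro hx
        obtain ⟨m, hm⟩ := ψ.surjective ⟨x, hx⟩
        exact ⟨m, m.2, (hG m).trans (congrArg Subtype.val hm)⟩
    have hmapC : (res (Cn.comap GR)).map (G.restrictScalars O) = res Cn := by
      ext x
      constructor
      · rintro ⟨m, hm, rfl⟩
        exact hm
      · intro hx
        obtain ⟨m, hm⟩ := ψ.surjective ⟨x, hM₁C hx⟩
        have h1 : G m = x := (hG m).trans (congrArg Subtype.val hm)
        exact ⟨m, show G m ∈ Cn from h1.symm ▸ hx, h1⟩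
    rw [hmapM, hmapC, hCn]
    refine (len_mono_right hM₁ hM₁').trans ?_
    rw [len_pi, len_cond]
  have hlen0 : T ≤ len (res Cn) M₀ := by
    refine le_trans ?_ (len_mono_right (B := pi Set.univ fun _ : Fin n => (1 : Submodule O K))
      (fun x hx i _ => hC1one (hx i trivial)) hM₀)
    rw [hCn, len_pi, len_cond]
  have hcX : ∀ X, Cn ≤ X → ∀ v ∈ D, algebraMap O K c • v ∈ X := fun X hX v hv => hX fun i _ => by
    show algebraMap O K c * v i ∈ C1
    intro y hy
    rw [mul_assoc]
    exact hcC _ ((integralClosure O K).mul_mem (hM₀' (hDM hv) i trivial) hy)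
  have hfinlen : len (res Cn) M₀ ≠ ⊤ := by
    have : Module.Finite O M₀ := Module.Finite.equiv e₀
    have hfl : IsFiniteLength O (↥M₀ ⧸ (res Cn).comap M₀.subtype) := by
      refine TFCurv38.isFiniteLength_of_smul_eq_zero hdim hc fun z => ?_
      obtain ⟨⟨x, hx⟩, rfl⟩ := Submodule.Quotient.mk_surjective _ z
      rw [← Submodule.Quotient.mk_smul, Submodule.Quotient.mk_eq_zero]
      intro i _
      show c • x i ∈ C1
      intro y hy
      rw [Algebra.smul_def, mul_assoc]
      exact hcC _ ((integralClosure O K).mul_mem (hM₀' hx i trivial) hy)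
    exact Module.length_ne_top_iff.mpr hfl
  have main : ∀ (k : ℕ) (X : Submodule R (Fin n → K)), Cn ≤ X → X ≤ D → len (res X) M₀ = k → T ≤ k →
      ∃ Y, Cn ≤ Y ∧ Y ≤ D ∧ len (res Y) M₀ = T := by
    intro k
    induction k with
    | zero => exact fun X h1 h2 h3 h4 => ⟨X, h1, h2, le_antisymm (h3.trans_le bot_le) (h4.trans h3.ge)⟩
    | succ k ih =>
      intro X h1 h2 h3 h4
      rcases eq_or_ne (len (res X) M₀) T with heq | hne
      · exact ⟨X, h1, h2, heq⟩
      have hlt : X < D := lt_of_le_of_ne h2 fun h => hne (le_antisymm (h ▸ hlen1) (h3 ▸ h4))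
      obtain ⟨X', hX', hX'D, hlen⟩ := exists_len_one_step hdim hfin X D hlt c hc (hcX X h1)
      have htr := len_trans (A := res X) (B := res X') (C := M₀) hX'.le (le_trans hX'D hDM)
      rw [hlen, h3] at htr
      have hk : len (res X') M₀ = k := by
        have h6 : (1 : ℕ∞) + len (res X') M₀ = 1 + (k : ℕ∞) := by rw [← htr]; push_cast; exact add_comm _ _
        exact (WithTop.add_left_inj ENat.one_ne_top).mp h6
      refine ih X' (h1.trans hX'.le) hX'D hk ?_
      have h7 : T ≤ ((k + 1 : ℕ) : ℕ∞) := h4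
      have h8 : T ≠ ((k + 1 : ℕ) : ℕ∞) := fun h => hne (h3.trans h.symm)
      obtain ⟨t, ht⟩ : ∃ t : ℕ, T = t := ENat.ne_top_iff_exists.mp (fun h => by rw [h] at h7; simp at h7) |>.imp fun t h => h.symm
      rw [ht] at h7 h8 ⊢
      exact_mod_cast Nat.le_of_lt_succ (lt_of_le_of_ne (by exact_mod_cast h7) (by exact_mod_cast h8))
  obtain ⟨t, ht⟩ := ENat.ne_top_iff_exists.mp hfinlen
  obtain ⟨Y, hY1, hY2, hY3⟩ := main t Cn le_rfl le_sup_left ht.symm (ht ▸ hlen0)
  -- straighten `Y`
  have hYfg : Y.FG := by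
    have hle : Y ≤ pi Set.univ fun _ : Fin n => LinearMap.range (Algebra.linearMap R K) := fun x hx i _ =>
      ⟨⟨x i, hM₀' (hDM (hY2 hx)) i trivial⟩, rfl⟩
    have hmap : Y = (Y.comap ((Algebra.linearMap R K).compLeft (Fin n))).map ((Algebra.linearMap R K).compLeft (Fin n)) := by
      rw [Submodule.map_comap_eq, eq_comm, inf_eq_right]
      intro x hx
      choose r hr using fun i => hle hx i trivial
      exact ⟨r, funext hr⟩
    rw [hmap]
    exact (IsNoetherian.noetherian _).map _
  have : Module.Finite R Y := Module.Finite.of_fg hYfg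
  obtain ⟨m, b⟩ : Σ m, Module.Basis (Fin m) R Y := Module.basisOfFiniteTypeTorsionFree'
  have hli : LinearIndependent K (fun i => (b i : Fin n → K)) :=
    (LinearIndependent.iff_fractionRing (R := R) (K := K)).1 (b.linearIndependent.map' Y.subtype Y.ker_subtype)
  have hspan : Submodule.span K (Set.range fun i => (b i : Fin n → K)) = ⊤ := by
    refine eq_top_iff.2 ?_
    rw [← (Pi.basisFun K (Fin n)).span_eq, Submodule.span_le]
    rintro _ ⟨a, rfl⟩
    have h0 : (c₀ : K) • (Pi.single a 1 : Fin n → K) ∈ Y := hY1 fun i _ => by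
      show (c₀ : K) * (Pi.single a 1 : Fin n → K) i ∈ C1
      by_cases h : i = a
      · subst h; rw [Pi.single_eq_same, mul_one]; exact (hCR _).mpr ⟨1, (one_mul _).symm⟩
      · rw [Pi.single_eq_of_ne h, mul_zero]; exact zero_mem _
    have h1 : (c₀ : K) • (Pi.single a 1 : Fin n → K) ∈ Submodule.span K (Set.range fun i => (b i : Fin n → K)) := by
      refine Submodule.span_le_restrictScalars R K _ ?_
      have h2 : (⟨_, h0⟩ : Y) ∈ Submodule.span R (Set.range b) := b.span_eq ▸ Submodule.mem_top
      have h3 := Submodule.mem_map_of_mem (f := Y.subtype) h2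
      rwa [Submodule.map_span, ← Set.range_comp] at h3
    rw [Pi.basisFun_apply]
    exact (Submodule.smul_mem_iff _ hc₀ne).1 h1
  let B := Module.Basis.mk hli hspan.ge
  obtain rfl : m = n := by
    have := Module.finrank_eq_card_basis B
    rw [Module.finrank_fintype_fun_eq_card, Fintype.card_fin, Fintype.card_fin] at this
    exact this.symm
  let g : (Fin m → K) ≃ₗ[K] (Fin m → K) := B.equivFun.trans (LinearEquiv.smulOfNeZero K (Fin m → K) (c₀ : K) hc₀ne)
  have hgY : (res Y).map (g.toLinearMap.restrictScalars O) = res Cn := by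
    ext x
    constructor
    · rintro ⟨y, hy, rfl⟩ i -
      show (c₀ : K) * B.equivFun y i ∈ C1
      refine (hCR _).mpr ⟨b.equivFun ⟨y, hy⟩ i, ?_⟩
      have h2 : y = ∑ j, (b.equivFun ⟨y, hy⟩ j : K) • B j := by
        conv_lhs => rw [show y = ((⟨y, hy⟩ : Y) : Fin m → K) from rfl, ← b.sum_equivFun ⟨y, hy⟩]
        rw [Submodule.coe_sum]
        exact Finset.sum_congr rfl fun j _ => by rw [Submodule.coe_smul, Module.Basis.mk_apply]; rfl
      have h4 : B.equivFun y i = (b.equivFun ⟨y, hy⟩ i : K) := by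
        conv_lhs => rw [h2, ← B.equivFun_symm_apply, LinearEquiv.apply_symm_apply]
      rw [h4]; ring
    · intro hx
      choose r hr using fun i => (hCR _).mp (hx i trivial)
      refine ⟨((b.equivFun.symm r : Y) : Fin m → K), (b.equivFun.symm r).2, funext fun i => ?_⟩
      show (c₀ : K) * B.equivFun _ i = x i
      have h4 : B.equivFun ((b.equivFun.symm r : Y) : Fin m → K) = fun j => (r j : K) := by
        rw [← B.equivFun.apply_symm_apply (fun j => (r j : K)), b.equivFun_symm_apply, B.equivFun_symm_apply,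
          Submodule.coe_sum]
        refine congrArg _ (Finset.sum_congr rfl fun j _ => ?_)
        rw [Submodule.coe_smul, Module.Basis.mk_apply]
        rfl
      rw [h4, hr i]; ring
  let gO := g.toLinearMap.restrictScalars O
  have hginj : Function.Injective gO := g.injective
  refine ⟨M₀.map gO, ?_, ?_, ⟨e₀.trans (Submodule.equivMapOfInjective gO hginj M₀)⟩, ?_⟩
  · show res Cn ≤ _
    rw [← hgY]
    exact Submodule.map_mono (le_trans hY2 hDM)
  · rintro _ ⟨x, hx, rfl⟩ i -
    have hcx : (c₀ : K) • x ∈ Y := hY1 fun j _ => (hCR _).mpr ⟨⟨x j, hM₀' hx j trivial⟩, mul_comm _ _⟩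
    have h1 : g ((c₀ : K) • x) ∈ res Cn := hgY.le ⟨_, hcx, rfl⟩
    rw [map_smul] at h1
    obtain ⟨r, hr⟩ := (hCR _).mp (h1 i trivial)
    have : g x i = (r : K) := mul_left_cancel₀ hc₀ne (hr.trans (mul_comm _ _))
    show g x i ∈ integralClosure O K
    exact this ▸ r.2
  · show len (res Cn) _ = T
    rw [← hgY, len_map gO hginj, hY3]

end Groth.Agent.Ega11.GorLattice
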