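import Groth.Agent.Ega11.PushExact
import Groth.Agent.S4722
import Mathlib.RingTheory.Ideal.AssociatedPrime.Finiteness

set_option autoImplicit false
universe u

open AlgebraicGeometry CategoryTheory Opposite TopologicalSpace

namespace Groth.Agent.Ega11.PushFinite

open PushBridge PushSections

variable {A : Type u} [CommRing A] {J : Ideal A} {M : Type u} [AddCommGroup M] [Module A M]

theorem subsingleton_sec_of_killed (h : ∀ m : M, ∀ x : PrimeSpectrum A, ¬ J ≤ x.asIdeal → ∃ t ∉ x.asIdeal, t • m = 0) :
    Subsingleton (Sec A J M) := by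
  refine ⟨fun s t => sec_ext fun x => ?_⟩
  have : ∀ v : StructureSheaf.Localizations M x.1, v = 0 := fun v => by
    induction v using LocalizedModule.induction_on with
    | h m d =>
      obtain ⟨u, hu, hum⟩ := h m x.1 (mem_openCompl_iff.mp x.2)
      rw [← LocalizedModule.zero_mk 1, LocalizedModule.mk_eq]
      exact ⟨⟨u, hu⟩, by simp [Submonoid.smul_def, hum]⟩
  rw [this (s.1 x), this (t.1 x)]

theorem finite_sec_quotient_of_le [IsNoetherianRing A] {p : Ideal A} (h : J ≤ p) :
    Module.Finite A (Sec A J (A ⧸ p)) := by
  have : Subsingleton (Sec A J (A ⧸ p)) := subsingleton_sec_of_killed fun m x hx => by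
    obtain ⟨t, ht, htx⟩ := SetLike.not_le_iff_exists.mp hx
    obtain ⟨m, rfl⟩ := Ideal.Quotient.mk_surjective m
    refine ⟨t, htx, ?_⟩
    rw [Algebra.smul_def, Ideal.Quotient.algebraMap_eq, ← map_mul, Ideal.Quotient.eq_zero_iff_mem]
    exact Ideal.mul_mem_right _ _ (h ht)
  infer_instance

theorem finite_sec_of_singleton [IsNoetherianRing A] [Module.Finite A M] {p : Ideal A}
    (hp : associatedPrimes A M = {p}) (h : Module.Finite A (Sec A J (A ⧸ p))) :
    Module.Finite A (Sec A J M) := by
  obtain ⟨m, F, hanti, h0, hlast, hg⟩ := Groth.Agent.S4722.result A M p hp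
  suffices ∀ i, Module.Finite A (Sec A J (F i)) by
    have h' := this 0
    exact finite_sec_of_injective ((LinearEquiv.ofTop (F 0) h0).symm : M →ₗ[A] F 0) (LinearEquiv.injective _)
  intro i
  induction i using Fin.reverseInduction with
  | last =>
    have : Subsingleton (F (Fin.last m)) := by rw [hlast]; infer_instance
    have : Subsingleton (Sec A J (F (Fin.last m))) := subsingleton_sec_of_killed fun x q hq =>
      ⟨1, fun h1 => q.2.ne_top ((Ideal.eq_top_iff_one _).mpr h1), Subsingleton.elim _ _⟩
    infer_instance
  | cast i ih =>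
    obtain ⟨g, hg⟩ := hg i
    have := ih
    have : Module.Finite A (Sec A J (↥(F i.castSucc) ⧸ (F i.succ).comap (F i.castSucc).subtype)) :=
      @finite_sec_of_injective A _ J _ _ _ _ _ _ _ g hg h
    have hle : F i.succ ≤ F i.castSucc := hanti i.castSucc_le_succ
    refine finite_sec_of_exact (f := Submodule.inclusion hle) (g := ((F i.succ).comap (F i.castSucc).subtype).mkQ)
      (Submodule.inclusion_injective _) ?_
    rw [LinearMap.exact_iff, Submodule.ker_mkQ, Submodule.range_inclusion]

theorem exists_submodule_removing_prime [IsNoetherianRing A] [Module.Finite A M] (p : Ideal A) :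
    ∃ N : Submodule A M, p ∉ associatedPrimes A N ∧ associatedPrimes A (M ⧸ N) ⊆ {p} := by
  obtain ⟨N, hN, hmax⟩ := set_has_maximal_iff_noetherian.mpr (inferInstance : IsNoetherian A M)
    {N : Submodule A M | p ∉ associatedPrimes A N} ⟨⊥, by simp [associatedPrimes.eq_empty_of_subsingleton]⟩
  refine ⟨N, hN, fun q hq => ?_⟩
  by_contra hne
  obtain ⟨hqp, z, hz⟩ := isAssociatedPrime_iff.mp hq
  let N' : Submodule A M := (A ∙ z).comap N.mkQ
  have hNN' : N ≤ N' := fun x hx => by
    show N.mkQ x ∈ A ∙ z
    rw [(Submodule.Quotient.mk_eq_zero N).mpr hx |> fun h => (show N.mkQ x = 0 from h)]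
    exact zero_mem _
  have hlt : N < N' := by
    refine lt_of_le_of_ne hNN' fun e => ?_
    obtain ⟨x, rfl⟩ := N.mkQ_surjective z
    have : x ∈ N := e ▸ (show x ∈ N' from Submodule.mem_span_singleton_self _)
    refine hqp.ne_top (hz.trans ?_)
    ext; simp [(Submodule.Quotient.mk_eq_zero N).mpr this, Submodule.mem_colon_singleton]
  have hp' : p ∈ associatedPrimes A N' := not_not.mp fun h => hmax N' h hlt
  let g : N' →ₗ[A] (A ∙ z) := (N.mkQ.comp N'.subtype).codRestrict _ (fun x => x.2)
  have hex : Function.Exact (Submodule.inclusion hNN') g := by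
    rw [LinearMap.exact_iff, Submodule.range_inclusion]
    refine (LinearMap.ker_codRestrict _ _ _).trans ?_
    rw [LinearMap.ker_comp, Submodule.ker_mkQ]
  rcases associatedPrimes.subset_union_of_exact (Submodule.inclusion_injective hNN') hex hp' with h | h
  · exact hN h
  · obtain ⟨hpp, w, hw⟩ := isAssociatedPrime_iff.mp h
    obtain ⟨⟨w, hw'⟩, rfl⟩ : ∃ v : (A ∙ z), v = w := ⟨w, rfl⟩
    obtain ⟨c, rfl⟩ := Submodule.mem_span_singleton.mp hw'
    have hc : c ∉ q := fun hc => by
      refine hpp.ne_top (hw.trans ?_)
      rw [hz, Submodule.mem_colon_singleton, Submodule.mem_bot] at hc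
      ext; simp [Submodule.mem_colon_singleton, hc]
    refine hne (Set.mem_singleton_iff.mpr (Eq.symm ?_))
    rw [hw]
    ext a
    rw [Submodule.mem_colon_singleton, Submodule.mem_bot, Subtype.ext_iff]
    constructor
    · intro ha
      have : a * c ∈ q := by
        rw [hz, Submodule.mem_colon_singleton, Submodule.mem_bot, mul_smul]
        exact ha
      exact (hqp.mem_or_mem this).resolve_right hc
    · intro ha
      rw [hz, Submodule.mem_colon_singleton, Submodule.mem_bot] at ha
      show a • c • z = 0
      rw [smul_comm, ha, smul_zero]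

theorem finite_sec_of_associatedPrimes [IsNoetherianRing A] :
    ∀ (n : ℕ) (M : Type u) [AddCommGroup M] [Module A M] [Module.Finite A M],
      (associatedPrimes A M).ncard ≤ n →
      (∀ p ∈ associatedPrimes A M, ¬ J ≤ p → Module.Finite A (Sec A J (A ⧸ p))) →
      Module.Finite A (Sec A J M) := by
  intro n
  induction n with
  | zero =>
    intro M _ _ _ hn _
    have hempty := (Set.ncard_eq_zero (associatedPrimes.finite A M)).mp (Nat.le_zero.mp hn)
    have : Subsingleton M := by
      by_contra h
      rw [not_subsingleton_iff_nontrivial] at h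
      exact (associatedPrimes.nonempty A M).ne_empty hempty
    have : Subsingleton (Sec A J M) := subsingleton_sec_of_killed fun x q hq =>
      ⟨1, fun h1 => q.2.ne_top ((Ideal.eq_top_iff_one _).mpr h1), Subsingleton.elim _ _⟩
    infer_instance
  | succ n ih =>
    intro M _ _ _ hn h
    by_cases hn' : (associatedPrimes A M).ncard ≤ n
    · exact ih M hn' h
    obtain ⟨p, hp⟩ : (associatedPrimes A M).Nonempty := by
      refine Set.nonempty_of_ncard_ne_zero ?_; omega
    obtain ⟨N, hpN, hQ⟩ := exists_submodule_removing_prime (A := A) (M := M) p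
    have hsub : associatedPrimes A N ⊆ associatedPrimes A M :=
      associatedPrimes.subset_of_injective N.subtype_injective
    have hfinN : Module.Finite A (Sec A J N) := by
      refine ih N ?_ fun q hq hJq => h q (hsub hq) hJq
      have : (associatedPrimes A N).ncard < (associatedPrimes A M).ncard :=
        Set.ncard_lt_ncard ⟨hsub, fun hh => hpN (hh hp)⟩ (associatedPrimes.finite A M)
      omega
    have hfinQ : Module.Finite A (Sec A J (M ⧸ N)) := by
      rcases Set.subset_singleton_iff_eq.mp hQ with he | he
      · refine ih (M ⧸ N) (by simp [he]) (by simp [he])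
      · refine finite_sec_of_singleton he ?_
        by_cases hJ : J ≤ p
        · exact finite_sec_quotient_of_le hJ
        · exact h p hp hJ
    exact finite_sec_of_exact (f := N.subtype) (g := N.mkQ) N.subtype_injective (LinearMap.exact_subtype_mkQ N)

theorem finite_sec_quotient_of_finite [IsNoetherianRing A] [Module.Finite A (Sec A J M)] {p : Ideal A}
    (hp : p ∈ associatedPrimes A M) : Module.Finite A (Sec A J (A ⧸ p)) := by
  obtain ⟨hpp, f, hf⟩ := (isAssociatedPrime_iff_exists_injective_linearMap p M).mp hp
  exact finite_sec_of_injective f hf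

end Groth.Agent.Ega11.PushFinite
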