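import Groth.Agent.Ega11.PushQuotient
import Groth.Agent.Ega11.PushAss
import Mathlib.RingTheory.Ideal.Height
import Mathlib.RingTheory.Ideal.KrullsHeightTheorem

set_option autoImplicit false
universe u

open AlgebraicGeometry CategoryTheory Opposite TopologicalSpace

namespace Groth.Agent.Ega11.PushFinite

open PushBridge PushSections

variable {A : Type u} [CommRing A] [IsNoetherianRing A] {J : Ideal A}

omit [IsNoetherianRing A] in
theorem finite_sec_quotient_iff (p : Ideal A) :
    Module.Finite A (Sec A J (A ⧸ p)) ↔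
      EGA4.IsCoherentPushCompl (A ⧸ p) (J.map (Ideal.Quotient.mk p)) (A ⧸ p) := by
  rw [isCoherentPushCompl_iff]
  let f : (A ⧸ p) →ₛₗ[Ideal.Quotient.mk p] (A ⧸ p) :=
    { toFun := fun x => x
      map_add' := fun _ _ => rfl
      map_smul' := fun a x => by
        rw [Algebra.smul_def, Ideal.Quotient.algebraMap_eq, smul_eq_mul] }
  exact finite_sec_iff Ideal.Quotient.mk_surjective f ⟨fun _ _ h => h, fun x => ⟨x, rfl⟩⟩ rfl

theorem isCoherentPushCompl_iff_components (M : Type u) [AddCommGroup M] [Module A M] [Module.Finite A M] :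
    EGA4.IsCoherentPushCompl A J M ↔
      ∀ p ∈ associatedPrimes A M, ¬ J ≤ p →
        EGA4.IsCoherentPushCompl (A ⧸ p) (J.map (Ideal.Quotient.mk p)) (A ⧸ p) := by
  rw [isCoherentPushCompl_iff]
  refine ⟨fun h p hp _ => (finite_sec_quotient_iff p).mp (finite_sec_quotient_of_finite hp), fun h => ?_⟩
  exact finite_sec_of_associatedPrimes _ M le_rfl fun p hp hJ => (finite_sec_quotient_iff p).mpr (h p hp hJ)

theorem two_le_height_of_finite_sec [IsDomain A] (hJ : J ≠ ⊥) [Module.Finite A (Sec A J A)] :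
    (2 : ℕ∞) ≤ J.height := by
  classical
  rw [Ideal.height_eq_inf_minimalPrimes]
  refine le_iInf₂ fun P hP => ?_
  by_contra hlt
  have hPp : P.IsPrime := hP.1.1
  have hle1 : P.height ≤ 1 := Order.le_of_lt_add_one (by simpa [one_add_one_eq_two] using hlt)
  obtain ⟨g, hgJ, hg0⟩ := Submodule.exists_mem_ne_zero_of_ne_bot hJ
  have hgP : g ∈ P := hP.1.2 hgJ
  have : P.FiniteHeight := ⟨Or.inr (fun h => by simp [h] at hle1)⟩
  have hPmin : P ∈ (Ideal.span {g}).minimalPrimes := by
    refine Ideal.mem_minimalPrimes_of_height_le ((Ideal.span_singleton_le_iff_mem _).mpr hgP) ?_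
    exact le_trans hle1 (Ideal.one_le_height_span_singleton_of_mem_nonZeroDivisors
      (mem_nonZeroDivisors_of_ne_zero hg0))
  -- an element outside `P` lying in all the other minimal primes
  have hfin := (Ideal.span {g}).finite_minimalPrimes_of_isNoetherianRing
  obtain ⟨c, hcP, hc⟩ : ∃ c ∉ P, ∀ Q ∈ (Ideal.span {g}).minimalPrimes, Q ≠ P → c ∈ Q := by
    have hex : ∀ Q ∈ hfin.toFinset.erase P, ∃ c ∈ Q, c ∉ P := fun Q hQ => by
      rw [Finset.mem_erase, Set.Finite.mem_toFinset] at hQ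
      refine SetLike.not_le_iff_exists.mp fun hle => hQ.1 ?_
      exact le_antisymm hle (hPmin.2 hQ.2.1 hle)
    choose! cf hcf hcfP using hex
    refine ⟨∏ Q ∈ hfin.toFinset.erase P, cf Q, fun h => ?_, fun Q hQ hne => ?_⟩
    · obtain ⟨Q, hQ, hQP⟩ := hPp.prod_mem_iff.mp h
      exact hcfP Q hQ hQP
    · have hmem : Q ∈ hfin.toFinset.erase P := Finset.mem_erase.mpr ⟨hne, hfin.mem_toFinset.mpr hQ⟩
      exact Ideal.mem_of_dvd _ (Finset.dvd_prod_of_mem cf hmem) (hcf Q hmem)
  -- uniform denominator for sections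
  obtain ⟨K, hK⟩ : ∃ K, ∀ s : Sec A J A, g ^ K • s ∈ LinearMap.range (toSec A J A) := by
    obtain ⟨T, hT⟩ := Module.Finite.fg_top (R := A) (M := Sec A J A)
    choose k hk using fun s : Sec A J A => exists_pow_smul_mem_range hgJ s
    refine ⟨T.sup k, fun s => ?_⟩
    let N : Submodule A (Sec A J A) :=
      (LinearMap.range (toSec A J A)).comap (LinearMap.lsmul A (Sec A J A) (g ^ T.sup k))
    have hN : Submodule.span A (T : Set (Sec A J A)) ≤ N := Submodule.span_le.mpr fun t ht => by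
      obtain ⟨l, hl⟩ := Nat.exists_eq_add_of_le (Finset.le_sup ht (f := k))
      show g ^ T.sup k • t ∈ LinearMap.range (toSec A J A)
      rw [hl, pow_add, mul_comm]
      convert Submodule.smul_mem _ (g ^ l) (hk t) using 1
      exact mul_smul _ _ _
    exact hN (hT ▸ Submodule.mem_top)
  let I : Ideal A := Ideal.span {g ^ (K + 1)}
  obtain ⟨n, hn⟩ : ∃ n, (J * Ideal.span {c}) ^ n ≤ I := by
    refine Ideal.exists_pow_le_of_le_radical_of_fg ?_ (IsNoetherian.noetherian _)
    rw [show I = Ideal.span {g} ^ (K + 1) by rw [Ideal.span_singleton_pow],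
      Ideal.radical_pow _ K.succ_ne_zero, ← Ideal.sInf_minimalPrimes]
    refine le_sInf fun Q hQ => ?_
    by_cases hQP : Q = P
    · exact Ideal.mul_le_left.trans (hQP ▸ hP.1.2)
    · exact Ideal.mul_le_right.trans ((Ideal.span_singleton_le_iff_mem _).mpr (hc Q hQ hQP))
  -- the section `c ^ n / g ^ (K + 1)`
  have hdiv : ∀ j ∈ J, ∃ a, g ^ (K + 1) * a = (j * c) ^ n := fun j hj => by
    obtain ⟨a, ha⟩ := Ideal.mem_span_singleton'.mp (hn (Ideal.pow_mem_pow
      (Ideal.mul_mem_mul hj (Ideal.mem_span_singleton_self c)) n))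
    exact ⟨a, by rw [mul_comm, ha]⟩
  choose! av hav using hdiv
  have hx : ∀ x : UCompl A J, ∃ j ∈ J, j ∉ x.1.asIdeal := fun x =>
    SetLike.not_le_iff_exists.mp (mem_openCompl_iff.mp x.2)
  choose jv hjJ hjx using hx
  have hpow : ∀ (x : PrimeSpectrum A) (j : A), j ∉ x.asIdeal → j ^ n ∉ x.asIdeal :=
    fun x j h h' => h (x.2.mem_of_pow_mem _ h')
  have hg' : g ^ (K + 1) ≠ 0 := pow_ne_zero _ hg0
  obtain ⟨z, hz⟩ := exists_sec (J := J) (M := A)
    (fun x => LocalizedModule.mk (av (jv x)) ⟨jv x ^ n, hpow x.1 _ (hjx x)⟩) (fun x hx => by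
      obtain ⟨j, hj, hjx'⟩ := SetLike.not_le_iff_exists.mp hx
      refine ⟨j ^ n, av j, hpow x j hjx', fun y hy => LocalizedModule.mk_eq.mpr ⟨1, ?_⟩⟩
      simp only [one_smul, Submonoid.smul_def, smul_eq_mul]
      refine mul_left_cancel₀ hg' ?_
      rw [mul_left_comm, hav _ (hjJ y), mul_left_comm, hav _ hj]
      ring)
  have hzc : g ^ (K + 1) • z = toSec A J A (c ^ n) := by
    refine sec_ext fun x => ?_
    show g ^ (K + 1) • z.1 x = _
    rw [hz]
    refine (LocalizedModule.smul'_mk _ _ _).trans ?_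
    refine LocalizedModule.mk_eq.mpr ⟨1, ?_⟩
    simp only [one_smul, Submonoid.smul_def, smul_eq_mul]
    rw [hav _ (hjJ x)]; ring
  obtain ⟨b, hb⟩ := hK z
  have hinj : Function.Injective (toSec A J A) := injective_toSec_iff.mpr fun q hq hJq => by
    obtain ⟨hqp, v, hv⟩ := isAssociatedPrime_iff.mp hq
    have hg : g ∈ q := hJq hgJ
    rw [hv, Submodule.mem_colon_singleton, Submodule.mem_bot, smul_eq_mul, mul_eq_zero] at hg
    rcases hg with h | h
    · exact hg0 h
    · exact hqp.ne_top (by rw [hv]; ext; simp [Submodule.mem_colon_singleton, h])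
  have heq : g ^ K * c ^ n = g ^ (K + 1) * b := by
    refine hinj ?_
    rw [← smul_eq_mul, ← smul_eq_mul, map_smul, map_smul, hb, ← hzc, smul_comm]
  rw [pow_succ, mul_assoc] at heq
  have hcn : c ^ n ∈ P := by
    rw [mul_left_cancel₀ (pow_ne_zero K hg0) heq]
    exact Ideal.mul_mem_right _ _ hgP
  exact hcP (hPp.mem_of_pow_mem _ hcn)

end Groth.Agent.Ega11.PushFinite
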