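import Groth.Agent.Ega11.PushHeight
import Groth.Agent.ZClos93.Hull
import Mathlib

/-! Sections outside codimension two lie in the height-one hull. -/

set_option autoImplicit false
universe u

namespace Groth.Agent.Ega11.PushFinite

open PushBridge PushSections

variable {B : Type u} [CommRing B] [IsDomain B] [IsNoetherianRing B] {J : Ideal B}

theorem injective_toSec_domain (hJ : J ≠ ⊥) : Function.Injective (toSec B J B) := by
  refine injective_toSec_iff.mpr fun q hq hJq => ?_
  obtain ⟨hqp, v, hv⟩ := isAssociatedPrime_iff.mp hq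
  obtain ⟨g, hgJ, hg0⟩ := Submodule.exists_mem_ne_zero_of_ne_bot hJ
  have hg : g ∈ q := hJq hgJ
  rw [hv, Submodule.mem_colon_singleton, Submodule.mem_bot, smul_eq_mul, mul_eq_zero] at hg
  rcases hg with h | h
  · exact hg0 h
  · exact hqp.ne_top (by rw [hv]; ext; simp [Submodule.mem_colon_singleton, h])

theorem finite_of_into_hull (hJ : 2 ≤ J.height) [Module.Finite B (ZClos93.Hull.hull B)] (S : Type u)
    [AddCommGroup S] [Module B S] (τ : B →ₗ[B] S) (hinj : Function.Injective τ)
    (hreg : ∀ t : B, t ≠ 0 → IsSMulRegular S t) (hpow : ∀ j ∈ J, ∀ s : S, ∃ k : ℕ, j ^ k • s ∈ LinearMap.range τ) :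
    Module.Finite B S := by
  classical
  let K := FractionRing B
  have hJ0 : J ≠ ⊥ := fun h => by
    rw [h, Ideal.height_eq_zero_iff_eq_bot.mpr rfl] at hJ
    exact absurd hJ (by simp)
  have hiK := IsFractionRing.injective B K
  have hcross : ∀ (s : S) (t t' b b' : B), τ b = t • s → τ b' = t' • s → t' * b = t * b' := by
    intro s t t' b b' h h'
    refine hinj ?_
    rw [← smul_eq_mul, ← smul_eq_mul, map_smul, map_smul, h, h', smul_smul, smul_smul, mul_comm]
  obtain ⟨g, hgJ, hg0⟩ := Submodule.exists_mem_ne_zero_of_ne_bot hJ0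
  have hrep : ∀ s : S, ∃ t b : B, t ≠ 0 ∧ τ b = t • s := fun s => by
    obtain ⟨k, b, hb⟩ := hpow g hgJ s
    exact ⟨g ^ k, b, pow_ne_zero k hg0, hb⟩
  let Pr : S → K → Prop := fun s x => ∀ t b : B, τ b = t • s →
    algebraMap B K b = algebraMap B K t * x
  have hex : ∀ s : S, ∃ x, Pr s x := fun s => by
    obtain ⟨t, b, ht, he⟩ := hrep s
    have ht' : algebraMap B K t ≠ 0 := fun h => ht (hiK (h.trans (map_zero _).symm))
    refine ⟨algebraMap B K b / algebraMap B K t, fun t' b' he' => ?_⟩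
    rw [mul_div_assoc', eq_div_iff ht', ← map_mul, ← map_mul, mul_comm b', hcross s t t' b b' he he']
  choose ψ hψ using hex
  have huniq : ∀ s x, Pr s x → x = ψ s := fun s x hx => by
    obtain ⟨t, b, ht, he⟩ := hrep s
    exact mul_left_cancel₀ (fun h => ht (hiK (h.trans (map_zero _).symm)))
      ((hx t b he).symm.trans (hψ s t b he))
  have hmem : ∀ s, ψ s ∈ ZClos93.Hull.hull B := fun s p _ hp => by
    have hJp : ¬ J ≤ p := fun h => absurd (hJ.trans ((Ideal.height_mono h).trans hp.le)) (by norm_num)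
    obtain ⟨j, hjJ, hjp⟩ := SetLike.not_le_iff_exists.mp hJp
    obtain ⟨k, b, hb⟩ := hpow j hjJ s
    exact ⟨j ^ k, fun h => hjp (Ideal.IsPrime.mem_of_pow_mem ‹_› k h), b, hψ s _ _ hb⟩
  have hadd : ∀ s s' : S, ψ (s + s') = ψ s + ψ s' := fun s s' => by
    obtain ⟨t, b, ht, he⟩ := hrep s
    obtain ⟨t', b', ht', he'⟩ := hrep s'
    have h2 := hψ (s + s') (t * t') (t' * b + t * b') (by
      rw [map_add, ← smul_eq_mul, ← smul_eq_mul, map_smul, map_smul, he, he', smul_smul, smul_smul, smul_add,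
        mul_comm t' t])
    refine mul_left_cancel₀ (fun h => mul_ne_zero ht ht' (hiK (h.trans (map_zero _).symm))) (h2.symm.trans ?_)
    rw [map_add, map_mul, map_mul, map_mul, hψ s t b he, hψ s' t' b' he']
    ring
  have hsmul : ∀ (r : B) (s : S), ψ (r • s) = r • ψ s := fun r s => by
    obtain ⟨t, b, ht, he⟩ := hrep s
    have h2 := hψ (r • s) t (r * b) (by rw [← smul_eq_mul, map_smul, he, smul_comm])
    refine mul_left_cancel₀ (fun h => ht (hiK (h.trans (map_zero _).symm))) (h2.symm.trans ?_)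
    rw [map_mul, hψ s t b he, Algebra.smul_def]
    ring
  let Ψ : S →ₗ[B] ZClos93.Hull.hull B :=
    ⟨⟨fun s => ⟨ψ s, hmem s⟩, fun s s' => Subtype.ext (hadd s s')⟩, fun r s => Subtype.ext (hsmul r s)⟩
  refine Module.Finite.of_injective Ψ ((injective_iff_map_eq_zero Ψ).mpr fun s hs => ?_)
  obtain ⟨t, b, ht, he⟩ := hrep s
  have hb := hψ s t b he
  rw [show ψ s = 0 from congrArg Subtype.val hs, mul_zero, ← map_zero (algebraMap B K)] at hb
  have h0 : t • s = 0 := by rw [← he, hiK hb, map_zero]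
  exact hreg t ht (show t • s = t • (0 : S) by rw [h0, smul_zero])

theorem finite_sec_of_hull (hJ : 2 ≤ J.height) [Module.Finite B (ZClos93.Hull.hull B)] :
    Module.Finite B (Sec B J B) :=
  finite_of_into_hull hJ (Sec B J B) (toSec B J B)
    (injective_toSec_domain fun h => by
      rw [h, Ideal.height_eq_zero_iff_eq_bot.mpr rfl] at hJ
      exact absurd hJ (by simp))
    (fun _ ht => isSMulRegular_sec (IsSMulRegular.of_ne_zero (M := B) ht))
    (fun _ hj s => exists_pow_smul_mem_range hj s)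

end Groth.Agent.Ega11.PushFinite
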