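import Groth.Agent.Ega11.FibreComp
import Groth.Agent.CAlg1.Sk
import Groth.Agent.Grass54.CMQuot
import Groth.Agent.ZClos93.Hull
import Groth.Prelude.Def_EGA4b
import Mathlib

/-! The height-one hull of a quotient of a Cohen–Macaulay ring is finite. -/

set_option autoImplicit false
universe u

open scoped nonZeroDivisors

namespace Groth.Agent.Ega11.HullQuotient

theorem height_quotient_succ_le {A : Type u} [CommRing A] [IsNoetherianRing A] {t : A} (ht : ∀ P ∈ minimalPrimes A, t ∉ P) (p : PrimeSpectrum A) (htp : t ∈ p.asIdeal) :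
    (p.asIdeal.map (Ideal.Quotient.mk (Ideal.span {t}))).height + 1 ≤ p.asIdeal.height := by
  set I := Ideal.span {t}
  have hle : I ≤ p.asIdeal := (Ideal.span_singleton_le_iff_mem _).mpr htp
  have hp : (p.asIdeal.map (Ideal.Quotient.mk I)).IsPrime := Ideal.isPrime_map_quotientMk_of_isPrime hle
  let pb : PrimeSpectrum (A ⧸ I) := ⟨_, hp⟩
  have hpb : PrimeSpectrum.comap (Ideal.Quotient.mk I) pb = p := PrimeSpectrum.ext (by
    show (p.asIdeal.map (Ideal.Quotient.mk I)).comap (Ideal.Quotient.mk I) = p.asIdeal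
    rw [Ideal.comap_map_quotientMk, sup_eq_right.mpr hle])
  have : IsNoetherianRing (A ⧸ I) := inferInstance
  rw [show p.asIdeal.map (Ideal.Quotient.mk I) = pb.asIdeal from rfl, PrimeSpectrum.height_eq_orderHeight,
    PrimeSpectrum.height_eq_orderHeight]
  obtain ⟨n, hn⟩ := ENat.ne_top_iff_exists.mp (show Order.height pb ≠ ⊤ by
    rw [← PrimeSpectrum.height_eq_orderHeight]; exact Ideal.height_ne_top hp.ne_top)
  obtain ⟨l, hlast, hlen⟩ := Order.exists_series_of_le_height pb hn.le
  have hmono : StrictMono (PrimeSpectrum.comap (Ideal.Quotient.mk I)) :=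
    Monotone.strictMono_of_injective (fun _ _ h => Ideal.comap_mono h)
      (PrimeSpectrum.comap_injective_of_surjective _ Ideal.Quotient.mk_surjective)
  let l' := l.map (PrimeSpectrum.comap (Ideal.Quotient.mk I)) hmono
  have hthead : t ∈ l'.head.asIdeal := by
    show Ideal.Quotient.mk I t ∈ l.head.asIdeal
    rw [Ideal.Quotient.eq_zero_iff_mem.mpr (Ideal.mem_span_singleton_self t)]
    exact l.head.asIdeal.zero_mem
  obtain ⟨P, hP, hPh⟩ := Ideal.exists_minimalPrimes_le (I := (⊥ : Ideal A)) (J := l'.head.asIdeal) bot_le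
  have hlt : (⟨P, hP.1.1⟩ : PrimeSpectrum A) < l'.head :=
    lt_of_le_of_ne hPh fun e => ht P hP (show t ∈ (⟨P, hP.1.1⟩ : PrimeSpectrum A).asIdeal from e ▸ hthead)
  have h1 := Order.length_le_height (p := (l'.cons _ hlt : LTSeries (PrimeSpectrum A))) (x := p) (by
    rw [RelSeries.last_cons]
    show PrimeSpectrum.comap _ l.last ≤ p
    rw [hlast, hpb])
  rw [← hn]
  simpa [l', hlen] using h1


variable {R : Type u} [CommRing R]

theorem mem_minimalPrimes_of_assoc [LocCoh.IsCohenMacaulayRing R] {p : Ideal R} (hp : p ∈ associatedPrimes R R) :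
    p ∈ minimalPrimes R := by
  have : IsNoetherianRing R := ‹LocCoh.IsCohenMacaulayRing R›.toIsNoetherian
  have h := CAlg1.noEmbedded_iff_S1.mpr (FibreComp.isCohenMacaulayRing_iff.mp ‹_› 1) p hp
  rwa [CAlg1.annihilator_self] at h

/-- primes of positive height contain regular elements -/
theorem exists_regular [LocCoh.IsCohenMacaulayRing R] (Q : Ideal R) [Q.IsPrime] (hQ : 1 ≤ Q.height) :
    ∃ t ∈ Q, t ∈ R⁰ := by
  have : IsNoetherianRing R := ‹LocCoh.IsCohenMacaulayRing R›.toIsNoetherian
  have hnot : ¬ (Q : Set R) ⊆ ⋃ p ∈ (associatedPrimes.finite R R).toFinset, (p : Set R) := by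
    intro hsub
    obtain ⟨p, hp, hle⟩ := (Ideal.subset_union_prime (f := id) ⊥ ⊥ fun p hp _ _ =>
      ((associatedPrimes.finite R R).mem_toFinset.mp hp).isPrime).mp hsub
    have hmin := mem_minimalPrimes_of_assoc ((associatedPrimes.finite R R).mem_toFinset.mp hp)
    have := hmin.1.1
    have hQp : Q = p := le_antisymm hle (hmin.2 ⟨‹Q.IsPrime›, bot_le⟩ hle)
    rw [hQp, Ideal.height_eq_zero_iff.mpr hmin] at hQ
    exact absurd hQ (by simp)
  obtain ⟨t, ht, hno⟩ := Set.not_subset.mp hnot
  refine ⟨t, ht, by_contra fun h => hno ?_⟩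
  have := (biUnion_associatedPrimes_eq_compl_nonZeroDivisors R).ge h
  simp only [Set.mem_iUnion₂, Set.Finite.mem_toFinset] at this ⊢
  exact this

/-- primes of height two contain regular sequences of length two -/
theorem exists_two [LocCoh.IsCohenMacaulayRing R] (Q : Ideal R) [Q.IsPrime] (hQ : 2 ≤ Q.height) :
    ∃ t₁ ∈ Q, t₁ ∈ R⁰ ∧ ∃ t₂ ∈ Q, ∀ a b, t₂ * a = t₁ * b → ∃ v, a = t₁ * v := by
  have : IsNoetherianRing R := ‹LocCoh.IsCohenMacaulayRing R›.toIsNoetherian
  obtain ⟨t, htQ, ht⟩ := exists_regular Q (le_trans (by norm_num) hQ)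
  refine ⟨t, htQ, ht, ?_⟩
  let I := Ideal.span ({t} : Set R)
  have hle : I ≤ Q := (Ideal.span_singleton_le_iff_mem _).mpr htQ
  have : LocCoh.IsCohenMacaulayRing (R ⧸ I) := Grass54.cm_quotient_of_regular t
    (fun a b h => sub_eq_zero.mp (ht.1 _ (by rw [mul_sub, sub_eq_zero]; exact h)))
  have := Ideal.isPrime_map_quotientMk_of_isPrime hle
  have h1 : 1 ≤ (Q.map (Ideal.Quotient.mk I)).height := by
    rw [Order.one_le_iff_pos, pos_iff_ne_zero, ne_eq, Ideal.height_eq_zero_iff]
    intro hmin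
    have hmin' : Q ∈ I.minimalPrimes := by
      refine ⟨⟨‹_›, hle⟩, fun P ⟨hP, hIP⟩ hPQ => ?_⟩
      have := Ideal.isPrime_map_quotientMk_of_isPrime hIP
      have hh := hmin.2 ⟨this, bot_le⟩ (Ideal.map_mono hPQ)
      intro x hx
      have hx' := hh (Ideal.mem_map_of_mem _ hx)
      rw [← Ideal.mem_comap, Ideal.comap_map_quotientMk, sup_eq_right.mpr hIP] at hx'
      exact hx'
    exact absurd (hQ.trans (Ideal.height_le_one_of_isPrincipal_of_mem_minimalPrimes I Q hmin')) (by norm_num)
  obtain ⟨u, huQ, hu⟩ := exists_regular (Q.map (Ideal.Quotient.mk I)) h1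
  obtain ⟨t₂, ht₂, rfl⟩ := (Ideal.mem_map_iff_of_surjective _ Ideal.Quotient.mk_surjective).mp huQ
  refine ⟨t₂, ht₂, fun a b hab => ?_⟩
  have h0 : Ideal.Quotient.mk I a = 0 := hu.1 _ (by
    rw [← map_mul, Ideal.Quotient.eq_zero_iff_mem, hab]
    exact Ideal.mul_mem_right _ _ (Ideal.mem_span_singleton_self t))
  obtain ⟨v, hv⟩ := Ideal.mem_span_singleton'.mp (Ideal.Quotient.eq_zero_iff_mem.mp h0)
  exact ⟨v, by rw [← hv, mul_comm]⟩

section Minimal

variable (R) {B : Type u} [CommRing B] [IsDomain B] (f : R →+* B)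

/-- elements killed by the kernel -/
def omega : Submodule R R where
  carrier := {z | ∀ r ∈ RingHom.ker f, r * z = 0}
  add_mem' := fun {a b} ha hb r hr => by rw [mul_add, ha r hr, hb r hr, add_zero]
  zero_mem' := fun r _ => mul_zero r
  smul_mem' := fun c z hz r hr => by rw [smul_eq_mul, mul_left_comm, hz r hr, mul_zero]

variable {R} [IsNoetherianRing R] (hmin : RingHom.ker f ∈ minimalPrimes R)

omit [IsNoetherianRing R] in
theorem omega_smul_eq {r r' : R} (h : f r = f r') (w : omega R f) : r • w = r' • w := by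
  refine Subtype.ext (sub_eq_zero.mp ?_)
  show r * w.1 - r' * w.1 = 0
  rw [← sub_mul]
  exact w.2 _ (by rw [RingHom.mem_ker, map_sub, h, sub_self])

include hmin in
theorem omega_cancel [LocCoh.IsCohenMacaulayRing R] {s : R} (hs : f s ≠ 0) {w : omega R f} (h : s • w = 0) :
    w = 0 := by
  by_contra hw
  obtain ⟨q, hq, hle⟩ := exists_le_isAssociatedPrime_of_isNoetherianRing R w.1 fun h0 => hw (Subtype.ext h0)
  have hqmin := mem_minimalPrimes_of_assoc hq
  have hPq : RingHom.ker f ≤ q := fun r hr => hle (by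
    rw [Submodule.mem_colon_singleton, Submodule.mem_bot, smul_eq_mul]; exact w.2 r hr)
  have hsq : s ∈ q := hle (by
    rw [Submodule.mem_colon_singleton, Submodule.mem_bot]
    exact congrArg Subtype.val h)
  exact hs (hqmin.2 hmin.1 hPq hsq)

include hmin in
theorem exists_omega_ne_zero : ∃ z : omega R f, ∀ a, a • z = 0 → f a = 0 := by
  have hmin' : RingHom.ker f ∈ (Module.annihilator R R).minimalPrimes := by
    rw [CAlg1.annihilator_self]; exact hmin
  obtain ⟨-, z, hz⟩ := isAssociatedPrime_iff.mp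
    (Module.associatedPrimes.minimalPrimes_annihilator_subset_associatedPrimes R R hmin')
  refine ⟨⟨z, fun r hr => ?_⟩, fun a ha => ?_⟩
  · rw [hz, Submodule.mem_colon_singleton, Submodule.mem_bot] at hr
    exact hr
  · have : a ∈ RingHom.ker f := by
      rw [hz, Submodule.mem_colon_singleton, Submodule.mem_bot]
      exact congrArg Subtype.val ha
    exact this

variable (hf : Function.Surjective f)

include hmin hf in
/-- elements of the hull act on `omega` -/
theorem exists_omega_div [LocCoh.IsCohenMacaulayRing R] (z : omega R f) {a s : R} (hs : f s ≠ 0)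
    {x : FractionRing B} (hx : x ∈ EGA4.heightOneHull B)
    (hxe : algebraMap B (FractionRing B) (f a) = algebraMap B (FractionRing B) (f s) * x) :
    ∃ w : omega R f, s • w = a • z := by
  let N : Submodule R (omega R f) := LinearMap.range (LinearMap.lsmul R (omega R f) s)
  by_contra hno
  have hne : Submodule.Quotient.mk (p := N) (a • z) ≠ 0 := fun h => hno (by
    obtain ⟨w, hw⟩ := (Submodule.Quotient.mk_eq_zero N).mp h
    exact ⟨w, hw⟩)
  obtain ⟨p, hp, hle⟩ := exists_le_isAssociatedPrime_of_isNoetherianRing R _ hne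
  obtain ⟨hpp, u, hu⟩ := isAssociatedPrime_iff.mp hp
  obtain ⟨u, rfl⟩ := Submodule.Quotient.mk_surjective N u
  have hmem : ∀ r, r ∈ p ↔ ∃ w, r • u = s • w := fun r => by
    rw [hu, Submodule.mem_colon_singleton, Submodule.mem_bot, ← Submodule.Quotient.mk_smul,
      Submodule.Quotient.mk_eq_zero]
    exact ⟨fun ⟨w, hw⟩ => ⟨w, hw.symm⟩, fun ⟨w, hw⟩ => ⟨w, hw.symm⟩⟩
  have hann : ∀ r, (∃ w, r • a • z = s • w) → r ∈ p := fun r ⟨w, hw⟩ => hle (by
    rw [Submodule.mem_colon_singleton, Submodule.mem_bot, ← Submodule.Quotient.mk_smul,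
      Submodule.Quotient.mk_eq_zero]
    exact ⟨w, hw.symm⟩)
  have hsp : s ∈ p := hann s ⟨a • z, rfl⟩
  have hPp : RingHom.ker f ≤ p := fun r hr => (hmem r).mpr ⟨0, by
    rw [smul_zero, omega_smul_eq f (show f r = f 0 by rw [map_zero]; exact hr) u, zero_smul]⟩
  have hp1 : p.height ≤ 1 := by
    by_contra h2
    obtain ⟨t₁, ht₁, htr, t₂, ht₂, hreg⟩ := exists_two p (Order.add_one_le_of_lt (not_le.mp h2))
    obtain ⟨u₁, hu₁⟩ := (hmem t₁).mp ht₁
    obtain ⟨u₂, hu₂⟩ := (hmem t₂).mp ht₂
    have h12 : t₂ • u₁ = t₁ • u₂ := by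
      refine sub_eq_zero.mp (omega_cancel f hmin hs ?_)
      rw [smul_sub, smul_comm s t₂, ← hu₁, smul_comm s t₁, ← hu₂, smul_comm t₂ t₁, sub_self]
    obtain ⟨v, hv⟩ := hreg _ _ (congrArg Subtype.val h12)
    have hvω : v ∈ omega R f := fun r hr => htr.1 _ (by
      rw [mul_left_comm, ← hv]; exact u₁.2 r hr)
    refine hpp.ne_top ((Ideal.eq_top_iff_one _).mpr ((hmem 1).mpr ⟨⟨v, hvω⟩, Subtype.ext ?_⟩))
    have h3 : t₁ * u.1 = s * u₁.1 := congrArg Subtype.val hu₁
    rw [one_smul]
    show u.1 = s * v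
    refine sub_eq_zero.mp (htr.1 _ ?_)
    rw [mul_sub, h3, hv]; ring
  let q := p.map f
  have hqp : q.IsPrime := Ideal.map_isPrime_of_surjective hf hPp
  have hqc : q.comap f = p := by
    rw [Ideal.comap_map_of_surjective f hf, ← RingHom.ker_eq_comap_bot, sup_eq_left.mpr hPp]
  have : IsNoetherianRing B := isNoetherianRing_of_surjective R B f hf
  have hmono : StrictMono (PrimeSpectrum.comap f) := Monotone.strictMono_of_injective
    (fun _ _ h => Ideal.comap_mono h) (PrimeSpectrum.comap_injective_of_surjective f hf)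
  have hq1 : q.height = 1 := by
    refine le_antisymm ?_ ?_
    · refine le_trans ?_ hp1
      rw [show q = (⟨q, hqp⟩ : PrimeSpectrum B).asIdeal from rfl,
        show p = (⟨p, hpp⟩ : PrimeSpectrum R).asIdeal from rfl,
        PrimeSpectrum.height_eq_orderHeight, PrimeSpectrum.height_eq_orderHeight]
      exact (Order.height_le_height_apply_of_strictMono _ hmono _).trans_eq
        (congrArg Order.height (PrimeSpectrum.ext hqc))
    · rw [Order.one_le_iff_pos, pos_iff_ne_zero]
      intro h0
      exact hs (Ideal.mem_bot.mp (Ideal.height_eq_zero_iff_eq_bot.mp h0 ▸ Ideal.mem_map_of_mem f hsp))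
  obtain ⟨t', ht', c', hc⟩ := hx q hq1
  obtain ⟨t, rfl⟩ := hf t'
  obtain ⟨c, rfl⟩ := hf c'
  refine ht' (Ideal.mem_map_of_mem f (hann t ⟨c • z, ?_⟩))
  rw [smul_smul, smul_smul]
  refine omega_smul_eq f (IsFractionRing.injective B (FractionRing B) ?_) z
  rw [map_mul f, map_mul f, map_mul, map_mul, hxe, hc]; ring

include hmin hf in
theorem hull_finite_of_minimal [LocCoh.IsCohenMacaulayRing R] : Module.Finite B (ZClos93.Hull.hull B) := by
  classical
  let : Algebra R B := f.toAlgebra
  let K := FractionRing B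
  obtain ⟨z, hz⟩ := exists_omega_ne_zero f hmin
  let H := ZClos93.Hull.hull B
  let Pr : H → omega R f → Prop := fun x w => ∀ a s : R, f s ≠ 0 →
    algebraMap B K (f a) = algebraMap B K (f s) * x.1 → s • w = a • z
  have hrep : ∀ x : H, ∃ a s : R, f s ≠ 0 ∧ algebraMap B K (f a) = algebraMap B K (f s) * x.1 := fun x => by
    obtain ⟨b, s, hs, hbs⟩ := IsFractionRing.div_surjective (A := B) x.1
    obtain ⟨a, rfl⟩ := hf b
    obtain ⟨s, rfl⟩ := hf s
    refine ⟨a, s, nonZeroDivisors.ne_zero hs, ?_⟩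
    rw [← hbs, mul_div_cancel₀]
    exact IsFractionRing.to_map_ne_zero_of_mem_nonZeroDivisors hs
  have hex : ∀ x : H, ∃ w, Pr x w := fun x => by
    obtain ⟨a, s, hs, he⟩ := hrep x
    obtain ⟨w, hw⟩ := exists_omega_div f hmin hf z hs x.2 he
    refine ⟨w, fun a' s' hs' he' => sub_eq_zero.mp (omega_cancel f hmin hs ?_)⟩
    rw [smul_sub, smul_comm s s', hw, smul_smul, smul_smul, sub_eq_zero]
    refine omega_smul_eq f (IsFractionRing.injective B K ?_) z
    rw [map_mul f, map_mul f, map_mul, map_mul, he, he']; ring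
  choose ψ hψ using hex
  have huniq : ∀ x w, Pr x w → w = ψ x := fun x w hw => by
    obtain ⟨a, s, hs, he⟩ := hrep x
    refine sub_eq_zero.mp (omega_cancel f hmin hs ?_)
    rw [smul_sub, hw a s hs he, hψ x a s hs he, sub_self]
  have hadd : ∀ x y : H, ψ (x + y) = ψ x + ψ y := fun x y => by
    obtain ⟨a, s, hs, he⟩ := hrep x
    obtain ⟨b, t, ht, he'⟩ := hrep y
    have hst : f (s * t) ≠ 0 := by rw [map_mul]; exact mul_ne_zero hs ht
    refine sub_eq_zero.mp (omega_cancel f hmin hst ?_)
    rw [smul_sub, hψ (x + y) (a * t + s * b) (s * t) hst, smul_add, mul_comm s t, mul_smul, hψ x a s hs he,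
      mul_comm t s, mul_smul, hψ y b t ht he', add_smul, mul_smul, mul_smul, smul_comm t a z, sub_self]
    show algebraMap B K (f (a * t + s * b)) = algebraMap B K (f (s * t)) * (x.1 + y.1)
    simp only [map_add, map_mul, he, he']; ring
  have hsmul : ∀ (r : R) (x : H), ψ (r • x) = r • ψ x := fun r x => by
    obtain ⟨a, s, hs, he⟩ := hrep x
    refine sub_eq_zero.mp (omega_cancel f hmin hs ?_)
    rw [smul_sub, hψ (r • x) (r * a) s hs, smul_comm s r, hψ x a s hs he, mul_smul, sub_self]
    show algebraMap B K (f (r * a)) = algebraMap B K (f s) * (r • x.1)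
    rw [Algebra.smul_def, IsScalarTower.algebraMap_apply R B K, map_mul, map_mul, he,
      show algebraMap R B r = f r from rfl]
    ring
  let Ψ : H →ₗ[R] omega R f := ⟨⟨ψ, hadd⟩, hsmul⟩
  have hinj : Function.Injective Ψ := by
    rw [injective_iff_map_eq_zero]
    intro x hx
    obtain ⟨a, s, hs, he⟩ := hrep x
    have h0 : f a = 0 := hz a (by rw [← hψ x a s hs he, show ψ x = 0 from hx, smul_zero])
    rw [h0, map_zero, eq_comm, mul_eq_zero] at he
    exact Subtype.ext (he.resolve_left fun h => hs (IsFractionRing.injective B K (h.trans (map_zero _).symm)))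
  have : Module.Finite R H := Module.Finite.of_injective Ψ hinj
  exact Module.Finite.of_restrictScalars_finite R B H

end Minimal

/-- the hull of a quotient domain of a Cohen–Macaulay ring is finite -/
theorem hull_finite_of_cm : ∀ (n : ℕ) (R : Type u) [CommRing R] [LocCoh.IsCohenMacaulayRing R]
    (B : Type u) [CommRing B] [IsDomain B] (f : R →+* B), Function.Surjective f →
      (RingHom.ker f).height ≤ n → Module.Finite B (ZClos93.Hull.hull B) := by
  intro n
  induction n with
  | zero =>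
    intro R _ _ B _ _ f hf h
    have : IsNoetherianRing R := ‹LocCoh.IsCohenMacaulayRing R›.toIsNoetherian
    have := RingHom.ker_isPrime f
    exact hull_finite_of_minimal f (Ideal.height_eq_zero_iff.mp (le_antisymm (by exact_mod_cast h) bot_le)) hf
  | succ n ih =>
    intro R _ _ B _ _ f hf h
    have : IsNoetherianRing R := ‹LocCoh.IsCohenMacaulayRing R›.toIsNoetherian
    have hp := RingHom.ker_isPrime f
    by_cases h0 : (RingHom.ker f).height = 0
    · exact hull_finite_of_minimal f (Ideal.height_eq_zero_iff.mp h0) hf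
    obtain ⟨t, htp, ht⟩ := exists_regular (RingHom.ker f) (Order.one_le_iff_pos.mpr (pos_iff_ne_zero.mpr h0))
    have : LocCoh.IsCohenMacaulayRing (R ⧸ Ideal.span {t}) := Grass54.cm_quotient_of_regular t
      (fun a b h => sub_eq_zero.mp (ht.1 _ (by rw [mul_sub, sub_eq_zero]; exact h)))
    let g : (R ⧸ Ideal.span {t}) →+* B := Ideal.Quotient.lift _ f fun a ha =>
      (Ideal.span_singleton_le_iff_mem _).mpr htp ha
    refine ih (R ⧸ Ideal.span {t}) B g (Ideal.Quotient.lift_surjective_of_surjective _ _ hf) ?_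
    have hker : RingHom.ker g = (RingHom.ker f).map (Ideal.Quotient.mk (Ideal.span {t})) :=
      Ideal.ker_quotient_lift f _
    have hdis : ∀ P ∈ minimalPrimes R, t ∉ P := fun P hP htP => by
      have hP' : P ∈ (Module.annihilator R R).minimalPrimes := by rw [CAlg1.annihilator_self]; exact hP
      have h2 := (biUnion_associatedPrimes_eq_compl_nonZeroDivisors R).le
        (Set.mem_biUnion (Module.associatedPrimes.minimalPrimes_annihilator_subset_associatedPrimes R R hP') htP)
      exact h2 ht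
    have hle := height_quotient_succ_le hdis ⟨RingHom.ker f, hp⟩ htp
    rw [← hker] at hle
    exact (ENat.add_le_add_iff_right ENat.one_ne_top).mp (hle.trans (by exact_mod_cast h))

theorem hull_finite_of_cm_quotient (R : Type u) [CommRing R] [LocCoh.IsCohenMacaulayRing R] (B : Type u)
    [CommRing B] [IsDomain B] (f : R →+* B) (hf : Function.Surjective f) :
    Module.Finite B (ZClos93.Hull.hull B) := by
  have : IsNoetherianRing R := ‹LocCoh.IsCohenMacaulayRing R›.toIsNoetherian
  obtain ⟨n, hn⟩ := ENat.ne_top_iff_exists.mp (Ideal.height_ne_top (RingHom.ker_isPrime f).ne_top)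
  exact hull_finite_of_cm n R B f hf hn.ge

end Groth.Agent.Ega11.HullQuotient
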