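import Groth.Agent.InsepMult31.Basic
import Mathlib.RingTheory.Spectrum.Prime.Noetherian
import Mathlib.RingTheory.LocalRing.Length
import Mathlib.FieldTheory.IsAlgClosed.Basic

/-! The local rings of `L ⊗ₖ k̄` have length the inseparable degree. -/

set_option autoImplicit false
universe u

open TensorProduct IsLocalRing

namespace Groth.Agent.Ega11.InsepLength

variable {k Ω : Type u} [Field k] [Field Ω] [Algebra k Ω] [IsAlgClosed Ω]

theorem length_eq_finrank (A : Type u) [CommRing A] [Algebra Ω A] [Module.Finite Ω A] [IsLocalRing A] :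
    Module.length A A = (Module.finrank Ω A : ℕ∞) := by
  haveI : IsLocalHom (algebraMap Ω A) := ⟨fun a ha => isUnit_iff_ne_zero.2 fun h => by
    rw [h, map_zero] at ha
    exact not_isUnit_zero ha⟩
  have h := IsLocalRing.length_restrictScalars Ω A A
  have hb : Function.Bijective (algebraMap (ResidueField Ω) (ResidueField A)) := by
    haveI : Module.Finite Ω (ResidueField A) :=
      Module.Finite.of_surjective (IsScalarTower.toAlgHom Ω A (ResidueField A)).toLinearMap
        IsLocalRing.residue_surjective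
    have hs : Function.Surjective (algebraMap Ω (ResidueField A)) :=
      (IsAlgClosed.algebraMap_bijective_of_isIntegral (k := Ω) (K := ResidueField A)).2
    refine ⟨RingHom.injective _, fun z => ?_⟩
    obtain ⟨a, rfl⟩ := hs z
    exact ⟨IsLocalRing.residue Ω a, rfl⟩
  have h1 : Module.length (ResidueField Ω) (ResidueField A) = 1 := by
    rw [← (LinearEquiv.ofBijective (Algebra.linearMap (ResidueField Ω) (ResidueField A)) hb).length_eq,
      Module.length_eq_finrank, Module.finrank_self, Nat.cast_one]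
  rw [h1, mul_one, Module.length_eq_finrank] at h
  exact h.symm

variable [Algebra.IsAlgebraic k Ω] (L : Type u) [Field L] [Algebra k L] [FiniteDimensional k L]

/-- The algebra maps `Ω ⊗ L ⟶ Ω` are the primes. -/
noncomputable def primesEquiv : PrimeSpectrum (Ω ⊗[k] L) ≃ (L →ₐ[k] Ω) where
  toFun p :=
    haveI : IsArtinianRing (Ω ⊗[k] L) := IsArtinianRing.of_finite Ω _
    haveI : p.asIdeal.IsMaximal := IsArtinianRing.isMaximal_of_isPrime p.asIdeal
    letI := Ideal.Quotient.field p.asIdeal
    ((AlgEquiv.ofBijective (Algebra.ofId Ω ((Ω ⊗[k] L) ⧸ p.asIdeal))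
      IsAlgClosed.algebraMap_bijective_of_isIntegral).symm.toAlgHom.restrictScalars k).comp
      (((Ideal.Quotient.mkₐ Ω p.asIdeal).restrictScalars k).comp Algebra.TensorProduct.includeRight)
  invFun σ := ⟨RingHom.ker (Algebra.TensorProduct.lift (Algebra.ofId Ω Ω) σ fun _ _ => Commute.all _ _),
    RingHom.ker_isPrime _⟩
  left_inv p := by
    haveI : IsArtinianRing (Ω ⊗[k] L) := IsArtinianRing.of_finite Ω _
    haveI : p.asIdeal.IsMaximal := IsArtinianRing.isMaximal_of_isPrime p.asIdeal
    letI := Ideal.Quotient.field p.asIdeal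
    let φ := (AlgEquiv.ofBijective (Algebra.ofId Ω ((Ω ⊗[k] L) ⧸ p.asIdeal))
      IsAlgClosed.algebraMap_bijective_of_isIntegral).symm.toAlgHom.comp (Ideal.Quotient.mkₐ Ω p.asIdeal)
    ext1
    show RingHom.ker (Algebra.TensorProduct.lift (Algebra.ofId Ω Ω)
      ((φ.restrictScalars k).comp Algebra.TensorProduct.includeRight) fun _ _ => Commute.all _ _) = p.asIdeal
    have hφ : Algebra.TensorProduct.lift (Algebra.ofId Ω Ω)
        ((φ.restrictScalars k).comp Algebra.TensorProduct.includeRight) (fun _ _ => Commute.all _ _) = φ := by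
      ext l
      simp
    rw [hφ]
    ext z
    simp [φ, RingHom.mem_ker, Ideal.Quotient.eq_zero_iff_mem]
  right_inv σ := by
    ext l
    set p : Ideal (Ω ⊗[k] L) :=
      RingHom.ker (Algebra.TensorProduct.lift (Algebra.ofId Ω Ω) σ fun _ _ => Commute.all _ _)
    simp only [AlgHom.comp_apply, AlgHom.restrictScalars_apply]
    apply (AlgEquiv.symm_apply_eq _).2
    show Ideal.Quotient.mk p ((1 : Ω) ⊗ₜ l) = Ideal.Quotient.mk p (algebraMap Ω _ (σ l))
    rw [Ideal.Quotient.eq, RingHom.mem_ker, map_sub, AlgHom.commutes]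
    simp

theorem finrank_localization_eq (p p' : PrimeSpectrum (Ω ⊗[k] L)) :
    Module.finrank Ω (Localization.AtPrime p.asIdeal) = Module.finrank Ω (Localization.AtPrime p'.asIdeal) := by
  set σ := primesEquiv L p with hσ
  set σ' := primesEquiv L p' with hσ'
  obtain ⟨s, hs⟩ : ∃ s : Ω ≃ₐ[k] Ω, s.toAlgHom.comp σ = σ' := by
    let _ : Algebra L Ω := σ.toRingHom.toAlgebra
    have : IsScalarTower k L Ω := IsScalarTower.of_algebraMap_eq fun c => (σ.commutes c).symm
    have : Algebra.IsAlgebraic L Ω := Algebra.IsAlgebraic.tower_top (K := k) L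
    obtain ⟨s, hs⟩ := IsAlgClosed.surjective_domRestrict_of_isAlgebraic (K := k) (M := Ω) (E := Ω) σ'
    refine ⟨AlgEquiv.ofBijective s (Algebra.IsAlgebraic.algHom_bijective s), ?_⟩
    ext r
    exact DFunLike.congr_fun hs r
  let Θ : (Ω ⊗[k] L) ≃ₐ[k] (Ω ⊗[k] L) := Algebra.TensorProduct.congr s AlgEquiv.refl
  let ev := fun τ : L →ₐ[k] Ω => Algebra.TensorProduct.lift (Algebra.ofId Ω Ω) τ fun _ _ => Commute.all _ _
  have hp : p.asIdeal = RingHom.ker (ev σ) := congrArg PrimeSpectrum.asIdeal ((primesEquiv L).symm_apply_apply p).symm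
  have hp' : p'.asIdeal = RingHom.ker (ev σ') := congrArg PrimeSpectrum.asIdeal ((primesEquiv L).symm_apply_apply p').symm
  have hev : ∀ z, ev σ' (Θ z) = s (ev σ z) := fun z => by
    induction z using TensorProduct.induction_on with
    | zero => simp
    | tmul c l => simp [ev, Θ, ← hs]
    | add x y hx hy => simp only [map_add, hx, hy]
  have hΘ : ∀ z, Θ z ∈ p'.asIdeal ↔ z ∈ p.asIdeal := fun z => by
    rw [hp', hp, RingHom.mem_ker, RingHom.mem_ker, hev, map_eq_zero_iff _ s.injective]
  haveI : IsArtinianRing (Ω ⊗[k] L) := IsArtinianRing.of_finite Ω _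
  haveI : ∀ q : PrimeSpectrum (Ω ⊗[k] L), Module.Finite Ω (Localization.AtPrime q.asIdeal) := fun q =>
    Module.Finite.of_surjective (Algebra.algHom Ω (Ω ⊗[k] L) (Localization.AtPrime q.asIdeal)).toLinearMap
      (IsArtinianRing.localization_surjective q.asIdeal.primeCompl (Localization.AtPrime q.asIdeal))
  have h := InsepMult31.length_of_ringEquiv (IsLocalization.ringEquivOfRingEquiv
    (M := p.asIdeal.primeCompl) (T := p'.asIdeal.primeCompl)
    (Localization.AtPrime p.asIdeal) (Localization.AtPrime p'.asIdeal) Θ.toRingEquiv (by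
      ext a
      simp only [Submonoid.mem_map, Ideal.mem_primeCompl_iff]
      exact ⟨by rintro ⟨b, hb, rfl⟩; exact fun h => hb ((hΘ b).1 h),
        fun ha => ⟨Θ.symm a, fun h => ha (by simpa using (hΘ (Θ.symm a)).2 h), Θ.apply_symm_apply a⟩⟩))
  rw [length_eq_finrank (Ω := Ω), length_eq_finrank (Ω := Ω)] at h
  exact_mod_cast h

/-- The local rings of `Ω ⊗ L` have length the inseparable degree. -/
theorem length_localization (q : Ideal (Ω ⊗[k] L)) [q.IsPrime] :
    Module.length (Localization.AtPrime q) (Localization.AtPrime q) = (Field.finInsepDegree k L : ℕ∞) := by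
  haveI : IsArtinianRing (Ω ⊗[k] L) := IsArtinianRing.of_finite Ω _
  haveI : Module.Finite Ω (Localization.AtPrime q) :=
    Module.Finite.of_surjective (Algebra.algHom Ω (Ω ⊗[k] L) (Localization.AtPrime q)).toLinearMap
      (IsArtinianRing.localization_surjective q.primeCompl (Localization.AtPrime q))
  letI := Fintype.ofFinite (PrimeSpectrum (Ω ⊗[k] L))
  have h := IsArtinianRing.finrank_eq_sum_primeSpectrum (Ω ⊗[k] L) Ω
  rw [Module.finrank_baseChange, Finset.sum_congr rfl (fun p _ => finrank_localization_eq L p ⟨q, ‹_›⟩),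
    Finset.sum_const, Finset.card_univ, ← Nat.card_eq_fintype_card, Nat.card_congr (primesEquiv L),
    ← Field.finSepDegree_eq_of_isAlgClosed, smul_eq_mul, ← Field.finSepDegree_mul_finInsepDegree] at h
  rw [length_eq_finrank (Ω := Ω), Nat.eq_of_mul_eq_mul_left (Nat.pos_of_ne_zero (NeZero.ne _)) h.symm]

end Groth.Agent.Ega11.InsepLength
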