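import Groth.Agent.Ega11.TorFreeAss
import Groth.Agent.QC70.SubMod
import Groth.Agent.QC70.CohOps
import Groth.Agent.QC70.FiniteType
import Groth.Agent.Div89.Stalk
import Mathlib

/-! Modules with prescribed stalks at finitely many closed points. -/

set_option autoImplicit false
set_option backward.isDefEq.respectTransparency.types false
universe u

open CategoryTheory CategoryTheory.Limits AlgebraicGeometry TopologicalSpace
open Groth.Agent.QC70

namespace Groth.Agent.Ega11.LatticeSheaf

variable {X : Scheme.{u}} (M : X.Modules) (S : Set X)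
  (L : ∀ s ∈ S, Submodule (X.presheaf.stalk s) (M.presheaf.stalk s))

/-- sections whose germs at the points of `S` lie in the given submodules -/
def lattice : LocalSubmod M where
  obj V :=
    { carrier := {m | ∀ (s : X) (hs : s ∈ S) (hV : s ∈ V), germM M V s hV m ∈ L s hs}
      add_mem' := fun {a b} ha hb s hs hV => by rw [germM_add]; exact add_mem (ha s hs hV) (hb s hs hV)
      zero_mem' := fun s hs hV => by rw [germM_zero]; exact zero_mem _
      smul_mem' := fun c m hm s hs hV => by rw [germM_smul]; exact Submodule.smul_mem _ _ (hm s hs hV) }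
  res_mem {V W} h m hm s hs hV := by rw [germM_res]; exact hm s hs (h hV)
  of_locally {V} m h s hs hV := by
    obtain ⟨W, hW, hsW, hm⟩ := h s hV
    rw [← germM_res hW hsW m]
    exact hm s hs hsW

theorem mem_obj {V : X.Opens} (m : Γ(M, V)) :
    m ∈ (lattice M S L).obj V ↔ ∀ (s : X) (hs : s ∈ S) (hV : s ∈ V), germM M V s hV m ∈ L s hs := Iff.rfl

/-- every element is moved into the submodules by powers of elements of the maximal ideals -/
def IsAbsorbing : Prop :=
  ∀ (s : X) (hs : s ∈ S) (z : M.presheaf.stalk s), ∀ g ∈ IsLocalRing.maximalIdeal (X.presheaf.stalk s),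
    ∃ N : ℕ, g ^ N • z ∈ L s hs

variable {M S L}

theorem isQuasicoherent [M.IsQuasicoherent] (hS : S.Finite) (h : IsAbsorbing M S L) :
    (lattice M S L).mod.IsQuasicoherent := by
  classical
  refine isQuasicoherent_of_forall_isLocAt _ fun U hU => ?_
  have hloc := isLocAt_of_isQuasicoherent M hU
  refine ⟨fun f s => ?_, fun f t ht => ?_⟩
  · obtain ⟨a, t, ht⟩ := hloc.exists_of f ((lattice M S L).ι.app _ s)
    have hN : ∀ y : X, ∃ N : ℕ, ∀ (hy : y ∈ S) (hV : y ∈ U), y ∉ X.basicOpen f →
        (X.presheaf.germ U y hV f) ^ N • germM M U y hV t ∈ L y hy := fun y => by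
      by_cases hy : y ∈ S ∧ y ∈ U ∧ y ∉ X.basicOpen f
      · obtain ⟨N, hN⟩ := h y hy.1 (germM M U y hy.2.1 t) _
          (fun hu => hy.2.2 ((Scheme.mem_basicOpen _ _ _ hy.2.1).2 hu))
        exact ⟨N, fun _ _ _ => hN⟩
      · exact ⟨0, fun h1 h2 h3 => absurd ⟨h1, h2, h3⟩ hy⟩
    choose N hN using hN
    let b := hS.toFinset.sup N
    have hmem : f ^ b • t ∈ (lattice M S L).obj U := fun y hy hV => by
      rw [germM_smul]
      by_cases hf : y ∈ X.basicOpen f
      · refine Submodule.smul_mem _ _ ?_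
        rw [← germM_res (X.basicOpen_le f) hf t, ht, germM_smul]
        exact Submodule.smul_mem _ _ ((show (lattice M S L).obj (X.basicOpen f) from s).2 y hy hf)
      · have hle : N y ≤ b := Finset.le_sup (f := N) (hS.mem_toFinset.2 hy)
        rw [map_pow, ← Nat.sub_add_cancel hle, pow_add, mul_smul]
        exact Submodule.smul_mem _ _ (hN y hy hV hf)
    refine ⟨b + a, (⟨f ^ b • t, hmem⟩ : (lattice M S L).obj U), app_injective_of_mono (lattice M S L).ι _ ?_⟩
    rw [Scheme.Modules.Hom.app_smul]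
    change res M (X.basicOpen_le f) (f ^ b • t) = _
    rw [res_smul, ht, pow_add, mul_smul]
    exact congrArg (· • _) (map_pow _ f b)
  · have h0 : res M (X.basicOpen_le f) ((lattice M S L).ι.app U t) = 0 := congrArg Subtype.val ht
    obtain ⟨a, ha⟩ := hloc.eq_zero_of f _ h0
    refine ⟨a, app_injective_of_mono (lattice M S L).ι _ ?_⟩
    rw [Scheme.Modules.Hom.app_smul, ha, map_zero]

theorem range_stalk (hS : S.Finite) (hcl : ∀ s ∈ S, IsClosed ({s} : Set X)) {s : X} (hs : s ∈ S) :
    LinearMap.range (stalkLinear (lattice M S L).ι s) = L s hs := by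
  refine le_antisymm ?_ fun e he => ?_
  · rintro _ ⟨d, rfl⟩
    obtain ⟨W, hW, m, rfl⟩ := germM_exist d
    change stalkMapM _ s _ ∈ _
    rw [stalkMapM_germ]
    exact (show (lattice M S L).obj W from m).2 s hs hW
  · obtain ⟨W, hW, m, rfl⟩ := germM_exist e
    have hc : IsClosed (S \ {s}) := by
      rw [← Set.biUnion_of_singleton (S \ {s})]
      exact hS.sdiff.isClosed_biUnion fun z hz => hcl z hz.1
    let W' : X.Opens := W ⊓ ⟨(S \ {s})ᶜ, hc.isOpen_compl⟩
    have hsW' : s ∈ W' := ⟨hW, fun h => h.2 rfl⟩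
    have hmem : res M (inf_le_left : W' ≤ W) m ∈ (lattice M S L).obj W' := fun y hy hV => by
      by_cases hys : y = s
      · subst hys
        rw [germM_res]
        exact he
      · exact absurd ⟨hy, hys⟩ hV.2
    refine ⟨germM (lattice M S L).mod W' s hsW' (⟨_, hmem⟩ : (lattice M S L).obj W'), ?_⟩
    show stalkMapM _ s _ = _
    rw [stalkMapM_germ, LocalSubmod.ι_app]
    exact germM_res _ _ _

theorem bijective_stalk (hS : IsClosed S) {x : X} (hx : x ∉ S) :
    Function.Bijective (stalkMapM (lattice M S L).ι x) := by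
  refine ⟨injective_stalkMapM_of_mono _ x, fun e => ?_⟩
  obtain ⟨W, hW, m, rfl⟩ := germM_exist e
  let W' : X.Opens := W ⊓ ⟨Sᶜ, hS.isOpen_compl⟩
  have hmem : res M (inf_le_left : W' ≤ W) m ∈ (lattice M S L).obj W' := fun y hy hV => absurd hy hV.2
  refine ⟨germM (lattice M S L).mod W' x ⟨hW, hx⟩ (⟨_, hmem⟩ : (lattice M S L).obj W'), ?_⟩
  rw [stalkMapM_germ, LocalSubmod.ι_app]
  exact germM_res _ _ _

/-- a quasi-coherent module receiving a coherent one bijectively off a finite set, with finite stalks there, is coherent -/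
theorem isFiniteType_of_stalks [IsLocallyNoetherian X] {F G : X.Modules} (hF : Coh.IsCoh F) [G.IsQuasicoherent]
    (φ : F ⟶ G) (hS : S.Finite) (hcl : ∀ s ∈ S, IsClosed ({s} : Set X))
    (hsurj : ∀ x ∉ S, Function.Surjective (stalkMapM φ x))
    (hfin : ∀ s ∈ S, Module.Finite (X.presheaf.stalk s) (G.presheaf.stalk s)) : G.IsFiniteType := by
  classical
  have := hF.1
  have := hF.2
  have key : ∀ x : X, ∃ V : X.Opens, IsAffineOpen V ∧ x ∈ V ∧ Module.Finite Γ(X, V) Γ(G, V) := by
    intro x
    have hc : IsClosed (S \ {x}) := by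
      rw [← Set.biUnion_of_singleton (S \ {x})]
      exact hS.sdiff.isClosed_biUnion fun z hz => hcl z hz.1
    obtain ⟨_, ⟨V, hV, rfl⟩, hxV, hVS⟩ := X.isBasis_affineOpens.exists_subset_of_mem_open
      (show x ∈ (S \ {x})ᶜ from fun h => h.2 rfl) hc.isOpen_compl
    refine ⟨V, hV, hxV, ?_⟩
    have hG := isLocAt_of_isQuasicoherent G hV
    have := finite_sections_of_isFiniteType F hV
    let φV : Γ(F, V) →ₗ[Γ(X, V)] Γ(G, V) :=
      { toFun := φ.app V, map_add' := map_add _, map_smul' := fun r m => Scheme.Modules.Hom.app_smul _ r m }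
    obtain ⟨T, hT⟩ : ∃ T : Submodule Γ(X, V) Γ(G, V), T.FG ∧
        (x ∈ S → ∀ e : G.presheaf.stalk x, ∃ (t : Γ(X, V)) (q : Γ(G, V)), x ∈ X.basicOpen t ∧ q ∈ T ∧
          X.presheaf.germ V x hxV t • e = germM G V x hxV q) := by
      by_cases hx : x ∈ S
      · have := hfin x hx
        obtain ⟨n, v, hv⟩ := Module.Finite.exists_fin (R := X.presheaf.stalk x) (M := G.presheaf.stalk x)
        choose f q hxf hq using fun i => stalk_exists_smul hG hV hxV (v i)
        refine ⟨Submodule.span _ (Set.range q), Submodule.fg_span (Set.finite_range q), fun _ e => ?_⟩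
        let := Div89.stalkAlg V x hxV
        have := Div89.primeAt_isPrime ⟨V, hV⟩ x hxV
        have : IsLocalization.AtPrime (X.presheaf.stalk x) (Div89.primeAt ⟨V, hV⟩ x hxV) :=
          Div89.isLocalization_stalk ⟨V, hV⟩ x hxV
        have he : e ∈ Submodule.span (X.presheaf.stalk x) (Set.range v) := hv ▸ Submodule.mem_top
        induction he using Submodule.span_induction with
        | mem y hy =>
          obtain ⟨i, rfl⟩ := hy
          exact ⟨f i, q i, hxf i, Submodule.subset_span ⟨i, rfl⟩, hq i⟩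
        | zero => exact ⟨1, 0, by rw [X.basicOpen_one]; exact hxV, zero_mem _, by rw [smul_zero, germM_zero]⟩
        | add y z _ _ hy hz =>
          obtain ⟨t, a, ht, ha, e₁⟩ := hy
          obtain ⟨t', a', ht', ha', e₂⟩ := hz
          refine ⟨t * t', t' • a + t • a', by rw [Scheme.basicOpen_mul]; exact ⟨ht, ht'⟩,
            add_mem (Submodule.smul_mem _ _ ha) (Submodule.smul_mem _ _ ha'), ?_⟩
          rw [germM_add, germM_smul, germM_smul, ← e₁, ← e₂, map_mul, smul_add, smul_smul, smul_smul, mul_comm]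
        | smul c y _ hy =>
          obtain ⟨t, a, ht, ha, e₁⟩ := hy
          obtain ⟨c', u, rfl⟩ := IsLocalization.exists_mk'_eq (Div89.primeAt ⟨V, hV⟩ x hxV).primeCompl c
          refine ⟨t * u, c' • a, by
            rw [Scheme.basicOpen_mul]
            exact ⟨ht, (Div89.mem_basicOpen_iff_notMem ⟨V, hV⟩ x hxV _).2 u.2⟩, Submodule.smul_mem _ _ ha, ?_⟩
          rw [germM_smul, ← e₁, smul_smul, smul_smul, map_mul]
          refine congrArg (· • y) ?_
          rw [mul_assoc, mul_comm (X.presheaf.germ V x hxV c')]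
          exact congrArg (X.presheaf.germ V x hxV t * ·) (IsLocalization.mk'_spec' _ c' u)
      · exact ⟨⊥, Submodule.fg_bot, fun h => absurd h hx⟩
    let P := LinearMap.range φV ⊔ T
    suffices hP : P = ⊤ by
      exact ⟨hP ▸ (Submodule.FG.sup (by rw [← Submodule.map_top]; exact Module.Finite.fg_top.map φV) hT.1)⟩
    refine eq_top_iff.2 fun z _ => ?_
    by_contra hz
    let J : Ideal Γ(X, V) := Submodule.colon P ({z} : Set Γ(G, V))
    have hJ : J ≠ ⊤ := fun h => hz (by
      have := Submodule.mem_colon_singleton.1 (h ▸ Submodule.mem_top : (1 : Γ(X, V)) ∈ J)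
      rwa [one_smul] at this)
    obtain ⟨𝔪, h𝔪, hJ𝔪⟩ := Ideal.exists_le_maximal J hJ
    obtain ⟨y, hy, hy𝔪⟩ := Div89.exists_point ⟨V, hV⟩ 𝔪
    obtain ⟨t, q, hyt, hq, he⟩ : ∃ (t : Γ(X, V)) (q : Γ(G, V)), y ∈ X.basicOpen t ∧ q ∈ P ∧
        X.presheaf.germ V y hy t • germM G V y hy z = germM G V y hy q := by
      by_cases hyS : y ∈ S
      · obtain rfl : y = x := by_contra fun hne => hVS hy ⟨hyS, hne⟩
        obtain ⟨t, q, h1, h2, h3⟩ := hT.2 hyS (germM G V y hy z)
        exact ⟨t, q, h1, Submodule.mem_sup_right h2, h3⟩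
      · obtain ⟨w, hw⟩ := hsurj y hyS (germM G V y hy z)
        obtain ⟨t, m, hyt, ht⟩ := stalk_exists_smul (isLocAt_of_isQuasicoherent F hV) hV hy w
        refine ⟨t, φ.app V m, hyt, Submodule.mem_sup_left ⟨m, rfl⟩, ?_⟩
        rw [← hw, ← stalkMapM_germ, ← ht]
        exact ((stalkLinear φ y).map_smul _ _).symm
    obtain ⟨u, hyu, hu⟩ := stalk_exists_smul_eq_zero hG hV hy (t • z - q) (by
      refine (map_sub (G.presheaf.germ V y hy).hom _ _).trans (sub_eq_zero.2 ?_)
      exact (germM_smul hy t z).trans he)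
    have hmem : u * t ∈ J := Submodule.mem_colon_singleton.2 (by
      rw [mul_smul, ← sub_add_cancel (t • z) q, smul_add, hu, zero_add]
      exact Submodule.smul_mem _ _ hq)
    have hnot : u * t ∉ Div89.primeAt ⟨V, hV⟩ y hy := (Div89.mem_basicOpen_iff_notMem ⟨V, hV⟩ y hy _).1
      (by rw [Scheme.basicOpen_mul]; exact ⟨hyu, hyt⟩)
    exact hnot (hy𝔪.symm.le (hJ𝔪 hmem))
  choose V hV hxV hfinV using key
  exact isFiniteType_of_finite_sections G V
    (IsOpenCover.mk (top_le_iff.mp fun y _ => Opens.mem_iSup.mpr ⟨y, hxV y⟩)) hV hfinV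

/-- a subsheaf with prescribed stalks at finitely many closed points -/
theorem exists_sub [IsLocallyNoetherian X] {F : X.Modules} (hF : Coh.IsCoh F) (hS : S.Finite)
    (hcl : ∀ s ∈ S, IsClosed ({s} : Set X))
    (L : ∀ s ∈ S, Submodule (X.presheaf.stalk s) (F.presheaf.stalk s)) (h : IsAbsorbing F S L) :
    ∃ (E : X.Modules) (i : E ⟶ F), Coh.IsCoh E ∧ Mono i ∧
      (∀ (s : X) (hs : s ∈ S), LinearMap.range (stalkLinear i s) = L s hs) ∧
      ∀ x ∉ S, Function.Bijective (stalkMapM i x) := by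
  have := hF.1
  have := hF.2
  have hSc : IsClosed S := by
    rw [← Set.biUnion_of_singleton S]
    exact hS.isClosed_biUnion fun z hz => hcl z hz
  have hq := isQuasicoherent hS h
  exact ⟨(lattice F S L).mod, (lattice F S L).ι, ⟨hq, isFiniteType_of_mono (lattice F S L).ι⟩, inferInstance,
    fun s hs => range_stalk hS hcl hs, fun x hx => bijective_stalk hSc hx⟩

end Groth.Agent.Ega11.LatticeSheaf
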