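import Groth.Agent.Ega11.NodeNormalAlg
import Groth.Agent.Ega11.TorFreeAss
import Groth.Agent.Curves2.NodePoint
import Groth.Agent.Curves2.SmoothNormal
import Groth.Agent.Cyc90.MaxPts
import Groth.Agent.QC70.UnitSub
import Mathlib

/-! Affine charts of a normalisation around a node. -/

set_option autoImplicit false
set_option backward.isDefEq.respectTransparency.types false
universe u

open CategoryTheory CategoryTheory.Limits AlgebraicGeometry TopologicalSpace TensorProduct

namespace Groth.Agent.Ega11.NodeChart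

variable {X : Scheme.{u}}

theorem eq_zero_of_smul [IsLocallyNoetherian X] [AlgebraicGeometry.IsReduced X] (M : X.Modules) (hM : Coh.IsQCoh M)
    (htM : TorSh.IsTorsionFree M) {W : X.Opens} (a : Γ(X, W))
    (ha : ∀ (z : X) (hz : z ∈ W), IsField (X.presheaf.stalk z) → IsUnit (X.presheaf.germ W z hz a))
    (s : Γ(M, W)) (h : a • s = 0) : s = 0 := by
  refine TorFreeAss.eq_zero_of_germ M hM htM s fun z hz hf => ?_
  have h1 : X.presheaf.germ W z hz a • QC70.germM M W z hz s = 0 := by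
    rw [← QC70.germM_smul, h, QC70.germM_zero]
  exact ((ha z hz hf).smul_eq_zero).1 h1

theorem isTorsionFree_unit : TorSh.IsTorsionFree (Coh.structureModule X) := fun x =>
  (QC70.unitStalkEquiv x).symm.injective.moduleIsTorsionFree (QC70.unitStalkEquiv x).symm
    (fun r m => map_smul (QC70.unitStalkEquiv x).symm r m)

theorem eq_zero_of_mul [IsLocallyNoetherian X] [AlgebraicGeometry.IsReduced X] {W : X.Opens} (a : Γ(X, W))
    (ha : ∀ (z : X) (hz : z ∈ W), IsField (X.presheaf.stalk z) → IsUnit (X.presheaf.germ W z hz a))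
    (s : Γ(X, W)) (h : a * s = 0) : s = 0 :=
  eq_zero_of_smul (Coh.structureModule X) QC70.isQuasicoherent_unit isTorsionFree_unit a ha
    (show Γ(Coh.structureModule X, W) from s) h

theorem finite_of_forall_closed [NoetherianSpace X] {Z : Set X} (hZ : IsClosed Z)
    (h : ∀ z ∈ Z, IsClosed ({z} : Set X)) : Z.Finite := by
  obtain ⟨S, hSfin, hScl, hSirr, hSZ⟩ := NoetherianSpace.exists_finite_set_isClosed_irreducible hZ
  subst hSZ
  refine hSfin.sUnion fun t ht => ?_
  obtain ⟨g, hg⟩ := QuasiSober.sober (hSirr t ht) (hScl t ht)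
  refine (Set.finite_singleton g).subset fun y hy => ?_
  exact (h g ⟨t, ht, hg.mem⟩).closure_eq.le (specializes_iff_mem_closure.1 (hg.specializes hy))

theorem exists_affine [NoetherianSpace X] (U : X.Opens) (h : ∀ z, z ∉ U → IsClosed ({z} : Set X)) (x : X) :
    ∃ V : X.Opens, IsAffineOpen V ∧ x ∈ V ∧ ∀ z ∈ V, z ≠ x → z ∈ U := by
  have hfin := (finite_of_forall_closed U.2.isClosed_compl fun z hz => h z hz).sdiff (t := {x})
  have hcl : IsClosed ((U : Set X)ᶜ \ {x}) := by
    rw [← Set.biUnion_of_singleton ((U : Set X)ᶜ \ {x})]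
    exact hfin.isClosed_biUnion fun z hz => h z hz.1
  obtain ⟨_, ⟨V, hV, rfl⟩, hxV, hVU⟩ :=
    X.isBasis_affineOpens.exists_subset_of_mem_open (show x ∈ ((U : Set X)ᶜ \ {x})ᶜ from fun h => h.2 rfl)
      hcl.isOpen_compl
  exact ⟨V, hV, hxV, fun z hz hne => not_not.1 fun hzU => hVU hz ⟨hzU, hne⟩⟩

variable {Y : Scheme.{u}} (π : Y ⟶ X)

theorem exists_unit_at_maxPts [IsLocallyNoetherian X] [IsLocallyNoetherian Y] [NoetherianSpace Y] {V : X.Opens}
    (hV : IsAffineOpen V) (hW : IsAffineOpen (π ⁻¹ᵁ V)) {x : X} (hx : x ∈ V) (hxc : IsClosed ({x} : Set X))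
    (hxm : ¬ Mero90.MaxPt x) {U : X.Opens} (hxU : x ∉ U) (hUd : Dense ((π ⁻¹ᵁ U : Y.Opens) : Set Y)) :
    ∃ r : Γ(X, V), r ∈ Div89.primeAt ⟨V, hV⟩ x hx ∧
      (∀ (z : X) (hz : z ∈ V), IsField (X.presheaf.stalk z) → IsUnit (X.presheaf.germ V z hz r)) ∧
      ∀ (η : Y) (hη : η ∈ π ⁻¹ᵁ V), IsField (Y.presheaf.stalk η) →
        IsUnit (Y.presheaf.germ (π ⁻¹ᵁ V) η hη (π.app V r)) := by
  classical
  let T : Set X := {z | z ∈ V ∧ Mero90.MaxPt z} ∪ π '' {η | η ∈ π ⁻¹ᵁ V ∧ Mero90.MaxPt η}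
  have hT : T.Finite := (Cyc90.finite_maximal hV).union ((Cyc90.finite_maximal hW).image _)
  have hTV : ∀ z ∈ T, z ∈ V := by
    rintro z (hz | ⟨η, hη, rfl⟩)
    · exact hz.1
    · exact hη.1
  have hTx : ∀ z ∈ T, z ≠ x := by
    rintro z (hz | ⟨η, hη, rfl⟩) rfl
    · exact hxm hz.2
    · exact hxU (TorFreeAss.mem_of_dense hUd hη.2)
  let q : T → Ideal Γ(X, V) := fun z => Div89.primeAt ⟨V, hV⟩ z.1 (hTV _ z.2)
  have : Fintype T := hT.fintype
  obtain ⟨r, hr, hrT⟩ : ∃ r ∈ Div89.primeAt ⟨V, hV⟩ x hx, ∀ z : T, r ∉ q z := by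
    by_contra hc
    push Not at hc
    have hsub : (Div89.primeAt ⟨V, hV⟩ x hx : Set Γ(X, V)) ⊆ ⋃ z ∈ (Finset.univ : Finset T), (q z : Set Γ(X, V)) :=
      fun r hr => by
        obtain ⟨z, hz⟩ := hc r hr
        exact Set.mem_iUnion₂.2 ⟨z, Finset.mem_univ _, hz⟩
    rcases Set.eq_empty_or_nonempty T with hT0 | ⟨z₀, hz₀⟩
    · obtain ⟨z, -⟩ := hc 0 (zero_mem _)
      exact (hT0.le z.2).elim
    obtain ⟨z, -, hz⟩ := (Ideal.subset_union_prime ⟨z₀, hz₀⟩ ⟨z₀, hz₀⟩
      fun i _ _ _ => Div89.primeAt_isPrime _ _ _).1 hsub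
    have hsp : x ⤳ z.1 := (Div89.specializes_iff_primeAt_le ⟨V, hV⟩ (hTV _ z.2) hx).2 hz
    exact hTx _ z.2 (hxc.closure_eq.le (specializes_iff_mem_closure.1 hsp))
  refine ⟨r, hr, fun z hz hf => (Div89.germ_isUnit_iff ⟨V, hV⟩ z hz r).2
    (hrT ⟨z, Or.inl ⟨hz, TorFreeAss.maxPt_of_isField hf⟩⟩), fun η hη hf => ?_⟩
  have h1 := ((Div89.germ_isUnit_iff ⟨V, hV⟩ (π η) hη r).2
    (hrT ⟨π η, Or.inr ⟨η, ⟨hη, TorFreeAss.maxPt_of_isField hf⟩, rfl⟩⟩)).map (π.stalkMap η).hom
  rwa [Scheme.Hom.germ_stalkMap_apply] at h1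

/-- a quadratic integrality relation with a regular denominator is solved in a normal ring -/
theorem dvd_of_quadratic {W : Y.Opens} (hW : IsAffineOpen W)
    (hnor : ∀ y : Y, IsDomain (Y.presheaf.stalk y) ∧ IsIntegrallyClosed (Y.presheaf.stalk y))
    (a u c d : Γ(Y, W)) (hc : ∀ s, c * s = 0 → s = 0) (h : a * a - a * u * c = d * (c * c)) : c ∣ a := by
  let J : Ideal Γ(Y, W) := Submodule.colon (Ideal.span {c}) ({a} : Set Γ(Y, W))
  suffices hJ : J = ⊤ by
    have h1 := Submodule.mem_colon_singleton.1 (hJ ▸ Submodule.mem_top : (1 : Γ(Y, W)) ∈ J)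
    rw [one_smul] at h1
    exact Ideal.mem_span_singleton.1 h1
  by_contra hJ
  obtain ⟨M, hM, hJM⟩ := Ideal.exists_le_maximal J hJ
  obtain ⟨y, hy, hyM⟩ := Div89.exists_point ⟨W, hW⟩ M
  obtain ⟨hdom, hic⟩ := hnor y
  have hprime : (Div89.primeAt ⟨W, hW⟩ y hy).IsPrime := Div89.primeAt_isPrime ⟨W, hW⟩ y hy
  let := Div89.stalkAlg W y hy
  have hloc : IsLocalization.AtPrime (Y.presheaf.stalk y) (Div89.primeAt ⟨W, hW⟩ y hy) :=
    Div89.isLocalization_stalk ⟨W, hW⟩ y hy
  let g := algebraMap Γ(Y, W) (Y.presheaf.stalk y)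
  have hgc : g c ≠ 0 := fun h0 => by
    obtain ⟨t, ht⟩ := (IsLocalization.map_eq_zero_iff (Div89.primeAt ⟨W, hW⟩ y hy).primeCompl _ c).1 h0
    exact t.2 ((hc t.1 (by rw [mul_comm]; exact ht)) ▸ zero_mem _)
  let K := FractionRing (Y.presheaf.stalk y)
  let j := algebraMap (Y.presheaf.stalk y) K
  have hjc : j (g c) ≠ 0 := fun h0 => hgc (IsFractionRing.injective _ K (h0.trans (map_zero j).symm))
  have hint : IsIntegral (Y.presheaf.stalk y) (j (g a) / j (g c)) := by
    refine ⟨Polynomial.X ^ 2 + (Polynomial.C (-g u) * Polynomial.X + Polynomial.C (-g d)),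
      Polynomial.monic_X_pow_add (lt_of_le_of_lt Polynomial.degree_linear_le (by norm_num)), ?_⟩
    simp only [Polynomial.eval₂_add, Polynomial.eval₂_mul, Polynomial.eval₂_X_pow, Polynomial.eval₂_X,
      map_neg, Polynomial.eval₂_neg, Polynomial.eval₂_C]
    have h2 := congrArg (fun z => j (g z)) h
    simp only [map_sub, map_mul] at h2
    have hq : j (g a) = j (g c) * (j (g a) / j (g c)) := (mul_div_cancel₀ _ hjc).symm
    generalize j (g a) / j (g c) = q at hq ⊢
    rw [hq] at h2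
    refine mul_left_cancel₀ (mul_ne_zero hjc hjc) ?_
    linear_combination h2
  obtain ⟨w, hw⟩ := IsIntegrallyClosed.algebraMap_eq_of_integral hint
  have hwa : g a = g c * w := IsFractionRing.injective _ K (by
    show j (g a) = j (g c * w)
    rw [map_mul, show j w = j (g a) / j (g c) from hw, mul_div_cancel₀ _ hjc])
  obtain ⟨⟨s, t⟩, hst⟩ := IsLocalization.surj (Div89.primeAt ⟨W, hW⟩ y hy).primeCompl w
  obtain ⟨t', ht'⟩ := (IsLocalization.eq_iff_exists (Div89.primeAt ⟨W, hW⟩ y hy).primeCompl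
    (Y.presheaf.stalk y)).1 (show g (a * t.1) = g (c * s) by
      rw [map_mul, map_mul, hwa, mul_assoc]; exact congrArg (g c * ·) hst)
  have hmem : t'.1 * t.1 ∈ J := Submodule.mem_colon_singleton.2 (Ideal.mem_span_singleton'.2
    ⟨t'.1 * s, by rw [smul_eq_mul]; linear_combination -ht'⟩)
  exact ((Div89.primeAt ⟨W, hW⟩ y hy).primeCompl.mul_mem t'.2 t.2) (hyM.symm.le (hJM hmem))

theorem isIso_app {U : X.Opens} [IsIso (π ∣_ U)] {V : X.Opens} (hVU : V ≤ U) : IsIso (π.app V) := by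
  have hV : U.ι ''ᵁ (U.ι ⁻¹ᵁ V) = V := by
    rw [Scheme.Hom.image_preimage_eq_opensRange_inf, Scheme.Opens.opensRange_ι]; exact inf_eq_right.2 hVU
  have h : IsIso ((π ∣_ U).app (U.ι ⁻¹ᵁ V)) := inferInstance
  rw [morphismRestrict_app] at h
  have h2 : IsIso (π.app (U.ι ''ᵁ (U.ι ⁻¹ᵁ V))) :=
    @IsIso.of_isIso_comp_right _ _ _ _ _ _ _ (Functor.map_isIso _ _) h
  rw [hV] at h2
  exact h2

theorem nonempty_branches (k : Type u) [Field k] [IsAlgClosed k] [X.Over (Spec (CommRingCat.of k))]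
    [LocallyOfFiniteType (X ↘ Spec (CommRingCat.of k))] (x : X) (hx : Curv2.IsNode k X x) :
    Nonempty (NodeBranches.Branches (X.presheaf.stalk x) (AlgebraicClosure k)) := by
  obtain ⟨-, xb, rfl, h⟩ := hx
  have hbij : Function.Bijective (algebraMap k (AlgebraicClosure k)) :=
    IsAlgClosed.algebraMap_bijective_of_isIntegral
  have : IsIso (CommRingCat.ofHom (algebraMap k (AlgebraicClosure k))) :=
    (ConcreteCategory.isIso_iff_bijective _).2 hbij
  have : IsIso (Curv2.bcFst k X (AlgebraicClosure k)) := inferInstanceAs (IsIso (pullback.fst _ _))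
  have : IsLocallyNoetherian (Curv2.bc k X (AlgebraicClosure k)) :=
    LocallyOfFiniteType.isLocallyNoetherian (Curv2.bcSnd k X (AlgebraicClosure k))
  let : (Curv2.bc k X (AlgebraicClosure k)).Over (Spec (CommRingCat.of (AlgebraicClosure k))) :=
    ⟨Curv2.bcSnd k X (AlgebraicClosure k)⟩
  let := Curv2.stalkAlgebra (AlgebraicClosure k) (Curv2.bc k X (AlgebraicClosure k)) xb
  obtain ⟨b⟩ := NodeBranches.exists_branches h
  exact ⟨b.comap (asIso ((Curv2.bcFst k X (AlgebraicClosure k)).stalkMap xb)).commRingCatIsoToRingEquiv⟩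

theorem not_isField_of_branches {A : Type u} [CommRing A] [IsLocalRing A] {K : Type u} [Field K]
    (b : NodeBranches.Branches A K) : ¬ IsField A := fun hF => by
  obtain ⟨g, hg⟩ := b.approx 2 ![PowerSeries.X, PowerSeries.X] (by simp)
  have h1 := PowerSeries.X_pow_dvd_iff.1 (hg 0) 1 (by omega)
  have hgm : g ∈ IsLocalRing.maximalIdeal A :=
    (b.mem_max g).2 (by simpa using NodeNormalAlg.eq_of_X_pow_dvd (by omega) (hg 0))
  have : g = 0 := by
    have := (IsLocalRing.isField_iff_maximalIdeal_eq.1 hF) ▸ hgm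
    simpa using this
  simp [this] at h1

/-- the ring of the normalisation over the local ring at `x` -/
theorem isNodeNormalization [IsFinite π] [IsLocallyNoetherian X] [IsLocallyNoetherian Y] [NoetherianSpace Y]
    [AlgebraicGeometry.IsReduced X] [AlgebraicGeometry.IsReduced Y]
    (hnor : ∀ y : Y, IsDomain (Y.presheaf.stalk y) ∧ IsIntegrallyClosed (Y.presheaf.stalk y))
    {U : X.Opens} [IsIso (π ∣_ U)] (hUd : Dense ((π ⁻¹ᵁ U : Y.Opens) : Set Y))
    {V : X.Opens} (hV : IsAffineOpen V) {x : X} (hx : x ∈ V) (hxc : IsClosed ({x} : Set X)) (hxU : x ∉ U)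
    (hVU : ∀ z ∈ V, z ≠ x → z ∈ U) {K : Type u} [Field K] (b : NodeBranches.Branches (X.presheaf.stalk x) K) :
    letI := Div89.stalkAlg V x hx
    letI := (π.app V).hom.toAlgebra
    ∃ r : Γ(X, V), (∀ (z : X) (hz : z ∈ V), IsField (X.presheaf.stalk z) → IsUnit (X.presheaf.germ V z hz r)) ∧
      (∀ (η : Y) (hη : η ∈ π ⁻¹ᵁ V), IsField (Y.presheaf.stalk η) →
        IsUnit (Y.presheaf.germ (π ⁻¹ᵁ V) η hη (π.app V r))) ∧
      NodeNormalAlg.IsNodeNormalization b (X.presheaf.stalk x ⊗[Γ(X, V)] Γ(Y, π ⁻¹ᵁ V))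
        (X.presheaf.germ V x hx r) := by
  classical
  let := Div89.stalkAlg V x hx
  let := (π.app V).hom.toAlgebra
  let R := Γ(X, V)
  let S := Γ(Y, π ⁻¹ᵁ V)
  let A := X.presheaf.stalk x
  let p := Div89.primeAt ⟨V, hV⟩ x hx
  have hp : p.IsPrime := Div89.primeAt_isPrime ⟨V, hV⟩ x hx
  let T := p.primeCompl
  have hloc : IsLocalization T A := Div89.isLocalization_stalk ⟨V, hV⟩ x hx
  have hW : IsAffineOpen (π ⁻¹ᵁ V) := hV.preimage π
  have hxm : ¬ Mero90.MaxPt x := fun hmax => by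
    have hprimes : ∀ q : PrimeSpectrum A, q = IsLocalRing.closedPoint A := fun q => by
      rw [← Cyc90.genPrime_fromSpecStalk q, ← Cyc90.genPrime_refl x, Cyc90.genPrime_eq_iff]
      exact hmax _ (Cyc90.fromSpecStalk_specializes q)
    refine not_isField_of_branches b (IsLocalRing.isField_iff_maximalIdeal_eq.2 ?_)
    rw [eq_bot_iff]
    intro a ha
    have h0 : a ∈ nilradical A := by
      rw [nilradical_eq_sInf, Submodule.mem_sInf]
      exact fun q hq => ((congrArg PrimeSpectrum.asIdeal (hprimes ⟨q, hq⟩)).symm.le ha : a ∈ q)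
    rwa [nilradical_eq_zero] at h0
  obtain ⟨r, hr, hrX, hrY⟩ := exists_unit_at_maxPts π hV hW hx hxc hxm hxU hUd
  refine ⟨r, hrX, hrY, ?_⟩
  let f : R →+* S := (π.app V).hom
  have hregR : ∀ (n : ℕ) (s : R), r ^ n * s = 0 → s = 0 := fun n => eq_zero_of_mul _ fun z hz hf => by
    rw [map_pow]; exact (hrX z hz hf).pow n
  have hregS : ∀ (n : ℕ) (s : S), f r ^ n * s = 0 → s = 0 := fun n => eq_zero_of_mul _ fun z hz hf => by
    rw [map_pow]; exact (hrY z hz hf).pow n
  have hD : X.basicOpen r ≤ U := fun z hz => hVU z (X.basicOpen_le r hz) fun e =>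
    (Div89.mem_primeAt_iff ⟨V, hV⟩ x hx r).1 hr (e ▸ hz)
  have hiso : IsIso (π.app (X.basicOpen r)) := isIso_app π hD
  have hinjR : Function.Injective f := (injective_iff_map_eq_zero f).2 fun a ha => by
    have h1 : X.presheaf.map (homOfLE (X.basicOpen_le r)).op a = 0 := by
      refine (ConcreteCategory.bijective_of_isIso (π.app (X.basicOpen r))).1 ?_
      rw [map_zero]
      have h2 := congr($(π.naturality (homOfLE (X.basicOpen_le r)).op) a)
      refine h2.trans ?_
      show Y.presheaf.map _ (f a) = 0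
      rw [ha, map_zero]
    have := hV.isLocalization_basicOpen r
    obtain ⟨⟨-, n, rfl⟩, hn⟩ := (IsLocalization.map_eq_zero_iff (Submonoid.powers r) Γ(X, X.basicOpen r) a).1 h1
    exact hregR n a hn
  have hext : ∀ s : S, ∃ (n : ℕ) (a : R), f r ^ n * s = f a := fun s => by
    have := hV.isLocalization_basicOpen r
    obtain ⟨b', hb'⟩ := (ConcreteCategory.bijective_of_isIso (π.app (X.basicOpen r))).2
      (Y.presheaf.map (homOfLE (π.preimage_mono (X.basicOpen_le r))).op s)
    obtain ⟨⟨a, ⟨-, n, rfl⟩⟩, ha⟩ := IsLocalization.surj (Submonoid.powers r) b'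
    have h2 := congrArg (π.app (X.basicOpen r)) ha
    rw [map_mul, hb'] at h2
    have hnat : ∀ z : R, π.app (X.basicOpen r) (algebraMap R Γ(X, X.basicOpen r) z) =
        Y.presheaf.map (homOfLE (π.preimage_mono (X.basicOpen_le r))).op (f z) :=
      fun z => congr($(π.naturality (homOfLE (X.basicOpen_le r)).op) z)
    rw [hnat, hnat, ← map_mul, map_pow] at h2
    let : Algebra S Γ(Y, π ⁻¹ᵁ X.basicOpen r) :=
      (Y.presheaf.map (homOfLE (π.preimage_mono (X.basicOpen_le r))).op).hom.toAlgebra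
    have : IsLocalization.Away (f r) Γ(Y, π ⁻¹ᵁ X.basicOpen r) :=
      hW.isLocalization_of_eq_basicOpen (f r) _ (π.preimage_basicOpen r)
    obtain ⟨⟨-, m, rfl⟩, hm⟩ := (IsLocalization.eq_iff_exists (Submonoid.powers (f r))
      Γ(Y, π ⁻¹ᵁ X.basicOpen r)).1 (show algebraMap S _ (s * f r ^ n) = algebraMap S _ (f a) from h2)
    refine ⟨n, a, sub_eq_zero.1 (hregS m _ ?_)⟩
    simp only at hm
    linear_combination hm
  have hmemA : algebraMap R A r ∈ IsLocalRing.maximalIdeal A :=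
    (IsLocalization.AtPrime.to_map_mem_maximal_iff A p r).2 hr
  have hsurj : ∀ z : A ⊗[R] S, ∃ (s : S) (t : T), (t : R) • z = 1 ⊗ₜ[R] s := fun z => by
    obtain ⟨⟨s, t⟩, h⟩ := IsLocalizedModule.surj T (TensorProduct.mk R A S 1) z
    exact ⟨s, t, h⟩
  have hzero : ∀ s : S, (1 : A) ⊗ₜ[R] s = 0 → ∃ t : T, (t : R) • s = 0 := fun s h => by
    obtain ⟨t, ht⟩ := (IsLocalizedModule.eq_zero_iff T (TensorProduct.mk R A S 1)).1 h
    exact ⟨t, ht⟩
  have hunit : ∀ (t : T) (z : A ⊗[R] S), (t : R) • z = 0 → z = 0 := fun t z h => by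
    rw [← algebraMap_smul A (t : R)] at h
    exact (IsLocalization.map_units A t).smul_eq_zero.1 h
  have hone : ∀ a : R, algebraMap A (A ⊗[R] S) (algebraMap R A a) = 1 ⊗ₜ[R] f a := fun a => by
    rw [Algebra.TensorProduct.algebraMap_apply, Algebra.algebraMap_self, RingHom.id_apply,
      Algebra.algebraMap_eq_smul_one, smul_tmul]
    exact congrArg _ (Algebra.algebraMap_eq_smul_one a).symm
  have hpow : ∀ (n : ℕ) (t : T) (a : R) (z : A ⊗[R] S) (s : S), (t : R) • z = 1 ⊗ₜ[R] s → f r ^ n * s = f a →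
      algebraMap A (A ⊗[R] S) (algebraMap R A t) * (algebraMap A _ (algebraMap R A r ^ n) * z) =
        algebraMap A _ (algebraMap R A a) := fun n t a z s hz hs => by
    rw [mul_left_comm, ← Algebra.smul_def (algebraMap R A (t : R)) z, algebraMap_smul, hz, map_pow, hone, hone,
      Algebra.TensorProduct.tmul_pow, one_pow, Algebra.TensorProduct.tmul_mul_tmul, one_mul, hs]
  refine
    { injective := ?_
      isIntegral := ?_
      mem_max := hmemA
      mem_nonZeroDivisors := ?_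
      regular := ?_
      exists_pow := ?_
      closed := ?_ }
  · rw [injective_iff_map_eq_zero]
    intro z hz
    obtain ⟨a, t, rfl⟩ := IsLocalization.exists_mk'_eq T z
    have h1 : (1 : A) ⊗ₜ[R] f a = 0 := by
      rw [← hone, ← IsLocalization.mk'_spec A a t, map_mul, hz, zero_mul]
    obtain ⟨t', ht'⟩ := hzero _ h1
    rw [Algebra.smul_def] at ht'
    exact (IsLocalization.mk'_eq_zero_iff a t).2 ⟨t', hinjR (by rw [map_mul, map_zero]; exact ht')⟩
  · have : Module.Finite R S := π.finite_app V hV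
    exact fun z => Algebra.IsIntegral.isIntegral z
  · refine mem_nonZeroDivisors_iff_right.2 fun z hz => ?_
    obtain ⟨a, t, rfl⟩ := IsLocalization.exists_mk'_eq T z
    change IsLocalization.mk' A a t * algebraMap R A r = 0 at hz
    have h1 : algebraMap R A (a * r) = 0 := by
      rw [map_mul, ← IsLocalization.mk'_spec A a t]
      linear_combination algebraMap R A t * hz
    obtain ⟨t', ht'⟩ := (IsLocalization.map_eq_zero_iff T A _).1 h1
    exact (IsLocalization.mk'_eq_zero_iff a t).2 ⟨t', hregR 1 _ (by linear_combination ht')⟩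
  · intro z hz
    change algebraMap R A r • z = 0 at hz
    rw [algebraMap_smul] at hz
    obtain ⟨s, t, hst⟩ := hsurj z
    obtain ⟨t', ht'⟩ := hzero (r • s) (by rw [tmul_smul, ← hst, smul_comm, hz, smul_zero])
    refine hunit (t' * t) z ?_
    rw [Submonoid.coe_mul, mul_smul, hst, ← tmul_smul,
      hregS 1 ((t' : R) • s) (by rw [pow_one]; refine Eq.trans ?_ ((smul_comm r (t' : R) s).trans ht'); exact (Algebra.smul_def r _).symm),
      tmul_zero]
  · intro z
    obtain ⟨s, t, hst⟩ := hsurj z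
    obtain ⟨n, a, ha⟩ := hext s
    refine ⟨n, IsLocalization.mk' A a t, ?_⟩
    refine (((IsLocalization.map_units A t).map (algebraMap A (A ⊗[R] S))).mul_right_inj).1 ?_
    show _ = algebraMap A _ (algebraMap R A t) * (algebraMap A _ (algebraMap R A r ^ n) * z)
    rw [hpow n t a z s hst ha, ← map_mul, IsLocalization.mk'_spec']
  · intro a n hd
    change algebraMap R A r ^ n * algebraMap R A r ^ n ∣ a * a - a * algebraMap R A r ^ n at hd
    show ∃ z, algebraMap A (A ⊗[R] S) a = algebraMap A _ (algebraMap R A r ^ n) * z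
    obtain ⟨d, hd⟩ := hd
    obtain ⟨a', t, rfl⟩ := IsLocalization.exists_mk'_eq T a
    obtain ⟨d', v, rfl⟩ := IsLocalization.exists_mk'_eq T d
    let c := r ^ n
    obtain ⟨w, hw⟩ := (IsLocalization.eq_iff_exists T A).1
      (show algebraMap R A ((a' * a' - a' * t * c) * v) = algebraMap R A (c * c * d' * (t * t)) by
        simp only [c, map_mul, map_sub, map_pow]
        rw [← IsLocalization.mk'_spec A a' t, ← IsLocalization.mk'_spec A d' v]
        linear_combination (algebraMap R A t * algebraMap R A t * algebraMap R A v) * hd)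
    have hfc : f c = f r ^ n := map_pow f r n
    obtain ⟨s, hs⟩ := dvd_of_quadratic hW hnor (f (w * v * a')) (f (w * v * t)) (f c) (f (w * w * v * d' * t * t))
      (fun s hs => hregS n s (by rwa [← hfc]))
      (by
        have h4 := congrArg f hw
        simp only [map_mul, map_sub] at h4 ⊢
        linear_combination (f w * f v) * h4)
    let U' : T := w * v * t
    obtain ⟨z, hz⟩ := (IsLocalization.map_units A U').smul_bijective (β := A ⊗[R] S).2 ((1 : A) ⊗ₜ[R] s)
    refine ⟨z, (((IsLocalization.map_units A U').map (algebraMap A (A ⊗[R] S))).mul_right_inj).1 ?_⟩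
    rw [hpow n U' (w * v * a') z s (by rw [← algebraMap_smul A (U' : R)]; exact hz) (by rw [← hfc]; exact hs.symm),
      ← map_mul, map_mul (algebraMap R A), ← IsLocalization.mk'_spec A a' t]
    simp only [U', Submonoid.coe_mul, map_mul]
    ring

end Groth.Agent.Ega11.NodeChart
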