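import Groth.Agent.Ega11.LatticeSheaf
import Groth.Agent.Ega11.NodeChart
import Groth.Agent.QC70.ExtZero
import Groth.Agent.QCqs72.Basic
import Groth.Agent.Crv77.Basic
import Mathlib

/-! Overmodules with prescribed stalks at finitely many closed points of a curve. -/

set_option autoImplicit false
set_option backward.isDefEq.respectTransparency.types false
universe u

open CategoryTheory CategoryTheory.Limits AlgebraicGeometry TopologicalSpace
open Groth.Agent.QC70

namespace Groth.Agent.Ega11.LatticeSuper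

variable {X : Scheme.{u}}

/-- near a non-maximal closed point of a curve the point is cut out by one regular function -/
theorem exists_uniformizer [IsLocallyNoetherian X] [NoetherianSpace X] [AlgebraicGeometry.IsReduced X]
    (hdim : topologicalKrullDim X ≤ 1) {S : Set X} (hS : S.Finite) (hcl : ∀ s ∈ S, IsClosed ({s} : Set X))
    {s : X} (hs : s ∈ S) (hmax : ¬ Mero90.MaxPt s) :
    ∃ (V : X.Opens) (f : Γ(X, V)) (hsV : s ∈ V), IsAffineOpen V ∧ (∀ y ∈ V, y ∈ S → y = s) ∧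
      (∀ y ∈ V, y ∈ X.basicOpen f ↔ y ≠ s) ∧
      ∀ e : X.presheaf.stalk s, X.presheaf.germ V s hsV f * e = 0 → e = 0 := by
  classical
  have hc : IsClosed (S \ {s}) := by
    rw [← Set.biUnion_of_singleton (S \ {s})]
    exact hS.sdiff.isClosed_biUnion fun z hz => hcl z hz.1
  obtain ⟨_, ⟨V₀, hV₀, rfl⟩, hsV₀, hV₀S⟩ := X.isBasis_affineOpens.exists_subset_of_mem_open
    (show s ∈ (S \ {s})ᶜ from fun h => h.2 rfl) hc.isOpen_compl
  let T : Set X := {z | z ∈ V₀ ∧ Mero90.MaxPt z}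
  have hT : T.Finite := Cyc90.finite_maximal hV₀
  have : Fintype T := hT.fintype
  let q : T → Ideal Γ(X, V₀) := fun z => Div89.primeAt ⟨V₀, hV₀⟩ z.1 z.2.1
  obtain ⟨r, hr, hrT⟩ : ∃ r ∈ Div89.primeAt ⟨V₀, hV₀⟩ s hsV₀, ∀ z : T, r ∉ q z := by
    by_contra hno
    push Not at hno
    obtain ⟨z₀, -⟩ := hno 0 (zero_mem _)
    have hsub : (Div89.primeAt ⟨V₀, hV₀⟩ s hsV₀ : Set Γ(X, V₀)) ⊆
        ⋃ z ∈ (Finset.univ : Finset T), (q z : Set Γ(X, V₀)) := fun r hr => by
      obtain ⟨z, hz⟩ := hno r hr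
      exact Set.mem_iUnion₂.2 ⟨z, Finset.mem_univ _, hz⟩
    obtain ⟨z, -, hz⟩ := (Ideal.subset_union_prime z₀ z₀ fun i _ _ _ => Div89.primeAt_isPrime _ _ _).1 hsub
    exact hmax ((z.2.2 s ((Div89.specializes_iff_primeAt_le ⟨V₀, hV₀⟩ z.2.1 hsV₀).2 hz)) ▸ z.2.2)
  let Z : Set V₀ := {z | z.1 ∉ X.basicOpen r}
  have hZc : IsClosed Z := ((X.basicOpen r).2.preimage continuous_subtype_val).isClosed_compl
  have hdim₀ : topologicalKrullDim V₀ ≤ 1 :=
    (V₀.2.isOpenEmbedding_subtypeVal.isEmbedding.isInducing.topologicalKrullDim_le).trans hdim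
  have : NoetherianSpace V₀ := NoetherianSpace.set (V₀ : Set X)
  have hZ : Z.Finite := by
    refine Crv77.finite_of_isClosed hdim₀ hZc fun z hz => ?_
    have hnm : ¬ Mero90.MaxPt z.1 := fun hm =>
      hrT ⟨z.1, z.2, hm⟩ ((Div89.mem_primeAt_iff ⟨V₀, hV₀⟩ z.1 z.2 r).2 hz)
    simp only [Mero90.MaxPt, not_forall] at hnm
    obtain ⟨w, hw, hne⟩ := hnm
    exact ⟨⟨w, hw.mem_open V₀.2 z.2⟩, (Topology.IsInducing.subtypeVal.specializes_iff).1 hw,
      fun e => hne (congrArg Subtype.val e).symm⟩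
  have hZs : ∀ z ∈ Z, IsClosed ({z.1} : Set X) := fun z hz => by
    have hnm : ¬ Mero90.MaxPt z.1 := fun hm =>
      hrT ⟨z.1, z.2, hm⟩ ((Div89.mem_primeAt_iff ⟨V₀, hV₀⟩ z.1 z.2 r).2 hz)
    simp only [Mero90.MaxPt, not_forall] at hnm
    obtain ⟨w, hw, hne⟩ := hnm
    exact Crv77.isClosed_singleton_of_generalization hdim hw fun e => hne e.symm
  have hc' : IsClosed (Subtype.val '' (Z \ {⟨s, hsV₀⟩})) := by
    rw [← Set.biUnion_of_singleton (Subtype.val '' (Z \ {⟨s, hsV₀⟩}))]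
    refine (hZ.sdiff.image _).isClosed_biUnion ?_
    rintro _ ⟨z, hz, rfl⟩
    exact hZs z hz.1
  obtain ⟨_, ⟨V, hV, rfl⟩, hsV, hVsub⟩ := X.isBasis_affineOpens.exists_subset_of_mem_open
    (show s ∈ (V₀ : Set X) ∩ (Subtype.val '' (Z \ {⟨s, hsV₀⟩}))ᶜ from
      ⟨hsV₀, by rintro ⟨z, hz, hzs⟩; exact hz.2 (Subtype.ext hzs)⟩) (V₀.2.inter hc'.isOpen_compl)
  have hVV₀ : V ≤ V₀ := fun y hy => (hVsub hy).1
  let f : Γ(X, V) := resO X hVV₀ r
  have hfD : ∀ y ∈ V, y ∈ X.basicOpen f ↔ y ≠ s := fun y hy => by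
    constructor
    · rintro h rfl
      refine (Div89.mem_primeAt_iff ⟨V₀, hV₀⟩ _ hsV₀ r).1 hr ?_
      have : y ∈ V ⊓ X.basicOpen r := (Scheme.basicOpen_res X r (homOfLE hVV₀).op).le h
      exact this.2
    · intro hne
      refine (Scheme.basicOpen_res X r (homOfLE hVV₀).op).ge ⟨hy, ?_⟩
      by_contra hyr
      exact (hVsub hy).2 ⟨⟨y, hVV₀ hy⟩, ⟨hyr, fun e => hne (congrArg Subtype.val e)⟩, rfl⟩
  refine ⟨V, f, hsV, hV, fun y hy hyS => by_contra fun hne => hV₀S (hVV₀ hy) ⟨hyS, hne⟩, hfD, fun e he => ?_⟩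
  let := Div89.stalkAlg V s hsV
  have := Div89.primeAt_isPrime ⟨V, hV⟩ s hsV
  have : IsLocalization.AtPrime (X.presheaf.stalk s) (Div89.primeAt ⟨V, hV⟩ s hsV) :=
    Div89.isLocalization_stalk ⟨V, hV⟩ s hsV
  obtain ⟨a, t, rfl⟩ := IsLocalization.exists_mk'_eq (Div89.primeAt ⟨V, hV⟩ s hsV).primeCompl e
  have h1 : algebraMap Γ(X, V) (X.presheaf.stalk s) (f * a) = 0 := by
    rw [map_mul, ← IsLocalization.mk'_spec (X.presheaf.stalk s) a t, ← mul_assoc]
    exact (congrArg (· * _) he).trans (zero_mul _)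
  obtain ⟨t', ht'⟩ := (IsLocalization.map_eq_zero_iff (Div89.primeAt ⟨V, hV⟩ s hsV).primeCompl _ _).1 h1
  refine (IsLocalization.mk'_eq_zero_iff a t).2 ⟨t', NodeChart.eq_zero_of_mul f (fun z hz hf => ?_) _ ?_⟩
  · exact (Scheme.mem_basicOpen _ _ _ hz).1 ((hfD z hz).2 fun e => hmax (e ▸ TorFreeAss.maxPt_of_isField hf))
  · linear_combination ht'

/-- the direct image of the restriction to an open -/
noncomputable abbrev amb (U : X.Opens) (F : X.Modules) : X.Modules :=
  (Scheme.Modules.pushforward U.ι).obj (F.restrict U.ι)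

/-- the map to the direct image of the restriction -/
noncomputable abbrev toAmb (U : X.Opens) (F : X.Modules) : F ⟶ amb U F :=
  (Scheme.Modules.restrictAdjunction U.ι).unit.app F

variable {U : X.Opens} {F : X.Modules}

theorem amb_smul {V : X.Opens} (r : Γ(X, V)) (m : Γ(amb U F, V)) :
    r • m = (resO X (U.ι.image_preimage_le V) r • (show Γ(F, U.ι ''ᵁ (U.ι ⁻¹ᵁ V)) from m) :
      Γ(F, U.ι ''ᵁ (U.ι ⁻¹ᵁ V))) := by
  show ((U.ι.appIso (U.ι ⁻¹ᵁ V)).inv (U.ι.app V r)) • (show Γ(F, U.ι ''ᵁ (U.ι ⁻¹ᵁ V)) from m) = _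
  refine congrArg (· • _) ?_
  exact congr($(U.ι.app_appIso_inv V) r)

/-- bijectivity of multiplication passes to stalks -/
theorem bijective_smul_stalk {M : X.Modules} {V : X.Opens} (hM : IsLocAt M V) (hV : IsAffineOpen V) {s : X}
    (hsV : s ∈ V) (f : Γ(X, V)) (h : Function.Bijective fun m : Γ(M, V) => f • m) :
    Function.Bijective fun z : M.presheaf.stalk s => X.presheaf.germ V s hsV f • z := by
  refine ⟨fun z w hzw => sub_eq_zero.1 ?_, fun z => ?_⟩
  · obtain ⟨a, m, hsa, hm⟩ := stalk_exists_smul hM hV hsV (z - w)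
    have h1 : germM M V s hsV (f • m) = 0 := by
      rw [germM_smul, ← hm, smul_comm, smul_sub, smul_sub,
        show X.presheaf.germ V s hsV f • z = X.presheaf.germ V s hsV f • w from hzw, sub_self]
    obtain ⟨b, hsb, hb⟩ := stalk_exists_smul_eq_zero hM hV hsV _ h1
    have h2 : b • m = 0 := h.1 (show f • (b • m) = f • (0 : Γ(M, V)) by rw [smul_comm, hb, smul_zero])
    have h3 := congrArg (germM M V s hsV) h2
    rw [germM_smul, germM_zero, (isUnit_germ hsb).smul_eq_zero, ← hm, (isUnit_germ hsa).smul_eq_zero] at h3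
    exact h3
  · obtain ⟨a, m, hsa, hm⟩ := stalk_exists_smul hM hV hsV z
    obtain ⟨m', hm'⟩ := h.2 m
    obtain ⟨w, hw⟩ := isUnit_germ hsa
    refine ⟨(↑w⁻¹ : X.presheaf.stalk s) • germM M V s hsV m', ?_⟩
    show X.presheaf.germ V s hsV f • _ = z
    rw [smul_comm, ← germM_smul, show f • m' = m from hm', ← hm, ← hw, smul_smul, Units.inv_mul, one_smul]

theorem amb_smul_bijective {V : X.Opens} (f : Γ(X, V)) (hf : ∀ y ∈ U.ι ''ᵁ (U.ι ⁻¹ᵁ V), y ∈ X.basicOpen f) :
    Function.Bijective fun m : Γ(amb U F, V) => f • m := by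
  let O := U.ι ''ᵁ (U.ι ⁻¹ᵁ V)
  have hOle : O ≤ V := U.ι.image_preimage_le V
  have hu : IsUnit (resO X hOle f) := by
    refine X.toRingedSpace.isUnit_of_isUnit_germ _ _ fun y hy => ?_
    show IsUnit (X.presheaf.germ O y hy (resO X hOle f))
    rw [germ_resO hOle hy]
    exact (Scheme.mem_basicOpen _ _ _ (hOle hy)).1 (hf y hy)
  have heq : (fun m : Γ(amb U F, V) => f • m) = fun m : Γ(amb U F, V) =>
      ((resO X hOle f) • (show Γ(F, O) from m) : Γ(F, O)) := funext fun m => amb_smul f m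
  rw [heq]
  exact hu.smul_bijective (β := Γ(F, O))

set_option maxHeartbeats 1000000 in
theorem amb_absorb [F.IsQuasicoherent] [(amb U F).IsQuasicoherent] {V : X.Opens} (hV : IsAffineOpen V)
    (a : Γ(X, V)) (haU : X.basicOpen a ≤ U.ι ''ᵁ (U.ι ⁻¹ᵁ V)) (m : Γ(amb U F, V)) :
    ∃ (N : ℕ) (t : Γ(F, V)), a ^ N • m = (toAmb U F).app V t := by
  have hM := isLocAt_of_isQuasicoherent (amb U F) hV
  have hFl := isLocAt_of_isQuasicoherent F hV
  let O := U.ι ''ᵁ (U.ι ⁻¹ᵁ V)
  have hOle : O ≤ V := U.ι.image_preimage_le V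
  obtain ⟨n, t, ht⟩ := hFl.exists_of a (res F haU (show Γ(F, O) from m))
  let w : Γ(amb U F, V) := a ^ n • m - (toAmb U F).app V t
  have hw0 : res (amb U F) (X.basicOpen_le a) w = 0 := by
    have hle : U.ι ''ᵁ (U.ι ⁻¹ᵁ X.basicOpen a) ≤ X.basicOpen a := U.ι.image_preimage_le _
    have h1 := congrArg (res F hle) ht
    rw [res_res, res_smul, res_res] at h1
    have hwF : (show Γ(F, O) from w) = resO X hOle (a ^ n) • (show Γ(F, O) from m) - res F hOle t :=
      congrArg (fun e : Γ(F, O) => e - res F hOle t) (amb_smul (a ^ n) m)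
    show res F (U.ι.image_mono (U.ι.preimage_mono (X.basicOpen_le a))) (show Γ(F, O) from w) = 0
    rw [hwF, res_sub, res_smul, res_res, resO_resO, sub_eq_zero]
    refine Eq.trans ?_ h1.symm
    refine congrArg (· • _) ?_
    simp only [resO, map_pow]
    exact congrArg (· ^ n) (resO_resO _ _ _).symm
  obtain ⟨l, hl⟩ := hM.eq_zero_of a w hw0
  refine ⟨l + n, a ^ l • t, ?_⟩
  rw [Scheme.Modules.Hom.app_smul, pow_add, mul_smul, ← sub_eq_zero, ← smul_sub]
  exact hl

set_option maxHeartbeats 2000000 in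
theorem exists_super [IsLocallyNoetherian X] [NoetherianSpace X] [AlgebraicGeometry.IsReduced X]
    (hdim : topologicalKrullDim X ≤ 1) (hF : Coh.IsCoh F) (htF : TorSh.IsTorsionFree F)
    {S : Set X} (hS : S.Finite) (hcl : ∀ s ∈ S, IsClosed ({s} : Set X)) (hmax : ∀ s ∈ S, ¬ Mero90.MaxPt s)
    (P : X → Type u) [∀ s, AddCommGroup (P s)] [∀ s, Module (X.presheaf.stalk s) (P s)]
    [∀ s, Module.Finite (X.presheaf.stalk s) (P s)] [∀ s, Module.IsTorsionFree (X.presheaf.stalk s) (P s)]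
    (ι : ∀ s ∈ S, F.presheaf.stalk s →ₗ[X.presheaf.stalk s] P s)
    (hι : ∀ (s : X) (hs : s ∈ S), Function.Injective (ι s hs))
    (habs : ∀ (s : X) (hs : s ∈ S) (p : P s), ∀ g ∈ IsLocalRing.maximalIdeal (X.presheaf.stalk s),
      ∃ N : ℕ, g ^ N • p ∈ LinearMap.range (ι s hs)) :
    ∃ (G : X.Modules) (j : F ⟶ G), Coh.IsCoh G ∧ Mono j ∧ (∀ x ∉ S, Function.Bijective (stalkMapM j x)) ∧
      ∀ (s : X) (hs : s ∈ S), ∃ Ψ : G.presheaf.stalk s ≃ₗ[X.presheaf.stalk s] P s,
        ∀ e, Ψ (stalkMapM j s e) = ι s hs e := by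
  classical
  have : AlgebraicGeometry.IsLocallyNoetherian X := inferInstance
  have := hF.1
  have hSc : IsClosed S := by
    rw [← Set.biUnion_of_singleton S]
    exact hS.isClosed_biUnion fun z hz => hcl z hz
  let U : X.Opens := ⟨Sᶜ, hSc.isOpen_compl⟩
  have : QuasiCompact U.ι := by
    rw [quasiCompact_iff]
    intro W hW hc
    have : NoetherianSpace U.toScheme := NoetherianSpace.set (U : Set X)
    exact NoetherianSpace.isCompact _
  have : (F.restrict U.ι).IsQuasicoherent := inferInstance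
  have hMq : (amb U F).IsQuasicoherent := QCqs72.isQuasicoherent_pushforward (F.restrict U.ι) U.ι
  have hmono : Mono (toAmb U F) := by
    refine mono_of_app_injective _ fun W a b e => sub_eq_zero.1 ?_
    refine TorFreeAss.eq_zero_of_germ F hF.1 htF _ fun z hz hf => ?_
    have hzU : z ∈ U.ι ''ᵁ (U.ι ⁻¹ᵁ W) :=
      ⟨⟨z, fun h => hmax z h (TorFreeAss.maxPt_of_isField hf)⟩, hz, rfl⟩
    have e' : res F (U.ι.image_preimage_le W) a = res F (U.ι.image_preimage_le W) b := e
    show germM F W z hz (a - b) = 0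
    rw [← germM_res (U.ι.image_preimage_le W) hzU, res_sub, e', sub_self, germM_zero]
  have hbij : ∀ x ∉ S, Function.Bijective (stalkMapM (toAmb U F) x) := fun x hx => by
    have h := (bijective_stalkMapM_restrict_iff U.ι (toAmb U F) ⟨x, hx⟩).1
    refine h ?_
    have : IsIso ((Scheme.Modules.restrictFunctor U.ι).map (toAmb U F)) := by
      have : IsIso (𝟙 ((Scheme.Modules.restrictFunctor U.ι).obj F)) := inferInstance
      exact IsIso.of_isIso_fac_right ((Scheme.Modules.restrictAdjunction U.ι).left_triangle_components F)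
    exact bijective_stalkMapM_of_isIso _ _
  -- the local structure at the points of `S`
  have key : ∀ (s : X) (hs : s ∈ S),
      (∃ f ∈ IsLocalRing.maximalIdeal (X.presheaf.stalk s), IsRegular f ∧
        Function.Bijective fun z : (amb U F).presheaf.stalk s => f • z) ∧
      ∀ z : (amb U F).presheaf.stalk s, ∀ g ∈ IsLocalRing.maximalIdeal (X.presheaf.stalk s),
        ∃ N : ℕ, g ^ N • z ∈ LinearMap.range (stalkLinear (toAmb U F) s) := by
    intro s hs
    obtain ⟨V, f, hsV, hV, hVS, hfD, hfreg⟩ := exists_uniformizer hdim hS hcl hs (hmax s hs)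
    have hM := isLocAt_of_isQuasicoherent (amb U F) hV
    have hO : ∀ y ∈ U.ι ''ᵁ (U.ι ⁻¹ᵁ V), y ∈ X.basicOpen f := by
      rintro _ ⟨u, hu, rfl⟩
      exact (hfD _ hu).2 fun e => u.2 ((Eq.symm e ▸ hs : U.ι u ∈ S))
    refine ⟨⟨X.presheaf.germ V s hsV f, fun hu' => (hfD s hsV).1 ((Scheme.mem_basicOpen _ _ _ hsV).2 hu') rfl,
      isRegular_iff_mem_nonZeroDivisors.2 (mem_nonZeroDivisors_iff_right.2 fun e he => hfreg e (by
        rw [mul_comm]; exact he)), bijective_smul_stalk hM hV hsV f (amb_smul_bijective f hO)⟩, fun z g hg => ?_⟩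
    let := Div89.stalkAlg V s hsV
    have := Div89.primeAt_isPrime ⟨V, hV⟩ s hsV
    have : IsLocalization.AtPrime (X.presheaf.stalk s) (Div89.primeAt ⟨V, hV⟩ s hsV) :=
      Div89.isLocalization_stalk ⟨V, hV⟩ s hsV
    obtain ⟨a, u, rfl⟩ := IsLocalization.exists_mk'_eq (Div89.primeAt ⟨V, hV⟩ s hsV).primeCompl g
    have ha : s ∉ X.basicOpen a := (Div89.mem_primeAt_iff ⟨V, hV⟩ s hsV a).1
      ((IsLocalization.AtPrime.mk'_mem_maximal_iff (X.presheaf.stalk s) _ a u).1 hg)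
    obtain ⟨d, m, hsd, hm⟩ := stalk_exists_smul hM hV hsV z
    have haU : X.basicOpen a ≤ U.ι ''ᵁ (U.ι ⁻¹ᵁ V) := fun y hy =>
      ⟨⟨y, fun hyS => ha (hVS y (X.basicOpen_le a hy) hyS ▸ hy)⟩, X.basicOpen_le a hy, rfl⟩
    obtain ⟨N, t, ht⟩ := amb_absorb hV a haU m
    refine ⟨N, ?_⟩
    have h3 : X.presheaf.germ V s hsV a ^ N • germM (amb U F) V s hsV m ∈
        LinearMap.range (stalkLinear (toAmb U F) s) := by
      refine ⟨germM F V s hsV t, ?_⟩
      show stalkMapM _ s _ = _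
      rw [stalkMapM_germ, ← map_pow, ← germM_smul, ht]
    have hz : z = (↑(isUnit_germ hsd).unit⁻¹ : X.presheaf.stalk s) • germM (amb U F) V s hsV m := by
      rw [← hm, smul_smul, IsUnit.val_inv_mul, one_smul]
    have hmk : IsLocalization.mk' (X.presheaf.stalk s) a u =
        IsLocalization.mk' (X.presheaf.stalk s) 1 u * X.presheaf.germ V s hsV a :=
      (IsLocalization.mk'_eq_mul_mk'_one a u).trans (mul_comm _ _)
    rw [hz, smul_comm, hmk, mul_pow, mul_smul]
    exact Submodule.smul_mem _ _ (Submodule.smul_mem _ _ h3)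
  choose f hfm hfreg hfbij using fun s hs => (key s hs).1
  -- the maps from the prescribed stalks
  let φ : ∀ s, F.presheaf.stalk s →ₗ[X.presheaf.stalk s] (amb U F).presheaf.stalk s :=
    fun s => stalkLinear (toAmb U F) s
  have hψ : ∀ (s : X) (hs : s ∈ S) (p : P s), ∃! z, ∃ (N : ℕ) (e : F.presheaf.stalk s),
      f s hs ^ N • p = ι s hs e ∧ f s hs ^ N • z = φ s e := by
    intro s hs p
    obtain ⟨N, e, he⟩ := habs s hs p _ (hfm s hs)
    have hb : ∀ M : ℕ, Function.Bijective fun z : (amb U F).presheaf.stalk s => f s hs ^ M • z := fun M => by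
      induction M with
      | zero => simp only [pow_zero, one_smul]; exact Function.bijective_id
      | succ M ih => simp only [pow_succ, mul_smul]; exact ih.comp (hfbij s hs)
    obtain ⟨z, hz⟩ := (hb N).2 (φ s e)
    refine ⟨z, ⟨N, e, he.symm, hz⟩, ?_⟩
    rintro z' ⟨N', e', he', hz'⟩
    refine (hb (N + N')).1 ?_
    show f s hs ^ (N + N') • z' = f s hs ^ (N + N') • z
    have hee : f s hs ^ N • e' = f s hs ^ N' • e := hι s hs (by
      rw [map_smul, map_smul, ← he', he, smul_smul, smul_smul, mul_comm])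
    have hz2 : f s hs ^ N • z = φ s e := hz
    calc f s hs ^ (N + N') • z' = f s hs ^ N • φ s e' := by rw [pow_add, mul_smul, hz']
      _ = f s hs ^ N' • φ s e := by rw [← map_smul, hee, map_smul]
      _ = f s hs ^ (N + N') • z := by rw [← hz2, ← mul_smul, ← pow_add, add_comm]
  choose ψ hψ hψu using hψ
  let ψl : ∀ (s : X) (hs : s ∈ S), P s →ₗ[X.presheaf.stalk s] (amb U F).presheaf.stalk s := fun s hs =>
    { toFun := ψ s hs
      map_add' := fun p q => by
        obtain ⟨N, e, he, hz⟩ := hψ s hs p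
        obtain ⟨N', e', he', hz'⟩ := hψ s hs q
        refine (hψu s hs _ _ ⟨N + N', f s hs ^ N' • e + f s hs ^ N • e', ?_, ?_⟩).symm
        · rw [map_add, map_smul, map_smul, ← he, ← he', smul_add, pow_add, mul_smul, mul_smul, smul_comm]
        · rw [map_add, map_smul, map_smul, ← hz, ← hz', smul_add, pow_add, mul_smul, mul_smul, smul_comm]
      map_smul' := fun c p => by
        obtain ⟨N, e, he, hz⟩ := hψ s hs p
        refine (hψu s hs _ _ ⟨N, c • e, ?_, ?_⟩).symm
        · rw [map_smul, ← he, smul_comm]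
        · rw [map_smul, ← hz, smul_comm]; rfl }
  have hψι : ∀ (s : X) (hs : s ∈ S) (e), ψl s hs (ι s hs e) = φ s e := fun s hs e =>
    (hψu s hs _ _ ⟨0, e, by rw [pow_zero, one_smul], by rw [pow_zero, one_smul]⟩).symm
  have hψinj : ∀ (s : X) (hs : s ∈ S), Function.Injective (ψl s hs) := fun s hs => by
    refine (injective_iff_map_eq_zero _).2 fun p hp => ?_
    obtain ⟨N, e, he, hz⟩ := hψ s hs p
    have he0 : e = 0 := injective_stalkMapM_of_mono (toAmb U F) s (by
      show φ s e = φ s 0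
      rw [← hz, show ψ s hs p = 0 from hp, smul_zero, map_zero])
    rw [he0, map_zero] at he
    exact ((hfreg s hs).pow N).isSMulRegular (by simpa using he)
  let L : ∀ s ∈ S, Submodule (X.presheaf.stalk s) ((amb U F).presheaf.stalk s) :=
    fun s hs => LinearMap.range (ψl s hs)
  have hL : LatticeSheaf.IsAbsorbing (amb U F) S L := fun s hs z g hg => by
    obtain ⟨N, e, he⟩ := (key s hs).2 z g hg
    exact ⟨N, ι s hs e, (hψι s hs e).trans he⟩
  let lat := LatticeSheaf.lattice (amb U F) S L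
  have hlift : ∀ (W : X.Opens) (m : Γ(F, W)), (toAmb U F).app W m ∈ lat.obj W := fun W m s hs hV => by
    rw [← stalkMapM_germ]
    exact ⟨ι s hs _, hψι s hs _⟩
  let j : F ⟶ lat.mod := lat.lift (toAmb U F) hlift
  have hj : j ≫ lat.ι = toAmb U F := lat.lift_ι _ _
  have hjs : ∀ x e, stalkMapM lat.ι x (stalkMapM j x e) = stalkMapM (toAmb U F) x e := fun x e => by
    rw [← stalkMapM_comp, hj]
  have hjb : ∀ x ∉ S, Function.Bijective (stalkMapM j x) := fun x hx => by
    have h2 := LatticeSheaf.bijective_stalk (L := L) hSc hx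
    refine (Function.Bijective.of_comp_iff' h2 _).1 ?_
    rw [show stalkMapM lat.ι x ∘ stalkMapM j x = stalkMapM (toAmb U F) x from funext (hjs x)]
    exact hbij x hx
  have hq := LatticeSheaf.isQuasicoherent hS hL
  let Ψ : ∀ (s : X) (hs : s ∈ S), lat.mod.presheaf.stalk s ≃ₗ[X.presheaf.stalk s] P s := fun s hs =>
    (LinearEquiv.ofInjective (stalkLinear lat.ι s) (injective_stalkMapM_of_mono lat.ι s)).trans
      ((LinearEquiv.ofEq _ _ (LatticeSheaf.range_stalk hS hcl hs)).trans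
        (LinearEquiv.ofInjective (ψl s hs) (hψinj s hs)).symm)
  refine ⟨lat.mod, j, ⟨hq, ?_⟩, mono_of_mono_fac hj, hjb, fun s hs => ⟨Ψ s hs, fun e => ?_⟩⟩
  · exact LatticeSheaf.isFiniteType_of_stalks hF j hS hcl (fun x hx => (hjb x hx).2)
      fun s hs => Module.Finite.equiv (Ψ s hs).symm
  · show (LinearEquiv.ofInjective (ψl s hs) (hψinj s hs)).symm _ = _
    rw [LinearEquiv.symm_apply_eq]
    refine Subtype.ext ?_
    show stalkMapM lat.ι s (stalkMapM j s e) = ψl s hs (ι s hs e)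
    rw [hψι, hjs]
    rfl

end Groth.Agent.Ega11.LatticeSuper
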