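import Groth.Agent.EGA4H10.GlobalNagata
import Mathlib

/-! A criterion for the Nagata property. -/

set_option autoImplicit false
universe u

open IsLocalRing

namespace Groth.Agent.Ega11.NagataCrit

open EGA4H10

/-- integral elements are integral up to powers of `f` when normal away from `f` -/
theorem exists_pow_mul_mem_of_normalAway {B L : Type u} [CommRing B] [IsDomain B] [Field L] [Algebra B L]
    [IsFractionRing B L] (f : B) (hf : f ≠ 0) (h : IsIntegrallyClosed (Localization.Away f)) (x : L)
    (hx : IsIntegral B x) : ∃ (n : ℕ) (c : B), algebraMap B L (f ^ n) * x = algebraMap B L c := by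
  let S := Localization.Away f
  have hu : ∀ y : Submonoid.powers f, IsUnit (algebraMap B L y) := fun ⟨y, k, hk⟩ =>
    isUnit_iff_ne_zero.2 fun h0 => pow_ne_zero k hf (by
      have := IsFractionRing.injective B L (h0.trans (map_zero _).symm)
      exact hk.trans this)
  letI : Algebra S L := (IsLocalization.lift (M := Submonoid.powers f) hu).toAlgebra
  have : IsScalarTower B S L := .of_algebraMap_eq fun b => (IsLocalization.lift_eq hu b).symm
  have : IsDomain S := IsLocalization.isDomain_localization (powers_le_nonZeroDivisors_of_noZeroDivisors hf)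
  have : IsFractionRing S L :=
    IsFractionRing.isFractionRing_of_isDomain_of_isLocalization (Submonoid.powers f) S L
  have := h
  obtain ⟨z, hz⟩ := IsIntegrallyClosed.isIntegral_iff.1 (hx.tower_top (A := S))
  obtain ⟨⟨a, ⟨_, n, rfl⟩⟩, has⟩ := IsLocalization.surj (Submonoid.powers f) z
  refine ⟨n, a, ?_⟩
  rw [← hz, IsScalarTower.algebraMap_apply B S L (f ^ n), ← map_mul, mul_comm, has,
    ← IsScalarTower.algebraMap_apply]

/-- local-to-global for the N-2 property -/
theorem finite_of_localized (R : Type u) [CommRing R] [IsDomain R] [IsNoetherianRing R]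
    (L : Type u) [Field L] [Algebra R L] [Algebra (FractionRing R) L] [IsScalarTower R (FractionRing R) L]
    [FiniteDimensional (FractionRing R) L]
    (hloc : ∀ (m : Ideal R) [m.IsMaximal], CAlg.IsN2 (Localization.AtPrime m))
    (hgen : ∀ (B : Subalgebra R L), Module.Finite R B → IsFractionRing B L →
      ∃ f : B, f ≠ 0 ∧ IsIntegrallyClosed (Localization.Away f)) :
    Module.Finite R (integralClosure R L) := by
  classical
  let K := FractionRing R
  obtain ⟨B, hBfin, hBfull⟩ := CAlgH2.exists_fullFinite (A := R) (K' := L)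
  have := hBfin
  have : FaithfulSMul B L := (faithfulSMul_iff_algebraMap_injective B L).2 Subtype.val_injective
  have : IsFractionRing B L := IsFractionRing.of_field B L fun z => by
    obtain ⟨a, b, hb, hab⟩ := hBfull z
    exact ⟨a, b, (eq_div_of_mul_eq hb hab)⟩
  obtain ⟨f, hf0, hnor⟩ := hgen B hBfin ‹_›
  let C : Submodule R L := (integralClosure R L).toSubmodule
  have hBC : B ≤ integralClosure R L := fun c hc => (IsIntegral.of_finite R (⟨c, hc⟩ : B)).map B.val
  have hf0' : (f : L) ≠ 0 := fun h => hf0 (Subtype.ext h)
  refine Module.Finite.iff_fg.2 (fg_of_locally_finite C B.toSubmodule hBC (Module.Finite.iff_fg.1 hBfin)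
    (LinearMap.mulLeft R (f : L)) (mul_right_injective₀ hf0') (fun x hx => (integralClosure R L).mul_mem (hBC f.2) hx)
    (fun x hx => B.mul_mem f.2 hx) (fun x hx => ?_) (fun m _ => ?_))
  · obtain ⟨n, c, hc⟩ := exists_pow_mul_mem_of_normalAway (L := L) f hf0 hnor x ((show IsIntegral R x from hx).tower_top)
    refine ⟨n, ?_⟩
    rw [LinearMap.pow_mulLeft, LinearMap.mulLeft_apply]
    have hc' : (f : L) ^ n * x = c := by rw [← SubmonoidClass.coe_pow]; exact hc
    rw [hc']
    exact c.2
  · let S := Localization.AtPrime m
    have hinj : Function.Injective (algebraMap R K) := IsFractionRing.injective R K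
    have hu : ∀ y : m.primeCompl, IsUnit (algebraMap R K y) := fun y =>
      isUnit_iff_ne_zero.2 fun h0 => y.2 (by rw [hinj (h0.trans (map_zero _).symm)]; exact m.zero_mem)
    letI : Algebra S K := (IsLocalization.lift (M := m.primeCompl) hu).toAlgebra
    have : IsScalarTower R S K := .of_algebraMap_eq fun b => (IsLocalization.lift_eq hu b).symm
    have : IsFractionRing S K := IsFractionRing.isFractionRing_of_isDomain_of_isLocalization m.primeCompl S K
    letI : Algebra S L := ((algebraMap K L).comp (algebraMap S K)).toAlgebra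
    have : IsScalarTower S K L := .of_algebraMap_eq fun _ => rfl
    have : IsScalarTower R S L := .of_algebraMap_eq fun r => by
      show algebraMap R L r = algebraMap K L (algebraMap S K (algebraMap R S r))
      rw [← IsScalarTower.algebraMap_apply R S K, ← IsScalarTower.algebraMap_apply R K L]
    obtain ⟨T, hT1, hT2⟩ := (CAlg5.finite_integralClosure_iff S L).1 (CAlg5.IsN2.finite (hloc m) K L)
    choose! σ hσ using fun t (ht : t ∈ T) =>
      IsIntegral.exists_multiple_integral_of_isLocalization m.primeCompl t (hT1 t ht)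
    refine ⟨T.image fun t => σ t • t, fun y hy => ?_, fun x hx => ?_⟩
    · obtain ⟨t, ht, rfl⟩ := Finset.mem_image.1 hy
      exact hσ t ht
    · have hsp : ∀ y ∈ Submodule.span S (T : Set L),
          ∃ s ∉ m, s • y ∈ Submodule.span R ((T.image fun t => σ t • t : Finset L) : Set L) := by
        intro y hy
        induction hy using Submodule.span_induction with
        | mem t ht => exact ⟨(σ t : R), (σ t).2, Submodule.subset_span (Finset.mem_image_of_mem _ ht)⟩
        | zero => exact ⟨1, (Ideal.ne_top_iff_one m).1 (Ideal.IsPrime.ne_top inferInstance), by simp⟩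
        | add a b _ _ ha hb =>
          obtain ⟨⟨i, hi, hia⟩, ⟨j, hj, hjb⟩⟩ := ha, hb
          refine ⟨i * j, fun h => (Ideal.IsPrime.mem_or_mem inferInstance h).elim hi hj, ?_⟩
          rw [smul_add]
          refine add_mem ?_ ?_
          · rw [mul_comm, mul_smul]; exact Submodule.smul_mem _ _ hia
          · rw [mul_smul]; exact Submodule.smul_mem _ _ hjb
        | smul c a _ ha =>
          obtain ⟨i, hi, hia⟩ := ha
          obtain ⟨⟨r, u⟩, hru⟩ := IsLocalization.surj m.primeCompl c
          refine ⟨u * i, fun h => (Ideal.IsPrime.mem_or_mem inferInstance h).elim u.2 hi, ?_⟩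
          have : (↑u * i : R) • c • a = r • i • a := by
            rw [mul_smul, smul_comm i c a, ← algebraMap_smul S (u : R), smul_smul, mul_comm, hru, algebraMap_smul]
          rw [this]
          exact Submodule.smul_mem _ _ hia
      exact hsp x (hT2 x (show IsIntegral R x from hx).tower_top)

/-- quotients of the localizations and localizations of the quotients -/
theorem isN2_localization_quotient (A : Type u) [CommRing A] [IsNoetherianRing A] (p : Ideal A) [p.IsPrime]
    (m : Ideal (A ⧸ p)) [m.IsMaximal]
    (h : ∀ (M : Ideal A) [M.IsMaximal] (P : Ideal (Localization.AtPrime M)) [P.IsPrime],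
      CAlg.IsN2 (Localization.AtPrime M ⧸ P)) : CAlg.IsN2 (Localization.AtPrime m) := by
  let M := m.comap (Ideal.Quotient.mk p)
  have : M.IsMaximal := Ideal.comap_isMaximal_of_surjective _ Ideal.Quotient.mk_surjective
  let Am := Localization.AtPrime M
  have hpM : p ≤ M := fun a ha => by
    rw [Ideal.mem_comap, Ideal.Quotient.eq_zero_iff_mem.2 ha]; exact m.zero_mem
  have hd : Disjoint (M.primeCompl : Set A) p := Set.disjoint_left.2 fun a ha hap => ha (hpM hap)
  let p' := p.map (algebraMap A Am)
  have : p'.IsPrime := IsLocalization.isPrime_of_isPrime_disjoint M.primeCompl Am p ‹_› hd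
  have hmap : M.primeCompl.map (Ideal.Quotient.mk p) = m.primeCompl := by
    ext y
    obtain ⟨a, rfl⟩ := Ideal.Quotient.mk_surjective y
    constructor
    · rintro ⟨b, hb, hba⟩
      intro h
      exact hb (show Ideal.Quotient.mk p b ∈ m from hba ▸ h)
    · exact fun h => ⟨a, h, rfl⟩
  have : IsLocalization (M.primeCompl.map (Ideal.Quotient.mk p)) (Am ⧸ p') :=
    IsLocalization.of_surjective M.primeCompl Am (Ideal.Quotient.mk p) Ideal.Quotient.mk_surjective
      (Ideal.Quotient.mk p') Ideal.Quotient.mk_surjective rfl (by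
        rw [Ideal.mk_ker, Ideal.mk_ker])
  have : IsLocalization m.primeCompl (Am ⧸ p') := hmap ▸ ‹_›
  exact Props58.isN2_of_ringEquiv (IsLocalization.algEquiv m.primeCompl (Am ⧸ p') (Localization.AtPrime m)).toRingEquiv
    (h M p')

/-- finite algebras inside an extension with finite integral closure are normal somewhere -/
theorem exists_normalAway {R L : Type u} [CommRing R] [Field L] [Algebra R L]
    [Module.Finite R (integralClosure R L)] (B : Subalgebra R L) [Module.Finite R B] [IsFractionRing B L] :
    ∃ f : B, f ≠ 0 ∧ IsIntegrallyClosed (Localization.Away f) := by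
  classical
  obtain ⟨T, hT1, hT2⟩ := (CAlg5.finite_integralClosure_iff R L).1 ‹_›
  obtain ⟨⟨f, hf⟩, hfT⟩ := IsLocalization.exist_integer_multiples (nonZeroDivisors B) T id
  have hf0 : f ≠ 0 := nonZeroDivisors.ne_zero hf
  refine ⟨f, hf0, ?_⟩
  let S := Localization.Away f
  have hu : ∀ y : Submonoid.powers f, IsUnit (algebraMap B L y) := fun ⟨y, k, hk⟩ =>
    isUnit_iff_ne_zero.2 fun h0 => pow_ne_zero k hf0
      (hk.trans (IsFractionRing.injective B L (h0.trans (map_zero _).symm)))
  letI : Algebra S L := (IsLocalization.lift (M := Submonoid.powers f) hu).toAlgebra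
  have : IsScalarTower B S L := .of_algebraMap_eq fun b => (IsLocalization.lift_eq hu b).symm
  have : IsDomain S := IsLocalization.isDomain_localization (powers_le_nonZeroDivisors_of_noZeroDivisors hf0)
  have : IsFractionRing S L :=
    IsFractionRing.isFractionRing_of_isDomain_of_isLocalization (Submonoid.powers f) S L
  refine (isIntegrallyClosed_iff L).2 fun {z} hz => ?_
  obtain ⟨⟨_, n, rfl⟩, hn⟩ := IsIntegral.exists_multiple_integral_of_isLocalization (Submonoid.powers f) z hz
  have : Algebra.IsIntegral R B := Algebra.IsIntegral.of_finite R B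
  have hy : IsIntegral R ((f : L) ^ n * z) := isIntegral_trans (A := B) _ (by
    rw [Submonoid.smul_def, Algebra.smul_def] at hn
    exact hn)
  have key : ∀ y ∈ Submodule.span R (T : Set L), (f : L) * y ∈ B := fun y hy => by
    induction hy using Submodule.span_induction with
    | mem t ht =>
      obtain ⟨c, hc⟩ := hfT t ht
      rw [show (f : L) * t = algebraMap B L c by rw [hc]; rfl]
      exact c.2
    | zero => rw [mul_zero]; exact zero_mem _
    | add a b _ _ ha hb => rw [mul_add]; exact add_mem ha hb
    | smul r a _ ha => rw [mul_smul_comm]; exact B.smul_mem ha r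
  refine ⟨IsLocalization.mk' S (⟨_, key _ (hT2 _ hy)⟩ : B) (⟨f ^ (n + 1), ⟨n + 1, rfl⟩⟩ : Submonoid.powers f), ?_⟩
  have h1 := congrArg (algebraMap S L)
    (IsLocalization.mk'_spec' S (⟨_, key _ (hT2 _ hy)⟩ : B) (⟨f ^ (n + 1), ⟨n + 1, rfl⟩⟩ : Submonoid.powers f))
  rw [map_mul, ← IsScalarTower.algebraMap_apply, ← IsScalarTower.algebraMap_apply] at h1
  apply mul_left_cancel₀ (pow_ne_zero (n + 1) (fun h => hf0 (Subtype.ext h) : (f : L) ≠ 0))
  refine Eq.trans h1 ?_
  show (f : L) * ((f : L) ^ n * z) = (f : L) ^ (n + 1) * z
  rw [pow_succ']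
  ring

end Groth.Agent.Ega11.NagataCrit
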