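import Mathlib
import Groth.Prelude.Def_EGA4b
import Groth.Agent.EGA4H10.RegAway
import Groth.Agent.EGA4H10.J2Criterion
import Groth.Agent.EGA4H10.Serre

set_option autoImplicit false
universe u

namespace Groth.Agent.Ega11.RegOpen

open Groth.Agent.EGA4H10

/-- Regularity away from an element descends to a subring with the same localisation at `a`. -/
theorem regAway_sub {S' S : Type u} [CommRing S'] [IsDomain S'] [IsNoetherianRing S'] [CommRing S] [IsDomain S]
    [IsNoetherianRing S] [Algebra S' S] (hinj : Function.Injective (algebraMap S' S)) (a : S') (ha : a ≠ 0)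
    (hpow : ∀ z : S, ∃ k : ℕ, ∃ y : S', algebraMap S' S a ^ k * z = algebraMap S' S y)
    (h : S) (h0 : h ≠ 0) (hh : RegAway S h) : ∃ w : S', w ≠ 0 ∧ RegAway S' w := by
  obtain ⟨k, h', hh'⟩ := hpow h
  have ha' : algebraMap S' S a ≠ 0 := (map_ne_zero_iff _ hinj).mpr ha
  have hh'0 : h' ≠ 0 := fun e => by
    rw [e, map_zero] at hh'
    exact (mul_ne_zero (pow_ne_zero k ha') h0) hh'
  set g : S := algebraMap S' S a * h
  have hg0 : g ≠ 0 := mul_ne_zero ha' h0
  have hg : RegAway S g := fun P _ hP => hh P fun hm => hP (P.mul_mem_left _ hm)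
  have := isRegularRing_away g hg
  set w : S' := a * h'
  let Sg := Localization.Away g
  have hinjg : Function.Injective (algebraMap S Sg) :=
    IsLocalization.injective Sg (powers_le_nonZeroDivisors_of_noZeroDivisors hg0)
  have hu : IsUnit (algebraMap S Sg g) := IsLocalization.Away.algebraMap_isUnit g
  have hua : IsUnit (algebraMap S Sg (algebraMap S' S a)) := by
    rw [map_mul] at hu
    exact (IsUnit.mul_iff.mp hu).1
  have huh : IsUnit (algebraMap S Sg h) := by
    rw [map_mul] at hu
    exact (IsUnit.mul_iff.mp hu).2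
  have hw : algebraMap S' S w = algebraMap S' S a ^ k * g := by
    rw [map_mul, ← hh']; ring
  have : IsLocalization (Submonoid.powers w) Sg := by
    refine (isLocalization_iff _ _).mpr ⟨?_, ?_, ?_⟩
    · rintro ⟨_, n, rfl⟩
      rw [IsScalarTower.algebraMap_apply S' S Sg]
      simp only [map_pow]
      rw [hw, map_mul, map_pow]
      exact ((hua.pow k).mul hu).pow n
    · intro z
      obtain ⟨⟨s, ⟨_, n, rfl⟩⟩, hs⟩ := IsLocalization.surj (Submonoid.powers g) z
      obtain ⟨m, y, hy⟩ := hpow s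
      refine ⟨⟨a ^ (k * n) * h' ^ m * y, ⟨w ^ (n + m), n + m, rfl⟩⟩, ?_⟩
      rw [IsScalarTower.algebraMap_apply S' S Sg, IsScalarTower.algebraMap_apply S' S Sg (a ^ (k * n) * h' ^ m * y)]
      simp only [g, w, map_mul, map_pow, ← hh', ← hy] at hs ⊢
      linear_combination (exp := 1) (algebraMap S Sg (algebraMap S' S a)) ^ (k * n + k * m + m) * (algebraMap S Sg h) ^ m * hs
    · intro x y hxy
      rw [IsScalarTower.algebraMap_apply S' S Sg, IsScalarTower.algebraMap_apply S' S Sg y] at hxy
      exact ⟨1, by rw [hinj (hinjg hxy)]⟩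
  refine ⟨w, mul_ne_zero ha hh'0, fun P _ hP => ?_⟩
  refine regular_atPrime_of_isLocalization (Submonoid.powers w) Sg P (Set.disjoint_left.mpr ?_)
  rintro _ ⟨n, rfl⟩ hx
  exact hP (Ideal.IsPrime.mem_of_pow_mem ‹P.IsPrime› n hx)

/-- Regularity away from an element descends from a polynomial ring. -/
theorem regAway_of_mvPolynomial {R : Type u} [CommRing R] [IsNoetherianRing R] {σ : Type u} [Finite σ]
    (P : MvPolynomial σ R) (hP : P ≠ 0) (h : RegAway (MvPolynomial σ R) P) : ∃ c : R, c ≠ 0 ∧ RegAway R c := by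
  classical
  obtain ⟨d, hd⟩ : ∃ d, P.coeff d ≠ 0 := MvPolynomial.exists_coeff_ne_zero hP
  refine ⟨P.coeff d, hd, fun q _ hq => ?_⟩
  set Q : Ideal (MvPolynomial σ R) := RingHom.ker (MvPolynomial.map (σ := σ) (Ideal.Quotient.mk q))
  have : Q.IsPrime := RingHom.ker_isPrime _
  have hPQ : P ∉ Q := fun hm => hq <| Ideal.Quotient.eq_zero_iff_mem.mp <| by
    rw [← MvPolynomial.coeff_map, RingHom.mem_ker.mp hm]; simp
  have hQq : q = Q.comap (algebraMap R (MvPolynomial σ R)) := by
    ext x
    simp [Q, Ideal.mem_comap, RingHom.mem_ker, MvPolynomial.algebraMap_eq, Ideal.Quotient.eq_zero_iff_mem]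
  have := h Q hPQ
  have : Q.LiesOver q := ⟨hQq⟩
  let := Localization.AtPrime.algebraOfLiesOver q Q
  have : Module.Flat (MvPolynomial σ R) (Localization.AtPrime Q) := IsLocalization.flat _ Q.primeCompl
  have : Module.Flat R (Localization.AtPrime Q) := Module.Flat.trans R (MvPolynomial σ R) _
  have : Module.Flat (Localization.AtPrime q) (Localization.AtPrime Q) := by
    rw [Module.flat_iff_of_isLocalization (Localization.AtPrime q) q.primeCompl]
    infer_instance
  have : IsLocalHom (algebraMap (Localization.AtPrime q) (Localization.AtPrime Q)) := by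
    rw [RingHom.algebraMap_toAlgebra]
    exact Localization.isLocalHom_localRingHom q Q (algebraMap R (MvPolynomial σ R)) Ideal.LiesOver.over
  exact regular_of_flat (Localization.AtPrime q) (Localization.AtPrime Q)

theorem exists_regAway_base {R S : Type u} [CommRing R] [IsDomain R] [IsNoetherianRing R] [CommRing S] [IsDomain S]
    [Algebra R S] [Algebra.FiniteType R S] (hinj : Function.Injective (algebraMap R S))
    (h : S) (h0 : h ≠ 0) (hh : RegAway S h) : ∃ c : R, c ≠ 0 ∧ RegAway R c := by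
  classical
  have : FaithfulSMul R S := (faithfulSMul_iff_algebraMap_injective R S).mpr hinj
  have : IsNoetherianRing S := Algebra.FiniteType.isNoetherianRing R S
  obtain ⟨X, hX⟩ := (Algebra.FiniteType.out : (⊤ : Subalgebra R S).FG)
  have : Algebra.IsAlgebraic (Algebra.adjoin R (X : Set S)) S := by
    refine ⟨fun z => ?_⟩
    exact isAlgebraic_algebraMap (⟨z, hX ▸ Algebra.mem_top⟩ : Algebra.adjoin R (X : Set S))
  obtain ⟨t, htX, ht⟩ := exists_isTranscendenceBasis_subset (R := R) (X : Set S)
  have htf : Finite t := (X.finite_toSet.subset htX).to_subtype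
  set D := Algebra.adjoin R (Set.range ((↑) : t → S))
  have : Algebra.IsAlgebraic D S := ht.isAlgebraic
  obtain ⟨a, ha0, ha⟩ := Algebra.IsAlgebraic.exists_integral_multiples D X
  let Y : Finset S := X.image fun x => a • x
  set S' := Algebra.adjoin D (Y : Set S)
  have hfin : Module.Finite D S' := Module.Finite.iff_fg.mpr (fg_adjoin_of_finite Y.finite_toSet (by
    intro y hy
    obtain ⟨x, hx, rfl⟩ := Finset.mem_image.mp hy
    exact ha x hx))
  let e : MvPolynomial t R ≃ₐ[R] D := ht.1.aevalEquiv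
  have : IsNoetherianRing D := isNoetherianRing_of_ringEquiv _ e.toRingEquiv
  have : IsNoetherianRing S' := isNoetherian_of_tower D inferInstance
  let a' : S' := algebraMap D S' a
  have ha'0 : a' ≠ 0 := fun e0 => ha0 (Subtype.ext (congrArg Subtype.val e0 : ((a : S) = 0)))
  have hpow : ∀ z : S, ∃ k : ℕ, ∃ y : S', algebraMap S' S a' ^ k * z = algebraMap S' S y := by
    intro z
    induction (hX ▸ Algebra.mem_top : z ∈ Algebra.adjoin R (X : Set S)) using Algebra.adjoin_induction with
    | mem x hx =>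
      refine ⟨1, ⟨a • x, Algebra.subset_adjoin (Finset.mem_coe.mpr (Finset.mem_image.mpr ⟨x, hx, rfl⟩))⟩, ?_⟩
      rw [pow_one]
      exact (Algebra.smul_def a x).symm
    | algebraMap r => exact ⟨0, algebraMap R S' r, by rw [pow_zero, one_mul, ← IsScalarTower.algebraMap_apply]⟩
    | add x y _ _ hx hy =>
      obtain ⟨k, u, hu⟩ := hx
      obtain ⟨l, v, hv⟩ := hy
      exact ⟨k + l, a' ^ l * u + a' ^ k * v, by rw [map_add, map_mul, map_mul, map_pow, map_pow, ← hu, ← hv]; ring⟩
    | mul x y _ _ hx hy =>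
      obtain ⟨k, u, hu⟩ := hx
      obtain ⟨l, v, hv⟩ := hy
      exact ⟨k + l, u * v, by rw [map_mul, ← hu, ← hv]; ring⟩
  obtain ⟨w, hw0, hw⟩ := regAway_sub (S := S) (Subtype.val_injective) a' ha'0 hpow h h0 hh
  have : FaithfulSMul D S' := (faithfulSMul_iff_algebraMap_injective D S').mpr fun x y hxy =>
    Subtype.ext (congrArg (fun z : S' => (z : S)) hxy)
  obtain ⟨d, hd0, hd⟩ := regAway_of_finite (D := D) w hw0 hw
  exact regAway_of_mvPolynomial (e.symm d) ((map_ne_zero_iff _ e.symm.injective).mpr hd0)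
    (RegAway.of_equiv e.symm.toRingEquiv hd)

theorem open_of_regAway {R : Type u} [CommRing R] [IsDomain R] {c : R} (hc : c ≠ 0) (h : RegAway R c) :
    ∃ U : Set (PrimeSpectrum R), IsOpen U ∧ U.Nonempty ∧ U ⊆ EGA4.regLocus R :=
  ⟨PrimeSpectrum.basicOpen c, PrimeSpectrum.isOpen_basicOpen, ⟨⟨⊥, Ideal.isPrime_bot⟩, by simpa using hc⟩,
    fun p hp => h p.asIdeal hp⟩

end Groth.Agent.Ega11.RegOpen
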