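import Groth.Agent.CAlg5.NFinite
import Groth.Agent.EGA4H10.J2Criterion
import Groth.Agent.Ega11.RegOpen
import Groth.Agent.EGA4Alg4.IntegralDim
import Mathlib

set_option autoImplicit false
universe u

open Groth.Agent.EGA4H10

namespace Groth.Agent.Ega11.NagataJ2

theorem exists_regAway (R : Type u) [CommRing R] [IsNoetherianRing R]
    (hR : ∀ (p : Ideal R) [p.IsPrime], CAlg.IsN2 (R ⧸ p)) (hdim : ringKrullDim R ≤ 1)
    (A' : Type u) [CommRing A'] [IsDomain A'] [Algebra R A'] [Module.Finite R A'] :
    ∃ d : A', d ≠ 0 ∧ RegAway A' d := by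
  set p : Ideal R := RingHom.ker (algebraMap R A') with hp
  have : p.IsPrime := RingHom.ker_isPrime _
  letI : Algebra (R ⧸ p) A' := (RingHom.kerLift (algebraMap R A')).toAlgebra
  have : IsScalarTower R (R ⧸ p) A' := IsScalarTower.of_algebraMap_eq fun r => rfl
  have hinj : Function.Injective (algebraMap (R ⧸ p) A') := RingHom.kerLift_injective _
  have : Module.Finite (R ⧸ p) A' := Module.Finite.of_restrictScalars_finite R (R ⧸ p) A'
  have : FaithfulSMul (R ⧸ p) A' := (faithfulSMul_iff_algebraMap_injective _ _).mpr hinj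
  letI := FractionRing.liftAlgebra (R ⧸ p) (FractionRing A')
  have : Algebra.IsAlgebraic (R ⧸ p) A' := Algebra.IsAlgebraic.of_finite _ _
  have : FiniteDimensional (FractionRing (R ⧸ p)) (FractionRing A') :=
    Module.Finite.of_isLocalization (R ⧸ p) A' (nonZeroDivisors (R ⧸ p))
  let N := integralClosure (R ⧸ p) (FractionRing A')
  have hNfin : Module.Finite (R ⧸ p) N :=
    Groth.Agent.CAlg5.IsN2.finite (hR p) (FractionRing (R ⧸ p)) (FractionRing A')
  have hint : ∀ a : A', IsIntegral (R ⧸ p) (algebraMap A' (FractionRing A') a) := fun a =>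
    (Algebra.IsIntegral.isIntegral (R := R ⧸ p) a).map (IsScalarTower.toAlgHom (R ⧸ p) A' (FractionRing A'))
  letI : Algebra A' N := ((algebraMap A' (FractionRing A')).codRestrict N fun a => hint a).toAlgebra
  have : IsScalarTower (R ⧸ p) A' N := IsScalarTower.of_algebraMap_eq fun r => Subtype.ext
    (IsScalarTower.algebraMap_apply (R ⧸ p) A' (FractionRing A') r)
  have : Module.Finite A' N := Module.Finite.of_restrictScalars_finite (R ⧸ p) A' N
  have : FaithfulSMul A' N := (faithfulSMul_iff_algebraMap_injective _ _).mpr fun a b h =>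
    IsFractionRing.injective A' (FractionRing A') (congrArg Subtype.val h)
  have : IsNoetherianRing A' := isNoetherian_of_tower (R ⧸ p) inferInstance
  have : IsNoetherianRing N := isNoetherian_of_tower (R ⧸ p) inferInstance
  have : IsIntegrallyClosed N := integralClosure.isIntegrallyClosedOfFiniteExtension (FractionRing (R ⧸ p))
  have hNdim : ringKrullDim N ≤ 1 :=
    (Groth.Agent.EGA4Alg4.ringKrullDim_le_of_integral (R ⧸ p) N).trans ((ringKrullDim_quotient_le p).trans hdim)
  have : Ring.KrullDimLE 1 N := Ring.krullDimLE_iff.mpr hNdim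
  have : Ring.DimensionLEOne N := ⟨fun {P} hP hPp => Ring.krullDimLE_one_iff_of_noZeroDivisors.mp ‹_› P hP hPp⟩
  have : IsDedekindRing N := { }
  have : IsDedekindDomain N := { }
  exact regAway_of_finite (D := A') (1 : N) one_ne_zero fun P _ _ => inferInstance

end Groth.Agent.Ega11.NagataJ2
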