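import Groth.Agent.Ega11.TorFreeAss
import Groth.Agent.FlatMor68.PullbackStalk
import Groth.Agent.LimTop61.LocFreeStage
import Groth.Agent.SpFP87.Reduced
import Groth.Agent.QC70.Stalk
import Groth.Agent.QC70.Closure
import Mathlib

/-! Factorisation of maps into torsion-free sheaves through quotients of equal generic rank. -/

set_option autoImplicit false
universe u

open CategoryTheory CategoryTheory.Limits AlgebraicGeometry TopologicalSpace TensorProduct

namespace Groth.Agent.Ega11.NodalFactor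

variable {Y : Scheme.{u}}

theorem nonempty_stalkEquiv {r : ℕ} {E : Y.Modules} (hE : FlatMod.IsFinLocFreeOfRank r E) (y : Y) :
    Nonempty ((Fin r → Y.presheaf.stalk y) ≃ₗ[Y.presheaf.stalk y] E.presheaf.stalk y) := by
  obtain ⟨U, hy, ⟨i⟩⟩ := hE y
  obtain ⟨s, hs⟩ := Props58.LocFree.exists_stalkBasis_of_iso i
  exact ⟨hs.stalkEquiv y hy⟩

theorem injective_stalk_of_rank_eq {r : ℕ} {M E : Y.Modules} (p : M ⟶ E) [Epi p] (y : Y)
    (eM : (Fin r → Y.presheaf.stalk y) ≃ₗ[Y.presheaf.stalk y] M.presheaf.stalk y)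
    (eE : (Fin r → Y.presheaf.stalk y) ≃ₗ[Y.presheaf.stalk y] E.presheaf.stalk y) :
    Function.Injective (QC70.stalkMapM p y) := by
  have h1 : Function.Surjective (eE.symm.toLinearMap ∘ₗ QC70.stalkLinear p y ∘ₗ eM.toLinearMap) :=
    eE.symm.surjective.comp ((QC70.surjective_stalkMapM_of_epi p y).comp eM.surjective)
  have h2 := OrzechProperty.injective_of_surjective_endomorphism _ h1
  intro a b hab
  obtain ⟨a, rfl⟩ := eM.surjective a
  obtain ⟨b, rfl⟩ := eM.surjective b
  exact congrArg eM (h2 (congrArg eE.symm hab))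

theorem isTorsionFree_of_finLocFree {r : ℕ} {E : Y.Modules} (hE : FlatMod.IsFinLocFreeOfRank r E) :
    TorSh.IsTorsionFree E := fun y => by
  obtain ⟨e⟩ := nonempty_stalkEquiv hE y
  exact e.symm.injective.moduleIsTorsionFree e.symm (fun r m => map_smul e.symm r m)

theorem nonempty_pullbackStalkEquiv {X : Scheme.{u}} (π : Y ⟶ X) (F : X.Modules) [F.IsQuasicoherent]
    {r : ℕ} (y : Y) (hF : Nonempty (F.presheaf.stalk (π y) ≃ₗ[X.presheaf.stalk (π y)] (Fin r → X.presheaf.stalk (π y)))) :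
    Nonempty ((Fin r → Y.presheaf.stalk y) ≃ₗ[Y.presheaf.stalk y]
      ((Scheme.Modules.pullback π).obj F).presheaf.stalk y) := by
  let _ := (π.stalkMap y).hom.toAlgebra
  obtain ⟨e⟩ := FlatMor68.PullbackStalk.nonempty_stalkPullbackEquiv π F y
  obtain ⟨eF⟩ := hF
  exact ⟨(e ≪≫ₗ AlgebraTensorModule.congr (LinearEquiv.refl _ _) eF ≪≫ₗ
    piScalarRight (X.presheaf.stalk (π y)) (Y.presheaf.stalk y) (Y.presheaf.stalk y) (Fin r)).symm⟩

/-- a map into a torsion-free sheaf kills whatever an epimorphism that is injective at the maximal points kills -/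
theorem kernel_comp_eq_zero [IsLocallyNoetherian Y] [AlgebraicGeometry.IsReduced Y] {M E₀ E : Y.Modules}
    (p : M ⟶ E₀) (g : M ⟶ E) (hE : Coh.IsQCoh E) (htE : TorSh.IsTorsionFree E)
    (hinj : ∀ y : Y, IsField (Y.presheaf.stalk y) → Function.Injective (QC70.stalkMapM p y)) :
    kernel.ι p ≫ g = 0 := by
  apply Scheme.Modules.hom_ext
  intro V
  ext s
  change (kernel.ι p ≫ g).app V s = 0
  refine TorFreeAss.eq_zero_of_germ E hE htE _ fun y hy hfield => ?_
  have h0 : p.app V ((kernel.ι p).app V s) = 0 :=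
    QC70.app_f_g (ShortComplex.mk (kernel.ι p) p (kernel.condition p)) V s
  have h1 : QC70.germM M V y hy ((kernel.ι p).app V s) = 0 := by
    refine hinj y hfield ((QC70.stalkMapM_germ p hy _).trans ?_)
    rw [h0, QC70.germM_zero]
    exact (map_zero (QC70.stalkLinear p y)).symm
  show QC70.germM E V y hy (g.app V ((kernel.ι p).app V s)) = 0
  rw [← QC70.stalkMapM_germ, h1]
  exact map_zero (QC70.stalkLinear g y)

theorem existsUnique_factor {X : Scheme.{u}} (π : Y ⟶ X) [IsLocallyNoetherian Y] [NoetherianSpace Y]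
    [AlgebraicGeometry.IsReduced Y] (U : X.Opens) (hUd : Dense ((π ⁻¹ᵁ U : Y.Opens) : Set Y))
    {r : ℕ} (F : X.Modules) [F.IsQuasicoherent]
    (hfree : ∀ x ∈ U, Nonempty (F.presheaf.stalk x ≃ₗ[X.presheaf.stalk x] (Fin r → X.presheaf.stalk x)))
    (E₀ : Y.Modules) (hE₀ : FlatMod.IsFinLocFreeOfRank r E₀)
    (p : (Scheme.Modules.pullback π).obj F ⟶ E₀) [Epi p]
    (E : Y.Modules) (hE : FlatMod.IsFinLocFreeOfRank r E)
    (f : F ⟶ (Scheme.Modules.pushforward π).obj E) :
    ∃! lam : E₀ ⟶ E, (Scheme.Modules.pullbackPushforwardAdjunction π).unit.app F ≫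
      (Scheme.Modules.pushforward π).map p ≫ (Scheme.Modules.pushforward π).map lam = f := by
  let adj := Scheme.Modules.pullbackPushforwardAdjunction π
  let g := (adj.homEquiv F E).symm f
  have hk : kernel.ι p ≫ g = 0 := by
    refine kernel_comp_eq_zero p g (Props58.LocFree.isQuasicoherent_of_isFinLocFree
      (LimTop61.isFinLocFreeOfRank_iff.1 hE).1) (isTorsionFree_of_finLocFree hE) fun y hy => ?_
    have hyU : π y ∈ U := TorFreeAss.mem_of_dense hUd (TorFreeAss.maxPt_of_isField hy)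
    obtain ⟨eM⟩ := nonempty_pullbackStalkEquiv π F y (hfree _ hyU)
    obtain ⟨eE⟩ := nonempty_stalkEquiv hE₀ y
    exact injective_stalk_of_rank_eq p y eM eE
  have key : ∀ lam : E₀ ⟶ E, adj.unit.app F ≫ (Scheme.Modules.pushforward π).map p ≫
      (Scheme.Modules.pushforward π).map lam = f ↔ p ≫ lam = g := fun lam => by
    have h := adj.homEquiv_unit (X := F) (Y := E) (f := p ≫ lam)
    rw [← Functor.map_comp]
    exact (Eq.congr_left h.symm).trans ((adj.homEquiv F E).apply_eq_iff_eq_symm_apply)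
  refine ⟨Abelian.epiDesc p g hk, (key _).2 (Abelian.comp_epiDesc p g hk), fun lam hlam => ?_⟩
  rw [← cancel_epi p, Abelian.comp_epiDesc, (key lam).1 hlam]

end Groth.Agent.Ega11.NodalFactor
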