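import Groth.Agent.Ega11.NodeNormalAlg
import Mathlib

/-! The branches extend to the normalisation of a node. -/

set_option autoImplicit false
universe u

open PowerSeries IsLocalRing Groth.Agent.Ega11.NodeBranches Groth.Agent.Ega11.NodeNormalAlg

namespace Groth.Agent.Ega11.NodeBranchHom

variable {A : Type u} [CommRing A] [IsLocalRing A] {K : Type u} [Field K]
  {B : Type u} [CommRing B] [Algebra A B] {b : Branches A K} {r : A} (hB : IsNodeNormalization b B r)
include hB

theorem exists_branchHom :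
    ∃ ψ : Fin 2 → B →+* PowerSeries K, ∀ (i : Fin 2) (a : A), ψ i (algebraMap A B a) = b.φ i a := by
  have hne : ∀ i n, b.φ i (r ^ n) ≠ 0 := fun i n => b.ne_zero _ (pow_mem hB.mem_nonZeroDivisors n) i
  let P : Fin 2 → B → PowerSeries K → Prop := fun i x w =>
    ∃ (n : ℕ) (a : A), algebraMap A B a = algebraMap A B (r ^ n) * x ∧ b.φ i a = b.φ i (r ^ n) * w
  have huniq : ∀ i x w w', P i x w → P i x w' → w = w' := by
    rintro i x w w' ⟨n, a, ha, hw⟩ ⟨n', a', ha', hw'⟩
    have heq : r ^ n' * a = r ^ n * a' := hB.injective (by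
      rw [map_mul, map_mul, ha, ha']; ring)
    have h2 := congrArg (b.φ i) heq
    rw [map_mul, map_mul, hw, hw'] at h2
    exact mul_left_cancel₀ (mul_ne_zero (hne i n) (hne i n')) (by linear_combination h2)
  have hex : ∀ i x, ∃ w, P i x w := fun i x => by
    obtain ⟨n, a, ha⟩ := hB.exists_pow x
    obtain ⟨w, hw⟩ := exists_branch_quot hB.injective b _ a (pow_mem hB.mem_nonZeroDivisors n) x (hB.isIntegral x) ha
    exact ⟨w i, n, a, ha, hw i⟩
  choose ψ hψ using hex
  have halg : ∀ i a, P i (algebraMap A B a) (b.φ i a) := fun i a => ⟨0, a, by simp, by simp⟩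
  refine ⟨fun i =>
    { toFun := ψ i
      map_one' := huniq i 1 _ _ (hψ i 1) (by simpa using halg i 1)
      map_zero' := huniq i 0 _ _ (hψ i 0) (by simpa using halg i 0)
      map_mul' := fun x y => ?_
      map_add' := fun x y => ?_ }, fun i a => huniq i _ _ _ (hψ i _) (halg i a)⟩
  · obtain ⟨n, a, ha, hw⟩ := hψ i x
    obtain ⟨n', a', ha', hw'⟩ := hψ i y
    refine huniq i _ _ _ (hψ i _) ⟨n + n', a * a', ?_, ?_⟩
    · rw [map_mul, ha, ha', pow_add, map_mul]; ring
    · rw [map_mul, hw, hw', pow_add, map_mul]; ring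
  · obtain ⟨n, a, ha, hw⟩ := hψ i x
    obtain ⟨n', a', ha', hw'⟩ := hψ i y
    refine huniq i _ _ _ (hψ i _) ⟨n + n', r ^ n' * a + r ^ n * a', ?_, ?_⟩
    · rw [map_add, map_mul, map_mul, ha, ha', pow_add, map_mul]; ring
    · rw [map_add, map_mul, map_mul, hw, hw', pow_add, map_mul]; ring

/-- the two maximal ideals of the normalisation, whose intersection is the maximal ideal of the node -/
theorem exists_maximal_pair : ∃ M : Fin 2 → Ideal B, (∀ i, (M i).IsMaximal) ∧
    ∀ x : B, (∀ i, x ∈ M i) → ∃ d ∈ maximalIdeal A, x = algebraMap A B d := by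
  obtain ⟨ψ, hψ⟩ := exists_branchHom hB
  refine ⟨fun i => RingHom.ker ((constantCoeff (R := K)).comp (ψ i)), fun i => ?_, fun x hx => ?_⟩
  · refine RingHom.ker_isMaximal_of_surjective _ fun l => ?_
    obtain ⟨a, ha⟩ := b.exists_C l
    exact ⟨algebraMap A B a, by rw [RingHom.comp_apply, hψ, ha, constantCoeff_C]⟩
  · obtain ⟨n, a, ha⟩ := hB.exists_pow x
    have hw : ∀ i, b.φ i a = b.φ i (r ^ n) * ψ i x := fun i => by
      rw [← hψ i a, ha, map_mul, hψ]
    have hx' : ∀ i, constantCoeff (ψ i x) = 0 := fun i => hx i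
    obtain ⟨d, hd⟩ := b.dvd a (r ^ n) (fun i => ψ i x) hw (by rw [hx' 0, hx' 1])
    have hreg : ∀ (m : ℕ) (y : B), r ^ m • y = 0 → y = 0 := by
      intro m
      induction m with
      | zero => intro y hy; simpa using hy
      | succ m ih => intro y hy; rw [pow_succ, mul_smul] at hy; exact hB.regular _ (ih _ hy)
    have hxd : x = algebraMap A B d := sub_eq_zero.1 (hreg n _ (by
      rw [Algebra.smul_def, mul_sub, ← ha, hd, map_mul, sub_self]))
    refine ⟨d, (b.mem_max d).2 ?_, hxd⟩
    rw [← hψ 0 d, ← hxd]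
    exact hx' 0

end Groth.Agent.Ega11.NodeBranchHom
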