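import Groth.Prelude.Def_CurvBase
import Groth.Agent.Cohen12.Completion
import Groth.Agent.CAlg6.CompleteSurj
import Mathlib

/-! The two branches of an ordinary double point, as maps into power series rings. -/

set_option autoImplicit false
universe u

open PowerSeries IsLocalRing

namespace Groth.Agent.Ega11.NodeBranches

/-- the two branches of a node -/
structure Branches (A : Type u) [CommRing A] [IsLocalRing A] (K : Type u) [Field K] where
  φ : Fin 2 → A →+* PowerSeries K
  const : ∀ a, constantCoeff (φ 0 a) = constantCoeff (φ 1 a)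
  mem_max : ∀ a, a ∈ maximalIdeal A ↔ constantCoeff (φ 0 a) = 0
  dvd : ∀ a c (w : Fin 2 → PowerSeries K), (∀ i, φ i a = φ i c * w i) →
    constantCoeff (w 0) = constantCoeff (w 1) → c ∣ a
  approx : ∀ (N : ℕ) (w : Fin 2 → PowerSeries K), constantCoeff (w 0) = constantCoeff (w 1) →
    ∃ a : A, ∀ i, (X : PowerSeries K) ^ N ∣ φ i a - w i
  ne_zero : ∀ c ∈ nonZeroDivisors A, ∀ i, φ i c ≠ 0
  exists_C : ∀ l : K, ∃ a : A, ∀ i, φ i a = C l

/-- transport of branches along an isomorphism -/
noncomputable def Branches.comap {A A' : Type u} [CommRing A] [IsLocalRing A] [CommRing A'] [IsLocalRing A']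
    {K : Type u} [Field K] (b : Branches A' K) (σ : A ≃+* A') : Branches A K where
  φ i := (b.φ i).comp σ.toRingHom
  const a := b.const _
  mem_max a := by
    refine Iff.trans ?_ (b.mem_max (σ a))
    simp only [mem_maximalIdeal, mem_nonunits_iff, MulEquiv.isUnit_map]
  dvd a c w h h' := by
    obtain ⟨d, hd⟩ := b.dvd (σ a) (σ c) w h h'
    exact ⟨σ.symm d, σ.injective (by rw [map_mul, σ.apply_symm_apply, hd])⟩
  approx N w h := by
    obtain ⟨a, ha⟩ := b.approx N w h
    exact ⟨σ.symm a, fun i => by simpa using ha i⟩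
  ne_zero c hc i := b.ne_zero (σ c) (by
    rw [mem_nonZeroDivisors_iff_right] at hc ⊢
    intro x hx
    have := hc (σ.symm x) (σ.injective (by rw [map_mul, σ.apply_symm_apply, hx, map_zero]))
    simpa using congrArg σ this) i
  exists_C l := by
    obtain ⟨a, ha⟩ := b.exists_C l
    exact ⟨σ.symm a, fun i => by simpa using ha i⟩

variable {K : Type u} [Field K]

/-- restriction to an axis -/
noncomputable def axis (i : Fin 2) : MvPowerSeries (Fin 2) K →+* PowerSeries K where
  toFun f := PowerSeries.mk fun n => MvPowerSeries.coeff (Finsupp.single i n) f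
  map_one' := by
    classical
    ext n
    simp [MvPowerSeries.coeff_one, PowerSeries.coeff_one]
  map_mul' f g := by
    classical
    ext n
    simp only [PowerSeries.coeff_mk, MvPowerSeries.coeff_mul, PowerSeries.coeff_mul,
      Finsupp.antidiagonal_single, Finset.sum_map]
    rfl
  map_zero' := by ext n; simp
  map_add' f g := by ext n; simp

theorem coeff_axis (i : Fin 2) (f : MvPowerSeries (Fin 2) K) (n : ℕ) :
    PowerSeries.coeff n (axis i f) = MvPowerSeries.coeff (Finsupp.single i n) f := by
  simp only [axis, RingHom.coe_mk, MonoidHom.coe_mk, OneHom.coe_mk, PowerSeries.coeff_mk]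

theorem constantCoeff_axis (i : Fin 2) (f : MvPowerSeries (Fin 2) K) :
    constantCoeff (axis i f) = MvPowerSeries.constantCoeff f := by
  rw [← coeff_zero_eq_constantCoeff_apply, coeff_axis, Finsupp.single_zero,
    MvPowerSeries.coeff_zero_eq_constantCoeff_apply]

theorem axis_C (i : Fin 2) (l : K) : axis i (MvPowerSeries.C l) = PowerSeries.C l := by
  classical
  ext n
  simp [coeff_axis, MvPowerSeries.coeff_C, PowerSeries.coeff_C]

theorem axis_XX (i : Fin 2) : axis i (MvPowerSeries.X 0 * MvPowerSeries.X 1 : MvPowerSeries (Fin 2) K) = 0 := by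
  classical
  ext n
  rw [coeff_axis, MvPowerSeries.X, MvPowerSeries.X, MvPowerSeries.monomial_mul_monomial, MvPowerSeries.coeff_monomial,
    if_neg, map_zero]
  intro h
  have h0 := DFunLike.congr_fun h 0
  have h1 := DFunLike.congr_fun h 1
  fin_cases i <;> simp at h0 h1

theorem exists_glue (w : Fin 2 → PowerSeries K) (h : constantCoeff (w 0) = constantCoeff (w 1)) :
    ∃ f : MvPowerSeries (Fin 2) K, ∀ i, axis i f = w i := by
  classical
  let f : MvPowerSeries (Fin 2) K := fun d => if d 1 = 0 then PowerSeries.coeff (d 0) (w 0)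
    else if d 0 = 0 then PowerSeries.coeff (d 1) (w 1) else 0
  have hf : ∀ d, MvPowerSeries.coeff d f = if d 1 = 0 then PowerSeries.coeff (d 0) (w 0)
      else if d 0 = 0 then PowerSeries.coeff (d 1) (w 1) else 0 := fun d => rfl
  refine ⟨f, fun i => ?_⟩
  ext n
  rw [coeff_axis, hf]
  fin_cases i
  · simp
  · rcases Nat.eq_zero_or_pos n with rfl | hn
    · simpa using h
    · simp [hn.ne']

theorem mem_span_of_axis {f : MvPowerSeries (Fin 2) K} (h : ∀ i, axis i f = 0) :
    f ∈ Ideal.span {(MvPowerSeries.X 0 * MvPowerSeries.X 1 : MvPowerSeries (Fin 2) K)} := by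
  classical
  let e : Fin 2 →₀ ℕ := Finsupp.single 0 1 + Finsupp.single 1 1
  let g : MvPowerSeries (Fin 2) K := fun d => MvPowerSeries.coeff (d + e) f
  have hg : ∀ d, MvPowerSeries.coeff d g = MvPowerSeries.coeff (d + e) f := fun d => rfl
  refine Ideal.mem_span_singleton'.2 ⟨g, ?_⟩
  ext d
  rw [MvPowerSeries.X, MvPowerSeries.X, MvPowerSeries.monomial_mul_monomial, MvPowerSeries.coeff_mul_monomial,
    mul_one, mul_one, hg]
  have key : ∀ j : Fin 2, d j.rev = 0 → MvPowerSeries.coeff d f = 0 := fun j hj => by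
    have hd : d = Finsupp.single j (d j) := Finsupp.ext fun l => by
      fin_cases j <;> fin_cases l <;> simp_all
    rw [hd, ← coeff_axis, h j, map_zero]
  split_ifs with hle
  · rw [tsub_add_cancel_of_le hle]
  · obtain ⟨l, hl⟩ : ∃ l, ¬ e l ≤ d l := by
      by_contra hc
      push Not at hc
      exact hle hc
    have he : e l = 1 := by fin_cases l <;> simp [e]
    have hl0 : d l = 0 := by omega
    exact (key l.rev (by rwa [Fin.rev_rev])).symm

theorem exists_branches {A : Type u} [CommRing A] [IsLocalRing A] [IsNoetherianRing A] [Algebra K A]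
    (h : Curv2.IsOrdDoublePt K A) : Nonempty (Branches A K) := by
  classical
  obtain ⟨e, he⟩ := h
  let Ah := AdicCompletion (maximalIdeal A) A
  let I : Ideal (MvPowerSeries (Fin 2) K) := Ideal.span {MvPowerSeries.X 0 * MvPowerSeries.X 1}
  let bar : Fin 2 → (MvPowerSeries (Fin 2) K ⧸ I) →+* PowerSeries K := fun i => Ideal.Quotient.lift I (axis i)
    fun a ha => by
      obtain ⟨c, rfl⟩ := Ideal.mem_span_singleton'.1 ha
      rw [map_mul, axis_XX, mul_zero]
  let ψ : Fin 2 → Ah →+* PowerSeries K := fun i => (bar i).comp e.toRingHom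
  let ι := algebraMap A Ah
  have hψmk : ∀ i f, ψ i (e.symm (Ideal.Quotient.mk I f)) = axis i f := fun i f => by
    show bar i (e (e.symm _)) = _
    rw [e.apply_symm_apply]
    exact Ideal.Quotient.lift_mk _ _ _
  have hrep : ∀ z : Ah, ∃ f, z = e.symm (Ideal.Quotient.mk I f) := fun z => by
    obtain ⟨f, hf⟩ := Ideal.Quotient.mk_surjective (e z)
    exact ⟨f, by rw [hf, e.symm_apply_apply]⟩
  have hinj : ∀ z, (∀ i, ψ i z = 0) → z = 0 := fun z hz => by
    obtain ⟨f, rfl⟩ := hrep z
    rw [show Ideal.Quotient.mk I f = 0 from Ideal.Quotient.eq_zero_iff_mem.2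
      (mem_span_of_axis fun i => (hψmk i f).symm.trans (hz i)), map_zero]
  have hglue : ∀ w : Fin 2 → PowerSeries K, constantCoeff (w 0) = constantCoeff (w 1) →
      ∃ z, ∀ i, ψ i z = w i := fun w hw => by
    obtain ⟨f, hf⟩ := exists_glue w hw
    exact ⟨_, fun i => (hψmk i f).trans (hf i)⟩
  have hconst : ∀ z, constantCoeff (ψ 0 z) = constantCoeff (ψ 1 z) := fun z => by
    obtain ⟨f, rfl⟩ := hrep z
    rw [hψmk, hψmk, constantCoeff_axis, constantCoeff_axis]
  have hunit : ∀ z, IsUnit z ↔ constantCoeff (ψ 0 z) ≠ 0 := fun z => by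
    constructor
    · intro hz
      exact ((hz.map (ψ 0)).map (PowerSeries.constantCoeff (R := K))).ne_zero
    · intro hz
      obtain ⟨f, rfl⟩ := hrep z
      rw [hψmk, constantCoeff_axis] at hz
      exact ((MvPowerSeries.isUnit_iff_constantCoeff.2 (IsUnit.mk0 _ hz)).map (Ideal.Quotient.mk I)).map e.symm
  have hmax : ∀ a, a ∈ maximalIdeal A ↔ constantCoeff (ψ 0 (ι a)) = 0 := fun a => by
    have h1 := Cohen12.algebraMap_mem_pow_iff A 1 a
    rw [pow_one, pow_one] at h1
    rw [← h1, mem_maximalIdeal, mem_nonunits_iff, hunit, not_not]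
  refine ⟨{ φ := fun i => (ψ i).comp ι, const := fun a => hconst _, mem_max := hmax,
            dvd := ?_, approx := ?_, ne_zero := ?_, exists_C := ?_ }⟩
  · intro a c w hw hcw
    obtain ⟨z, hz⟩ := hglue w hcw
    have heq : ι a = ι c * z := sub_eq_zero.1 (hinj _ fun i => by
      rw [map_sub, map_mul, hz, sub_eq_zero]
      exact hw i)
    have hmem : ι a ∈ (Ideal.span {c}).map ι := by
      rw [Ideal.map_span, Set.image_singleton, heq]
      exact Ideal.mem_span_singleton'.2 ⟨z, mul_comm _ _⟩
    have : Module.Flat A Ah := AdicCompletion.flat_of_isNoetherian _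
    have : IsLocalHom (algebraMap A Ah) := ⟨fun z hz => by
      by_contra hz'
      have h1 := (Cohen12.algebraMap_mem_pow_iff A 1 z).mpr (by rw [pow_one]; exact (mem_maximalIdeal _).mpr hz')
      rw [pow_one] at h1
      exact h1 hz⟩
    have : Module.FaithfullyFlat A Ah := Module.FaithfullyFlat.of_flat_of_isLocalHom
    rw [← Ideal.mem_comap, Ideal.comap_map_eq_self_of_faithfullyFlat, Ideal.mem_span_singleton] at hmem
    exact hmem
  · intro N w hw
    obtain ⟨z, hz⟩ := hglue w hw
    obtain ⟨a, ha⟩ := Cohen12.exists_sub_mem_pow A N z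
    refine ⟨a, fun i => ?_⟩
    have hle : (maximalIdeal Ah).map (ψ i) ≤ Ideal.span {(X : PowerSeries K)} := by
      rw [Ideal.map_le_iff_le_comap]
      intro y hy
      rw [Ideal.mem_comap, Ideal.mem_span_singleton, PowerSeries.X_dvd_iff]
      have hy0 : constantCoeff (ψ 0 y) = 0 := by
        by_contra hc
        exact (mem_maximalIdeal _).1 hy ((hunit y).2 hc)
      fin_cases i
      · exact hy0
      · exact (hconst y).symm.trans hy0
    have := (Ideal.pow_right_mono hle N) ((Ideal.map_pow (ψ i) _ N) ▸ Ideal.mem_map_of_mem (ψ i) ha)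
    rw [Ideal.span_singleton_pow, Ideal.mem_span_singleton, map_sub, hz] at this
    rw [RingHom.comp_apply, ← dvd_neg, neg_sub]
    exact this
  · intro c hc i h0
    have : Module.Flat A Ah := AdicCompletion.flat_of_isNoetherian _
    have hreg : ∀ z : Ah, ι c * z = 0 → z = 0 := fun z hz => by
      refine (Module.Flat.isSMulRegular_of_isRegular (M := Ah) (isRegular_iff_mem_nonZeroDivisors.2 hc)) ?_
      show c • z = c • (0 : Ah)
      rw [smul_zero, Algebra.smul_def]
      exact hz
    obtain ⟨z, hz⟩ := hglue (fun j => if j = i then PowerSeries.X else 0) (by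
      split_ifs <;> simp)
    have := hreg z (hinj _ fun j => by
      rw [map_mul, hz]
      split_ifs with hji
      · subst hji
        exact mul_eq_zero_of_left h0 _
      · exact mul_zero _)
    have h2 := hz i
    rw [this, map_zero, if_pos rfl] at h2
    exact PowerSeries.X_ne_zero h2.symm
  · intro l
    refine ⟨algebraMap K A l, fun i => ?_⟩
    show bar i (e (ι (algebraMap K A l))) = _
    rw [he l, Ideal.Quotient.lift_mk, axis_C]

end Groth.Agent.Ega11.NodeBranches
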