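import Mathlib

/-! Tensoring torsion-free modules over a node with the normalisation. -/

set_option autoImplicit false
universe u

open TensorProduct IsLocalRing

namespace Groth.Agent.Ega11.NodeTensor

variable {A : Type u} [CommRing A] [IsLocalRing A] {B : Type u} [CommRing B] [Algebra A B]
  {F : Type u} [AddCommGroup F] [Module A F] {a c : ℕ}
  (e : F ≃ₗ[A] (Fin a → A) × (Fin c → maximalIdeal A))

/-- the unit `F → B ⊗ F` -/
noncomputable abbrev unit (A B F : Type u) [CommRing A] [CommRing B] [Algebra A B] [AddCommGroup F] [Module A F] :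
    F →ₗ[A] B ⊗[A] F := TensorProduct.mk A B F 1

/-- the map to `B^a × B^c` -/
noncomputable def κ : B ⊗[A] F →ₗ[A] (Fin a → B) × (Fin c → B) :=
  TensorProduct.lift <| LinearMap.mk₂ A
    (fun x f => (fun i => x * algebraMap A B ((e f).1 i), fun j => x * algebraMap A B ((e f).2 j : A)))
    (fun x y f => by ext i <;> simp [add_mul])
    (fun t x f => by ext i <;> simp [mul_assoc])
    (fun x f g => by ext i <;> simp [mul_add])
    (fun t x f => by ext i <;> simp [Algebra.smul_def] <;> ring)

theorem κ_tmul (x : B) (f : F) :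
    κ e (x ⊗ₜ[A] f) = (fun i => x * algebraMap A B ((e f).1 i), fun j => x * algebraMap A B ((e f).2 j : A)) := rfl

variable (hinj : Function.Injective (algebraMap A B))
include hinj

include e in
theorem injective_unit : Function.Injective (unit A B F) := fun f g h => by
  have h1 := congrArg (κ e) h
  simp only [TensorProduct.mk_apply, κ_tmul, one_mul, Prod.mk.injEq] at h1
  exact e.injective (Prod.ext (funext fun i => hinj (congrFun h1.1 i))
    (funext fun j => Subtype.ext (hinj (congrFun h1.2 j))))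

omit hinj
variable (hsmul : ∀ z ∈ maximalIdeal A, ∀ x : B, ∃ d ∈ maximalIdeal A, z • x = algebraMap A B d)
  (hlen : Module.length A (B ⧸ LinearMap.range (Algebra.linearMap A B)) = 1)
  (hmax : Module.length A (maximalIdeal A ⧸ (maximalIdeal A • ⊤ : Submodule A (maximalIdeal A))) = 2)

include hsmul in
theorem exists_smul_mem_range {z : A} (hz : z ∈ maximalIdeal A) (ξ : B ⊗[A] F) :
    ∃ f, z • ξ = unit A B F f := by
  induction ξ with
  | zero => exact ⟨0, by simp⟩
  | tmul x f =>
    obtain ⟨d, -, hd⟩ := hsmul z hz x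
    refine ⟨d • f, ?_⟩
    rw [smul_tmul', hd, Algebra.algebraMap_eq_smul_one, smul_tmul]
    rfl
  | add x y hx hy =>
    obtain ⟨f, hf⟩ := hx
    obtain ⟨g, hg⟩ := hy
    exact ⟨f + g, by rw [smul_add, hf, hg, map_add]⟩

include hsmul in
theorem exists_coord (ξ : B ⊗[A] F) (j : Fin c) : ∃ d ∈ maximalIdeal A, (κ e ξ).2 j = algebraMap A B d := by
  induction ξ with
  | zero => exact ⟨0, zero_mem _, by simp⟩
  | tmul x f =>
    obtain ⟨d, hd, hd'⟩ := hsmul _ ((e f).2 j).2 x
    refine ⟨d, hd, ?_⟩
    rw [← hd', κ_tmul, Algebra.smul_def, mul_comm]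
  | add x y hx hy =>
    obtain ⟨d, hd, hd'⟩ := hx
    obtain ⟨d', hdm, hd''⟩ := hy
    exact ⟨d + d', add_mem hd hdm, by rw [map_add, map_add, ← hd', ← hd'']; rfl⟩

include hsmul hinj in
/-- the torsion of `B ⊗ F` is killed by the maximal ideal -/
theorem smul_ker {z : A} (hz : z ∈ maximalIdeal A) {ξ : B ⊗[A] F} (h : κ e ξ = 0) : z • ξ = 0 := by
  obtain ⟨f, hf⟩ := exists_smul_mem_range (F := F) hsmul hz ξ
  have h1 : κ e (unit A B F f) = 0 := by rw [← hf, map_smul, h, smul_zero]
  have : f = 0 := by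
    simp only [TensorProduct.mk_apply, κ_tmul, one_mul, Prod.mk_eq_zero] at h1
    exact e.injective (by
      rw [map_zero]
      exact Prod.ext (funext fun i => hinj ((congrFun h1.1 i).trans (map_zero _).symm))
        (funext fun j => Subtype.ext (hinj ((congrFun h1.2 j).trans (map_zero _).symm))))
  rw [hf, this, map_zero]

include hsmul hlen hmax e in
theorem length_coker_unit : Module.length A ((B ⊗[A] F) ⧸ LinearMap.range (unit A B F)) = (a + 2 * c : ℕ) := by
  let m := maximalIdeal A
  have : IsSimpleModule A (A ⧸ m) := isSimpleModule_iff_isCoatom.mpr (maximalIdeal.isMaximal A).out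
  let R := LinearMap.range (Algebra.linearMap A B)
  obtain ⟨e₁⟩ : Nonempty ((B ⧸ R) ≃ₗ[A] (A ⧸ m)) := by
    obtain ⟨I, hI, ⟨e'⟩⟩ := isSimpleModule_iff_quot_maximal.1 (Module.length_eq_one_iff.1 hlen)
    exact ⟨e'.trans (Submodule.quotEquivOfEq _ _ (IsLocalRing.eq_maximalIdeal hI))⟩
  have hex : Function.Exact ((Algebra.linearMap A B).rTensor F) (R.mkQ.rTensor F) :=
    rTensor_exact F (LinearMap.exact_map_mkQ_range _) R.mkQ_surjective
  have hrange : LinearMap.range (unit A B F) = LinearMap.ker (R.mkQ.rTensor F) := by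
    rw [LinearMap.exact_iff.1 hex]
    have : unit A B F = (Algebra.linearMap A B).rTensor F ∘ₗ (TensorProduct.lid A F).symm.toLinearMap := by
      ext f; simp
    rw [this, LinearMap.range_comp, LinearEquiv.range, Submodule.map_top]
  rw [hrange, ((R.mkQ.rTensor F).quotKerEquivOfSurjective (LinearMap.rTensor_surjective F R.mkQ_surjective)).length_eq,
    ((TensorProduct.congr e₁ e).trans (TensorProduct.prodRight A A (A ⧸ m) (Fin a → A) (Fin c → m))).length_eq,
    Module.length_prod, (TensorProduct.piRight A A (A ⧸ m) (fun _ : Fin a => A)).length_eq,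
    (TensorProduct.piRight A A (A ⧸ m) (fun _ : Fin c => (m : Submodule A A))).length_eq, Module.length_pi,
    Module.length_pi, (TensorProduct.rid A (A ⧸ m)).length_eq, (TensorProduct.quotTensorEquivQuotSMul m m).length_eq,
    hmax, Module.length_eq_one A (A ⧸ m), ENat.card_eq_coe_fintype_card, ENat.card_eq_coe_fintype_card,
    Fintype.card_fin, Fintype.card_fin]
  push_cast
  ring

variable {N : Type u} [AddCommGroup N] [Module A N] (φ : B ⊗[A] F →ₗ[A] N)
  {r : A} (hr : r ∈ maximalIdeal A) (hrB : ∀ x : B, r • x = 0 → x = 0) (hrN : ∀ x : N, r • x = 0 → x = 0)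

include hsmul hlen hinj hr hrB hrN e in
/-- the cokernel of a torsion-free quotient of `B ⊗ F` over `F` -/
theorem length_coker_quot (hφ : Function.Surjective φ) (hβ : Function.Injective (φ ∘ₗ unit A B F)) :
    Module.length A (N ⧸ LinearMap.range (φ ∘ₗ unit A B F)) = (a : ℕ) := by
  let R := LinearMap.range (Algebra.linearMap A B)
  let Ψ : B ⊗[A] F →ₗ[A] (Fin a → B ⧸ R) :=
    (LinearMap.pi fun i => R.mkQ ∘ₗ LinearMap.proj i) ∘ₗ LinearMap.fst A _ _ ∘ₗ κ e
  have hΨ : Function.Surjective Ψ := fun y => by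
    choose x hx using fun i => R.mkQ_surjective (y i)
    refine ⟨∑ i, x i ⊗ₜ[A] e.symm (Pi.single i 1, 0), funext fun j => ?_⟩
    rw [← hx j]
    show R.mkQ _ = _
    congr 1
    show LinearMap.fst A _ _ (κ e (∑ i, x i ⊗ₜ[A] e.symm (Pi.single i 1, 0))) j = x j
    rw [map_sum, map_sum, Finset.sum_apply, Finset.sum_eq_single j]
    · simp [κ_tmul]
    · intro i _ hij
      simp [κ_tmul, Pi.single_eq_of_ne hij.symm]
    · simp
  have hTk : ∀ ξ, κ e ξ = 0 → φ ξ = 0 := fun ξ h => hrN _ (by
    rw [← map_smul, smul_ker e hinj hsmul hr h, map_zero])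
  have hkT : ∀ ξ, φ ξ = 0 → κ e ξ = 0 := fun ξ h => by
    obtain ⟨f, hf⟩ := exists_smul_mem_range (F := F) hsmul hr ξ
    have hf0 : f = 0 := hβ (by
      rw [LinearMap.comp_apply, ← hf, map_smul, h, smul_zero, LinearMap.comp_apply, map_zero, map_zero])
    have h1 : r • κ e ξ = 0 := by rw [← map_smul, hf, hf0, map_zero, map_zero]
    simp only [Prod.ext_iff, Prod.smul_fst, Prod.smul_snd, Prod.fst_zero, Prod.snd_zero] at h1
    exact Prod.ext (funext fun i => hrB _ (congrFun h1.1 i)) (funext fun j => hrB _ (congrFun h1.2 j))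
  let π := (LinearMap.range (φ ∘ₗ unit A B F)).mkQ ∘ₗ φ
  have hπ : Function.Surjective π := (Submodule.mkQ_surjective _).comp hφ
  have hker : LinearMap.ker π = LinearMap.ker Ψ := by
    ext ξ
    rw [LinearMap.mem_ker, LinearMap.mem_ker, LinearMap.comp_apply, Submodule.mkQ_apply,
      Submodule.Quotient.mk_eq_zero]
    constructor
    · rintro ⟨f, hf⟩
      have h1 : κ e ξ = κ e (unit A B F f) := sub_eq_zero.1 (by
        rw [← map_sub]; exact hkT _ (by rw [map_sub, ← hf]; exact sub_self _))
      funext i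
      show R.mkQ ((κ e ξ).1 i) = 0
      rw [h1, Submodule.mkQ_apply, Submodule.Quotient.mk_eq_zero]
      exact ⟨(e f).1 i, (one_mul _).symm⟩
    · intro h
      choose s hs using fun i => (Submodule.Quotient.mk_eq_zero R).1
        (show Submodule.Quotient.mk ((κ e ξ).1 i) = 0 from congrFun h i)
      choose d hd hd' using fun j => exists_coord e hsmul ξ j
      refine ⟨e.symm (s, fun j => ⟨d j, hd j⟩), ?_⟩
      refine (sub_eq_zero.1 ?_).symm
      rw [LinearMap.comp_apply, ← map_sub]
      refine hTk _ ?_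
      rw [map_sub, sub_eq_zero, TensorProduct.mk_apply, κ_tmul, e.apply_symm_apply]
      exact Prod.ext (funext fun i => (hs i).symm.trans (one_mul _).symm)
        (funext fun j => (hd' j).trans (one_mul _).symm)
  rw [← (π.quotKerEquivOfSurjective hπ).length_eq, hker, (Ψ.quotKerEquivOfSurjective hΨ).length_eq, Module.length_pi,
    hlen, mul_one, ENat.card_eq_coe_fintype_card, Fintype.card_fin]

omit [IsLocalRing A]

/-- cokernel lengths under composition with a map injective enough -/
theorem length_coker_comp {M N N' : Type u} [AddCommGroup M] [Module A M] [AddCommGroup N] [Module A N]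
    [AddCommGroup N'] [Module A N'] (β : M →ₗ[A] N) (l : N →ₗ[A] N') (hl : Function.Injective l) :
    Module.length A (N' ⧸ LinearMap.range (l ∘ₗ β)) =
      Module.length A (N ⧸ LinearMap.range β) + Module.length A (N' ⧸ LinearMap.range l) := by
  let f : (N ⧸ LinearMap.range β) →ₗ[A] (N' ⧸ LinearMap.range (l ∘ₗ β)) :=
    (LinearMap.range β).mapQ _ l (by rintro _ ⟨x, rfl⟩; exact ⟨x, rfl⟩)
  let g : (N' ⧸ LinearMap.range (l ∘ₗ β)) →ₗ[A] (N' ⧸ LinearMap.range l) :=
    Submodule.factor (LinearMap.range_comp_le_range β l)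
  refine Module.length_eq_add_of_exact f g ?_ ?_ ?_
  · rw [injective_iff_map_eq_zero]
    intro y hy
    obtain ⟨y, rfl⟩ := Submodule.Quotient.mk_surjective _ y
    obtain ⟨x, hx⟩ := (Submodule.Quotient.mk_eq_zero _).1 hy
    exact (Submodule.Quotient.mk_eq_zero _).2 ⟨x, hl hx⟩
  · exact fun y => by
      obtain ⟨y, rfl⟩ := Submodule.Quotient.mk_surjective _ y
      exact ⟨Submodule.Quotient.mk y, rfl⟩
  · intro y
    obtain ⟨y, rfl⟩ := Submodule.Quotient.mk_surjective _ y
    constructor
    · intro hy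
      obtain ⟨n, rfl⟩ := (Submodule.Quotient.mk_eq_zero _).1 hy
      exact ⟨Submodule.Quotient.mk n, rfl⟩
    · rintro ⟨n, hn⟩
      obtain ⟨n, rfl⟩ := Submodule.Quotient.mk_surjective _ n
      rw [← hn]
      exact (Submodule.Quotient.mk_eq_zero _).2 ⟨n, rfl⟩

end Groth.Agent.Ega11.NodeTensor
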