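import Groth.Agent.Ega11.NodeChart
import Groth.Agent.Ega11.NodeTensor
import Groth.Agent.Ega11.NodalFactor
import Groth.Agent.LimTop61.PullBC
import Groth.Agent.QCqs72.Basic
import Groth.Agent.CartMod7.Affine
import Groth.Agent.Div89.Stalk
import Groth.Agent.SpFP87.Reduced
import Groth.Agent.Curves2.NodeReduced
import Mathlib

/-! The unit of pullback along a normalisation, on stalks. -/

set_option autoImplicit false
set_option backward.isDefEq.respectTransparency.types false
universe u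

open CategoryTheory CategoryTheory.Limits AlgebraicGeometry TopologicalSpace TensorProduct
open Groth.Agent.QC70

namespace Groth.Agent.Ega11.NodeModules

variable {X Y : Scheme.{u}} (π : Y ⟶ X)

/-- the unit of pullback -/
noncomputable abbrev η (F : X.Modules) :
    F ⟶ (Scheme.Modules.pushforward π).obj ((Scheme.Modules.pullback π).obj F) :=
  (Scheme.Modules.pullbackPushforwardAdjunction π).unit.app F

section General

variable [IsAffineHom π] (F : X.Modules) [F.IsQuasicoherent]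

theorem exists_sectionsEquiv {V : X.Opens} (hV : IsAffineOpen V) :
    letI := (π.app V).hom.toAlgebra
    ∃ E : Γ((Scheme.Modules.pushforward π).obj ((Scheme.Modules.pullback π).obj F), V) ≃ₗ[Γ(X, V)]
        Γ(Y, π ⁻¹ᵁ V) ⊗[Γ(X, V)] Γ(F, V), ∀ s, E ((η π F).app V s) = 1 ⊗ₜ s := by
  have h := LimTop61.exists_baseChange_equiv π F hV (hV.preimage π) (le_refl (π ⁻¹ᵁ V))
  rw [Scheme.Hom.appLE_eq_app] at h
  let := (π.app V).hom.toAlgebra
  obtain ⟨E, hE⟩ := h
  refine ⟨{ E.toAddEquiv with map_smul' := fun r m => ?_ }, fun s => ?_⟩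
  · refine (E.map_smul (π.app V r) m).trans ?_
    exact algebraMap_smul Γ(Y, π ⁻¹ᵁ V) r _
  · refine Eq.trans ?_ (hE s)
    show E _ = E _
    rw [QCPull72.unitSec, res_self]

theorem exists_stalkEquiv {V : X.Opens} (hV : IsAffineOpen V) {x : X} (hx : x ∈ V) :
    letI := Div89.stalkAlg V x hx
    letI := (π.app V).hom.toAlgebra
    ∃ Φ : (X.presheaf.stalk x ⊗[Γ(X, V)] Γ(Y, π ⁻¹ᵁ V)) ⊗[X.presheaf.stalk x] F.presheaf.stalk x
        ≃ₗ[X.presheaf.stalk x]
        ((Scheme.Modules.pushforward π).obj ((Scheme.Modules.pullback π).obj F)).presheaf.stalk x,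
      ∀ f, Φ (1 ⊗ₜ f) = stalkLinear (η π F) x f := by
  let := Div89.stalkAlg V x hx
  let := (π.app V).hom.toAlgebra
  obtain ⟨E, hE⟩ := exists_sectionsEquiv π F hV
  let R := Γ(X, V)
  let S := Γ(Y, π ⁻¹ᵁ V)
  let A := X.presheaf.stalk x
  let M := (Scheme.Modules.pullback π).obj F
  have : M.IsQuasicoherent := QCPull72.isQuasicoherent_pullback π F
  let G := (Scheme.Modules.pushforward π).obj M
  let := Div89.stalkModule F V x hx
  let := Div89.stalkModule G V x hx
  have := Div89.isScalarTower_stalk F V x hx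
  have := Div89.isScalarTower_stalk G V x hx
  have hp := Div89.primeAt_isPrime ⟨V, hV⟩ x hx
  let T := (Div89.primeAt ⟨V, hV⟩ x hx).primeCompl
  have : IsLocalization T A := Div89.isLocalization_stalk ⟨V, hV⟩ x hx
  have : IsLocalizedModule T (Div89.germLin F V x hx) :=
    Div89.isLocalizedModule_germLin F inferInstance ⟨V, hV⟩ x hx
  have : IsLocalizedModule T (Div89.germLin G V x hx) :=
    Div89.isLocalizedModule_germLin G (QCqs72.isQuasicoherent_pushforward M π) ⟨V, hV⟩ x hx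
  have bF : IsBaseChange A (Div89.germLin F V x hx) := IsLocalizedModule.isBaseChange T A _
  have bG : IsBaseChange A (Div89.germLin G V x hx) := IsLocalizedModule.isBaseChange T A _
  let Φ : (A ⊗[R] S) ⊗[A] F.presheaf.stalk x ≃ₗ[A] G.presheaf.stalk x :=
    TensorProduct.congr (LinearEquiv.refl A (A ⊗[R] S)) bF.equiv.symm ≪≫ₗ
      AlgebraTensorModule.cancelBaseChange R A A (A ⊗[R] S) Γ(F, V) ≪≫ₗ
      AlgebraTensorModule.assoc R R A A S Γ(F, V) ≪≫ₗ
      AlgebraTensorModule.congr (LinearEquiv.refl A A) E.symm ≪≫ₗ bG.equiv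
  refine ⟨Φ, fun f => ?_⟩
  refine LinearMap.congr_fun (bF.algHom_ext (Φ.toLinearMap ∘ₗ TensorProduct.mk A (A ⊗[R] S) _ 1)
    (stalkLinear (η π F) x) fun s => ?_) f
  have h1 : bF.equiv.symm (Div89.germLin F V x hx s) = 1 ⊗ₜ[R] s := by
    rw [LinearEquiv.symm_apply_eq, IsBaseChange.equiv_tmul, one_smul]
  have h2 : E.symm (1 ⊗ₜ[R] s) = (η π F).app V s := by
    rw [LinearEquiv.symm_apply_eq, hE]
  show Φ (1 ⊗ₜ[A] Div89.germLin F V x hx s) = stalkMapM (η π F) x (germM F V x hx s)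
  rw [stalkMapM_germ]
  simp only [Φ, LinearEquiv.trans_apply, TensorProduct.congr_tmul, LinearEquiv.refl_apply, h1,
    AlgebraTensorModule.cancelBaseChange_tmul, one_smul, Algebra.TensorProduct.one_def,
    AlgebraTensorModule.assoc_tmul, AlgebraTensorModule.congr_tmul, h2]
  exact (bG.equiv_tmul 1 _).trans (one_smul _ _)

omit [F.IsQuasicoherent] in
theorem surjective_stalk_push {M E : Y.Modules} [M.IsQuasicoherent] [E.IsQuasicoherent] (p : M ⟶ E) [Epi p] (x : X) :
    Function.Surjective (stalkMapM ((Scheme.Modules.pushforward π).map p) x) := by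
  intro z
  obtain ⟨W, hxW, s, rfl⟩ := germM_exist z
  obtain ⟨_, ⟨V, hV, rfl⟩, hxV, hVW⟩ := X.isBasis_affineOpens.exists_subset_of_mem_open hxW W.2
  obtain ⟨t, ht⟩ := CartMod7.app_surjective_of_epi p (hV.preimage π)
    (res ((Scheme.Modules.pushforward π).obj E) (show V ≤ W from hVW) s)
  refine ⟨germM ((Scheme.Modules.pushforward π).obj M) V x hxV t, ?_⟩
  rw [stalkMapM_germ, ← germM_res (show V ≤ W from hVW) hxV s]
  exact congrArg _ ht

omit [IsAffineHom π] [F.IsQuasicoherent] in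
theorem injective_stalk_push {M E : Y.Modules} (p : M ⟶ E) (U : X.Opens)
    (h : ∀ y ∈ π ⁻¹ᵁ U, Function.Injective (stalkMapM p y)) {x : X} (hx : x ∈ U) :
    Function.Injective (stalkMapM ((Scheme.Modules.pushforward π).map p) x) := by
  intro z w hzw
  obtain ⟨W, hxW, s, rfl⟩ := germM_exist z
  obtain ⟨W', hxW', t, rfl⟩ := germM_exist w
  rw [stalkMapM_germ, stalkMapM_germ] at hzw
  obtain ⟨O, hxO, i₁, i₂, he⟩ :=
    TopCat.Presheaf.germ_eq ((Scheme.Modules.pushforward π).obj E).presheaf x hxW hxW' _ _ hzw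
  have hO : O ⊓ U ≤ O := inf_le_left
  rw [← germM_res (hO.trans i₁.le) ⟨hxO, hx⟩ s, ← germM_res (hO.trans i₂.le) ⟨hxO, hx⟩ t]
  refine congrArg _ (section_ext M (U := π ⁻¹ᵁ (O ⊓ U))
    (res ((Scheme.Modules.pushforward π).obj M) (hO.trans i₁.le) s)
    (res ((Scheme.Modules.pushforward π).obj M) (hO.trans i₂.le) t) fun y hy => ?_)
  have he' : res ((Scheme.Modules.pushforward π).obj E) i₁.le (((Scheme.Modules.pushforward π).map p).app W s) =
      res ((Scheme.Modules.pushforward π).obj E) i₂.le (((Scheme.Modules.pushforward π).map p).app W' t) := he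
  have he2 := congrArg (res ((Scheme.Modules.pushforward π).obj E) hO) he'
  rw [res_res, res_res, ← app_res, ← app_res] at he2
  have h3 : germM M (π ⁻¹ᵁ (O ⊓ U)) y hy (res ((Scheme.Modules.pushforward π).obj M) (hO.trans i₁.le) s) =
      germM M (π ⁻¹ᵁ (O ⊓ U)) y hy (res ((Scheme.Modules.pushforward π).obj M) (hO.trans i₂.le) t) := by
    refine h y hy.2 ?_
    rw [stalkMapM_germ, stalkMapM_germ]
    exact congrArg _ he2
  obtain ⟨W₀, hyW₀, j₁, j₂, e'⟩ := TopCat.Presheaf.germ_eq M.presheaf y hy hy _ _ h3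
  exact ⟨W₀, j₁.le, hyW₀, e'⟩

theorem bijective_stalk_unit {U : X.Opens} [IsIso (π ∣_ U)] {x : X} (hx : x ∈ U) :
    Function.Bijective (stalkMapM (η π F) x) := by
  obtain ⟨_, ⟨V, hV, rfl⟩, hxV, hVU⟩ := X.isBasis_affineOpens.exists_subset_of_mem_open hx U.2
  let := Div89.stalkAlg V x hxV
  let := (π.app V).hom.toAlgebra
  obtain ⟨Φ, hΦ⟩ := exists_stalkEquiv π F hV hxV
  have : IsIso (π.app V) := NodeChart.isIso_app π (show V ≤ U from hVU)
  let eRS : Γ(X, V) ≃ₐ[Γ(X, V)] Γ(Y, π ⁻¹ᵁ V) :=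
    AlgEquiv.ofBijective (Algebra.ofId _ _) (ConcreteCategory.bijective_of_isIso (π.app V))
  have hAB : Function.Bijective (algebraMap (X.presheaf.stalk x) (X.presheaf.stalk x ⊗[Γ(X, V)] Γ(Y, π ⁻¹ᵁ V))) := by
    have h := ((Algebra.TensorProduct.rid Γ(X, V) (X.presheaf.stalk x) (X.presheaf.stalk x)).symm.trans
      (Algebra.TensorProduct.congr AlgEquiv.refl eRS)).bijective
    convert h using 1
    funext a
    simp [Algebra.TensorProduct.rid_symm_apply, eRS, Algebra.ofId]
  have h1 : Function.Bijective (fun f : F.presheaf.stalk x =>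
      (1 : X.presheaf.stalk x ⊗[Γ(X, V)] Γ(Y, π ⁻¹ᵁ V)) ⊗ₜ[X.presheaf.stalk x] f) := by
    have h := ((TensorProduct.lid (X.presheaf.stalk x) (F.presheaf.stalk x)).symm ≪≫ₗ
      TensorProduct.congr (LinearEquiv.ofBijective (Algebra.linearMap _ _) hAB) (LinearEquiv.refl _ _)).bijective
    convert h using 1
    funext f
    simp [Algebra.TensorProduct.one_def]
  convert Φ.bijective.comp h1 using 1
  exact funext fun f => (hΦ f).symm

end General

/-- a normalisation of a curve with nodes -/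
structure Setting (k : Type u) [Field k] (X Y : Scheme.{u}) [X.Over (Spec (CommRingCat.of k))] (π : Y ⟶ X)
    (U : X.Opens) : Prop where
  atWorstNodal : Curv2.AtWorstNodal k X
  mem_iff : ∀ x : X, x ∈ U ↔ ¬ Curv2.IsNode k X x
  isIso : IsIso (π ∣_ U)
  dense : Dense ((π ⁻¹ᵁ U : Y.Opens) : Set Y)

variable {k : Type u} [Field k] [IsAlgClosed k] [X.Over (Spec (CommRingCat.of k))]
  [IsProper (X ↘ Spec (CommRingCat.of k))] [IsFinite π] [Smooth (π ≫ (X ↘ Spec (CommRingCat.of k)))]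
  {U : X.Opens} (hS : Setting k X Y π U)
include hS

omit [IsFinite π] [Smooth (π ≫ (X ↘ Spec (CommRingCat.of k)))] in
theorem mem_of_isField {z : X} (hz : IsField (X.presheaf.stalk z)) : z ∈ U :=
  (hS.mem_iff z).2 fun hn => by
    obtain ⟨b⟩ := NodeChart.nonempty_branches k z hn
    exact NodeChart.not_isField_of_branches b hz

theorem exists_nodeData {x : X} (hx : Curv2.IsNode k X x) (F : X.Modules) [F.IsQuasicoherent] :
    ∃ (B : Type u) (_ : CommRing B) (_ : Algebra (X.presheaf.stalk x) B)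
      (b : NodeBranches.Branches (X.presheaf.stalk x) (AlgebraicClosure k)) (ρ : X.presheaf.stalk x)
      (Φ : B ⊗[X.presheaf.stalk x] F.presheaf.stalk x ≃ₗ[X.presheaf.stalk x]
        ((Scheme.Modules.pushforward π).obj ((Scheme.Modules.pullback π).obj F)).presheaf.stalk x),
      NodeNormalAlg.IsNodeNormalization b B ρ ∧ (∀ f, Φ (1 ⊗ₜ f) = stalkLinear (η π F) x f) ∧
      ∀ E : Y.Modules, Coh.IsQCoh E → TorSh.IsTorsionFree E →
        ∀ z : ((Scheme.Modules.pushforward π).obj E).presheaf.stalk x, ρ • z = 0 → z = 0 := by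
  have : IsLocallyNoetherian X := LocallyOfFiniteType.isLocallyNoetherian (X ↘ Spec (CommRingCat.of k))
  have : IsLocallyNoetherian Y := LocallyOfFiniteType.isLocallyNoetherian π
  have : CompactSpace X := QuasiCompact.compactSpace_of_compactSpace (X ↘ Spec (CommRingCat.of k))
  have : CompactSpace Y := QuasiCompact.compactSpace_of_compactSpace π
  have : AlgebraicGeometry.IsNoetherian X := {}
  have : AlgebraicGeometry.IsNoetherian Y := {}
  have : AlgebraicGeometry.IsReduced X := Curves2.isReduced_of_atWorstNodal k X hS.atWorstNodal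
  have : AlgebraicGeometry.IsReduced Y := SpFP87.isReduced_of_smooth (π ≫ (X ↘ Spec (CommRingCat.of k)))
  have := hS.isIso
  have hcl : ∀ z : X, z ∉ U → IsClosed ({z} : Set X) := fun z hz =>
    (not_not.1 fun hn => hz ((hS.mem_iff z).2 hn) : Curv2.IsNode k X z).1
  have hxU : x ∉ U := fun h => (hS.mem_iff x).1 h hx
  obtain ⟨b⟩ := NodeChart.nonempty_branches k x hx
  obtain ⟨V, hV, hxV, hVU⟩ := NodeChart.exists_affine U hcl x
  obtain ⟨r, -, hrY, hB⟩ := NodeChart.isNodeNormalization π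
    (Curves2.isIntegrallyClosed_stalk_of_smooth (π ≫ (X ↘ Spec (CommRingCat.of k))))
    hS.dense hV hxV (hcl x hxU) hxU hVU b
  let := Div89.stalkAlg V x hxV
  let := (π.app V).hom.toAlgebra
  obtain ⟨Φ, hΦ⟩ := exists_stalkEquiv π F hV hxV
  refine ⟨_, _, _, b, _, Φ, hB, hΦ, fun E hE htE z hz => ?_⟩
  have := Div89.primeAt_isPrime ⟨V, hV⟩ x hxV
  have : E.IsQuasicoherent := hE
  let := Div89.stalkModule ((Scheme.Modules.pushforward π).obj E) V x hxV
  have : IsLocalizedModule (Div89.primeAt ⟨V, hV⟩ x hxV).primeCompl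
      (Div89.germLin ((Scheme.Modules.pushforward π).obj E) V x hxV) :=
    Div89.isLocalizedModule_germLin _ (QCqs72.isQuasicoherent_pushforward E π) ⟨V, hV⟩ x hxV
  let g := Div89.germLin ((Scheme.Modules.pushforward π).obj E) V x hxV
  obtain ⟨⟨n, t⟩, hnt⟩ := IsLocalizedModule.surj (Div89.primeAt ⟨V, hV⟩ x hxV).primeCompl g z
  have h1 : g (r • n) = 0 := by
    rw [map_smul, ← hnt]
    show r • ((t : Γ(X, V)) • z) = 0
    rw [smul_comm]
    exact (congrArg ((t : Γ(X, V)) • ·) hz).trans (smul_zero _)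
  obtain ⟨t', ht'⟩ := (IsLocalizedModule.eq_zero_iff (Div89.primeAt ⟨V, hV⟩ x hxV).primeCompl g).1 h1
  have h2 : (show Γ(E, π ⁻¹ᵁ V) from (t' : Γ(X, V)) • n) = 0 := by
    refine NodeChart.eq_zero_of_smul E hE htE (π.app V r) hrY _ ?_
    have h3 : r • ((t' : Γ(X, V)) • n) = 0 := by rw [smul_comm]; exact ht'
    exact h3
  have h4 : ((t : Γ(X, V)) • z : _) = 0 := by
    have h5 : g n = 0 := (IsLocalizedModule.eq_zero_iff (Div89.primeAt ⟨V, hV⟩ x hxV).primeCompl g).2 ⟨t', h2⟩
    exact hnt.trans h5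
  exact ((Div89.germ_isUnit_iff ⟨V, hV⟩ x hxV t.1).2 t.2).smul_eq_zero.1 h4

end Groth.Agent.Ega11.NodeModules
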