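import Groth.Agent.Ega11.NodeBranches
import Mathlib

/-! The integral closure of a node, and tensor products with its torsion-free modules. -/

set_option autoImplicit false
universe u

open PowerSeries IsLocalRing TensorProduct Groth.Agent.Ega11.NodeBranches

namespace Groth.Agent.Ega11.NodeNormalAlg

variable {A : Type u} [CommRing A] [IsLocalRing A] {K : Type u} [Field K]

theorem isUnit_of_constantCoeff_ne (f : PowerSeries K) (h : constantCoeff f ≠ 0) : IsUnit f :=
  isUnit_iff_constantCoeff.2 (IsUnit.mk0 _ h)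

theorem eq_of_X_pow_dvd {f g : PowerSeries K} {N : ℕ} (hN : 1 ≤ N) (h : (X : PowerSeries K) ^ N ∣ f - g) :
    constantCoeff f = constantCoeff g := by
  have h1 : (X : PowerSeries K) ∣ f - g := (dvd_pow_self X (by omega)).trans h
  rw [X_dvd_iff, map_sub, sub_eq_zero] at h1
  exact h1

/-- the quotients of an integral element along the branches -/
theorem exists_branch_quot {B : Type u} [CommRing B] [Algebra A B] (hinj : Function.Injective (algebraMap A B))
    (b : Branches A K) (c a : A) (hc : c ∈ nonZeroDivisors A) (x : B) (hx : IsIntegral A x)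
    (ha : algebraMap A B a = algebraMap A B c * x) :
    ∃ w : Fin 2 → PowerSeries K, ∀ i, b.φ i a = b.φ i c * w i := by
  obtain ⟨p, hp, hpx⟩ := hx
  have h0 : Polynomial.eval₂ (RingHom.id A) a (p.scaleRoots c) = 0 := by
    apply hinj
    rw [Polynomial.hom_eval₂, RingHom.comp_id, ha, Polynomial.scaleRoots_eval₂_mul, hpx, mul_zero, map_zero]
  suffices h : ∀ i, b.φ i c ∣ b.φ i a by
    choose w hw using h
    exact ⟨w, hw⟩
  intro i
  let j := algebraMap (PowerSeries K) (FractionRing (PowerSeries K))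
  let f := j.comp (b.φ i)
  have hj : Function.Injective j := IsFractionRing.injective _ _
  have hfc : f c ≠ 0 := fun h => b.ne_zero c hc i (hj (h.trans (map_zero j).symm))
  have h1 : Polynomial.eval₂ f (f a / f c) p = 0 := by
    have h2 := congrArg f h0
    rw [Polynomial.hom_eval₂, RingHom.comp_id, map_zero, show f a = f c * (f a / f c) by field_simp,
      Polynomial.scaleRoots_eval₂_mul] at h2
    exact (mul_eq_zero.mp h2).resolve_left (pow_ne_zero _ hfc)
  have hint : IsIntegral (PowerSeries K) (f a / f c) := by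
    refine ⟨p.map (b.φ i), hp.map _, ?_⟩
    rw [Polynomial.eval₂_map]
    exact h1
  obtain ⟨w, hw⟩ := IsIntegrallyClosed.algebraMap_eq_of_integral hint
  refine ⟨w, hj ?_⟩
  rw [map_mul]
  show f a = f c * j w
  rw [show j w = f a / f c from hw]
  field_simp

theorem length_max [IsNoetherianRing A] (b : Branches A K) :
    Module.length A (maximalIdeal A ⧸ (maximalIdeal A • ⊤ : Submodule A (maximalIdeal A))) = 2 := by
  classical
  let m := maximalIdeal A
  obtain ⟨g₀, hg₀⟩ := b.approx 2 ![X, 0] (by simp)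
  obtain ⟨g₁, hg₁⟩ := b.approx 2 ![0, X] (by simp)
  obtain ⟨g₂, hg₂⟩ := b.approx 3 ![X, X] (by simp)
  have hm0 : g₀ ∈ m := (b.mem_max _).2 (by simpa using eq_of_X_pow_dvd (by omega) (hg₀ 0))
  have hm1 : g₁ ∈ m := (b.mem_max _).2 (by simpa using eq_of_X_pow_dvd (by omega) (hg₁ 0))
  have hm2 : g₂ ∈ m := (b.mem_max _).2 (by simpa using eq_of_X_pow_dvd (by omega) (hg₂ 0))
  have hcc : ∀ a ∈ m, ∀ i, constantCoeff (b.φ i a) = 0 := fun a ha i => by
    have := (b.mem_max a).1 ha
    fin_cases i
    · exact this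
    · exact (b.const a).symm.trans this
  have hsq : ∀ a, (∀ i, (X : PowerSeries K) ^ 2 ∣ b.φ i a) → a ∈ m ^ 2 := by
    intro a ha
    have h : ∀ i, ∃ v, b.φ i g₂ = X * v ∧ constantCoeff v ≠ 0 := fun i => by
      obtain ⟨q, hq⟩ := hg₂ i
      refine ⟨1 + X ^ 2 * q, ?_, by simp⟩
      have : ![(X : PowerSeries K), X] i = X := by fin_cases i <;> rfl
      rw [this, sub_eq_iff_eq_add] at hq
      rw [hq]; ring
    choose v hv hv0 using h
    choose q hq using ha
    let w : Fin 2 → PowerSeries K := fun i => X * q i * Units.val (isUnit_of_constantCoeff_ne _ (hv0 i)).unit⁻¹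
    have hw : ∀ i, b.φ i a = b.φ i g₂ * w i := fun i => by
      rw [hq i, hv i]
      linear_combination (-((X : PowerSeries K) ^ 2 * q i)) * (isUnit_of_constantCoeff_ne _ (hv0 i)).mul_val_inv
    have hw0 : ∀ i, constantCoeff (w i) = 0 := fun i => by simp [w]
    obtain ⟨d, rfl⟩ := b.dvd a g₂ w hw ((hw0 0).trans (hw0 1).symm)
    rw [pow_two]
    refine Ideal.mul_mem_mul hm2 ((b.mem_max d).2 ?_)
    have hg : b.φ 0 g₂ ≠ 0 := by
      rw [hv 0]; exact mul_ne_zero X_ne_zero fun h => hv0 0 (by rw [h, map_zero])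
    have h := hw 0
    rw [map_mul] at h
    rw [mul_left_cancel₀ hg h]
    exact hw0 0
  let Φ : (A × A) →ₗ[A] (m ⧸ (m • ⊤ : Submodule A m)) :=
    Submodule.mkQ _ ∘ₗ ((LinearMap.toSpanSingleton A m ⟨g₀, hm0⟩).coprod (LinearMap.toSpanSingleton A m ⟨g₁, hm1⟩))
  have hmem : ∀ z : m, z ∈ (m • ⊤ : Submodule A m) ↔ (z : A) ∈ m ^ 2 := fun z => by
    have hmap : (m • ⊤ : Submodule A m).map (Submodule.subtype m) = m ^ 2 := by
      rw [Submodule.map_smul'', Submodule.map_top, Submodule.range_subtype, pow_two, smul_eq_mul]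
    rw [← hmap]
    exact ⟨fun h => Submodule.mem_map_of_mem h, fun h => by
      obtain ⟨z', hz', he⟩ := Submodule.mem_map.1 h
      rwa [← Subtype.ext he]⟩
  have hΦ : Function.Surjective Φ := fun y => by
    obtain ⟨⟨a, ha⟩, rfl⟩ := Submodule.mkQ_surjective _ y
    obtain ⟨α, hα⟩ := b.exists_C (coeff 1 (b.φ 0 a))
    obtain ⟨β, hβ⟩ := b.exists_C (coeff 1 (b.φ 1 a))
    refine ⟨(α, β), (Submodule.Quotient.eq _).2 ((hmem _).2 (hsq _ fun i => ?_))⟩
    show (X : PowerSeries K) ^ 2 ∣ b.φ i (α * g₀ + β * g₁ - a)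
    rw [X_pow_dvd_iff]
    intro n hn
    rw [map_sub, map_add, map_mul, map_mul, hα, hβ, map_sub, map_add, coeff_C_mul, coeff_C_mul]
    have e0 := X_pow_dvd_iff.1 (hg₀ i) n hn
    have e1 := X_pow_dvd_iff.1 (hg₁ i) n hn
    rw [map_sub, sub_eq_zero] at e0 e1
    rw [e0, e1]
    have hn' : n = 0 ∨ n = 1 := by omega
    rcases hn' with rfl | rfl
    · have := hcc a ha i
      fin_cases i <;> simp_all
    · fin_cases i <;> simp
  have hker : LinearMap.ker Φ = Submodule.prod m m := by
    ext ⟨α, β⟩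
    rw [LinearMap.mem_ker, LinearMap.comp_apply, Submodule.mkQ_apply, Submodule.Quotient.mk_eq_zero, hmem]
    show α * g₀ + β * g₁ ∈ m ^ 2 ↔ α ∈ m ∧ β ∈ m
    constructor
    · intro h
      have key : ∀ i, coeff 1 (b.φ i (α * g₀ + β * g₁)) = 0 := fun i => by
        have hle : m.map (b.φ i) ≤ Ideal.span {(X : PowerSeries K)} := Ideal.map_le_iff_le_comap.2 fun z hz => by
          rw [Ideal.mem_comap, Ideal.mem_span_singleton, X_dvd_iff]
          exact hcc z hz i
        have h2 := (Ideal.pow_right_mono hle 2) ((Ideal.map_pow (b.φ i) m 2) ▸ Ideal.mem_map_of_mem (b.φ i) h)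
        rw [Ideal.span_singleton_pow, Ideal.mem_span_singleton, X_pow_dvd_iff] at h2
        exact h2 1 (by omega)
      have e : ∀ (g : A) i, coeff 0 (b.φ i g) = 0 → ∀ t : A, coeff 1 (b.φ i (t * g)) =
          constantCoeff (b.φ i t) * coeff 1 (b.φ i g) := fun g i hg t => by
        rw [map_mul, coeff_mul, Finset.Nat.sum_antidiagonal_eq_sum_range_succ_mk, Finset.sum_range_succ,
          Finset.sum_range_one]
        simp [hg]
      have c0 : ∀ i, coeff 0 (b.φ i g₀) = 0 := fun i => by simpa using hcc _ hm0 i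
      have c1 : ∀ i, coeff 0 (b.φ i g₁) = 0 := fun i => by simpa using hcc _ hm1 i
      have k0 := key 0
      have k1 := key 1
      rw [map_add, map_add, e _ _ (c0 _), e _ _ (c1 _)] at k0 k1
      have a00 := X_pow_dvd_iff.1 (hg₀ 0) 1 (by omega)
      have a01 := X_pow_dvd_iff.1 (hg₀ 1) 1 (by omega)
      have a10 := X_pow_dvd_iff.1 (hg₁ 0) 1 (by omega)
      have a11 := X_pow_dvd_iff.1 (hg₁ 1) 1 (by omega)
      rw [map_sub, sub_eq_zero] at a00 a01 a10 a11
      refine ⟨(b.mem_max α).2 ?_, (b.mem_max β).2 ?_⟩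
      · simpa [a00, a10] using k0
      · rw [b.const]; simpa [a01, a11] using k1
    · rintro ⟨hα, hβ⟩
      rw [pow_two]
      exact add_mem (Ideal.mul_mem_mul hα hm0) (Ideal.mul_mem_mul hβ hm1)
  let ψ : (A × A) →ₗ[A] (A ⧸ m) × (A ⧸ m) := (Submodule.mkQ m).prodMap (Submodule.mkQ m)
  have hψ : Function.Surjective ψ := (Submodule.mkQ_surjective _).prodMap (Submodule.mkQ_surjective _)
  have hψk : LinearMap.ker ψ = LinearMap.ker Φ := by rw [hker, LinearMap.ker_prodMap, Submodule.ker_mkQ]
  rw [← (Φ.quotKerEquivOfSurjective hΦ).length_eq, ← hψk, (ψ.quotKerEquivOfSurjective hψ).length_eq,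
    Module.length_prod]
  have : IsSimpleModule A (A ⧸ m) := isSimpleModule_iff_isCoatom.mpr (maximalIdeal.isMaximal A).out
  rw [Module.length_eq_one A (A ⧸ m)]
  rfl

variable [IsNoetherianRing A] {B : Type u} [CommRing B] [Algebra A B]

/-- the data of a birational integral overring with enough integral closedness -/
structure IsNodeNormalization (b : Branches A K) (B : Type u) [CommRing B] [Algebra A B] (r : A) : Prop where
  injective : Function.Injective (algebraMap A B)
  isIntegral : ∀ x : B, IsIntegral A x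
  mem_max : r ∈ maximalIdeal A
  mem_nonZeroDivisors : r ∈ nonZeroDivisors A
  regular : ∀ x : B, r • x = 0 → x = 0
  exists_pow : ∀ x : B, ∃ (n : ℕ) (a : A), algebraMap A B a = algebraMap A B (r ^ n) * x
  closed : ∀ (a : A) (n : ℕ), r ^ n * r ^ n ∣ a * a - a * r ^ n →
    ∃ x : B, algebraMap A B a = algebraMap A B (r ^ n) * x

variable {b : Branches A K} {r : A} (hB : IsNodeNormalization b B r)
include hB

omit [IsNoetherianRing A] in
theorem exists_smul_eq {z : A} (hz : z ∈ maximalIdeal A) (x : B) :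
    ∃ d ∈ maximalIdeal A, z • x = algebraMap A B d := by
  obtain ⟨n, a, ha⟩ := hB.exists_pow x
  have hc : r ^ n ∈ nonZeroDivisors A := pow_mem hB.mem_nonZeroDivisors n
  obtain ⟨w, hw⟩ := exists_branch_quot hB.injective b _ a hc x (hB.isIntegral x) ha
  obtain ⟨d, hd⟩ := b.dvd (z * a) (r ^ n) (fun i => b.φ i z * w i) (fun i => by rw [map_mul, hw i]; ring)
    (by simp [(b.mem_max z).1 hz, ← b.const z])
  have hzx : z • x = algebraMap A B d := by
    have hreg : ∀ (m : ℕ) (y : B), r ^ m • y = 0 → y = 0 := by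
      intro m
      induction m with
      | zero => intro y hy; simpa using hy
      | succ m ih => intro y hy; rw [pow_succ, mul_smul] at hy; exact hB.regular _ (ih _ hy)
    refine sub_eq_zero.1 (hreg n _ ?_)
    rw [smul_sub, sub_eq_zero, Algebra.smul_def, Algebra.smul_def, Algebra.smul_def, ← map_mul, ← hd, map_mul, ha]
    ring
  refine ⟨d, ?_, hzx⟩
  by_contra hdu
  rw [mem_maximalIdeal, mem_nonunits_iff, not_not] at hdu
  have : IsLocalHom (algebraMap A B) := RingHom.IsIntegral.isLocalHom hB.isIntegral hB.injective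
  have h2 : IsUnit (algebraMap A B z * x) := by
    rw [← Algebra.smul_def, hzx]; exact hdu.map _
  exact hz ((isUnit_of_mul_isUnit_left h2).of_map)

omit [IsNoetherianRing A] in
theorem length_quot : Module.length A (B ⧸ LinearMap.range (Algebra.linearMap A B)) = 1 := by
  classical
  let c := r
  have hcc : constantCoeff (b.φ 0 c) = 0 := (b.mem_max c).1 hB.mem_max
  have hcc1 : constantCoeff (b.φ 1 c) = 0 := (b.const c).symm.trans hcc
  have hne := b.ne_zero c hB.mem_nonZeroDivisors
  let N := (order (b.φ 0 c)).toNat + (order (b.φ 1 c)).toNat + 1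
  obtain ⟨a, ha⟩ := b.approx N ![b.φ 0 c, 0] (by simp [hcc])
  have hstep : ∀ i, ∃ u, b.φ i a = b.φ i c * u ∧ constantCoeff u = ![(1 : K), 0] i := by
    intro i
    obtain ⟨q, hq⟩ := ha i
    let o := (order (b.φ i c)).toNat
    obtain ⟨v, hv⟩ : (X : PowerSeries K) ^ o ∣ b.φ i c := X_pow_order_dvd
    have hv0 : constantCoeff v ≠ 0 := by
      have h1 := coeff_order (hne i)
      rw [show (order (b.φ i c)).toNat = o from rfl, hv, coeff_X_pow_mul', if_pos le_rfl, Nat.sub_self,
        coeff_zero_eq_constantCoeff_apply] at h1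
      exact h1
    have hoN : o + 1 ≤ N := by fin_cases i <;> simp [o, N]
    obtain ⟨M, hM⟩ : ∃ M, N = o + (M + 1) := ⟨N - o - 1, by omega⟩
    let e : PowerSeries K := X ^ (M + 1) * q * Units.val (isUnit_of_constantCoeff_ne _ hv0).unit⁻¹
    have he : (X : PowerSeries K) ^ N * q = b.φ i c * e := by
      rw [hv, hM, pow_add]
      linear_combination (-((X : PowerSeries K) ^ o * X ^ (M + 1) * q)) *
        (isUnit_of_constantCoeff_ne _ hv0).mul_val_inv
    have he0 : constantCoeff e = 0 := by simp [e]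
    have htarget : ![b.φ 0 c, 0] i = b.φ i c * C (![(1 : K), 0] i) := by fin_cases i <;> simp
    refine ⟨C (![(1 : K), 0] i) + e, ?_, by simp [he0]⟩
    rw [mul_add, ← htarget, ← he, ← hq]; ring
  choose u hu hu0 using hstep
  have hu00 : constantCoeff (u 0) = 1 := hu0 0
  have hu10 : constantCoeff (u 1) = 0 := hu0 1
  have hrel : c * c ∣ a * a - a * c := b.dvd _ _ (fun i => u i * u i - u i) (fun i => by
    rw [map_sub, map_mul, map_mul, map_mul, hu i]; ring) (by simp [hu00, hu10])
  obtain ⟨e, he⟩ := hB.closed a 1 (by simpa using hrel)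
  rw [pow_one] at he
  have hke : ∀ x : B, ∃ α : A, x - α • e ∈ LinearMap.range (Algebra.linearMap A B) := by
    intro x
    obtain ⟨n, a', ha'⟩ := hB.exists_pow x
    have hcn : r ^ n ∈ nonZeroDivisors A := pow_mem hB.mem_nonZeroDivisors n
    obtain ⟨w, hw⟩ := exists_branch_quot hB.injective b _ a' hcn x (hB.isIntegral x) ha'
    obtain ⟨α, hα⟩ := b.exists_C (constantCoeff (w 0) - constantCoeff (w 1))
    refine ⟨α, ?_⟩
    obtain ⟨d, hd⟩ := b.dvd (c * a' - α * a * r ^ n) (c * r ^ n) (fun i => w i - b.φ i α * u i) (fun i => by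
      simp only [map_sub, map_mul, hw i, hu i]; ring) (by simp [hα, hu00, hu10])
    refine ⟨d, ?_⟩
    have hreg : ∀ (m : ℕ) (y : B), r ^ m • y = 0 → y = 0 := by
      intro m
      induction m with
      | zero => intro y hy; simpa using hy
      | succ m ih => intro y hy; rw [pow_succ, mul_smul] at hy; exact hB.regular _ (ih _ hy)
    refine sub_eq_zero.1 (hreg (n + 1) _ ?_)
    have h3 := congrArg (algebraMap A B) hd
    simp only [map_sub, map_mul] at h3
    rw [Algebra.linearMap_apply, Algebra.smul_def, Algebra.smul_def]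
    simp only [map_mul, pow_succ]
    linear_combination (-1) * h3 + algebraMap A B c * ha' - algebraMap A B α * algebraMap A B (r ^ n) * he
  have hnot : e ∉ LinearMap.range (Algebra.linearMap A B) := by
    rintro ⟨d, hd⟩
    have h1 : a = c * d := hB.injective (by rw [he, ← hd, map_mul]; rfl)
    have h2 : ∀ i, u i = b.φ i d := fun i => mul_left_cancel₀ (hne i) (by rw [← hu i, h1, map_mul])
    have := b.const d
    rw [← h2, ← h2, hu00, hu10] at this
    exact one_ne_zero this
  let π : A →ₗ[A] (B ⧸ LinearMap.range (Algebra.linearMap A B)) :=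
    LinearMap.toSpanSingleton A _ (Submodule.Quotient.mk e)
  have hπ : Function.Surjective π := fun y => by
    obtain ⟨x, rfl⟩ := Submodule.Quotient.mk_surjective _ y
    obtain ⟨α, hα⟩ := hke x
    exact ⟨α, ((Submodule.Quotient.eq _).2 hα).symm⟩
  have hker : LinearMap.ker π = maximalIdeal A := by
    refine le_antisymm (le_maximalIdeal fun h => hnot ?_) fun z hz => ?_
    · have h1 : (1 : A) ∈ LinearMap.ker π := h ▸ Submodule.mem_top
      rw [LinearMap.mem_ker, LinearMap.toSpanSingleton_apply, one_smul] at h1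
      exact (Submodule.Quotient.mk_eq_zero _).1 h1
    · obtain ⟨d, -, hd⟩ := exists_smul_eq hB hz e
      rw [LinearMap.mem_ker, LinearMap.toSpanSingleton_apply, ← Submodule.Quotient.mk_smul,
        Submodule.Quotient.mk_eq_zero]
      exact ⟨d, hd.symm⟩
  have : IsSimpleModule A (A ⧸ maximalIdeal A) := isSimpleModule_iff_isCoatom.mpr (maximalIdeal.isMaximal A).out
  rw [← (π.quotKerEquivOfSurjective hπ).length_eq, hker]
  exact Module.length_eq_one A (A ⧸ maximalIdeal A)

end Groth.Agent.Ega11.NodeNormalAlg
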