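import Groth.Agent.Ega11.NodeBranchHom
import Groth.Agent.Ega11.NodeModules
import Mathlib

/-! The points of the normalisation over a node. -/

set_option autoImplicit false
set_option backward.isDefEq.respectTransparency.types false
universe u

open CategoryTheory CategoryTheory.Limits AlgebraicGeometry TopologicalSpace TensorProduct

namespace Groth.Agent.Ega11.NodePoints

variable {X Y : Scheme.{u}} (π : Y ⟶ X) {k : Type u} [Field k] [IsAlgClosed k]
  [X.Over (Spec (CommRingCat.of k))] [IsProper (X ↘ Spec (CommRingCat.of k))] [IsFinite π]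
  [Smooth (π ≫ (X ↘ Spec (CommRingCat.of k)))] {U : X.Opens} (hS : NodeModules.Setting k X Y π U)
include hS

theorem points_facts {V : X.Opens} (hV : IsAffineOpen V) {x : X} (hxV : x ∈ V) (hx : Curv2.IsNode k X x)
    (hVU : ∀ z ∈ V, z ≠ x → z ∈ U) :
    (∃ y : Y, π y = x) ∧
    ∀ s : Γ(Y, π ⁻¹ᵁ V), (∀ (y : Y) (hy : y ∈ π ⁻¹ᵁ V), π y = x → ¬ IsUnit (Y.presheaf.germ (π ⁻¹ᵁ V) y hy s)) →
      ∃ t a : Γ(X, V), t ∉ Div89.primeAt ⟨V, hV⟩ x hxV ∧ a ∈ Div89.primeAt ⟨V, hV⟩ x hxV ∧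
        π.app V t * s = π.app V a := by
  classical
  have : IsLocallyNoetherian X := LocallyOfFiniteType.isLocallyNoetherian (X ↘ Spec (CommRingCat.of k))
  have : IsLocallyNoetherian Y := LocallyOfFiniteType.isLocallyNoetherian π
  have : CompactSpace X := QuasiCompact.compactSpace_of_compactSpace (X ↘ Spec (CommRingCat.of k))
  have : CompactSpace Y := QuasiCompact.compactSpace_of_compactSpace π
  have : AlgebraicGeometry.IsNoetherian X := {}
  have : AlgebraicGeometry.IsNoetherian Y := {}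
  have : AlgebraicGeometry.IsReduced X := Curves2.isReduced_of_atWorstNodal k X hS.atWorstNodal
  have : AlgebraicGeometry.IsReduced Y := SpFP87.isReduced_of_smooth (π ≫ (X ↘ Spec (CommRingCat.of k)))
  have := hS.isIso
  have hxU : x ∉ U := fun h => (hS.mem_iff x).1 h hx
  obtain ⟨b⟩ := NodeChart.nonempty_branches k x hx
  obtain ⟨r, -, -, hB⟩ := NodeChart.isNodeNormalization π
    (Curves2.isIntegrallyClosed_stalk_of_smooth (π ≫ (X ↘ Spec (CommRingCat.of k))))
    hS.dense hV hxV hx.1 hxU hVU b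
  let := Div89.stalkAlg V x hxV
  let := (π.app V).hom.toAlgebra
  let R := Γ(X, V)
  let S := Γ(Y, π ⁻¹ᵁ V)
  let A := X.presheaf.stalk x
  let p := Div89.primeAt ⟨V, hV⟩ x hxV
  have hp : p.IsPrime := Div89.primeAt_isPrime ⟨V, hV⟩ x hxV
  let T := p.primeCompl
  have hloc : IsLocalization T A := Div89.isLocalization_stalk ⟨V, hV⟩ x hxV
  obtain ⟨M, hM, hMm⟩ := NodeBranchHom.exists_maximal_pair hB
  have hW : IsAffineOpen (π ⁻¹ᵁ V) := hV.preimage π
  have : Algebra.IsIntegral A (A ⊗[R] S) := ⟨hB.isIntegral⟩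
  let incl : S →+* A ⊗[R] S := (Algebra.TensorProduct.includeRight : S →ₐ[R] A ⊗[R] S).toRingHom
  have hone : ∀ a : R, incl (algebraMap R S a) = algebraMap A (A ⊗[R] S) (algebraMap R A a) := fun a =>
    ((Algebra.TensorProduct.includeRight : S →ₐ[R] A ⊗[R] S).commutes a).trans
      (IsScalarTower.algebraMap_apply R A (A ⊗[R] S) a)
  have hpts : ∀ i : Fin 2, ∃ (y : Y) (hy : y ∈ π ⁻¹ᵁ V), π y = x ∧
      Div89.primeAt ⟨π ⁻¹ᵁ V, hW⟩ y hy = (M i).comap incl := fun i => by
    have := hM i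
    obtain ⟨y, hy, hye⟩ := Div89.exists_point ⟨π ⁻¹ᵁ V, hW⟩ ((M i).comap incl)
    refine ⟨y, hy, ?_, hye⟩
    have hmax : (M i).comap (algebraMap A (A ⊗[R] S)) = IsLocalRing.maximalIdeal A :=
      IsLocalRing.eq_maximalIdeal (Ideal.isMaximal_comap_of_isIntegral_of_isMaximal (M i))
    have heq : ∀ a : R, a ∈ Div89.primeAt ⟨V, hV⟩ (π y) hy ↔ a ∈ p := fun a => by
      have h1 : a ∈ p ↔ algebraMap R S a ∈ (M i).comap incl := by
        rw [Ideal.mem_comap, hone, ← Ideal.mem_comap (f := algebraMap A (A ⊗[R] S)), hmax,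
          IsLocalization.AtPrime.to_map_mem_maximal_iff A p a]
      rw [h1, ← hye, Div89.mem_primeAt_iff, Div89.mem_primeAt_iff]
      show π y ∉ X.basicOpen a ↔ y ∉ Y.basicOpen (π.app V a)
      rw [← Scheme.preimage_basicOpen]
      rfl
    have h2 : Div89.primeAt ⟨V, hV⟩ (π y) hy = p := Ideal.ext heq
    have hsp1 := (Div89.specializes_iff_primeAt_le ⟨V, hV⟩ hy hxV).2 h2.ge
    have hsp2 := (Div89.specializes_iff_primeAt_le ⟨V, hV⟩ hxV hy).2 h2.le
    exact (hsp2.antisymm hsp1).eq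
  refine ⟨⟨(hpts 0).choose, (hpts 0).choose_spec.choose_spec.1⟩, fun s hs => ?_⟩
  have hmem : ∀ i, incl s ∈ M i := fun i => by
    obtain ⟨y, hy, hyx, hye⟩ := hpts i
    rw [← Ideal.mem_comap, ← hye, Div89.mem_primeAt_iff]
    exact fun h => hs y hy hyx ((Scheme.mem_basicOpen _ _ _ hy).1 h)
  obtain ⟨d, hd, hsd⟩ := hMm _ hmem
  obtain ⟨a, t, rfl⟩ := IsLocalization.exists_mk'_eq T d
  have ha : a ∈ p := (IsLocalization.AtPrime.mk'_mem_maximal_iff A p a t).1 hd
  have h1 : (TensorProduct.mk R A S 1) (algebraMap R S t * s - algebraMap R S a) = 0 := by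
    show incl (algebraMap R S t * s - algebraMap R S a) = 0
    rw [map_sub, map_mul, hsd, hone, hone, ← map_mul, IsLocalization.mk'_spec', sub_self]
  obtain ⟨t', ht'⟩ := (IsLocalizedModule.eq_zero_iff T (TensorProduct.mk R A S 1)).1 h1
  refine ⟨t' * t, t' * a, (t' * t).2, Ideal.mul_mem_left _ _ ha, ?_⟩
  have ht'' : algebraMap R S t' * (algebraMap R S t * s - algebraMap R S a) = 0 := by
    rw [← Algebra.smul_def]; exact ht'
  show algebraMap R S ((t' : R) * t) * s = algebraMap R S (t' * a)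
  rw [map_mul, map_mul]
  linear_combination ht''

end Groth.Agent.Ega11.NodePoints
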