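import Groth.Agent.Ega11.NodeSections
import Groth.Agent.Ega11.LatticeNodes
import Groth.Agent.E4O.GeomNormalFinite
import Groth.Agent.E4O.InfDescent
import Groth.Agent.FlatMor68.PullbackDescent
import Mathlib

/-! Torsion-free sheaves on a nodal curve inside direct images of locally free sheaves on the normalisation. -/

set_option autoImplicit false
set_option backward.isDefEq.respectTransparency.types false
universe u

open CategoryTheory CategoryTheory.Limits AlgebraicGeometry TopologicalSpace
open Groth.Agent.QC70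

namespace Groth.Agent.Ega11.NodePresentation

theorem mem_range_incl {A : Type u} [CommRing A] [IsLocalRing A] {a c r : ℕ} (h : a + c = r) (v : Fin r → A) :
    v ∈ LinearMap.range ((LinearEquiv.funCongrLeft A A (finCongr h).symm).toLinearMap ∘ₗ LatticeNodes.incl A a c) ↔
      ∀ i : Fin r, a ≤ (i : ℕ) → v i ∈ IsLocalRing.maximalIdeal A := by
  subst h
  constructor
  · rintro ⟨⟨u, w⟩, rfl⟩ i
    induction i using Fin.addCases with
    | left l => intro hl; exact absurd hl (by simp)
    | right l => intro _; simp [LatticeNodes.incl]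
  · intro h
    refine ⟨(fun l => v (Fin.castAdd c l), fun l => ⟨v (Fin.natAdd a l), h _ (by simp)⟩), funext fun i => ?_⟩
    induction i using Fin.addCases with
    | left l => simp [LatticeNodes.incl]
    | right l => simp [LatticeNodes.incl]

variable {X Y : Scheme.{u}} (π : Y ⟶ X)

theorem sp_stalkMapM {M M' : Y.Modules} (φ : M ⟶ M') (y : Y)
    (e : ((Scheme.Modules.pushforward π).obj M).presheaf.stalk (π y)) :
    NodeSections.sp π M' y (stalkMapM ((Scheme.Modules.pushforward π).map φ) (π y) e) =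
      stalkMapM φ y (NodeSections.sp π M y e) := by
  obtain ⟨W, hzW, s, rfl⟩ := germM_exist e
  rw [stalkMapM_germ, NodeSections.sp_germ, NodeSections.sp_germ, stalkMapM_germ]
  rfl

variable {k : Type u} [Field k] [IsAlgClosed k] [X.Over (Spec (CommRingCat.of k))]
  [IsProper (X ↘ Spec (CommRingCat.of k))] [IsFinite π] [Smooth (π ≫ (X ↘ Spec (CommRingCat.of k)))]
  {U : X.Opens}

set_option maxHeartbeats 3200000 in
set_option synthInstance.maxHeartbeats 400000 in
theorem exists_presentation (hS : NodeModules.Setting k X Y π U) (hdim : topologicalKrullDim X ≤ 1)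
    (r : ℕ) (F : X.Modules) (hF : Coh.IsCoh F) (a : X → ℕ)
    (hfree : ∀ x : X, ¬ Curv2.IsNode k X x →
      Nonempty (F.presheaf.stalk x ≃ₗ[X.presheaf.stalk x] (Fin r → X.presheaf.stalk x)))
    (htype : ∀ x : X, Curv2.IsNode k X x → a x ≤ r ∧
      Nonempty (F.presheaf.stalk x ≃ₗ[X.presheaf.stalk x]
        ((Fin (a x) → X.presheaf.stalk x) × (Fin (r - a x) → IsLocalRing.maximalIdeal (X.presheaf.stalk x))))) :
    ∃ (E : Y.Modules), FlatMod.IsFinLocFreeOfRank r E ∧ Coh.IsCoh E ∧
      ∃ β : F ⟶ (Scheme.Modules.pushforward π).obj E, Mono β ∧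
        (∀ x : X, ¬ Curv2.IsNode k X x → Function.Surjective (stalkMapM β x)) ∧
        (∀ x : X, Curv2.IsNode k X x → Module.length (X.presheaf.stalk x)
          (((Scheme.Modules.pushforward π).obj E).presheaf.stalk x ⧸ LinearMap.range (stalkLinear β x)) = (r : ℕ∞)) ∧
        ∀ x : X, Curv2.IsNode k X x → ∀ (W : X.Opens) (hxW : x ∈ W) (m : Γ(E, π ⁻¹ᵁ W)),
          (∀ (y : Y) (hy : y ∈ π ⁻¹ᵁ W), π y = x → germM E (π ⁻¹ᵁ W) y hy m ∈
            IsLocalRing.maximalIdeal (Y.presheaf.stalk y) • (⊤ : Submodule (Y.presheaf.stalk y) (E.presheaf.stalk y))) →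
          germM ((Scheme.Modules.pushforward π).obj E) W x hxW m ∈ LinearMap.range (stalkLinear β x) := by
  classical
  have : IsLocallyNoetherian X := LocallyOfFiniteType.isLocallyNoetherian (X ↘ Spec (CommRingCat.of k))
  have : IsLocallyNoetherian Y := LocallyOfFiniteType.isLocallyNoetherian π
  have : CompactSpace X := QuasiCompact.compactSpace_of_compactSpace (X ↘ Spec (CommRingCat.of k))
  have : CompactSpace Y := QuasiCompact.compactSpace_of_compactSpace π
  have : AlgebraicGeometry.IsNoetherian X := {}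
  have : AlgebraicGeometry.IsNoetherian Y := {}
  have : AlgebraicGeometry.IsReduced X := Curves2.isReduced_of_atWorstNodal k X hS.atWorstNodal
  have : F.IsQuasicoherent := hF.1
  obtain ⟨hfin, hnm⟩ := LatticeNodes.finite_nodes (k := k) (X := X) hdim
  have htF : TorSh.IsTorsionFree F := NodeLengths.isTorsionFree r a hfree htype
  -- the locally free overmodule downstairs
  let SX : Set X := {x | Curv2.IsNode k X x}
  have hac : ∀ x, x ∈ SX → a x + (r - a x) = r := fun x hx => Nat.add_sub_cancel' (htype x hx).1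
  let ι : ∀ x, x ∈ SX → F.presheaf.stalk x →ₗ[X.presheaf.stalk x] (Fin r → X.presheaf.stalk x) := fun x hx =>
    (LinearEquiv.funCongrLeft (X.presheaf.stalk x) (X.presheaf.stalk x) (finCongr (hac x hx)).symm).toLinearMap ∘ₗ
      LatticeNodes.incl (X.presheaf.stalk x) (a x) (r - a x) ∘ₗ (htype x hx).2.some.toLinearMap
  have hιmem : ∀ (x : X) (hx : x ∈ SX) (v : Fin r → X.presheaf.stalk x), v ∈ LinearMap.range (ι x hx) ↔
      ∀ i : Fin r, a x ≤ (i : ℕ) → v i ∈ IsLocalRing.maximalIdeal (X.presheaf.stalk x) := fun x hx v => by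
    rw [← mem_range_incl (hac x hx) v]
    show v ∈ LinearMap.range (((LinearEquiv.funCongrLeft (X.presheaf.stalk x) (X.presheaf.stalk x)
      (finCongr (hac x hx)).symm).toLinearMap ∘ₗ LatticeNodes.incl (X.presheaf.stalk x) (a x) (r - a x)) ∘ₗ
        (htype x hx).2.some.toLinearMap) ↔ _
    rw [LinearMap.range_comp_of_range_eq_top _ (LinearEquiv.range _)]
  have hιlen : ∀ (x : X) (hx : x ∈ SX), Module.length (X.presheaf.stalk x)
      ((Fin r → X.presheaf.stalk x) ⧸ LinearMap.range (ι x hx)) = ((r - a x : ℕ) : ℕ∞) := fun x hx => by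
    let q := LinearEquiv.funCongrLeft (X.presheaf.stalk x) (X.presheaf.stalk x) (finCongr (hac x hx)).symm
    have hq : (LinearMap.range (LatticeNodes.incl (X.presheaf.stalk x) (a x) (r - a x))).map q.toLinearMap =
        LinearMap.range (ι x hx) := by
      show _ = LinearMap.range (q.toLinearMap ∘ₗ _)
      rw [LinearMap.range_comp, LinearMap.range_comp_of_range_eq_top _ (LinearEquiv.range _)]
    rw [← (Submodule.Quotient.equiv _ _ q hq).length_eq, LatticeNodes.length_coker_incl]
  obtain ⟨G, j, hGc, hj, hjbij, hΨ⟩ := LatticeSuper.exists_super hdim hF htF (S := SX) hfin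
    (fun x hx => hx.1) hnm (fun x => Fin r → X.presheaf.stalk x) ι
    (fun x hx => (LinearEquiv.funCongrLeft (X.presheaf.stalk x) (X.presheaf.stalk x) (finCongr (hac x hx)).symm).injective.comp
      ((LatticeNodes.injective_incl _ _ _).comp (htype x hx).2.some.injective))
    (fun x hx p g hg => ⟨1, (hιmem x hx _).2 fun i _ => by
      rw [pow_one, Pi.smul_apply, smul_eq_mul]
      exact Ideal.mul_mem_right _ _ hg⟩)
  choose e he using hΨ
  have : G.IsQuasicoherent := hGc.1
  have hG : ∀ x, Nonempty (G.presheaf.stalk x ≃ₗ[X.presheaf.stalk x] (Fin r → X.presheaf.stalk x)) := fun x => by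
    by_cases hx : x ∈ SX
    · exact ⟨e x hx⟩
    · obtain ⟨eF⟩ := hfree x hx
      exact ⟨(LinearEquiv.ofBijective (stalkLinear j x) (hjbij x hx)).symm.trans eF⟩
  have hjmem : ∀ (x : X) (hx : x ∈ SX) (g : G.presheaf.stalk x), g ∈ LinearMap.range (stalkLinear j x) ↔
      ∀ i : Fin r, a x ≤ (i : ℕ) → e x hx g i ∈ IsLocalRing.maximalIdeal (X.presheaf.stalk x) := fun x hx g => by
    rw [← hιmem x hx]
    constructor
    · rintro ⟨f, rfl⟩
      exact ⟨f, (he x hx f).symm⟩
    · rintro ⟨f, hf⟩
      exact ⟨f, (e x hx).injective ((he x hx f).trans hf)⟩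
  -- one chosen point over each node
  have hyc : ∀ x : SX, ∃ y : Y, π y = x.1 := fun x => by
    obtain ⟨V, hV, hxV, hVU⟩ := NodeChart.exists_affine U (fun z hz =>
      (not_not.1 fun hn => hz ((hS.mem_iff z).2 hn) : Curv2.IsNode k X z).1) x.1
    exact (NodePoints.points_facts π hS hV hxV x.2 hVU).1
  choose yc hyc using hyc
  let S : Set Y := Set.range yc
  have hSnode : ∀ y ∈ S, π y ∈ SX := by
    rintro _ ⟨x, rfl⟩
    rw [hyc]
    exact x.2
  have hSinj : ∀ y ∈ S, ∀ y' ∈ S, π y = π y' → y = y' := by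
    rintro _ ⟨x, rfl⟩ _ ⟨x', rfl⟩ h
    rw [hyc, hyc] at h
    rw [Subtype.ext h]
  have : Finite SX := hfin.to_subtype
  have hSfin : S.Finite := Set.finite_range yc
  have hScl : ∀ y ∈ S, IsClosed ({y} : Set Y) := fun y hy => NodeSections.isClosed_point π hS (hSnode y hy).1
  let M := (Scheme.Modules.pullback π).obj G
  have hMq : M.IsQuasicoherent := QCPull72.isQuasicoherent_pullback π G
  have hMc : Coh.IsCoh M := E4O.isCoh_pullback π G hGc
  let B : ∀ (y : Y) (_ : π y ∈ SX), (Fin r → Y.presheaf.stalk y) ≃ₗ[Y.presheaf.stalk y] M.presheaf.stalk y :=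
    fun y hy => LinearEquiv.ofBijective _ (NodeSections.bijective_coord π G hS hy (e (π y) hy))
  have hB : ∀ (y : Y) (hy : π y ∈ SX) (g : G.presheaf.stalk (π y)),
      NodeSections.κ π G y g = B y hy (fun i => π.stalkMap y (e (π y) hy g i)) := by
    intro y hy g
    have hg : g = ∑ i, e (π y) hy g i • (e (π y) hy).symm (Pi.single i 1) := by
      apply (e (π y) hy).injective
      rw [map_sum]
      simp only [map_smul, LinearEquiv.apply_symm_apply]
      exact (pi_eq_sum_univ' _)
    refine Eq.trans ?_ (Fintype.linearCombination_apply _ _ _).symm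
    conv_lhs => rw [hg, map_sum]
    exact Finset.sum_congr rfl fun i _ => NodeSections.κ_smul π G y _ _
  have hϖ : ∀ y : Y, π y ∈ SX → ∃ ϖ : Y.presheaf.stalk y, ϖ ≠ 0 ∧
      IsLocalRing.maximalIdeal (Y.presheaf.stalk y) = Ideal.span {ϖ} := fun y hy => by
    obtain ⟨hdom, hic⟩ := Curves2.isIntegrallyClosed_stalk_of_smooth (π ≫ X ↘ Spec (CommRingCat.of k)) y
    have hd : Ring.KrullDimLE 1 (Y.presheaf.stalk y) := Ring.krullDimLE_iff.mpr
      ((E4O.GeomNormalFinite.ringKrullDim_stalk_le_of_finite π y).trans ((FlatMor68.DedekindFlat.stalk_dim_le (π y)).trans hdim))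
    obtain ⟨p, hp⟩ : (IsLocalRing.maximalIdeal (Y.presheaf.stalk y)).IsPrincipal :=
      ((tfae_of_isNoetherianRing_of_isLocalRing_of_isDomain (Y.presheaf.stalk y)).out 3 4 rfl rfl).mp
        ⟨inferInstance, fun P hP0 hP => IsLocalRing.eq_maximalIdeal
          (Ring.krullDimLE_one_iff_of_noZeroDivisors.mp hd P hP0 hP)⟩
    refine ⟨p, fun h0 => ?_, hp⟩
    have hf : IsField (Y.presheaf.stalk y) := IsLocalRing.isField_iff_maximalIdeal_eq.2 (by
      rw [hp, h0]; simp)
    exact (hS.mem_iff (π y)).1 (TorFreeAss.mem_of_dense hS.dense (TorFreeAss.maxPt_of_isField hf)) hy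
  choose ϖ hϖ0 hϖ using hϖ
  let w : ∀ (y : Y) (_ : π y ∈ SX), Fin r → Y.presheaf.stalk y := fun y hy i =>
    if a (π y) ≤ (i : ℕ) then ϖ y hy else 1
  let D : ∀ (y : Y) (_ : π y ∈ SX), (Fin r → Y.presheaf.stalk y) →ₗ[Y.presheaf.stalk y] M.presheaf.stalk y :=
    fun y hy => (B y hy).toLinearMap ∘ₗ LinearMap.mulLeft (Y.presheaf.stalk y) (w y hy)
  have hDinj : ∀ (y : Y) (hy : π y ∈ SX), Function.Injective (D y hy) := fun y hy => by
    refine (B y hy).injective.comp fun c c' h => funext fun i => ?_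
    have := Curves2.isIntegrallyClosed_stalk_of_smooth (π ≫ X ↘ Spec (CommRingCat.of k)) y
    have := this.1
    refine mul_left_cancel₀ (?_ : w y hy i ≠ 0) (congrFun h i)
    by_cases hi : a (π y) ≤ (i : ℕ)
    · simp only [w, if_pos hi]; exact hϖ0 y hy
    · simp only [w, if_neg hi]; exact one_ne_zero
  have hDmem : ∀ (y : Y) (hy : π y ∈ SX) (c : Fin r → Y.presheaf.stalk y), B y hy c ∈ LinearMap.range (D y hy) ↔
      ∀ i : Fin r, a (π y) ≤ (i : ℕ) → c i ∈ IsLocalRing.maximalIdeal (Y.presheaf.stalk y) := fun y hy c => by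
    constructor
    · rintro ⟨c', hc'⟩ i hi
      have h1 : w y hy * c' = c := (B y hy).injective hc'
      rw [← h1, Pi.mul_apply]
      simp only [w, if_pos hi, hϖ y hy]
      exact Ideal.mul_mem_right _ _ (Ideal.mem_span_singleton_self _)
    · intro h
      have hex : ∀ i : Fin r, ∃ d, w y hy i * d = c i := fun i => by
        by_cases hi : a (π y) ≤ (i : ℕ)
        · obtain ⟨d, hd⟩ := Ideal.mem_span_singleton'.1 ((hϖ y hy) ▸ h i hi)
          exact ⟨d, by simp only [w, if_pos hi]; rw [mul_comm]; exact hd⟩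
        · exact ⟨c i, by simp only [w, if_neg hi, one_mul]⟩
      choose c' hc' using hex
      exact ⟨c', congrArg (B y hy) (funext hc')⟩
  obtain ⟨E, iE, hEc, hiE, hErange, hEbij⟩ := LatticeSheaf.exists_sub hMc hSfin hScl
    (fun y hy => LinearMap.range (D y (hSnode y hy))) (fun y hy z g hg => by
      refine ⟨1, ?_⟩
      obtain ⟨c, rfl⟩ := (B y (hSnode y hy)).surjective z
      rw [pow_one, ← map_smul, hDmem]
      exact fun i _ => by rw [Pi.smul_apply, smul_eq_mul]; exact Ideal.mul_mem_right _ _ hg)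
  have hElf : FlatMod.IsFinLocFreeOfRank r E := by
    refine LatticeNodes.isFinLocFreeOfRank_of_stalks hEc r fun y => ?_
    by_cases hy : y ∈ S
    · exact ⟨(LinearEquiv.ofInjective _ (hDinj y (hSnode y hy))).trans
        ((LinearEquiv.ofEq _ _ (hErange y hy).symm).trans
          (LinearEquiv.ofInjective (stalkLinear iE y) (injective_stalkMapM_of_mono iE y)).symm)⟩
    · obtain ⟨eM⟩ := NodalFactor.nonempty_pullbackStalkEquiv π G y (hG (π y))
      exact ⟨eM.trans (LinearEquiv.ofBijective (stalkLinear iE y) (hEbij y hy)).symm⟩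
  -- the map
  let qE : M ⟶ cokernel iE := cokernel.π iE
  let adj := Scheme.Modules.pullbackPushforwardAdjunction π
  have hzero : (j ≫ NodeModules.η π G) ≫ (Scheme.Modules.pushforward π).map qE = 0 := by
    refine Scheme.Modules.hom_ext _ _ fun W => ?_
    ext f
    show qE.app (π ⁻¹ᵁ W) ((NodeModules.η π G).app W (j.app W f)) = 0
    refine section_ext _ _ _ fun y hy => ?_
    suffices h : germM (cokernel iE) (π ⁻¹ᵁ W) y hy (qE.app (π ⁻¹ᵁ W) ((NodeModules.η π G).app W (j.app W f))) = 0 by
      obtain ⟨W', hle, hyW', h0⟩ := germM_eq_zero h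
      exact ⟨W', hle, hyW', h0.trans (res_zero _).symm⟩
    rw [← stalkMapM_germ]
    obtain ⟨d, hd⟩ : germM M (π ⁻¹ᵁ W) y hy ((NodeModules.η π G).app W (j.app W f)) ∈
        LinearMap.range (stalkLinear iE y) := by
      by_cases hyS : y ∈ S
      · rw [hErange y hyS]
        have h1 : germM M (π ⁻¹ᵁ W) y hy ((NodeModules.η π G).app W (j.app W f)) =
            NodeSections.κ π G y (stalkMapM j (π y) (germM F W (π y) hy f)) := by
          rw [stalkMapM_germ, NodeSections.κ_germ π G y hy, QCPull72.unitSec, res_self]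
        rw [h1, hB y (hSnode y hyS), hDmem]
        exact fun i hi => map_nonunit (π.stalkMap y).hom _
          ((hjmem _ (hSnode y hyS) _).1 ⟨_, rfl⟩ i hi)
      · exact (hEbij y hyS).2 _
    rw [← hd]
    show stalkMapM qE y (stalkMapM iE y d) = 0
    rw [← stalkMapM_comp, cokernel.condition]
    exact stalkMapM_zero y d
  let g0 : (Scheme.Modules.pullback π).obj F ⟶ M := (adj.homEquiv F M).symm (j ≫ NodeModules.η π G)
  have hg0 : g0 ≫ qE = 0 := by
    apply (adj.homEquiv F _).injective
    rw [adj.homEquiv_naturality_right, Equiv.apply_symm_apply]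
    refine hzero.trans ?_
    rw [adj.homEquiv_unit, Functor.map_zero, comp_zero]
  let β : F ⟶ (Scheme.Modules.pushforward π).obj E := adj.homEquiv F E (Abelian.monoLift iE g0 hg0)
  have hβ : β ≫ (Scheme.Modules.pushforward π).map iE = j ≫ NodeModules.η π G := by
    rw [← adj.homEquiv_naturality_right, Abelian.monoLift_comp, Equiv.apply_symm_apply]
  let piE := (Scheme.Modules.pushforward π).map iE
  have hpiE : Mono piE := inferInstance
  have hβs : ∀ (x : X) (f : F.presheaf.stalk x), stalkMapM piE x (stalkMapM β x f) =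
      stalkMapM (NodeModules.η π G) x (stalkMapM j x f) := fun x f => by
    rw [← stalkMapM_comp, hβ, stalkMapM_comp]
  have hfreeG : ∀ x : X, ¬ Curv2.IsNode k X x →
      Nonempty (G.presheaf.stalk x ≃ₗ[X.presheaf.stalk x] (Fin r → X.presheaf.stalk x)) := fun x _ => hG x
  have htypeG : ∀ x : X, Curv2.IsNode k X x → (fun _ : X => r) x ≤ r ∧
      Nonempty (G.presheaf.stalk x ≃ₗ[X.presheaf.stalk x] ((Fin r → X.presheaf.stalk x) ×
        (Fin (r - r) → IsLocalRing.maximalIdeal (X.presheaf.stalk x)))) := fun x _ => by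
    have : IsEmpty (Fin (r - r)) := by rw [Nat.sub_self]; infer_instance
    exact ⟨le_rfl, ⟨(hG x).some.trans (LinearEquiv.prodUnique (R := X.presheaf.stalk x)
      (M := Fin r → X.presheaf.stalk x) (M₂ := Fin (r - r) → IsLocalRing.maximalIdeal (X.presheaf.stalk x))).symm⟩⟩
  have hηmono := NodeLengths.mono_unit π hS r (fun _ => r) hfreeG htypeG
  -- the image of `π_* E`
  have hmem : ∀ y ∈ S, ∀ z : ((Scheme.Modules.pushforward π).obj M).presheaf.stalk (π y),
      z ∈ LinearMap.range (stalkLinear piE (π y)) ↔ NodeSections.sp π M y z ∈ LinearMap.range (stalkLinear iE y) := by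
    intro y hyS z
    constructor
    · rintro ⟨d, rfl⟩
      exact ⟨NodeSections.sp π E y d, (sp_stalkMapM π iE y d).symm⟩
    · intro hz
      obtain ⟨W, hW, m, rfl⟩ := germM_exist z
      rw [NodeSections.sp_germ] at hz
      have hc : IsClosed (SX \ {π y}) := by
        rw [← Set.biUnion_of_singleton (SX \ {π y})]
        exact hfin.sdiff.isClosed_biUnion fun z hz => hz.1.1
      let W' : X.Opens := W ⊓ ⟨(SX \ {π y})ᶜ, hc.isOpen_compl⟩
      have hyW' : π y ∈ W' := ⟨hW, fun h => h.2 rfl⟩
      have hle : π ⁻¹ᵁ W' ≤ π ⁻¹ᵁ W := π.preimage_mono inf_le_left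
      have h0 : qE.app (π ⁻¹ᵁ W') (res M hle m) = 0 := by
        refine section_ext _ _ _ fun y' hy' => ?_
        suffices h : germM (cokernel iE) (π ⁻¹ᵁ W') y' hy' (qE.app (π ⁻¹ᵁ W') (res M hle m)) = 0 by
          obtain ⟨W₀, hle₀, hyW₀, h0⟩ := germM_eq_zero h
          exact ⟨W₀, hle₀, hyW₀, h0.trans (res_zero _).symm⟩
        rw [← stalkMapM_germ]
        obtain ⟨d, hd⟩ : germM M (π ⁻¹ᵁ W') y' hy' (res M hle m) ∈ LinearMap.range (stalkLinear iE y') := by
          by_cases hyS' : y' ∈ S
          · have heq : π y' = π y := by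
              by_contra hne
              exact hy'.2 ⟨hSnode y' hyS', hne⟩
            obtain rfl := hSinj y' hyS' y hyS heq
            rw [germM_res]
            exact hz
          · exact (hEbij y' hyS').2 _
        rw [← hd]
        show stalkMapM qE y' (stalkMapM iE y' d) = 0
        rw [← stalkMapM_comp, cokernel.condition]
        exact stalkMapM_zero y' d
      obtain ⟨n, hn⟩ := exists_app_eq_of_exact (ShortComplex.mk iE qE (cokernel.condition iE))
        (ShortComplex.exact_of_g_is_cokernel _ (cokernelIsCokernel iE)) _ _ h0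
      refine ⟨germM ((Scheme.Modules.pushforward π).obj E) W' (π y) hyW' n, ?_⟩
      show stalkMapM piE (π y) _ = _
      rw [stalkMapM_germ, ← germM_res (M := (Scheme.Modules.pushforward π).obj M) (inf_le_left : W' ≤ W) hyW' m]
      exact congrArg _ hn
  have hspη : ∀ (y : Y) (g : G.presheaf.stalk (π y)),
      NodeSections.sp π M y (stalkMapM (NodeModules.η π G) (π y) g) = NodeSections.κ π G y g := fun y g => rfl
  have hlen : ∀ y ∈ S, Module.length (X.presheaf.stalk (π y))
      (((Scheme.Modules.pushforward π).obj M).presheaf.stalk (π y) ⧸ LinearMap.range (stalkLinear piE (π y))) =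
      ((r - a (π y) : ℕ) : ℕ∞) := by
    intro y hyS
    have hy := hSnode y hyS
    let R := LinearMap.range (stalkLinear piE (π y))
    let T : G.presheaf.stalk (π y) →ₗ[X.presheaf.stalk (π y)]
        (((Scheme.Modules.pushforward π).obj M).presheaf.stalk (π y) ⧸ R) :=
      R.mkQ ∘ₗ stalkLinear (NodeModules.η π G) (π y)
    have hT : Function.Surjective T := fun q => by
      obtain ⟨z, rfl⟩ := R.mkQ_surjective q
      obtain ⟨c, hc⟩ := (B y hy).surjective (NodeSections.sp π M y z)
      choose α hα using fun i => NodeSections.exists_residue π hS hy.1 (c i)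
      refine ⟨(e (π y) hy).symm α, ?_⟩
      show R.mkQ _ = R.mkQ z
      rw [Submodule.mkQ_apply, Submodule.mkQ_apply, Submodule.Quotient.eq, hmem y hyS, hErange y hyS, map_sub,
        ← hc]
      show NodeSections.sp π M y (stalkMapM (NodeModules.η π G) (π y) _) - _ ∈ _
      rw [hspη, hB y hy, ← map_sub, hDmem]
      intro i _
      rw [Pi.sub_apply, LinearEquiv.apply_symm_apply, ← neg_sub, neg_mem_iff]
      exact hα i
    have hker : LinearMap.ker T = LinearMap.range (stalkLinear j (π y)) := by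
      ext g
      rw [LinearMap.mem_ker, LinearMap.comp_apply, Submodule.mkQ_apply, Submodule.Quotient.mk_eq_zero, hmem y hyS,
        hErange y hyS, hjmem _ hy]
      show NodeSections.sp π M y (stalkMapM (NodeModules.η π G) (π y) g) ∈ _ ↔ _
      rw [hspη, hB y hy, hDmem]
      refine forall_congr' fun i => imp_congr_right fun _ => ?_
      exact ⟨fun h hu => h (hu.map (π.stalkMap y).hom), fun h => map_nonunit (π.stalkMap y).hom _ h⟩
    rw [← (T.quotKerEquivOfSurjective hT).length_eq, hker]
    have hr : (LinearMap.range (stalkLinear j (π y))).map (e (π y) hy).toLinearMap = LinearMap.range (ι (π y) hy) := by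
      rw [← LinearMap.range_comp]
      exact congrArg LinearMap.range (LinearMap.ext fun f => he (π y) hy f)
    rw [(Submodule.Quotient.equiv _ _ (e (π y) hy) hr).length_eq, hιlen _ hy]
  refine ⟨E, hElf, hEc, β, ?_, fun x hx => ?_, fun x hx => ?_, fun x hx W hxW m hm => ?_⟩
  · have : Mono (j ≫ NodeModules.η π G) := mono_comp _ _
    exact mono_of_mono_fac hβ
  · intro z
    have h1 : Function.Bijective (stalkMapM (NodeModules.η π G) x) :=
      NodeLengths.bijective_unit π hS ((hS.mem_iff x).2 hx)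
    obtain ⟨g, hg⟩ := h1.2 (stalkMapM piE x z)
    obtain ⟨f, rfl⟩ := (hjbij x hx).2 g
    exact ⟨f, injective_stalkMapM_of_mono piE x ((hβs x f).trans hg)⟩
  · obtain ⟨y, hyS, rfl⟩ : ∃ y ∈ S, π y = x := ⟨yc ⟨x, hx⟩, ⟨_, rfl⟩, hyc _⟩
    have hη := NodeLengths.length_unit π hS r (fun _ => r) hfreeG htypeG hx
    rw [NodeLengths.length_cokernel] at hη
    have hj' : Module.length (X.presheaf.stalk (π y)) (G.presheaf.stalk (π y) ⧸ LinearMap.range (stalkLinear j (π y))) =
        ((r - a (π y) : ℕ) : ℕ∞) := by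
      have hr : (LinearMap.range (stalkLinear j (π y))).map (e (π y) hx).toLinearMap = LinearMap.range (ι (π y) hx) := by
        rw [← LinearMap.range_comp]
        exact congrArg LinearMap.range (LinearMap.ext fun f => he (π y) hx f)
      rw [(Submodule.Quotient.equiv _ _ (e (π y) hx) hr).length_eq, hιlen _ hx]
    have h1 := NodeTensor.length_coker_comp (stalkLinear j (π y)) (stalkLinear (NodeModules.η π G) (π y))
      (injective_stalkMapM_of_mono (NodeModules.η π G) (π y))
    have h2 := NodeTensor.length_coker_comp (stalkLinear β (π y)) (stalkLinear piE (π y))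
      (injective_stalkMapM_of_mono piE (π y))
    have hcomp : stalkLinear piE (π y) ∘ₗ stalkLinear β (π y) =
        stalkLinear (NodeModules.η π G) (π y) ∘ₗ stalkLinear j (π y) := LinearMap.ext (hβs (π y))
    rw [hcomp, h1, hj', hη, hlen y hyS] at h2
    have h3 : ((2 * r - r : ℕ) : ℕ∞) = (r : ℕ∞) := by
      norm_cast
      omega
    rw [h3, add_comm ((r - a (π y) : ℕ) : ℕ∞)] at h2
    exact (WithTop.add_right_cancel (ENat.natCast_ne_top _) h2).symm
  · have hm' : ∀ (y : Y) (hy : y ∈ π ⁻¹ᵁ W), π y = x → germM M (π ⁻¹ᵁ W) y hy (iE.app (π ⁻¹ᵁ W) m) ∈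
        IsLocalRing.maximalIdeal (Y.presheaf.stalk y) • (⊤ : Submodule (Y.presheaf.stalk y) (M.presheaf.stalk y)) := by
      intro y hy hyx
      rw [← stalkMapM_germ]
      have h := Submodule.mem_map_of_mem (f := stalkLinear iE y) (hm y hy hyx)
      rw [Submodule.map_smul''] at h
      exact Submodule.smul_mono le_rfl le_top h
    obtain ⟨γ, hγ, hγm⟩ := NodeSections.exists_mem_smul_top π G hS hx (e x hx) hxW (iE.app (π ⁻¹ᵁ W) m) hm'
    obtain ⟨f, hf⟩ := (hjmem x hx γ).2 fun i _ => by
      have h := NodeSections.coord_mem (e x hx).symm _ hγ i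
      rwa [LinearEquiv.symm_symm] at h
    refine ⟨f, injective_stalkMapM_of_mono piE x ?_⟩
    show stalkMapM piE x (stalkMapM β x f) = stalkMapM piE x _
    rw [hβs, show stalkMapM j x f = γ from hf, ← hγm, stalkMapM_germ]
    rfl

end Groth.Agent.Ega11.NodePresentation
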