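import Groth.Agent.DCK91.StalkTensorNat
import Groth.Agent.Crv77.IdealSeq
import Groth.Agent.Crv77.Degree
import Groth.Agent.Amp73.Criteria
import Groth.Agent.Curves2.IdealFrame
import Groth.Agent.QC70.UnitSub
import Groth.Prelude.Def_ParBun2
import Mathlib

/-! Restriction of a module to a closed subscheme: surjectivity and the kernel on stalks. -/

set_option autoImplicit false
set_option backward.isDefEq.respectTransparency.types false
universe u

open CategoryTheory CategoryTheory.Limits AlgebraicGeometry MonoidalCategory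
open Groth.Agent.QC70 Groth.Agent.DCK91

namespace Groth.Agent.Ega11.NodeRes

variable {X : Scheme.{u}} (I : X.IdealSheafData) (E : X.Modules)

/-- restriction to the closed subscheme -/
noncomputable abbrev ρ : E ⟶ ParSh.resD I E :=
  (SecTwist.unitorR E).inv ≫ KoszTw.tensorMap (𝟙 E) (ClSub.toSubscheme I)

theorem surjective_ρ (y : X) : Function.Surjective (stalkMapM (ρ I E) y) := by
  have := Crv77.epi_toSubscheme I
  have h1 : Function.Surjective ((DCK91.SP y).map ((DCoh.tensorBi.obj E).map (ClSub.toSubscheme I))) := by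
    intro w
    obtain ⟨v, rfl⟩ := ((ConcreteCategory.isIso_iff_bijective (tensorStalk y E (ClSub.quotMod I))).1 inferInstance).2 w
    have hg : Function.Surjective ((DCK91.SP y).map (ClSub.toSubscheme I)).hom := fun q => by
      obtain ⟨e, he⟩ := surjective_stalkMapM_of_epi (ClSub.toSubscheme I) y q
      exact ⟨e, (SP_map_apply y _ e).trans he⟩
    obtain ⟨u, rfl⟩ := LinearMap.lTensor_surjective ((DCK91.SP y).obj E) hg v
    exact ⟨tensorStalk y E _ u, (congr($(tensorStalk_right y E (ClSub.toSubscheme I)) u)).symm⟩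
  intro w
  obtain ⟨v, hv⟩ := h1 w
  rw [SP_map_apply] at hv
  obtain ⟨e, he⟩ := surjective_stalkMapM_of_epi (SecTwist.unitorR E).inv y v
  refine ⟨e, ?_⟩
  rw [stalkMapM_comp, he]
  refine Eq.trans ?_ hv
  unfold KoszTw.tensorMap
  rw [CategoryTheory.Functor.map_id]
  exact congrArg (fun f => stalkMapM f y v) (Category.id_comp _)

theorem epi_ρ : Epi (ρ I E) := epi_of_surjective_stalkMapM _ (surjective_ρ I E)

theorem isQCoh_resD (hE : Coh.IsQCoh E) : Coh.IsQCoh (ParSh.resD I E) :=
  Amp73.isQCoh_tensorMod hE (Crv77.isCoh_quotMod I).1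

theorem mem_smul_of_ρ_eq_zero {y : X} (hy : y ∈ (I.support : Set X)) (e : E.presheaf.stalk y)
    (he : stalkMapM (ρ I E) y e = 0) :
    e ∈ (IsLocalRing.maximalIdeal (X.presheaf.stalk y)) • (⊤ : Submodule (X.presheaf.stalk y) (E.presheaf.stalk y)) := by
  have : Mono (ClSub.idealModι I) := inferInstanceAs (Mono (kernel.ι _))
  let T : (DCK91.SP y).obj E ⟶ (DCK91.SP y).obj ((DCoh.tensorBi.obj E).obj (Coh.structureModule X)) :=
    (DCK91.SP y).map (SecTwist.unitorR E).inv
  let hinv : (DCK91.SP y).obj ((DCoh.tensorBi.obj E).obj (Coh.structureModule X)) ⟶ (DCK91.SP y).obj E :=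
    (DCK91.SP y).map (SecTwist.unitorR E).hom
  let g := ((DCK91.SP y).map (ClSub.toSubscheme I)).hom
  let i := ((DCK91.SP y).map (ClSub.idealModι I)).hom
  have : Mono (Crv77.idealSeq I).f := inferInstanceAs (Mono (kernel.ι _))
  have hex : Function.Exact i g := fun z => by
    constructor
    · intro hz
      obtain ⟨d, hd⟩ := stalkMapM_exact (Crv77.idealSeq I) (Crv77.idealSeq_shortExact I).exact y z
        ((SP_map_apply y _ z).symm.trans hz)
      exact ⟨d, (SP_map_apply y _ d).trans hd⟩
    · rintro ⟨d, rfl⟩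
      show g (i d) = 0
      rw [show g (i d) = stalkMapM (ClSub.toSubscheme I) y (stalkMapM (ClSub.idealModι I) y d) by
        simp only [g, i, SP_map_apply], ← stalkMapM_comp]
      rw [show ClSub.idealModι I ≫ ClSub.toSubscheme I = 0 from kernel.condition _, stalkMapM_zero]
      rfl
  have hg : Function.Surjective g := fun q => by
    have := Crv77.epi_toSubscheme I
    obtain ⟨d, hd⟩ := surjective_stalkMapM_of_epi (ClSub.toSubscheme I) y q
    exact ⟨d, (SP_map_apply y _ d).trans hd⟩
  obtain ⟨v, hv⟩ := ((ConcreteCategory.isIso_iff_bijective (tensorStalk y E (Coh.structureModule X))).1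
    inferInstance).2 (T e)
  have hv0 : g.lTensor ((DCK91.SP y).obj E) v = 0 := by
    refine ((ConcreteCategory.isIso_iff_bijective (tensorStalk y E (ClSub.quotMod I))).1 inferInstance).1 ?_
    refine (congr($(tensorStalk_right y E (ClSub.toSubscheme I)) v)).trans ?_
    show (DCK91.SP y).map ((DCoh.tensorBi.obj E).map (ClSub.toSubscheme I)) (tensorStalk y E _ v) = _
    rw [hv, map_zero, SP_map_apply]
    show stalkMapM _ y ((DCK91.SP y).map (SecTwist.unitorR E).inv e) = 0
    rw [SP_map_apply, ← stalkMapM_comp]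
    refine Eq.trans ?_ he
    congr 2
    unfold KoszTw.tensorMap
    rw [CategoryTheory.Functor.map_id]
    exact (Category.id_comp _).symm
  obtain ⟨u, hu⟩ := (lTensor_exact ((DCK91.SP y).obj E) hex hg v).1 hv0
  have hTe : hinv (T e) = e := by
    simp only [T, hinv, SP_map_apply]
    rw [← stalkMapM_comp, Iso.inv_hom_id]
    exact stalkMapM_id y e
  rw [← hTe, ← hv, ← hu]
  clear hu hv0 hv hTe v he e
  induction u using TensorProduct.induction_on with
  | zero => simp only [map_zero]; exact zero_mem _
  | add a b ha hb => simp only [map_add]; exact add_mem ha hb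
  | tmul a d =>
    obtain ⟨c, hc⟩ := (unitStalkEquiv y).surjective (i d)
    have hcm : c ∈ IsLocalRing.maximalIdeal (X.presheaf.stalk y) := by
      obtain ⟨W, hW, s, rfl⟩ := germM_exist (M := ClSub.idealMod I) (x := y) d
      obtain ⟨_, ⟨V, hV, rfl⟩, hyV, hVW⟩ := X.isBasis_affineOpens.exists_subset_of_mem_open hW W.2
      intro hu
      have hmem := Curves2.idealSect_mem_ideal I ⟨V, hV⟩ (res _ (show V ≤ W from hVW) s)
      have := (Scheme.IdealSheafData.mem_support_iff_of_mem (U := ⟨V, hV⟩) hyV).1 hy
      rw [Scheme.mem_zeroLocus_iff] at this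
      refine this _ hmem ((Scheme.mem_basicOpen _ _ _ hyV).2 ?_)
      have hc' : c = X.presheaf.germ V y hyV (OmegaSh.idealSect I V (res _ (show V ≤ W from hVW) s)) := by
        refine (unitStalkEquiv y).injective ?_
        rw [unitStalkEquiv_germ, hc]
        show ((DCK91.SP y).map (ClSub.idealModι I)) (germM (ClSub.idealMod I) W y hW s) = _
        rw [SP_map_apply, ← germM_res (show V ≤ W from hVW) hyV s, stalkMapM_germ]
        rfl
      rwa [← hc']
    let u0 : (DCK91.SP y).obj (Coh.structureModule X) := unitStalkEquiv y 1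
    have hcd : i d = c • u0 :=
      hc.symm.trans ((congrArg (unitStalkEquiv y) (mul_one c)).symm.trans (map_smul (unitStalkEquiv y) c 1))
    rw [LinearMap.lTensor_tmul, hcd, TensorProduct.tmul_smul, map_smul, map_smul]
    exact Submodule.smul_mem_smul hcm Submodule.mem_top

end Groth.Agent.Ega11.NodeRes
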