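import Groth.Agent.Ega11.NodePoints
import Groth.Agent.Var76.CotRank
import Groth.Agent.H98Corr.FibreFun
import Mathlib

/-! Sections of a pulled-back module near a node, and their values at the points over it. -/

set_option autoImplicit false
set_option backward.isDefEq.respectTransparency.types false
universe u

open CategoryTheory CategoryTheory.Limits AlgebraicGeometry TopologicalSpace
open Groth.Agent.QC70

namespace Groth.Agent.Ega11.NodeSections

variable {X Y : Scheme.{u}} (π : Y ⟶ X)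

/-- the stalk of a direct image maps to the stalk upstairs -/
noncomputable def sp (M : Y.Modules) (y : Y) :
    ((Scheme.Modules.pushforward π).obj M).presheaf.stalk (π y) →+ M.presheaf.stalk y :=
  (TopCat.Presheaf.stalkPushforward AddCommGrpCat.{u} π.base M.presheaf y).hom

theorem sp_germ (M : Y.Modules) (y : Y) {W : X.Opens} (hy : π y ∈ W) (m : Γ(M, π ⁻¹ᵁ W)) :
    sp π M y (germM ((Scheme.Modules.pushforward π).obj M) W (π y) hy m) = germM M (π ⁻¹ᵁ W) y hy m :=
  congr($(TopCat.Presheaf.stalkPushforward_germ AddCommGrpCat.{u} π.base M.presheaf W y hy) m)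

theorem sp_smul (M : Y.Modules) (y : Y) (r : X.presheaf.stalk (π y))
    (e : ((Scheme.Modules.pushforward π).obj M).presheaf.stalk (π y)) :
    sp π M y (r • e) = π.stalkMap y r • sp π M y e := by
  obtain ⟨W, hzW, s, rfl⟩ := germM_exist e
  obtain ⟨W', hzW', a, rfl⟩ := TopCat.Presheaf.exists_germ_eq X.presheaf r
  have h : π y ∈ W ⊓ W' := ⟨hzW, hzW'⟩
  rw [← germM_res (inf_le_left : W ⊓ W' ≤ W) h s, ← germ_resO (inf_le_right : W ⊓ W' ≤ W') h a,
    ← germM_smul, sp_germ, sp_germ, Scheme.Hom.germ_stalkMap_apply, QCqs72.pushforward_smul]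
  exact germM_smul (M := M) h _ _

variable (G : X.Modules)

/-- the value upstairs of an element of a stalk -/
noncomputable def κ (y : Y) : G.presheaf.stalk (π y) →+ ((Scheme.Modules.pullback π).obj G).presheaf.stalk y :=
  (sp π _ y).comp (stalkLinear (NodeModules.η π G) (π y)).toAddMonoidHom

theorem κ_germ (y : Y) {V : X.Opens} (hy : π y ∈ V) (h : Γ(G, V)) :
    κ π G y (germM G V (π y) hy h) =
      germM _ (π ⁻¹ᵁ V) y hy (QCPull72.unitSec π G (le_refl (π ⁻¹ᵁ V)) h) := by
  show sp π _ y (stalkMapM (NodeModules.η π G) (π y) (germM G V (π y) hy h)) = _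
  rw [stalkMapM_germ, QCPull72.unitSec, res_self]
  exact sp_germ π _ y hy _

theorem κ_smul (y : Y) (r : X.presheaf.stalk (π y)) (g : G.presheaf.stalk (π y)) :
    κ π G y (r • g) = π.stalkMap y r • κ π G y g := by
  show sp π _ y (stalkLinear (NodeModules.η π G) (π y) (r • g)) = _
  rw [map_smul]
  exact sp_smul π _ y r _

/-- coordinates of an element of `I • ⊤` lie in `I` -/
theorem coord_mem {O M : Type u} [CommRing O] [AddCommGroup M] [Module O M] {r : ℕ}
    (e : (Fin r → O) ≃ₗ[O] M) (I : Ideal O) {v : M} (hv : v ∈ I • (⊤ : Submodule O M)) (i : Fin r) :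
    e.symm v i ∈ I := by
  refine Submodule.smul_induction_on hv (fun c hc n _ => ?_) (fun a b ha hb => ?_)
  · rw [map_smul, Pi.smul_apply, smul_eq_mul]
    exact Ideal.mul_mem_right _ _ hc
  · rw [map_add, Pi.add_apply]; exact add_mem ha hb

variable {k : Type u} [Field k] [IsAlgClosed k] [X.Over (Spec (CommRingCat.of k))]
  [IsProper (X ↘ Spec (CommRingCat.of k))] [IsFinite π] [Smooth (π ≫ (X ↘ Spec (CommRingCat.of k)))]
  {U : X.Opens} (hS : NodeModules.Setting k X Y π U)

include hS in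
theorem isClosed_point {y : Y} (hy : IsClosed ({π y} : Set X)) : IsClosed ({y} : Set Y) := by
  have : JacobsonSpace Y := LocallyOfFiniteType.jacobsonSpace (π ≫ X ↘ Spec (CommRingCat.of k))
  exact H98Corr.isClosed_singleton_of_finite (hy.preimage π.continuous) (π.finite_preimage_singleton _) rfl

include hS in
theorem exists_residue {y : Y} (hy : IsClosed ({π y} : Set X)) (c : Y.presheaf.stalk y) :
    ∃ α : X.presheaf.stalk (π y), c - π.stalkMap y α ∈ IsLocalRing.maximalIdeal (Y.presheaf.stalk y) := by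
  obtain ⟨d, hd⟩ := Var76.CotRank.residueFieldMap_surjective (π ≫ X ↘ Spec (CommRingCat.of k))
    (X ↘ Spec (CommRingCat.of k)) π rfl y (isClosed_point π hS hy) hy
    (IsLocalRing.residue (Y.presheaf.stalk y) c)
  obtain ⟨α, rfl⟩ := IsLocalRing.residue_surjective d
  refine ⟨α, (IsLocalRing.residue_eq_zero_iff _).1 ?_⟩
  rw [map_sub, sub_eq_zero, ← hd]
  exact IsLocalRing.ResidueField.map_residue (π.stalkMap y).hom α

include hS in
theorem exists_chart [G.IsQuasicoherent] {x : X} (hx : Curv2.IsNode k X x) {r : ℕ}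
    (b : Fin r → G.presheaf.stalk x) (hb : Submodule.span (X.presheaf.stalk x) (Set.range b) = ⊤)
    (W : X.Opens) (hxW : x ∈ W) :
    ∃ V : X.Opens, V ≤ W ∧ ∃ (_ : IsAffineOpen V) (hxV : x ∈ V) (g : Fin r → Γ(G, V)),
      (∀ i, germM G V x hxV (g i) = b i) ∧ (∀ z ∈ V, z ≠ x → z ∈ U) ∧
      ∀ m : Γ((Scheme.Modules.pullback π).obj G, π ⁻¹ᵁ V), ∃ u : Γ(X, V), x ∈ X.basicOpen u ∧
        ∃ s : Fin r → Γ(Y, π ⁻¹ᵁ V), π.app V u • m =
          ∑ i, s i • QCPull72.unitSec π G (le_refl (π ⁻¹ᵁ V)) (g i) := by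
  classical
  have : IsLocallyNoetherian X := LocallyOfFiniteType.isLocallyNoetherian (X ↘ Spec (CommRingCat.of k))
  have : CompactSpace X := QuasiCompact.compactSpace_of_compactSpace (X ↘ Spec (CommRingCat.of k))
  have : AlgebraicGeometry.IsNoetherian X := {}
  choose Wi hxi gi hgi using fun i => germM_exist (b i)
  have hN : ((U : Set X)ᶜ \ {x}).Finite :=
    (NodeChart.finite_of_forall_closed U.2.isClosed_compl fun z hz =>
      (not_not.1 fun hn => hz ((hS.mem_iff z).2 hn) : Curv2.IsNode k X z).1).sdiff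
  have hc : IsClosed ((U : Set X)ᶜ \ {x}) := by
    rw [← Set.biUnion_of_singleton ((U : Set X)ᶜ \ {x})]
    exact hN.isClosed_biUnion fun z hz =>
      (not_not.1 fun hn => hz.1 ((hS.mem_iff z).2 hn) : Curv2.IsNode k X z).1
  obtain ⟨_, ⟨V, hV, rfl⟩, hxV, hVsub⟩ := X.isBasis_affineOpens.exists_subset_of_mem_open
    (show x ∈ ((W : Set X) ∩ (⋂ i, (Wi i : Set X))) ∩ ((U : Set X)ᶜ \ {x})ᶜ from
      ⟨⟨hxW, Set.mem_iInter.2 hxi⟩, fun h => h.2 rfl⟩)
    ((W.2.inter (isOpen_iInter_of_finite fun i => (Wi i).2)).inter hc.isOpen_compl)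
  have hVW : V ≤ W := fun z hz => (hVsub hz).1.1
  have hVi : ∀ i, V ≤ Wi i := fun i z hz => Set.mem_iInter.1 (hVsub hz).1.2 i
  let g : Fin r → Γ(G, V) := fun i => res G (hVi i) (gi i)
  have hg : ∀ i, germM G V x hxV (g i) = b i := fun i => (germM_res _ _ _).trans (hgi i)
  refine ⟨V, hVW, hV, hxV, g, hg, fun z hz hne => by_contra fun hzU => (hVsub hz).2 ⟨hzU, hne⟩, fun m => ?_⟩
  let := Div89.stalkAlg V x hxV
  have := Div89.primeAt_isPrime ⟨V, hV⟩ x hxV
  have : IsLocalization.AtPrime (X.presheaf.stalk x) (Div89.primeAt ⟨V, hV⟩ x hxV) :=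
    Div89.isLocalization_stalk ⟨V, hV⟩ x hxV
  have hmem := (QCPull72.span_unitSec_eq_top π G hV (hV.preimage π) (le_refl (π ⁻¹ᵁ V))).ge
    (Submodule.mem_top : m ∈ ⊤)
  induction hmem using Submodule.span_induction with
  | mem w hw =>
    obtain ⟨h, rfl⟩ := hw
    obtain ⟨α, hα⟩ := (Submodule.mem_span_range_iff_exists_fun _).1
      (hb.ge (Submodule.mem_top : germM G V x hxV h ∈ ⊤))
    obtain ⟨t, ht⟩ := IsLocalization.exist_integer_multiples_of_finite (Div89.primeAt ⟨V, hV⟩ x hxV).primeCompl α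
    choose a ha using ht
    have h0 : germM G V x hxV ((t : Γ(X, V)) • h - ∑ i, a i • g i) = 0 := by
      refine (map_sub (G.presheaf.germ V x hxV).hom _ _).trans (sub_eq_zero.2 ?_)
      refine (germM_smul hxV _ h).trans (Eq.trans ?_ (map_sum (G.presheaf.germ V x hxV).hom _ _).symm)
      rw [← hα, Finset.smul_sum]
      refine Finset.sum_congr rfl fun i _ => Eq.trans ?_ (germM_smul hxV (a i) (g i)).symm
      rw [hg, smul_smul]
      refine congrArg (· • b i) ?_
      have h1 : algebraMap Γ(X, V) (X.presheaf.stalk x) (a i) = (t : Γ(X, V)) • α i := ha i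
      rw [Algebra.smul_def] at h1
      exact h1.symm
    obtain ⟨f, hxf, hf⟩ := stalk_exists_smul_eq_zero (isLocAt_of_isQuasicoherent G hV) hV hxV _ h0
    refine ⟨f * t, ?_, fun i => π.app V (f * a i), ?_⟩
    · rw [Scheme.basicOpen_mul]
      exact ⟨hxf, (Div89.mem_basicOpen_iff_notMem ⟨V, hV⟩ x hxV _).2 t.2⟩
    · have happ : ∀ (c : Γ(X, V)) (z : Γ(G, V)), π.app V c • QCPull72.unitSec π G (le_refl (π ⁻¹ᵁ V)) z =
          QCPull72.unitSec π G (le_refl (π ⁻¹ᵁ V)) (c • z) := fun c z => by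
        rw [LimTop61.unitSec_smul, Scheme.Hom.appLE_eq_app]
      simp only [happ]
      rw [smul_sub, sub_eq_zero, smul_smul, Finset.smul_sum] at hf
      rw [hf]
      simp only [smul_smul]
      exact map_sum (AddMonoidHom.mk' (fun z => QCPull72.unitSec π G (le_refl (π ⁻¹ᵁ V)) z)
        (LimTop61.unitSec_add π G _)) _ _
  | zero => exact ⟨1, by rw [X.basicOpen_one]; exact hxV, 0, by simp⟩
  | add v w _ _ hv hw =>
    obtain ⟨u₁, hu₁, s₁, h₁⟩ := hv
    obtain ⟨u₂, hu₂, s₂, h₂⟩ := hw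
    refine ⟨u₁ * u₂, by rw [Scheme.basicOpen_mul]; exact ⟨hu₁, hu₂⟩,
      fun i => π.app V u₂ * s₁ i + π.app V u₁ * s₂ i, ?_⟩
    simp only [map_mul, smul_add, add_smul, ← smul_smul, Finset.sum_add_distrib, ← Finset.smul_sum, ← h₁, ← h₂]
    rw [smul_comm]
  | smul c v _ hv =>
    obtain ⟨u, hu, s, h⟩ := hv
    refine ⟨u, hu, fun i => c * s i, ?_⟩
    rw [smul_comm, h, Finset.smul_sum]
    simp only [smul_smul]

include hS in
theorem span_κ [G.IsQuasicoherent] {y : Y} (hy : Curv2.IsNode k X (π y)) {r : ℕ}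
    (b : Fin r → G.presheaf.stalk (π y)) (hb : Submodule.span (X.presheaf.stalk (π y)) (Set.range b) = ⊤) :
    Submodule.span (Y.presheaf.stalk y) (Set.range fun i => κ π G y (b i)) = ⊤ := by
  refine eq_top_iff.2 fun w _ => ?_
  obtain ⟨V, -, hV, hxV, g, hg, -, hdec⟩ := exists_chart π G hS hy b hb ⊤ trivial
  have := QCPull72.isQuasicoherent_pullback π G
  obtain ⟨f, m, hyf, hm⟩ :=
    stalk_exists_smul (isLocAt_of_isQuasicoherent ((Scheme.Modules.pullback π).obj G) (hV.preimage π))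
      (hV.preimage π) (show y ∈ π ⁻¹ᵁ V from hxV) w
  obtain ⟨u, hu, s, hs⟩ := hdec m
  have hyu : y ∈ Y.basicOpen (π.app V u) := by
    rw [← Scheme.preimage_basicOpen]; exact hu
  have hu' : IsUnit (Y.presheaf.germ (π ⁻¹ᵁ V) y hxV (π.app V u) * Y.presheaf.germ (π ⁻¹ᵁ V) y hxV f) :=
    (isUnit_germ hyu).mul (isUnit_germ hyf)
  have h1 : (Y.presheaf.germ (π ⁻¹ᵁ V) y hxV (π.app V u) * Y.presheaf.germ (π ⁻¹ᵁ V) y hxV f) • w ∈
      Submodule.span (Y.presheaf.stalk y) (Set.range fun i => κ π G y (b i)) := by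
    rw [mul_smul, hm, ← germM_smul, hs]
    rw [show germM ((Scheme.Modules.pullback π).obj G) (π ⁻¹ᵁ V) y hxV
        (∑ i, s i • QCPull72.unitSec π G (le_refl (π ⁻¹ᵁ V)) (g i)) = _ from
      map_sum (((Scheme.Modules.pullback π).obj G).presheaf.germ (π ⁻¹ᵁ V) y hxV).hom _ _]
    refine Submodule.sum_mem _ fun i _ => ?_
    show germM _ (π ⁻¹ᵁ V) y hxV (s i • _) ∈ _
    rw [germM_smul, ← κ_germ π G y hxV (g i), hg]
    exact Submodule.smul_mem _ _ (Submodule.subset_span ⟨i, rfl⟩)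
  obtain ⟨v, hv⟩ := hu'
  rw [← hv] at h1
  have := Submodule.smul_mem _ (↑v⁻¹ : Y.presheaf.stalk y) h1
  rwa [smul_smul, Units.inv_mul, one_smul] at this

variable {r : ℕ}

include hS in
theorem bijective_coord [G.IsQuasicoherent] {y : Y} (hy : Curv2.IsNode k X (π y))
    (e : G.presheaf.stalk (π y) ≃ₗ[X.presheaf.stalk (π y)] (Fin r → X.presheaf.stalk (π y))) :
    Function.Bijective (Fintype.linearCombination (Y.presheaf.stalk y)
      fun i => κ π G y (e.symm (Pi.single i 1))) := by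
  classical
  have hb : Submodule.span (X.presheaf.stalk (π y)) (Set.range fun i => e.symm (Pi.single i 1)) = ⊤ := by
    rw [← (Module.Basis.ofEquivFun e).span_eq]
    congr 1
    exact congrArg Set.range (funext fun i => by simp [Module.Basis.ofEquivFun])
  have hsurj : Function.Surjective (Fintype.linearCombination (Y.presheaf.stalk y)
      fun i => κ π G y (e.symm (Pi.single i 1))) := by
    rw [← LinearMap.range_eq_top, Fintype.range_linearCombination]
    exact span_κ π G hS hy _ hb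
  refine ⟨?_, hsurj⟩
  obtain ⟨eM⟩ := NodalFactor.nonempty_pullbackStalkEquiv π G y ⟨e⟩
  have h2 := OrzechProperty.injective_of_surjective_endomorphism
    (eM.symm.toLinearMap ∘ₗ Fintype.linearCombination (Y.presheaf.stalk y)
      fun i => κ π G y (e.symm (Pi.single i 1))) (eM.symm.surjective.comp hsurj)
  exact fun a c h => h2 (congrArg eM.symm h)

include hS in
/-- a section whose values at all points over a node lie in the maximal ideals comes from the maximal ideal downstairs -/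
theorem exists_mem_smul_top [G.IsQuasicoherent] {x : X} (hx : Curv2.IsNode k X x)
    (e : G.presheaf.stalk x ≃ₗ[X.presheaf.stalk x] (Fin r → X.presheaf.stalk x))
    {W : X.Opens} (hxW : x ∈ W) (m : Γ((Scheme.Modules.pullback π).obj G, π ⁻¹ᵁ W))
    (hm : ∀ (y : Y) (hy : y ∈ π ⁻¹ᵁ W), π y = x → germM _ (π ⁻¹ᵁ W) y hy m ∈
      IsLocalRing.maximalIdeal (Y.presheaf.stalk y) •
        (⊤ : Submodule (Y.presheaf.stalk y) (((Scheme.Modules.pullback π).obj G).presheaf.stalk y))) :
    ∃ γ ∈ IsLocalRing.maximalIdeal (X.presheaf.stalk x) • (⊤ : Submodule (X.presheaf.stalk x) (G.presheaf.stalk x)),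
      germM ((Scheme.Modules.pushforward π).obj ((Scheme.Modules.pullback π).obj G)) W x hxW m =
        stalkMapM (NodeModules.η π G) x γ := by
  classical
  have hb : Submodule.span (X.presheaf.stalk x) (Set.range fun i => e.symm (Pi.single i 1)) = ⊤ := by
    rw [← (Module.Basis.ofEquivFun e).span_eq]
    congr 1
    exact congrArg Set.range (funext fun i => by simp [Module.Basis.ofEquivFun])
  obtain ⟨V, hVW, hV, hxV, g, hg, hVU, hdec⟩ := exists_chart π G hS hx _ hb W hxW
  let M := (Scheme.Modules.pullback π).obj G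
  have hle : π ⁻¹ᵁ V ≤ π ⁻¹ᵁ W := π.preimage_mono hVW
  obtain ⟨u, hu, s, hs⟩ := hdec (res M hle m)
  have hcoord : ∀ (y : Y) (hy : y ∈ π ⁻¹ᵁ V), π y = x →
      ∀ i, ¬ IsUnit (Y.presheaf.germ (π ⁻¹ᵁ V) y hy (s i)) := by
    intro y hy hyx i
    have key : ∃ L : (Fin r → Y.presheaf.stalk y) ≃ₗ[Y.presheaf.stalk y] M.presheaf.stalk y,
        ∀ c, L c = ∑ j, c j • germM M (π ⁻¹ᵁ V) y hy (QCPull72.unitSec π G (le_refl (π ⁻¹ᵁ V)) (g j)) := by
      subst hyx
      refine ⟨LinearEquiv.ofBijective _ (bijective_coord π G hS hx e), fun c => ?_⟩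
      refine (Fintype.linearCombination_apply _ _ _).trans (Finset.sum_congr rfl fun j _ => ?_)
      rw [← hg j, κ_germ]
    obtain ⟨L, hL⟩ := key
    have h1 : L (fun j => Y.presheaf.germ (π ⁻¹ᵁ V) y hy (s j)) ∈
        IsLocalRing.maximalIdeal (Y.presheaf.stalk y) • (⊤ : Submodule (Y.presheaf.stalk y) (M.presheaf.stalk y)) := by
      rw [hL]
      simp only [← germM_smul]
      have h2 := congrArg (germM M (π ⁻¹ᵁ V) y hy) hs
      rw [germM_smul, germM_res] at h2
      refine (h2.trans (map_sum (M.presheaf.germ (π ⁻¹ᵁ V) y hy).hom _ _)) ▸ Submodule.smul_mem _ _ (hm y (hle hy) hyx)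
    have h3 := coord_mem L _ h1 i
    rw [LinearEquiv.symm_apply_apply] at h3
    exact h3
  choose t a htp hap hta using fun i => (NodePoints.points_facts π hS hV hxV hx hVU).2 (s i)
    (fun y hy hyx => hcoord y hy hyx i)
  let T := ∏ i, t i
  let a' : Fin r → Γ(X, V) := fun i => a i * ∏ j ∈ Finset.univ.erase i, t j
  have hTs : ∀ i, π.app V T * s i = π.app V (a' i) := fun i => by
    rw [map_mul, ← hta i, show T = t i * ∏ j ∈ Finset.univ.erase i, t j from
      (Finset.mul_prod_erase Finset.univ t (Finset.mem_univ i)).symm, map_mul]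
    ring
  have hT : x ∈ X.basicOpen T := by
    refine (Scheme.mem_basicOpen _ _ _ hxV).2 ?_
    rw [map_prod]
    exact IsUnit.prod_iff.2 fun i _ => (Div89.germ_isUnit_iff ⟨V, hV⟩ x hxV _).2 (htp i)
  let h := ∑ i, a' i • g i
  have hsec : π.app V (T * u) • res M hle m = QCPull72.unitSec π G (le_refl (π ⁻¹ᵁ V)) h := by
    rw [map_mul, mul_smul, hs, Finset.smul_sum]
    refine Eq.trans (Finset.sum_congr rfl fun i _ => ?_) (map_sum (AddMonoidHom.mk'
      (fun z => QCPull72.unitSec π G (le_refl (π ⁻¹ᵁ V)) z) (LimTop61.unitSec_add π G _)) _ _).symm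
    rw [smul_smul, hTs]
    show _ = QCPull72.unitSec π G (le_refl (π ⁻¹ᵁ V)) _
    rw [LimTop61.unitSec_smul, Scheme.Hom.appLE_eq_app]
  have hmem : germM G V x hxV h ∈
      IsLocalRing.maximalIdeal (X.presheaf.stalk x) • (⊤ : Submodule (X.presheaf.stalk x) (G.presheaf.stalk x)) := by
    rw [show germM G V x hxV h = _ from map_sum (G.presheaf.germ V x hxV).hom _ _]
    refine Submodule.sum_mem _ fun i _ => ?_
    show germM G V x hxV (a' i • g i) ∈ _
    rw [germM_smul]
    refine Submodule.smul_mem_smul ?_ Submodule.mem_top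
    show ¬ IsUnit _
    intro hu'
    exact (Div89.germ_isUnit_iff ⟨V, hV⟩ x hxV _).1 hu' (Ideal.mul_mem_right _ _ (hap i))
  have hTu : IsUnit (X.presheaf.germ V x hxV (T * u)) := by
    rw [map_mul]; exact (isUnit_germ hT).mul (isUnit_germ hu)
  obtain ⟨v, hv⟩ := hTu
  refine ⟨(↑v⁻¹ : X.presheaf.stalk x) • germM G V x hxV h, Submodule.smul_mem _ _ hmem, ?_⟩
  have h4 : (v : X.presheaf.stalk x) • germM ((Scheme.Modules.pushforward π).obj M) W x hxW m =
      stalkMapM (NodeModules.η π G) x (germM G V x hxV h) := by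
    rw [hv, ← germM_res (M := (Scheme.Modules.pushforward π).obj M) hVW hxV, ← germM_smul, stalkMapM_germ]
    refine congrArg _ ?_
    refine hsec.trans ?_
    rw [QCPull72.unitSec, res_self]
  show _ = stalkLinear (NodeModules.η π G) x _
  rw [map_smul]
  show _ = (↑v⁻¹ : X.presheaf.stalk x) • stalkMapM (NodeModules.η π G) x (germM G V x hxV h)
  rw [← h4, smul_smul, Units.inv_mul, one_smul]

end Groth.Agent.Ega11.NodeSections
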