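import Groth.Agent.Ega11.GeomIrrNorm
import Groth.Agent.Norm57.Universal
import Groth.Agent.LimTop61.BirationalZMT
import Groth.Agent.FlatMor68.NormSmooth
import Groth.Agent.AlgGrp79.SepDense

/-! A finite birational morphism from a normal scheme onto an integral one is the normalisation. -/

set_option autoImplicit false
set_option backward.isDefEq.respectTransparency.types false
universe u

open CategoryTheory CategoryTheory.Limits AlgebraicGeometry TopologicalSpace

namespace Groth.Agent.Ega11.NormBC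

theorem nilradical_le_ker {P B : Scheme.{u}} [IsReduced P] (f : P ⟶ B) : B.nilradical ≤ f.ker := by
  rw [show f.ker = Scheme.IdealSheafData.ofIdeals fun U => RingHom.ker (f.app U).hom from rfl]
  refine Scheme.IdealSheafData.le_ofIdeals_iff.mpr fun U a ha => ?_
  obtain ⟨n, hn⟩ := ha
  rw [RingHom.mem_ker]
  refine IsReduced.eq_zero _ ⟨n, ?_⟩
  rw [← map_pow]
  exact (congrArg _ (Ideal.mem_bot.mp hn)).trans (map_zero _)

theorem isIso_stalkMap_of_isIso_restrict {P Q : Scheme.{u}} (f : P ⟶ Q) (V : Q.Opens) [IsIso (f ∣_ V)]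
    (x : P) (hx : f x ∈ V) : IsIso (f.stalkMap x) := by
  have h : IsIso ((f ∣_ V).stalkMap ⟨x, hx⟩) := inferInstance
  exact ((MorphismProperty.isomorphisms CommRingCat).arrow_mk_iso_iff
    (morphismRestrictStalkMap f V ⟨x, hx⟩)).mp h

/-- A finite birational morphism from an integral normal scheme onto an integral scheme is the
normalisation. -/
theorem exists_iso {P Z : Scheme.{u}} [IsIntegral P] [IsIntegral Z] (g : P ⟶ Z) [IsFinite g]
    [QuasiCompact (Z.fromSpecStalk (genericPoint Z))] [QuasiSeparated (Z.fromSpecStalk (genericPoint Z))]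
    [IsFinite (Curv2.normalizationι Z)]
    (hP : Pi1.IsNormalScheme P) (hN : Pi1.IsNormalScheme (Curv2.normalization Z))
    (W : Z.Opens) [IsIso (g ∣_ W)] (hW : (W : Set Z).Nonempty)
    (W' : Z.Opens) [IsIso (Curv2.normalizationι Z ∣_ W')] (hW' : (W' : Set Z).Nonempty) :
    ∃ e : P ≅ Curv2.normalization Z, e.hom ≫ Curv2.normalizationι Z = g := by
  haveI : IsIntegral (Curv2.normalization Z) :=
    inferInstanceAs (IsIntegral (Z.fromSpecStalk (genericPoint Z)).normalization)
  have gen : ∀ (T : Scheme.{u}) [IsIntegral T] (f : T ⟶ Z) [IsFinite f] (V : Z.Opens) [IsIso (f ∣_ V)],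
      (V : Set Z).Nonempty → f (genericPoint T) = genericPoint Z ∧
        ∀ y, f y = genericPoint Z → y = genericPoint T := by
    intro T _ f _ V _ hV
    have hη : genericPoint Z ∈ V := ((genericPoint_spec Z).mem_open_set_iff V.2).2 (by simpa using hV)
    obtain ⟨z, hz⟩ := (f ∣_ V).surjective ⟨genericPoint Z, hη⟩
    have hz' : f z.1 = genericPoint Z := by
      have := congrArg Subtype.val hz
      rwa [morphismRestrict_base_coe] at this
    have hgen : f (genericPoint T) = genericPoint Z := by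
      have h0 := (genericPoint_specializes z.1).map f.continuous
      rw [hz'] at h0
      exact (h0.antisymm (genericPoint_specializes _)).eq
    refine ⟨hgen, fun y hy => ?_⟩
    have h1 : y ∈ f ⁻¹ᵁ V := by show f y ∈ V; rw [hy]; exact hη
    have h2 : genericPoint T ∈ f ⁻¹ᵁ V := by show f _ ∈ V; rw [hgen]; exact hη
    exact congrArg Subtype.val ((f ∣_ V).homeomorph.injective (a₁ := ⟨y, h1⟩) (a₂ := ⟨_, h2⟩)
      (Subtype.ext (by
        show ((f ∣_ V) ⟨y, h1⟩).1 = ((f ∣_ V) ⟨_, h2⟩).1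
        rw [morphismRestrict_base_coe, morphismRestrict_base_coe]
        exact hy.trans hgen.symm)))
  obtain ⟨hg, -⟩ := gen P g W hW
  obtain ⟨hι, hι'⟩ := gen _ (Curv2.normalizationι Z) W' hW'
  obtain ⟨h, hh, -⟩ := Norm57.existsUnique_lift hP g fun w hw => by
    rw [← hw (genericPoint P) (genericPoint_specializes w)]; exact hg
  have hgenh : h (genericPoint P) = genericPoint (Curv2.normalization Z) := hι' _ (by
    rw [← Scheme.Hom.comp_apply, hh]; exact hg)
  haveI : IsFinite (h ≫ Curv2.normalizationι Z) := by rw [hh]; infer_instance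
  haveI : IsFinite h := IsFinite.of_comp h (Curv2.normalizationι Z)
  have h1 : IsIso (g.stalkMap (genericPoint P)) := isIso_stalkMap_of_isIso_restrict g W _
    (by rw [hg]; exact ((genericPoint_spec Z).mem_open_set_iff W.2).2 (by simpa using hW))
  have h2 : IsIso ((Curv2.normalizationι Z).stalkMap (h (genericPoint P))) :=
    isIso_stalkMap_of_isIso_restrict _ W' _
      (by rw [← Scheme.Hom.comp_apply, hh, hg]
          exact ((genericPoint_spec Z).mem_open_set_iff W'.2).2 (by simpa using hW'))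
  have hbir : IsIso (h.stalkMap (genericPoint P)) := by
    subst hh
    have := Scheme.Hom.stalkMap_comp h (Curv2.normalizationι Z) (genericPoint P)
    exact @IsIso.of_isIso_fac_left _ _ _ _ _ _ _ _ h2 h1 this.symm
  haveI := LimTop61.isOpenImmersion_of_birational h (fun y => (hN y).2) hgenh hbir
  have hsurj : Surjective h := by
    refine ⟨fun y => ?_⟩
    have hc : closure {genericPoint (Curv2.normalization Z)} ⊆ Set.range h :=
      closure_minimal (Set.singleton_subset_iff.mpr ⟨_, hgenh⟩) h.isClosedMap.isClosed_range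
    exact hc (by rw [(genericPoint_spec _).def]; trivial)
  haveI : IsIso h := (isIso_iff_isOpenImmersion_and_epi_base h).mpr
    ⟨inferInstance, (TopCat.epi_iff_surjective _).mpr h.surjective⟩
  exact ⟨asIso h, hh⟩

end Groth.Agent.Ega11.NormBC

namespace Groth.Agent.Ega11.NormBC

theorem isIso_restrict_baseChange {P X B Y : Scheme.{u}} {a : P ⟶ X} {m : P ⟶ B} {π : X ⟶ Y} {b : B ⟶ Y}
    (h : IsPullback a m π b) (V : Y.Opens) [IsIso (π ∣_ V)] : IsIso (m ∣_ (b ⁻¹ᵁ V)) := by
  have hle : m ⁻¹ᵁ (b ⁻¹ᵁ V) ≤ a ⁻¹ᵁ (π ⁻¹ᵁ V) := fun x hx => by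
    show π (a x) ∈ V
    rw [← Scheme.Hom.comp_apply, h.w, Scheme.Hom.comp_apply]
    exact hx
  have hsq : IsPullback (a.resLE (π ⁻¹ᵁ V) (m ⁻¹ᵁ (b ⁻¹ᵁ V)) hle) (m ∣_ (b ⁻¹ᵁ V)) (π ∣_ V) (b ∣_ V) := by
    refine IsPullback.of_right (h₁₂ := (π ⁻¹ᵁ V).ι) (v₁₃ := π) (h₂₂ := V.ι) ?_ ?_ (isPullback_morphismRestrict π V).flip
    · rw [Scheme.Hom.resLE_comp_ι, morphismRestrict_ι]
      exact (isPullback_morphismRestrict m (b ⁻¹ᵁ V)).flip.paste_horiz h
    · rw [← cancel_mono V.ι]
      simp only [Category.assoc, morphismRestrict_ι, morphismRestrict_ι_assoc, Scheme.Hom.resLE_comp_ι_assoc]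
      rw [h.w]
  exact MorphismProperty.of_isPullback (P := MorphismProperty.isomorphisms Scheme) hsq
    (inferInstance : IsIso (π ∣_ V))

theorem isIso_restrict_factor {P Z B : Scheme.{u}} (g : P ⟶ Z) (i : Z ⟶ B) [IsClosedImmersion i]
    (V : B.Opens) [h : IsIso ((g ≫ i) ∣_ V)] : IsIso (g ∣_ (i ⁻¹ᵁ V)) := by
  haveI h' : IsIso (g ∣_ (i ⁻¹ᵁ V) ≫ i ∣_ V) := by rw [← morphismRestrict_comp]; exact h
  haveI : IsClosedImmersion (i ∣_ V) :=
    MorphismProperty.of_isPullback (isPullback_morphismRestrict i V).flip inferInstance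
  haveI : IsSplitEpi (i ∣_ V) :=
    IsSplitEpi.mk' ⟨inv (g ∣_ (i ⁻¹ᵁ V) ≫ i ∣_ V) ≫ g ∣_ (i ⁻¹ᵁ V), by rw [Category.assoc, IsIso.inv_hom_id]⟩
  haveI : IsIso (i ∣_ V) := isIso_of_mono_of_isSplitEpi _
  exact IsIso.of_isIso_comp_right (g ∣_ (i ⁻¹ᵁ V)) (i ∣_ V)

end Groth.Agent.Ega11.NormBC
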