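import Groth.Agent.Ega11.NormPush
import Groth.Agent.Ega11.LatticeNodes
import Groth.Agent.Amp73.CounitIff
import Mathlib

/-! Generators of direct images of invertible modules and the essential image of the direct image along a
finite birational morphism. -/

set_option autoImplicit false
set_option backward.isDefEq.respectTransparency.types false
universe u

open CategoryTheory CategoryTheory.Limits AlgebraicGeometry TopologicalSpace
open Groth.Agent.QC70

namespace Groth.Agent.Ega11.NormPush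

variable {X Y : Scheme.{u}} {π : Y ⟶ X}

theorem eq_of_specializes_fibre [IsFinite π] {y y' : Y} (h : π y = π y') (hs : y ⤳ y') : y = y' := by
  have := (π.isDiscrete_preimage_singleton (π y')).to_subtype
  have h1 : (⟨y, h⟩ : π ⁻¹' {π y'}) ⤳ ⟨y', rfl⟩ := (subtype_specializes_iff _ _).2 hs
  exact congrArg Subtype.val h1.eq

theorem exists_not_mem_smul {N : Y.Modules} [N.IsQuasicoherent] {W : Y.Opens} (hW : IsAffineOpen W) {y : Y}
    (hy : y ∈ W) (eN : N.presheaf.stalk y ≃ₗ[Y.presheaf.stalk y] Y.presheaf.stalk y) :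
    ∃ s : Γ(N, W), ¬ (germM N W y hy s ∈ IsLocalRing.maximalIdeal (Y.presheaf.stalk y) •
      (⊤ : Submodule (Y.presheaf.stalk y) (N.presheaf.stalk y))) := by
  let := Div89.stalkAlg W y hy
  let := Div89.stalkModule N W y hy
  have := Div89.isScalarTower_stalk N W y hy
  have := Div89.primeAt_isPrime ⟨W, hW⟩ y hy
  let T := (Div89.primeAt ⟨W, hW⟩ y hy).primeCompl
  have : IsLocalization T (Y.presheaf.stalk y) := Div89.isLocalization_stalk ⟨W, hW⟩ y hy
  have : IsLocalizedModule T (Div89.germLin N W y hy) :=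
    Div89.isLocalizedModule_germLin N inferInstance ⟨W, hW⟩ y hy
  obtain ⟨⟨s, t⟩, hst⟩ := IsLocalizedModule.surj T (Div89.germLin N W y hy) (eN.symm 1)
  refine ⟨s, fun h => ?_⟩
  have h1 : (algebraMap Γ(Y, W) (Y.presheaf.stalk y) t.1) • eN.symm 1 = germM N W y hy s :=
    (algebraMap_smul (Y.presheaf.stalk y) t.1 (eN.symm 1)).trans hst
  rw [← h1] at h
  have h2 := Submodule.mem_map_of_mem (f := eN.toLinearMap) h
  rw [Submodule.map_smul'', Submodule.map_top, LinearEquiv.range, LinearEquiv.coe_coe, map_smul,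
    LinearEquiv.apply_symm_apply] at h2
  simp only [smul_eq_mul, mul_one, Ideal.mul_top] at h2
  exact h2 (IsLocalization.map_units _ t)

theorem span_eq_top_of_not_mem {A M : Type u} [CommRing A] [IsLocalRing A] [AddCommGroup M] [Module A M]
    (eN : M ≃ₗ[A] A) {v : M} (hv : ¬ v ∈ IsLocalRing.maximalIdeal A • (⊤ : Submodule A M)) :
    Submodule.span A {v} = ⊤ := by
  have hu : IsUnit (eN v) := by
    by_contra hn
    apply hv
    rw [show v = eN v • eN.symm 1 by rw [← map_smul, smul_eq_mul, mul_one, LinearEquiv.symm_apply_apply]]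
    exact Submodule.smul_mem_smul hn Submodule.mem_top
  refine eq_top_iff.2 fun w _ => Submodule.mem_span_singleton.2 ⟨eN w * hu.unit⁻¹.1, ?_⟩
  apply eN.injective
  rw [map_smul, smul_eq_mul, mul_assoc, hu.val_inv_mul, mul_one]

/-- a section of an invertible module generating it at all points of a fibre -/
theorem exists_fibre_gen [IsFinite π] {N : Y.Modules} [N.IsQuasicoherent]
    (hN : ∀ y, Nonempty (N.presheaf.stalk y ≃ₗ[Y.presheaf.stalk y] Y.presheaf.stalk y))
    {x : X} {V : X.Opens} (hV : IsAffineOpen V) (hxV : x ∈ V) :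
    ∃ m : Γ(N, π ⁻¹ᵁ V), ∀ (y : Y) (hy : y ∈ π ⁻¹ᵁ V), π y = x →
      Submodule.span (Y.presheaf.stalk y) {germM N (π ⁻¹ᵁ V) y hy m} = ⊤ := by
  classical
  have : Finite (π ⁻¹' {x} : Set Y) := (π.finite_preimage_singleton x).to_subtype
  let _ : Fintype (π ⁻¹' {x} : Set Y) := Fintype.ofFinite _
  have hmem : ∀ y : (π ⁻¹' {x} : Set Y), y.1 ∈ π ⁻¹ᵁ V := fun y => by
    show π y.1 ∈ V
    rw [show π y.1 = x from y.2]
    exact hxV
  choose s hs using fun y : (π ⁻¹' {x} : Set Y) => exists_not_mem_smul (hV.preimage π) (hmem y) (hN y.1).some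
  have hf : ∀ y y' : (π ⁻¹' {x} : Set Y), y' ≠ y → ∃ f : Γ(Y, π ⁻¹ᵁ V),
      IsUnit (Y.presheaf.germ (π ⁻¹ᵁ V) y.1 (hmem y) f) ∧
        ¬ IsUnit (Y.presheaf.germ (π ⁻¹ᵁ V) y'.1 (hmem y') f) := fun y y' hne => by
    have hns : ¬ y'.1 ⤳ y.1 := fun h => hne (Subtype.ext
      (eq_of_specializes_fibre ((show π y'.1 = x from y'.2).trans (show π y.1 = x from y.2).symm) h))
    obtain ⟨D, hD, hyD, hy'D⟩ : ∃ D : Set Y, IsOpen D ∧ y.1 ∈ D ∧ y'.1 ∉ D := by
      rw [specializes_iff_forall_open] at hns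
      push Not at hns
      exact hns
    obtain ⟨f, hle, hyf⟩ := (hV.preimage π).exists_basicOpen_le (V := ⟨D, hD⟩) ⟨y.1, hyD⟩ (hmem y)
    exact ⟨f, (Y.mem_basicOpen f y.1 (hmem y)).1 hyf,
      fun hu => hy'D (hle ((Y.mem_basicOpen f y'.1 (hmem y')).2 hu))⟩
  choose f hf1 hf2 using hf
  let a : (π ⁻¹' {x} : Set Y) → Γ(Y, π ⁻¹ᵁ V) := fun y =>
    ∏ y', if h : y' ≠ y then f y y' h else 1
  refine ⟨∑ y, a y • s y, fun y hy hyx => span_eq_top_of_not_mem (hN y).some ?_⟩
  intro hsum
  let g := Y.presheaf.germ (π ⁻¹ᵁ V) y hy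
  let gm := (N.presheaf.germ (π ⁻¹ᵁ V) y hy).hom
  have hg : germM N (π ⁻¹ᵁ V) y hy (∑ z, a z • s z) = ∑ z, g (a z) • germM N (π ⁻¹ᵁ V) y hy (s z) :=
    (map_sum gm _ _).trans (Finset.sum_congr rfl fun z _ => germM_smul _ _ _)
  rw [hg, ← Finset.add_sum_erase _ _ (Finset.mem_univ (⟨y, hyx⟩ : (π ⁻¹' {x} : Set Y)))] at hsum
  have hrest : ∀ z ∈ (Finset.univ.erase (⟨y, hyx⟩ : (π ⁻¹' {x} : Set Y))), g (a z) • germM N (π ⁻¹ᵁ V) y hy (s z) ∈
      IsLocalRing.maximalIdeal (Y.presheaf.stalk y) • (⊤ : Submodule (Y.presheaf.stalk y) (N.presheaf.stalk y)) := by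
    intro z hz
    refine Submodule.smul_mem_smul ?_ Submodule.mem_top
    simp only [a, map_prod]
    refine Ideal.prod_mem _ (Finset.mem_univ (⟨y, hyx⟩ : (π ⁻¹' {x} : Set Y))) ?_
    have hne := (Finset.mem_erase.1 hz).1.symm
    rw [dif_pos hne]
    exact hf2 z _ hne
  have h1 := (Submodule.add_mem_iff_left _ (Submodule.sum_mem _ hrest)).1 hsum
  have hu : IsUnit (g (a ⟨y, hyx⟩)) := by
    simp only [a, map_prod, IsUnit.prod_univ_iff]
    intro z
    by_cases h : z ≠ ⟨y, hyx⟩
    · rw [dif_pos h]; exact hf1 _ z h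
    · rw [dif_neg h, map_one]; exact isUnit_one
  refine hs ⟨y, hyx⟩ ?_
  have h3 := Submodule.smul_mem _ (↑hu.unit⁻¹ : Y.presheaf.stalk y) h1
  rw [smul_smul, hu.val_inv_mul, one_smul] at h3
  exact h3

variable [IsIntegral X] [IsIntegral Y] {V₀ : X.Opens} (hV : BirOn π V₀)

include hV in
/-- the direct image of a torsion-free module generated upstairs by a module with normal stalks is generated -/
theorem surjective_of_normal_stalk [IsFinite π] [IsLocallyNoetherian Y] {F : X.Modules} [F.IsQuasicoherent]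
    {E : Y.Modules} [E.IsQuasicoherent] (htE : TorSh.IsTorsionFree E)
    (p : (Scheme.Modules.pullback π).obj F ⟶ E) [Epi p] {x : X} {K : Type u} [Field K]
    [Algebra (X.presheaf.stalk x) K] (hK : Function.Injective (algebraMap (X.presheaf.stalk x) K)) {n : ℕ}
    (e : F.presheaf.stalk x ≃ₗ[X.presheaf.stalk x] (Fin n → integralClosure (X.presheaf.stalk x) K)) :
    Function.Surjective (stalkMapM
      ((Scheme.Modules.pullbackPushforwardAdjunction π).homEquiv F E p) x) := by
  classical
  have htP := isTorsionFree_push hV (inferInstance : E.IsQuasicoherent) htE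
  have := htP x
  let P := (Scheme.Modules.pushforward π).obj E
  let φ := (Scheme.Modules.pullbackPushforwardAdjunction π).homEquiv F E p
  intro z
  obtain ⟨W, hxW, m, rfl⟩ := germM_exist z
  obtain ⟨_, ⟨V, hVa, rfl⟩, hxV, hVW⟩ := X.isBasis_affineOpens.exists_subset_of_mem_open hxW W.2
  rw [← germM_res (M := P) (show V ≤ W from hVW) hxV m]
  have : (Scheme.Modules.pullback π).obj F |>.IsQuasicoherent := QCPull72.isQuasicoherent_pullback π F
  obtain ⟨mt, hmt⟩ := CartMod7.app_surjective_of_epi p (hVa.preimage π) (res P (show V ≤ W from hVW) m)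
  rw [← hmt]
  have hspan := (QCPull72.span_unitSec_eq_top π F hVa (hVa.preimage π) (le_refl (π ⁻¹ᵁ V))).ge
    (Submodule.mem_top : mt ∈ ⊤)
  clear hmt
  show germM P V x hxV (p.app (π ⁻¹ᵁ V) mt) ∈ Set.range (stalkMapM φ x)
  induction hspan using Submodule.span_induction with
  | mem w hw =>
    obtain ⟨h, rfl⟩ := hw
    refine ⟨germM F V x hxV h, ?_⟩
    rw [stalkMapM_germ]
    refine congrArg _ ?_
    show ((Scheme.Modules.pullbackPushforwardAdjunction π).homEquiv F E p).app V h = _
    rw [Adjunction.homEquiv_unit, QCPull72.unitSec, res_self]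
    rfl
  | zero => exact ⟨0, by rw [map_zero]; exact (map_zero (stalkLinear φ x)).trans (germM_zero hxV).symm⟩
  | add w₁ w₂ _ _ h₁ h₂ =>
    obtain ⟨f₁, e₁⟩ := h₁
    obtain ⟨f₂, e₂⟩ := h₂
    refine ⟨f₁ + f₂, ?_⟩
    rw [map_add]
    refine ((stalkLinear φ x).map_add f₁ f₂).trans ?_
    exact (congrArg₂ (· + ·) e₁ e₂).trans (map_add (P.presheaf.germ V x hxV).hom _ _).symm
  | smul s w _ hw =>
    obtain ⟨f, hf⟩ := hw
    obtain ⟨b, c, hb, hbc⟩ := exists_frac hV hVa hxV s
    let g : Γ(X, V) →+* K := (algebraMap (X.presheaf.stalk x) K).comp (X.presheaf.germ V x hxV).hom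
    have hβ : X.presheaf.germ V x hxV b ≠ 0 := fun h =>
      hb (germ_injective_of_isIntegral X x hxV (h.trans (map_zero _).symm))
    have hgb : g b ≠ 0 := fun h => hβ (hK (h.trans (map_zero _).symm))
    obtain ⟨q, hq, hq0⟩ := isIntegral_frac hV hVa hxV g hgb hbc
    have hmemK : g c / g b ∈ integralClosure (X.presheaf.stalk x) K :=
      ⟨q.map (X.presheaf.germ V x hxV).hom, hq.map _, by rw [Polynomial.eval₂_map]; exact hq0⟩
    let t : integralClosure (X.presheaf.stalk x) K := ⟨g c / g b, hmemK⟩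
    let f₁ := e.symm (fun i => t * e f i)
    refine ⟨f₁, ?_⟩
    have hrel : X.presheaf.germ V x hxV b • f₁ = X.presheaf.germ V x hxV c • f := by
      apply e.injective
      rw [map_smul, map_smul, LinearEquiv.apply_symm_apply]
      funext i
      apply Subtype.ext
      show X.presheaf.germ V x hxV b • ((g c / g b) * (e f i : K)) = X.presheaf.germ V x hxV c • (e f i : K)
      rw [Algebra.smul_def, Algebra.smul_def, ← mul_assoc]
      congr 1
      exact mul_div_cancel₀ _ hgb
    refine smul_right_injective _ hβ ?_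
    refine ((stalkLinear φ x).map_smul _ f₁).symm.trans ?_
    rw [hrel]
    refine ((stalkLinear φ x).map_smul _ f).trans ?_
    show X.presheaf.germ V x hxV c • stalkMapM φ x f = _
    rw [hf]
    let w₀ : Γ(P, V) := p.app (π ⁻¹ᵁ V) w
    let w₁ : Γ(P, V) := p.app (π ⁻¹ᵁ V) (s • w)
    refine (germM_smul (M := P) hxV c w₀).symm.trans (Eq.trans ?_ (germM_smul (M := P) hxV b w₁))
    refine congrArg _ ?_
    show π.app V c • p.app (π ⁻¹ᵁ V) w = π.app V b • p.app (π ⁻¹ᵁ V) (s • w)
    rw [p.app_smul, smul_smul, hbc]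

include hV in
/-- morphisms between direct images of torsion-free modules descend -/
theorem exists_descend [IsFinite π] [IsLocallyNoetherian Y] {E E' : Y.Modules} [E.IsQuasicoherent] [E'.IsQuasicoherent]
    (htE' : TorSh.IsTorsionFree E') (φ : (Scheme.Modules.pushforward π).obj E ⟶ (Scheme.Modules.pushforward π).obj E') :
    ∃ ψ : E ⟶ E', (Scheme.Modules.pushforward π).map ψ = φ := by
  let adj := Scheme.Modules.pullbackPushforwardAdjunction π
  have hepi : Epi (adj.counit.app E) := Amp73.epi_counit_of_isQuasiAffine π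
    ⟨inferInstance, fun U hU => by have : IsAffine ((π ⁻¹ᵁ U : Y.Opens) : Scheme.{u}) := hU.preimage π; infer_instance⟩ inferInstance
  let g := (adj.homEquiv _ E').symm φ
  have hz : kernel.ι (adj.counit.app E) ≫ g = 0 := by
    refine Scheme.Modules.hom_ext _ _ fun W => ?_
    ext s
    by_cases hW : (W : Set Y).Nonempty
    · have hη : genericPoint Y ∈ W := ((genericPoint_spec Y).mem_open_set_iff W.2).2 (by simpa using hW)
      have hη0 : π (genericPoint Y) ∈ V₀ := generic_mem hV hV.ne.choose_spec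
      refine eq_zero_of_germ_generic (inferInstance : E'.IsQuasicoherent) htE' hη _ ?_
      rw [← stalkMapM_germ, stalkMapM_comp]
      suffices h : stalkMapM (kernel.ι (adj.counit.app E)) (genericPoint Y) (germM _ W (genericPoint Y) hη s) = 0 by
        rw [h]; exact map_zero (stalkLinear g _)
      obtain ⟨z, hz⟩ := (bijective_sp hV _ hη0).2
        (stalkMapM (kernel.ι (adj.counit.app E)) (genericPoint Y) (germM _ W (genericPoint Y) hη s))
      have h0 : stalkMapM ((Scheme.Modules.pushforward π).map (adj.counit.app E)) (π (genericPoint Y)) z = 0 := by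
        refine (bijective_sp hV E hη0).1 ?_
        rw [map_zero, NodePresentation.sp_stalkMapM, hz, ← stalkMapM_comp, kernel.condition]
        exact stalkMapM_zero _ _
      have := hV.iso
      have := QCqs72.isQuasicoherent_pushforward E π
      obtain ⟨w, rfl⟩ := (NodeModules.bijective_stalk_unit π (F := (Scheme.Modules.pushforward π).obj E) hη0).2 z
      rw [← stalkMapM_comp] at h0
      have htri : NodeModules.η π ((Scheme.Modules.pushforward π).obj E) ≫
          (Scheme.Modules.pushforward π).map (adj.counit.app E) = 𝟙 _ := adj.right_triangle_components E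
      rw [htri] at h0
      have hw : w = 0 := by
        refine Eq.trans ?_ h0
        obtain ⟨W', hW', m, rfl⟩ := germM_exist w
        rw [stalkMapM_germ]
        rfl
      rw [← hz, hw]
      exact (congrArg _ (map_zero (stalkLinear _ _))).trans (map_zero _)
    · refine section_ext _ _ _ fun y hy => absurd ⟨y, hy⟩ hW
  refine ⟨Abelian.epiDesc (adj.counit.app E) g hz, ?_⟩
  have h := congrArg (adj.homEquiv _ E') (Abelian.comp_epiDesc (adj.counit.app E) g hz)
  rw [adj.homEquiv_naturality_right, Equiv.apply_symm_apply] at h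
  rw [← h, adj.homEquiv_unit, adj.right_triangle_components, Category.id_comp]

include hV in
/-- the direct image reflects isomorphisms between torsion-free modules -/
theorem nonempty_iso_of_push_iso [IsFinite π] [IsLocallyNoetherian Y] {E E' : Y.Modules} [E.IsQuasicoherent]
    [E'.IsQuasicoherent] (htE : TorSh.IsTorsionFree E) (htE' : TorSh.IsTorsionFree E')
    (φ : (Scheme.Modules.pushforward π).obj E ≅ (Scheme.Modules.pushforward π).obj E') : Nonempty (E ≅ E') := by
  let adj := Scheme.Modules.pullbackPushforwardAdjunction π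
  obtain ⟨ψ, hψ⟩ := exists_descend hV htE' φ.hom
  obtain ⟨ψ', hψ'⟩ := exists_descend hV htE φ.inv
  have key : ∀ (G : Y.Modules) [G.IsQuasicoherent] (f : G ⟶ G),
      (Scheme.Modules.pushforward π).map f = 𝟙 _ → f = 𝟙 G := fun G _ f hf => by
    have : Epi (adj.counit.app G) := Amp73.epi_counit_of_isQuasiAffine π
      ⟨inferInstance, fun U hU => by have : IsAffine ((π ⁻¹ᵁ U : Y.Opens) : Scheme.{u}) := hU.preimage π; infer_instance⟩ inferInstance
    refine (cancel_epi (adj.counit.app G)).1 ((adj.homEquiv _ G).injective ?_)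
    rw [adj.homEquiv_naturality_right, adj.homEquiv_naturality_right, hf]
    exact congrArg _ ((Scheme.Modules.pushforward π).map_id G).symm
  exact ⟨⟨ψ, ψ', key E _ (by rw [Functor.map_comp, hψ, hψ', φ.hom_inv_id]),
    key E' _ (by rw [Functor.map_comp, hψ, hψ', φ.inv_hom_id])⟩⟩

end Groth.Agent.Ega11.NormPush
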