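import Groth.Agent.Ega11.NormCurve
import Groth.Agent.Ega11.NormPush2
import Groth.Agent.S15027
import Groth.Agent.CD47.Resolution
import Mathlib

/-! Modules with normal stalks on an integral curve are direct images from the normalisation. -/

set_option autoImplicit false
set_option backward.isDefEq.respectTransparency.types false
universe u

open CategoryTheory CategoryTheory.Limits AlgebraicGeometry TopologicalSpace
open Groth.Agent.QC70

namespace Groth.Agent.Ega11.NormBundles

variable (k : Type u) [Field k] [IsAlgClosed k] (X : Scheme.{u}) [X.Over (Spec (CommRingCat.of k))] [IsIntegral X]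
  [IsProper (X ↘ Spec (CommRingCat.of k))]
  [QuasiCompact (X.fromSpecStalk (genericPoint X))] [QuasiSeparated (X.fromSpecStalk (genericPoint X))]

omit [X.Over (Spec (CommRingCat.of k))] in
theorem bijective_algebraMap_generic (x : X) (hx : x = genericPoint X) :
    Function.Bijective (algebraMap (X.presheaf.stalk x) X.functionField) := by
  refine ⟨IsFractionRing.injective _ _, fun z => ?_⟩
  have hf : IsField (X.presheaf.stalk x) := by subst hx; exact Field.toIsField X.functionField
  obtain ⟨⟨a, s⟩, h⟩ := IsLocalization.surj (nonZeroDivisors (X.presheaf.stalk x)) z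
  obtain ⟨t, ht⟩ := hf.mul_inv_cancel (nonZeroDivisors.ne_zero s.2)
  refine ⟨a * t, ?_⟩
  rw [map_mul, ← h, mul_assoc, ← map_mul, ht, map_one, mul_one]

/-- at the generic point the integral closure in the function field is the stalk -/
noncomputable def equivIntegralClosure (x : X) (hx : x = genericPoint X) :
    X.presheaf.stalk x ≃ₗ[X.presheaf.stalk x] ↥(integralClosure ↑(X.presheaf.stalk x) X.functionField) :=
  LinearEquiv.ofBijective (Algebra.linearMap (X.presheaf.stalk x) _)
    ⟨fun a b h => (bijective_algebraMap_generic X x hx).1 (congrArg Subtype.val h), fun t => by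
      obtain ⟨a, ha⟩ := (bijective_algebraMap_generic X x hx).2 t.1
      exact ⟨a, Subtype.ext ha⟩⟩

include k in
theorem exists_bundle (hdim : topologicalKrullDim X = 1) (n : ℕ) (F : X.Modules) (hF : Coh.IsCoh F)
    (hst : ∀ x : X, Nonempty (↑(F.presheaf.stalk x) ≃ₗ[↑(X.presheaf.stalk x)]
      (Fin n → ↥(integralClosure ↑(X.presheaf.stalk x) X.functionField)))) :
    ∃ E : (Curv2.normalization X).Modules, FlatMod.IsFinLocFreeOfRank n E ∧
      Nonempty ((Coh.push (Curv2.normalizationι X)).obj E ≅ F) := by
  classical
  have : IsLocallyNoetherian X := LocallyOfFiniteType.isLocallyNoetherian (X ↘ Spec (CommRingCat.of k))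
  have : CompactSpace X := QuasiCompact.compactSpace_of_compactSpace (X ↘ Spec (CommRingCat.of k))
  let ν := Curv2.normalizationι X
  have : IsFinite ν := NormCurve.isFinite k X
  have := NormCurve.isLocallyNoetherian_normalization k X
  obtain ⟨V₀, hV, -, -⟩ := NormCurve.exists_birOn k X hdim.le
  have : F.IsQuasicoherent := hF.1
  have htF : TorSh.IsTorsionFree F := fun x => by
    obtain ⟨e⟩ := hst x
    have : Module.IsTorsionFree (X.presheaf.stalk x) (Fin n → ↥(integralClosure ↑(X.presheaf.stalk x) X.functionField)) :=
      Module.IsTorsionFree.of_smul_eq_zero fun a v h => by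
        by_cases ha : a = 0
        · exact Or.inl ha
        refine Or.inr (funext fun i => Subtype.ext ?_)
        have h1 : algebraMap (X.presheaf.stalk x) X.functionField a * (v i : X.functionField) = 0 :=
          (Algebra.smul_def a (v i : X.functionField)).symm.trans (congrArg Subtype.val (congrFun h i))
        exact (mul_eq_zero.1 h1).resolve_left fun h2 =>
          ha (IsFractionRing.injective (X.presheaf.stalk x) X.functionField (h2.trans (map_zero _).symm))
    exact e.injective.moduleIsTorsionFree e (fun r m => map_smul e r m)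
  -- the generic rank
  have hηF : Nonempty (F.presheaf.stalk (genericPoint X) ≃ₗ[X.presheaf.stalk (genericPoint X)]
      (Fin n → X.presheaf.stalk (genericPoint X))) := by
    obtain ⟨e⟩ := hst (genericPoint X)
    exact ⟨e.trans (LinearEquiv.piCongrRight fun _ =>
      (equivIntegralClosure X (genericPoint X) rfl).symm)⟩
  have hn : Module.finrank (X.presheaf.stalk (genericPoint X)) (F.presheaf.stalk (genericPoint X)) = n := by
    rw [hηF.some.finrank_eq, Module.finrank_fin_fun]
  obtain ⟨E', j, hE', hj, -⟩ := (Groth.Agent.S15027.result k X hdim F hF htF n hn).2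
  have hE'c : Coh.IsCoh E' := CD47.isCoh_of_isFinLocFree ((LimTop61.isFinLocFreeOfRank_iff.1 hE').1)
  have : E'.IsQuasicoherent := hE'c.1
  have : (Scheme.Modules.pullback ν).obj E' |>.IsQuasicoherent := QCPull72.isQuasicoherent_pullback ν E'
  have htN : TorSh.IsTorsionFree ((Scheme.Modules.pullback ν).obj E') := fun y => by
    obtain ⟨e⟩ := NodalFactor.nonempty_pullbackStalkEquiv ν E' y
      ⟨(NodalFactor.nonempty_stalkEquiv hE' (ν y)).some.symm⟩
    exact e.symm.injective.moduleIsTorsionFree e.symm (fun r m => map_smul e.symm r m)
  let g := (Scheme.Modules.pullback ν).map j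
  let E := Abelian.coimage g
  let p : (Scheme.Modules.pullback ν).obj F ⟶ E := Abelian.coimage.π g
  let m : E ⟶ (Scheme.Modules.pullback ν).obj E' := Abelian.factorThruCoimage g
  have hpm : p ≫ m = g := Abelian.coimage.fac g
  have hEc : Coh.IsCoh E := isCoh_cokernel _
    (isCoh_kernel g (E4O.isCoh_pullback ν F hF) inferInstance).1 (E4O.isCoh_pullback ν F hF)
  have : E.IsQuasicoherent := hEc.1
  have htE : TorSh.IsTorsionFree E := fun y => by
    have := htN y
    exact (injective_stalkMapM_of_mono m y).moduleIsTorsionFree (stalkLinear m y)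
      (fun r v => map_smul (stalkLinear m y) r v)
  let adj := Scheme.Modules.pullbackPushforwardAdjunction ν
  let φ : F ⟶ (Scheme.Modules.pushforward ν).obj E := adj.homEquiv F E p
  have hsurj : ∀ x, Function.Surjective (stalkMapM φ x) := fun x => by
    obtain ⟨e⟩ := hst x
    exact NormPush.surjective_of_normal_stalk hV htE p
      (IsFractionRing.injective (X.presheaf.stalk x) X.functionField) e
  have hφ : φ ≫ (Scheme.Modules.pushforward ν).map m = j ≫ NodeModules.η ν E' := by
    rw [← adj.homEquiv_naturality_right, hpm, adj.homEquiv_unit]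
    exact (adj.unit.naturality j).symm
  have hmono : Mono φ := mono_of_app_injective φ fun W s t hst => sub_eq_zero.1 (by
    by_cases hW : (W : Set X).Nonempty
    · have hη : genericPoint X ∈ W := ((genericPoint_spec X).mem_open_set_iff W.2).2 (by simpa using hW)
      have hη0 : genericPoint X ∈ V₀ := ((genericPoint_spec X).mem_open_set_iff V₀.2).2 (by simpa using hV.ne)
      refine NormPush.eq_zero_of_germ_generic (inferInstance : F.IsQuasicoherent) htF hη _ ?_
      have := hV.iso
      apply injective_stalkMapM_of_mono j
      refine (NodeModules.bijective_stalk_unit ν (F := E') hη0).1 ?_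
      rw [← stalkMapM_comp, ← hφ, stalkMapM_comp, stalkMapM_germ, map_sub, hst, sub_self, germM_zero]
      exact (map_zero (stalkLinear _ _)).trans ((congrArg _ (map_zero (stalkLinear j _))).trans
        (map_zero (stalkLinear _ _))).symm
    · exact section_ext _ _ _ fun x hx => absurd ⟨x, hx⟩ hW)
  have : IsIso φ := by
    have := epi_of_surjective_stalkMapM φ hsurj
    exact isIso_of_mono_of_epi φ
  refine ⟨E, ?_, ⟨(asIso φ).symm⟩⟩
  refine NormCurve.isFinLocFreeOfRank k X hdim.le hEc htE n ?_
  have hη0 : ν (genericPoint (Curv2.normalization X)) ∈ V₀ := NormPush.generic_mem hV hV.ne.choose_spec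
  have hηx := NormPush.apply_genericPoint hV
  obtain ⟨eF⟩ : Nonempty (F.presheaf.stalk (ν (genericPoint (Curv2.normalization X))) ≃ₗ[
      X.presheaf.stalk (ν (genericPoint (Curv2.normalization X)))]
        (Fin n → X.presheaf.stalk (ν (genericPoint (Curv2.normalization X))))) := by
    rw [hηx]; exact hηF
  have h1 := rank_eq_of_equiv_equiv (ν.stalkMap (genericPoint (Curv2.normalization X))).hom
    (AddEquiv.ofBijective
      (((NodeSections.sp ν E (genericPoint (Curv2.normalization X)))).comp
        (stalkLinear φ (ν (genericPoint (Curv2.normalization X)))).toAddMonoidHom)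
      ((NormPush.bijective_sp hV E hη0).comp ⟨injective_stalkMapM_of_mono φ _, hsurj _⟩))
    (NormPush.bijective_stalkMap hV hη0) (fun r v => by
      show NodeSections.sp ν E _ (stalkLinear φ _ (r • v)) = _
      rw [map_smul]
      exact NodeSections.sp_smul ν E _ r _)
  rw [Module.finrank, ← h1, ← Module.finrank, eF.finrank_eq, Module.finrank_fin_fun]

end Groth.Agent.Ega11.NormBundles
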