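import Groth.Agent.Ega11.NormPush2
import Groth.Agent.S1585
import Groth.Agent.Tor47.Rat
import Groth.Agent.QC70.PushFinite
import Groth.Agent.QC70.CohOps
import Mathlib

/-! The normalisation of an integral proper curve. -/

set_option autoImplicit false
set_option backward.isDefEq.respectTransparency.types false
universe u

open CategoryTheory CategoryTheory.Limits AlgebraicGeometry TopologicalSpace
open Groth.Agent.QC70

namespace Groth.Agent.Ega11.NormCurve

variable (k : Type u) [Field k] (X : Scheme.{u}) [X.Over (Spec (CommRingCat.of k))] [IsIntegral X]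
  [LocallyOfFiniteType (X ↘ Spec (CommRingCat.of k))]
  [QuasiCompact (X.fromSpecStalk (genericPoint X))] [QuasiSeparated (X.fromSpecStalk (genericPoint X))]

instance : IsIntegral (Curv2.normalization X) :=
  inferInstanceAs (IsIntegral (X.fromSpecStalk (genericPoint X)).normalization)

include k in
theorem isFinite : IsFinite (Curv2.normalizationι X) := (Groth.Agent.S1585.result k X).1

include k in
theorem isLocallyNoetherian_normalization : IsLocallyNoetherian (Curv2.normalization X) := by
  have := isFinite k X
  have : IsLocallyNoetherian X := LocallyOfFiniteType.isLocallyNoetherian (X ↘ Spec (CommRingCat.of k))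
  exact LocallyOfFiniteType.isLocallyNoetherian (Curv2.normalizationι X)

include k in
theorem isNormal (y : Curv2.normalization X) : IsDomain ((Curv2.normalization X).presheaf.stalk y) ∧
    IsIntegrallyClosed ((Curv2.normalization X).presheaf.stalk y) := by
  obtain ⟨h1, h2⟩ := (Groth.Agent.S1585.result k X).2.2.2.2 y
  exact ⟨h1, h2⟩

include k in
theorem isPrincipal (hdim : topologicalKrullDim X ≤ 1) (y : Curv2.normalization X) :
    IsPrincipalIdealRing ((Curv2.normalization X).presheaf.stalk y) := by
  have := isFinite k X
  have := isLocallyNoetherian_normalization k X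
  obtain ⟨hdom, hic⟩ := isNormal k X y
  have hd : Ring.KrullDimLE 1 ((Curv2.normalization X).presheaf.stalk y) := Ring.krullDimLE_iff.mpr
    ((E4O.GeomNormalFinite.ringKrullDim_stalk_le_of_finite (Curv2.normalizationι X) y).trans
      ((FlatMor68.DedekindFlat.stalk_dim_le _).trans hdim))
  exact ((tfae_of_isNoetherianRing_of_isLocalRing_of_isDomain ((Curv2.normalization X).presheaf.stalk y)).out 3 0
    rfl rfl).mp ⟨inferInstance, fun P hP0 hP => IsLocalRing.eq_maximalIdeal
      (Ring.krullDimLE_one_iff_of_noZeroDivisors.mp hd P hP0 hP)⟩

include k in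
/-- the normalisation is an isomorphism over a nonempty open with finite complement of closed points -/
theorem exists_birOn [CompactSpace X] (hdim : topologicalKrullDim X ≤ 1) :
    ∃ V₀ : X.Opens, NormPush.BirOn (Curv2.normalizationι X) V₀ ∧ ((V₀ : Set X)ᶜ).Finite ∧
      ∀ x ∉ V₀, IsClosed ({x} : Set X) := by
  have : IsLocallyNoetherian X := LocallyOfFiniteType.isLocallyNoetherian (X ↘ Spec (CommRingCat.of k))
  have : AlgebraicGeometry.IsNoetherian X := {}
  obtain ⟨V, hne, hiso⟩ := (Groth.Agent.S1585.result k X).2.2.1
  have hη : genericPoint X ∈ V := ((genericPoint_spec X).mem_open_set_iff V.2).2 (by simpa using hne)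
  exact ⟨V, ⟨hiso, hne⟩, Crv77.finite_of_isClosed' hdim V.2.isClosed_compl (fun h => h hη),
    fun x hx => Crv77.isClosed_singleton hdim fun e => hx (e ▸ hη)⟩

include k in
/-- coherent torsion-free modules with given generic rank on the normalisation are locally free -/
theorem isFinLocFreeOfRank (hdim : topologicalKrullDim X ≤ 1) {E : (Curv2.normalization X).Modules}
    (hE : Coh.IsCoh E) (htE : TorSh.IsTorsionFree E) (n : ℕ)
    (hn : Module.finrank ((Curv2.normalization X).presheaf.stalk (genericPoint (Curv2.normalization X)))
      (E.presheaf.stalk (genericPoint (Curv2.normalization X))) = n) : FlatMod.IsFinLocFreeOfRank n E := by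
  have := isLocallyNoetherian_normalization k X
  have := hE.1
  have := hE.2
  have hfree : ∀ y, Module.Free ((Curv2.normalization X).presheaf.stalk y) (E.presheaf.stalk y) := fun y => by
    have := Props58.LocFree.finite_stalk_of_isFiniteType (M := E) y
    obtain ⟨hdom, -⟩ := isNormal k X y
    have := isPrincipal k X hdim y
    have := htE y
    exact Module.free_of_finite_type_torsion_free'
  have hlf := (Div89.isFinLocFree_iff_free_stalks hE).2 hfree
  refine LimTop61.isFinLocFreeOfRank_iff.2 ⟨hlf, fun y => ?_⟩
  have hopen := LimTop61.isOpen_stalkRk_eq hlf (LimTop61.stalkRk E y)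
  have hmem := (genericPoint_specializes y).mem_open hopen (rfl : LimTop61.stalkRk E y = _)
  rw [← show LimTop61.stalkRk E (genericPoint (Curv2.normalization X)) = LimTop61.stalkRk E y from hmem]
  exact hn

end Groth.Agent.Ega11.NormCurve
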