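import Groth.Agent.Ega11.NormFamBase
import Groth.Agent.S0017
import Groth.Agent.S9349
import Groth.Agent.FlatMor68.FlatDimFun
import Groth.Agent.EGA73.Invertible
import Groth.Prelude.Def_PicLoc
import Groth.Prelude.Def_ModQuot
import Mathlib

/-! Direct image of families of semistable sheaves along a finite birational map of curves. -/

set_option autoImplicit false
set_option backward.isDefEq.respectTransparency.types false
universe u

open CategoryTheory CategoryTheory.Limits AlgebraicGeometry TopologicalSpace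
open Groth.Agent.QC70 Groth.Agent.HP96 StabCat

namespace Groth.Agent.Ega11.NormFam

section squares

variable {S X Y : Scheme.{u}} (f : X ⟶ S) (π : Y ⟶ X)

/-- the base change of `π` to a test scheme -/
noncomputable abbrev mapT (T : Over S) : PicF.XT (π ≫ f) T ⟶ PicF.XT f T :=
  pullback.map (π ≫ f) T.hom f T.hom π (𝟙 T.left) (𝟙 S) (Category.comp_id _)
    ((Category.comp_id _).trans (Category.id_comp _).symm)

theorem mapT_proj (T : Over S) : mapT f π T ≫ PicF.XTproj f T = PicF.XTproj (π ≫ f) T :=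
  (pullback.lift_snd _ _ _).trans (Category.comp_id _)

theorem mapT_fst (T : Over S) : mapT f π T ≫ pullback.fst f T.hom = pullback.fst (π ≫ f) T.hom ≫ π :=
  pullback.lift_fst _ _ _

theorem XTmap_fst {T T' : Over S} (g : T' ⟶ T) :
    PicF.XTmap f g ≫ pullback.fst f T.hom = pullback.fst f T'.hom :=
  (pullback.lift_fst _ _ _).trans (Category.comp_id _)

theorem XTmap_proj {T T' : Over S} (g : T' ⟶ T) :
    PicF.XTmap f g ≫ PicF.XTproj f T = PicF.XTproj f T' ≫ g.left :=
  pullback.lift_snd _ _ _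

theorem isPullback_mapT (T : Over S) :
    IsPullback (pullback.fst (π ≫ f) T.hom) (mapT f π T) π (pullback.fst f T.hom) := by
  refine IsPullback.of_bot ?_ (mapT_fst f π T).symm (IsPullback.of_hasPullback f T.hom)
  rw [mapT_proj]
  exact IsPullback.of_hasPullback (π ≫ f) T.hom

theorem isPullback_XTmap {T T' : Over S} (g : T' ⟶ T) :
    IsPullback (PicF.XTmap (π ≫ f) g) (mapT f π T') (mapT f π T) (PicF.XTmap f g) := by
  refine IsPullback.of_right ?_ ?_ (isPullback_mapT f π T)
  · rw [XTmap_fst, XTmap_fst]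
    exact isPullback_mapT f π T'
  · refine pullback.hom_ext ?_ ?_
    · rw [Category.assoc, Category.assoc, mapT_fst, XTmap_fst, mapT_fst, ← Category.assoc, XTmap_fst]
    · change (_ ≫ mapT f π T) ≫ PicF.XTproj f T = (_ ≫ _) ≫ PicF.XTproj f T
      rw [Category.assoc, Category.assoc, mapT_proj, XTmap_proj, XTmap_proj, ← Category.assoc, mapT_proj]

theorem isFinite_mapT [IsFinite π] (T : Over S) : IsFinite (mapT f π T) :=
  MorphismProperty.of_isPullback (P := @IsFinite) (isPullback_mapT f π T) inferInstance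

end squares

variable {k : Type u} [Field k] {X Y : Scheme.{u}} (f : X ⟶ Spec (CommRingCat.of k)) (π : Y ⟶ X)
  {L : X.Modules} {P : Polynomial ℚ}

theorem famSS_congr {T : Over (Spec (CommRingCat.of k))} {x y : (PicF.XT f T).Modules} (e : x ≅ y)
    (hy : Coh.IsCoh y) (h : ShStab.famSS f L P 1 T x) [IsProper f] : ShStab.famSS f L P 1 T y := by
  obtain ⟨_, hfl, hfib⟩ := h
  refine ⟨hy, fun p => FlatMor68.FlatDimFun.isFlatOverAt_of_iso _ e p (hfl p), ?_⟩
  intro Ω _ _ t
  obtain ⟨h1, h2⟩ := hfib Ω t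
  let g : Over.mk (t ≫ T.hom) ⟶ T := Over.homMk t rfl
  letI : (PicF.XT f (Over.mk (t ≫ T.hom))).Over (Spec (CommRingCat.of Ω)) :=
    ⟨PicF.XTproj f (Over.mk (t ≫ T.hom))⟩
  have : IsProper ((PicF.XT f (Over.mk (t ≫ T.hom))) ↘ Spec (CommRingCat.of Ω)) :=
    inferInstanceAs (IsProper (pullback.snd f (t ≫ T.hom)))
  let e' := (Scheme.Modules.pullback (PicF.XTmap f g)).mapIso e
  exact ⟨isHilbPoly_congr e' h1, isSemistable_congr e' (E4O.isCoh_pullback (PicF.XTmap f g) y hy) 1 h2⟩

variable [IsAlgClosed k] [IsIntegral X] [IsIntegral Y] [IsProper f] [IsFinite π] {V₀ : X.Opens}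

theorem famSS_push (hV : NormPush.BirOn π V₀) (hdim : topologicalKrullDim X = 1) (hL : CohB1.IsAmple L)
    {T : Over (Spec (CommRingCat.of k))} {x : (PicF.XT (π ≫ f) T).Modules}
    (h : ShStab.famSS (π ≫ f) ((Scheme.Modules.pullback π).obj L) P 1 T x) :
    ShStab.famSS f L P 1 T ((Scheme.Modules.pushforward (mapT f π T)).obj x) := by
  obtain ⟨hc, hfl, hfib⟩ := h
  have := isFinite_mapT f π T
  refine ⟨isCoh_push _ hc, ?_, ?_⟩
  · refine (Groth.Agent.S9349.result (mapT f π T) (PicF.XTproj f T) x hc.1).1 ?_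
    rw [mapT_proj]
    exact hfl
  intro Ω _ _ t
  obtain ⟨h1, h2⟩ := hfib Ω t
  let s := t ≫ T.hom
  let T' : Over (Spec (CommRingCat.of k)) := Over.mk s
  let g : T' ⟶ T := Over.homMk t rfl
  let XΩ := PicF.XT f T'
  let YΩ := PicF.XT (π ≫ f) T'
  let πΩ := mapT f π T'
  have := isFinite_mapT f π T'
  letI : XΩ.Over (Spec (CommRingCat.of Ω)) := ⟨PicF.XTproj f T'⟩
  letI : YΩ.Over (Spec (CommRingCat.of Ω)) := ⟨PicF.XTproj (π ≫ f) T'⟩
  have : IsProper (XΩ ↘ Spec (CommRingCat.of Ω)) := inferInstanceAs (IsProper (pullback.snd f s))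
  have : IsProper (YΩ ↘ Spec (CommRingCat.of Ω)) := inferInstanceAs (IsProper (pullback.snd (π ≫ f) s))
  have : IsIntegral XΩ := isIntegral_bc f s
  have : IsIntegral YΩ := isIntegral_bc (π ≫ f) s
  have hsurj : Function.Surjective (pullback.fst f s) := by
    have : Surjective s := ⟨fun p => ⟨IsLocalRing.closedPoint Ω, Subsingleton.elim _ _⟩⟩
    exact (pullback.fst f s).surjective
  have hVΩ : NormPush.BirOn πΩ (pullback.fst f s ⁻¹ᵁ V₀) := birOn_pullback (isPullback_mapT f π T') hV hsurj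
  have hdΩ : topologicalKrullDim XΩ = 1 := (Grpd80.dim_pullback_point (Iso.refl _) f s).trans hdim
  have : IsAffineHom s := isAffineHom_of_isAffine s
  have : IsAffineHom (pullback.fst f s) := MorphismProperty.pullback_fst f s inferInstance
  have hLΩ : CohB1.IsAmple ((Scheme.Modules.pullback (pullback.fst f s)).obj L) :=
    Amp73.isAmple_pullback (pullback.fst f s) ⟨inferInstance, fun U hU => by
      have : IsAffine ((pullback.fst f s ⁻¹ᵁ U : XΩ.Opens) : Scheme.{u}) := hU.preimage (pullback.fst f s)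
      infer_instance⟩ hL
  let eL : (Scheme.Modules.pullback πΩ).obj ((Scheme.Modules.pullback (pullback.fst f s)).obj L) ≅
      (Scheme.Modules.pullback (pullback.fst (π ≫ f) s)).obj ((Scheme.Modules.pullback π).obj L) :=
    (Scheme.Modules.pullbackComp πΩ (pullback.fst f s)).app L ≪≫
      (Scheme.Modules.pullbackCongr (isPullback_mapT f π T').w.symm).app L ≪≫
      ((Scheme.Modules.pullbackComp (pullback.fst (π ≫ f) s) π).app L).symm
  have h2' := (isSemistable_congrL eL _ 1).2 h2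
  have h1' : ShStab.IsHilbPoly Ω YΩ ((Scheme.Modules.pullback πΩ).obj
      ((Scheme.Modules.pullback (pullback.fst f s)).obj L))
      ((Scheme.Modules.pullback (PicF.XTmap (π ≫ f) g)).obj x) P :=
    (congrFun (congrFun (isHilbPoly_congrL (k := Ω) eL) _) P).mpr h1
  have := hc.1
  have hcΩ : Coh.IsCoh ((Scheme.Modules.pullback (PicF.XTmap (π ≫ f) g)).obj x) :=
    E4O.isCoh_pullback _ x hc
  obtain ⟨eb⟩ := Groth.Agent.S0017.result (mapT f π T) (PicF.XTmap f g) (PicF.XTmap (π ≫ f) g)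
    (mapT f π T') (isPullback_XTmap f π g) x
  have hπΩ : πΩ ≫ (XΩ ↘ Spec (CommRingCat.of Ω)) = YΩ ↘ Spec (CommRingCat.of Ω) := mapT_proj f π T'
  refine ⟨isHilbPoly_congr eb.symm ?_, isSemistable_congr eb.symm
    (E4O.isCoh_pullback _ _ (isCoh_push _ hc)) 1 (semistable_push hπΩ hVΩ hdΩ hLΩ h2')⟩
  intro m
  rw [eq_hp Ω h1', ← NormStab.hp_push (π := πΩ) hπΩ hLΩ.1 hcΩ]
  exact isHilbPoly_hp (X := XΩ) Ω hLΩ.1 (isCoh_push _ hcΩ) m

variable {T₀ : ObjectProperty (Over (Spec (CommRingCat.of k)))} {M : Over (Spec (CommRingCat.of k))}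

/-- the transformation induced on moduli problems by direct image -/
noncomputable def pushHom (hV : NormPush.BirOn π V₀) (hdim : topologicalKrullDim X = 1) (hL : CohB1.IsAmple L)
    (φ : (ShStab.modSS f L P 1).Hom T₀ M) :
    (ShStab.modSS (π ≫ f) ((Scheme.Modules.pullback π).obj L) P 1).Hom T₀ M where
  app T x hT hx := φ.app T ((Scheme.Modules.pushforward (mapT f π T)).obj x) hT
    ⟨trivial, famSS_push f π hV hdim hL hx.2⟩
  natural {T T'} g x hT hT' hx hx' := by
    have := hx.2.1.1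
    have := isFinite_mapT f π T
    obtain ⟨eb⟩ := Groth.Agent.S0017.result (mapT f π T) (PicF.XTmap f g) (PicF.XTmap (π ≫ f) g)
      (mapT f π T') (isPullback_XTmap f π g) x
    have hok := famSS_push f π hV hdim hL hx'.2
    have hok' : ShStab.famSS f L P 1 T'
        ((Scheme.Modules.pullback (PicF.XTmap f g)).obj ((Scheme.Modules.pushforward (mapT f π T)).obj x)) :=
      famSS_congr f eb.symm (E4O.isCoh_pullback _ _ (isCoh_push _ hx.2.1)) hok
    refine Eq.trans ?_ (φ.natural g _ hT hT' ⟨trivial, famSS_push f π hV hdim hL hx.2⟩ ⟨trivial, hok'⟩)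
    refine φ.resp _ _ hT' _ _ ⟨Coh.structureModule T'.left, EGA73.isInvertible_structureModule, ⟨?_⟩⟩
    exact eb ≪≫ (EGA73.tensUnitRight _).symm ≪≫
      EGA73.tensIso (Iso.refl _) (PicLoc.pullbackStructureIso (PicF.XTproj f T')).symm
  resp {T} x y hT hx hy hr := by
    obtain ⟨N, hN, ⟨e⟩⟩ := hr
    refine φ.resp _ _ hT _ _ ⟨N, hN, ⟨?_⟩⟩
    let i : (Scheme.Modules.pullback (PicF.XTproj (π ≫ f) T)).obj N ≅
        (Scheme.Modules.pullback (mapT f π T)).obj ((Scheme.Modules.pullback (PicF.XTproj f T)).obj N) :=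
      (Scheme.Modules.pullbackCongr (mapT_proj f π T).symm).app N ≪≫
        ((Scheme.Modules.pullbackComp (mapT f π T) (PicF.XTproj f T)).app N).symm
    let e' : @Iso (PicF.XT (π ≫ f) T).Modules _ y (CohB1.tensorMod (X := PicF.XT (π ≫ f) T) x
        ((Scheme.Modules.pullback (PicF.XTproj (π ≫ f) T)).obj N)) := e
    exact (Scheme.Modules.pushforward (mapT f π T)).mapIso
        (e' ≪≫ EGA73.tensIso (@Iso.refl (PicF.XT (π ≫ f) T).Modules _ x) i) ≪≫
      (ValVan29.projIso (mapT f π T) x _ (Amp73.isInvertible_pullback (PicF.XTproj f T) hN)).symm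

theorem existsUnique_induced (hV : NormPush.BirOn π V₀) (hdim : topologicalKrullDim X = 1) (hL : CohB1.IsAmple L)
    {M' : Over (Spec (CommRingCat.of k))}
    (φ' : (ShStab.modSS (π ≫ f) ((Scheme.Modules.pullback π).obj L) P 1).Hom T₀ M')
    (hφ' : ModFun.IsBestApprox T₀ _ M' φ') (φ : (ShStab.modSS f L P 1).Hom T₀ M) :
    ∃! g : M' ⟶ M, ModFun.Induces φ' φ
      (fun (T : Over (Spec (CommRingCat.of k))) (x : (PicF.XT (π ≫ f) T).Modules) (y : (PicF.XT f T).Modules) =>
        Nonempty (y ≅ (Scheme.Modules.pushforward (mapT f π T)).obj x)) g := by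
  obtain ⟨g, hg, huniq⟩ := hφ' M (pushHom f π hV hdim hL φ)
  refine ⟨g, fun T x y hT hx hy ⟨e⟩ => ?_, fun g' hg' => huniq g' fun T x hT hx => ?_⟩
  · refine Eq.trans ?_ (hg T x hT hx)
    refine φ.resp _ _ hT hy _ ⟨Coh.structureModule T.left, EGA73.isInvertible_structureModule, ⟨?_⟩⟩
    exact e.symm ≪≫ (EGA73.tensUnitRight _).symm ≪≫
      EGA73.tensIso (Iso.refl _) (PicLoc.pullbackStructureIso (PicF.XTproj f T)).symm
  · exact hg' T x _ hT hx _ ⟨Iso.refl _⟩

end Groth.Agent.Ega11.NormFam
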