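import Groth.Agent.Ega11.NormStab
import Groth.Agent.Amp73.Powers
import Groth.Agent.FBase64.Products
import Groth.Agent.FBase64.Descend
import Groth.Agent.Grpd80.DimStab
import Mathlib

/-! Finite birational maps of curves: geometric base change and semistable direct images. -/

set_option autoImplicit false
set_option backward.isDefEq.respectTransparency.types false
universe u

open CategoryTheory CategoryTheory.Limits AlgebraicGeometry TopologicalSpace
open Groth.Agent.QC70 Groth.Agent.HP96 StabCat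

namespace Groth.Agent.Ega11.NormFam

theorem isCoh_push {X Y : Scheme.{u}} (f : X ⟶ Y) [IsFinite f] {H : X.Modules} (hH : Coh.IsCoh H) :
    Coh.IsCoh ((Scheme.Modules.pushforward f).obj H) := by
  obtain ⟨_, _⟩ := hH
  haveI := QCqs72.isQuasicoherent_pushforward (M := H) f
  refine ⟨inferInstance, isFiniteType_of_finite_sections _ (fun W : Y.affineOpens => W.1)
    (iSup_affineOpens_eq_top Y) (fun W => W.2) fun W => ?_⟩
  classical
  letI := (f.app W.1).hom.toAlgebra
  haveI : Module.Finite Γ(Y, W.1) Γ(X, f ⁻¹ᵁ W.1) := f.finite_app W.1 W.2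
  obtain ⟨S, hS⟩ := (finite_sections_of_isFiniteType H (W.2.preimage f)).fg_top
  obtain ⟨T, hT⟩ := (inferInstance : Module.Finite Γ(Y, W.1) Γ(X, f ⁻¹ᵁ W.1)).fg_top
  let S' : Finset Γ((Scheme.Modules.pushforward f).obj H, W.1) :=
    (T ×ˢ S).image (fun p => ((p.1 • p.2 : Γ(H, f ⁻¹ᵁ W.1)) :
      Γ((Scheme.Modules.pushforward f).obj H, W.1)))
  refine ⟨⟨S', eq_top_iff.mpr fun t _ => ?_⟩⟩
  let P := Submodule.span Γ(Y, W.1) (S' : Set Γ((Scheme.Modules.pushforward f).obj H, W.1))
  have hspan : (t : Γ(H, f ⁻¹ᵁ W.1)) ∈ Submodule.span Γ(X, f ⁻¹ᵁ W.1) (S : Set Γ(H, f ⁻¹ᵁ W.1)) :=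
    hS ▸ trivial
  have key : ∀ (c : Γ(X, f ⁻¹ᵁ W.1)) (y : Γ(H, f ⁻¹ᵁ W.1)), y ∈ S →
      ((c • y : Γ(H, f ⁻¹ᵁ W.1)) : Γ((Scheme.Modules.pushforward f).obj H, W.1)) ∈ P := by
    intro c y hy
    have hc : c ∈ Submodule.span Γ(Y, W.1) (T : Set Γ(X, f ⁻¹ᵁ W.1)) := hT ▸ trivial
    induction hc using Submodule.span_induction with
    | mem b hb =>
      exact Submodule.subset_span (Finset.mem_coe.mpr (Finset.mem_image.mpr
        ⟨(b, y), Finset.mem_product.mpr ⟨hb, hy⟩, rfl⟩))
    | zero => rw [zero_smul]; exact zero_mem P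
    | add b b' _ _ hb hb' => rw [add_smul]; exact P.add_mem hb hb'
    | smul a b _ hb =>
      rw [show a • b = f.app W.1 a * b from Algebra.smul_def a b, mul_smul]
      exact (QCqs72.pushforward_smul (M := H) f a
        ((b • y : Γ(H, f ⁻¹ᵁ W.1)) : Γ((Scheme.Modules.pushforward f).obj H, W.1))) ▸
          P.smul_mem a hb
  have key' : ∀ (c : Γ(X, f ⁻¹ᵁ W.1)) (y : Γ(H, f ⁻¹ᵁ W.1)),
      y ∈ Submodule.span Γ(X, f ⁻¹ᵁ W.1) (S : Set Γ(H, f ⁻¹ᵁ W.1)) →
      ((c • y : Γ(H, f ⁻¹ᵁ W.1)) : Γ((Scheme.Modules.pushforward f).obj H, W.1)) ∈ P := by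
    intro c y hy
    induction hy using Submodule.span_induction generalizing c with
    | mem y hy => exact key c y hy
    | zero => rw [smul_zero]; exact zero_mem P
    | add y z _ _ hy hz => rw [smul_add]; exact P.add_mem (hy c) (hz c)
    | smul d y _ hy => rw [smul_smul]; exact hy (c * d)
  have := key' 1 t hspan
  rwa [one_smul] at this

section geom

variable {k Ω : Type u} [Field k] [Field Ω] {X Y : Scheme.{u}}

theorem isIntegral_bc [IsAlgClosed k] (f : X ⟶ Spec (CommRingCat.of k)) [IsIntegral X] [IsSeparated f]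
    [LocallyOfFiniteType f] [QuasiCompact f] (s : Spec (CommRingCat.of Ω) ⟶ Spec (CommRingCat.of k)) :
    IsIntegral (pullback f s) := by
  have hGI : GeometricallyIrreducible f := by
    refine ⟨geometrically_iff_of_commRing_of_isClosedUnderIsomorphisms.mpr fun K _ _ => ?_⟩
    rw [irreducibleSpace_def]
    simpa using Groth.Agent.FBase64.isIrreducible_preimage_fst f (algebraMap k K)
      (IrreducibleSpace.isIrreducible_univ X)
  have : IrreducibleSpace ↥(pullback f s) := by
    rw [irreducibleSpace_def]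
    simpa using (pullback.snd f s).isIrreducible_preimage (pullback.snd f s).isOpenMap
      (IrreducibleSpace.isIrreducible_univ _)
  have : GeometricallyReduced f := by
    have : IsIso (Spec.map (CommRingCat.ofHom (algebraMap k k))) := by
      rw [Algebra.algebraMap_self, CommRingCat.ofHom_id, Spec.map_id]; infer_instance
    have h1 := @pullback_fst_iso_of_right_iso _ _ _ _ _ f (Spec.map (CommRingCat.ofHom (algebraMap k k))) this
    have : AlgebraicGeometry.IsReduced (FBase.bc f k) :=
      @isReduced_of_isOpenImmersion _ _ (pullback.fst f (Spec.map (CommRingCat.ofHom (algebraMap k k))))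
        (@IsOpenImmersion.of_isIso _ _ _ h1) _
    exact Groth.Agent.FBase64.geometricallyReduced_of_isReduced_perfect f k
  have : IsReduced (pullback f s) := Groth.Agent.FBase64.isReduced_pullback_of_geometricallyReduced f s
  exact isIntegral_of_irreducibleSpace_of_isReduced _

theorem birOn_pullback {X' Y' : Scheme.{u}} {π : Y ⟶ X} {π' : Y' ⟶ X'} {g : X' ⟶ X} {g' : Y' ⟶ Y}
    (h : IsPullback g' π' π g) {V₀ : X.Opens} (hV : NormPush.BirOn π V₀) (hg : Function.Surjective g) :
    NormPush.BirOn π' (g ⁻¹ᵁ V₀) := by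
  refine ⟨?_, ?_⟩
  · have := hV.iso
    have hT := isPullback_morphismRestrict π' (g ⁻¹ᵁ V₀)
    have hT' := isPullback_morphismRestrict π V₀
    have big := hT.paste_vert h.flip
    rw [← morphismRestrict_ι g V₀] at big
    obtain ⟨c, hc1, hc2⟩ := hT'.exists_lift ((π' ∣_ (g ⁻¹ᵁ V₀)) ≫ (g ∣_ V₀))
      ((π' ⁻¹ᵁ (g ⁻¹ᵁ V₀)).ι ≫ g') (by rw [Category.assoc, Category.assoc]; exact big.w)
    have sq : IsPullback (π' ∣_ (g ⁻¹ᵁ V₀)) c (g ∣_ V₀) (π ∣_ V₀) :=
      IsPullback.of_bot (hc2 ▸ big) hc1.symm hT'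
    exact sq.isIso_fst_of_isIso
  · obtain ⟨x, hx⟩ := hV.ne
    obtain ⟨y, rfl⟩ := hg x
    exact ⟨y, hx⟩

end geom

section fibre

variable {k : Type u} [Field k] {X Y : Scheme.{u}} [X.Over (Spec (CommRingCat.of k))]
  [Y.Over (Spec (CommRingCat.of k))] [IsProper (X ↘ Spec (CommRingCat.of k))]

omit [IsProper (X ↘ Spec (CommRingCat.of k))] in
theorem isHilbPoly_congrL {L L' : X.Modules} (e : L' ≅ L) :
    ShStab.IsHilbPoly k X L' = ShStab.IsHilbPoly k X L := by
  funext E P
  refine propext (forall_congr' fun m => ?_)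
  let i : ShStab.twist X L' E m ≅ ShStab.twist X L E m := EGA73.tensIso (Iso.refl E) (Amp73.powIso e m)
  rw [Crv77.euler_congr i]

omit [IsProper (X ↘ Spec (CommRingCat.of k))] in
theorem isSemistable_congrL {L L' : X.Modules} (e : L' ≅ L) (E : X.Modules) (d : ℕ) :
    ShStab.IsSemistable k X L' E d ↔ ShStab.IsSemistable k X L E d := by
  unfold ShStab.IsSemistable
  rw [isHilbPoly_congrL e]

omit [IsProper (X ↘ Spec (CommRingCat.of k))] in
theorem isHilbPoly_congr {L E E' : X.Modules} (e : E ≅ E') {P : Polynomial ℚ}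
    (h : ShStab.IsHilbPoly k X L E P) : ShStab.IsHilbPoly k X L E' P := fun m => by
  let i : ShStab.twist X L E m ≅ ShStab.twist X L E' m := EGA73.tensIso e (Iso.refl (CohB1.tensorPow L m))
  rw [← Crv77.euler_congr i]
  exact h m

theorem isSemistable_congr {L E E' : X.Modules} (e : E ≅ E') (hc' : Coh.IsCoh E') (d : ℕ)
    (h : ShStab.IsSemistable k X L E d) : ShStab.IsSemistable k X L E' d := by
  obtain ⟨hc, h0, hp, hs⟩ := h
  refine ⟨hc', fun hz => h0 (hz.of_iso e), fun F ι hι hF hF0 => hp F (ι ≫ e.inv) inferInstance hF hF0,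
    fun F ι hι hF hF0 hi pF pE hpF hpE => ?_⟩
  exact hs F (ι ≫ e.inv) inferInstance hF hF0 (fun hh => hi (IsIso.of_isIso_comp_right ι e.inv)) pF pE hpF
    (isHilbPoly_congr e.symm hpE)

variable [IsProper (Y ↘ Spec (CommRingCat.of k))] [IsIntegral X] [IsIntegral Y] {π : Y ⟶ X} [IsFinite π]
  {L : X.Modules} {V₀ : X.Opens}

/-- direct images of semistable sheaves along finite birational morphisms of curves are semistable -/
theorem semistable_push (hπ : π ≫ (X ↘ Spec (CommRingCat.of k)) = Y ↘ Spec (CommRingCat.of k))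
    (hV : NormPush.BirOn π V₀) (hdim : topologicalKrullDim X = 1) (hL : CohB1.IsAmple L)
    {E : Y.Modules} (h : ShStab.IsSemistable k Y ((Scheme.Modules.pullback π).obj L) E 1) :
    ShStab.IsSemistable k X L ((Scheme.Modules.pushforward π).obj E) 1 := by
  have := Crv77.isNoetherian_of_proper k X
  have := Crv77.isNoetherian_of_proper k Y
  have hLY := NormStab.isAmple_pullback (π := π) hL
  obtain ⟨hE, hE0, hpu, -⟩ := id h
  have hdimY := NormStab.dim_eq (k := k) hπ hV hdim
  have := hE.1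
  have := hE.2
  have hPc := isCoh_pushforward_of_isFinite π E hE
  have := hPc.1
  have := hPc.2
  have hP0 : ¬ IsZero ((Scheme.Modules.pushforward π).obj E) := fun hz => hE0 (by
    rw [isZero_iff_hp_eq_zero k hLY hE, ← NormStab.hp_push hπ hL.1 hE]
    exact hp_eq_zero_of_isZero k hL.1 hz)
  have hηY : genericPoint Y ∈ CohB1.support E := by
    by_contra hn
    have hS := Crv77.finite_of_isClosed' hdimY.le (isClosed_support E) hn
    have hcl : ∀ x ∈ CohB1.support E, IsClosed ({x} : Set Y) := fun x hx =>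
      Crv77.isClosed_singleton hdimY.le fun e => hn (e ▸ hx)
    exact absurd ((pure_dim hpu hE hE0).symm.le.trans (NormStab.dim_le_zero_of_finite hS hcl)) (by norm_num)
  have hηV : genericPoint X ∈ V₀ := ((genericPoint_spec X).mem_open_set_iff V₀.2).2 (by simpa using hV.ne)
  have hπη := NormPush.apply_genericPoint hV
  have hηX : genericPoint X ∈ CohB1.support ((Scheme.Modules.pushforward π).obj E) := by
    by_contra hn
    have := notMem_support_iff.1 hn
    rw [← hπη] at this
    have hb := NormPush.bijective_sp hV E (y := genericPoint Y) (hπη ▸ hηV)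
    exact notMem_support_iff.2 hb.2.subsingleton hηY
  have hXd : topologicalKrullDim (CohB1.support ((Scheme.Modules.pushforward π).obj E)) =
      ((1 : ℕ) : WithBot ℕ∞) := by
    have huniv : CohB1.support ((Scheme.Modules.pushforward π).obj E) = Set.univ :=
      Set.eq_univ_of_forall fun x => (genericPoint_specializes x).mem_closed (isClosed_support _) hηX
    rw [huniv, (Homeomorph.Set.univ X).isHomeomorph.topologicalKrullDim_eq, hdim]
    rfl
  have hαE : 0 ≤ alpha 1 (hp k ((Scheme.Modules.pullback π).obj L) E) := (alpha_pure_pos hLY hpu hE hE0).le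
  rw [isSS_iff hL hPc hP0 hXd]
  intro G ι hι hG hG0 hi pG pE hpG hpE
  obtain ⟨G', m, i, hm, hG', hmi, hfac, hQd⟩ := NormStab.exists_saturation hV hdim hE hG ι
  have hG'0 : ¬ IsZero G' := fun h0 => hG0 (IsZero.of_mono i (Functor.map_isZero _ h0))
  rw [eq_hp k hpG, eq_hp k hpE, NormStab.hp_push hπ hL.1 hE, redLE_iff]
  have hsum := hp_mono k hL.1 i hG (isCoh_pushforward_of_isFinite π G' hG')
  obtain ⟨hα0, hQ0, -⟩ := NormStab.coeff_small (k := k) hL
    (QC70.isCoh_cokernel i hG.1 (isCoh_pushforward_of_isFinite π G' hG')) hQd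
  rw [NormStab.hp_push hπ hL.1 hG'] at hsum
  have h1 := redLE_iff.1 (ss_sub_le hLY h m hG' hG'0)
  have key : cross 1 (hp k L G) (hp k ((Scheme.Modules.pullback π).obj L) E) =
      cross 1 (hp k ((Scheme.Modules.pullback π).obj L) G') (hp k ((Scheme.Modules.pullback π).obj L) E) +
        alpha 1 (hp k ((Scheme.Modules.pullback π).obj L) E) • hp k L (cokernel i) := by
    rw [hsum, cross, cross, alpha_add, hα0, add_zero, smul_add]
    abel
  rw [key]
  exact h1.add (hQ0.smul hαE)

end fibre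

end Groth.Agent.Ega11.NormFam
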