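import Groth.Agent.Ega11.NormPush2
import Groth.Agent.CAlg8.Canon.Basic
import Groth.Agent.RegSh99.Basic
import Groth.Agent.QC70.PushFinite
import Groth.Agent.VB30.Curve
import Groth.Agent.CD47.Resolution
import Mathlib

/-! Invertible modules on a finite birational cover descend. -/

set_option autoImplicit false
set_option backward.isDefEq.respectTransparency.types false
universe u

open CategoryTheory CategoryTheory.Limits AlgebraicGeometry TopologicalSpace
open Groth.Agent.QC70

namespace Groth.Agent.Ega11.NormLine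

variable {X Y : Scheme.{u}} {π : Y ⟶ X} [IsIntegral X] [IsIntegral Y] [IsLocallyNoetherian X]
  [IsLocallyNoetherian Y] [IsFinite π] {V₀ : X.Opens}

theorem exists_line (hV : NormPush.BirOn π V₀) (hfin : ((V₀ : Set X)ᶜ).Finite)
    (hcl : ∀ x ∉ V₀, IsClosed ({x} : Set X)) (hdim : topologicalKrullDim X ≤ 1) (N : Y.Modules)
    (hN : PicF.IsInvertible N) :
    ∃ L : X.Modules, PicF.IsInvertible L ∧ Nonempty ((Scheme.Modules.pullback π).obj L ≅ N) := by
  classical
  have hrk := RegSh99.rankOne_of_isInvertible hN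
  have hNc : Coh.IsCoh N := CD47.isCoh_of_isFinLocFree ((LimTop61.isFinLocFreeOfRank_iff.1 hrk).1)
  have : N.IsQuasicoherent := hNc.1
  have htN : TorSh.IsTorsionFree N := NodalFactor.isTorsionFree_of_finLocFree hrk
  have hNe : ∀ y, Nonempty (N.presheaf.stalk y ≃ₗ[Y.presheaf.stalk y] Y.presheaf.stalk y) := fun y => by
    obtain ⟨e⟩ := NodalFactor.nonempty_stalkEquiv hrk y
    exact ⟨e.symm.trans (LinearEquiv.funUnique (Fin 1) _ _)⟩
  let P := (Scheme.Modules.pushforward π).obj N
  have hPc : Coh.IsCoh P := isCoh_pushforward_of_isFinite π N hNc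
  have htP : TorSh.IsTorsionFree P := NormPush.isTorsionFree_push hV (inferInstance : N.IsQuasicoherent) htN
  -- a generator at every point
  have hgen : ∀ x : X, ∃ e : P.presheaf.stalk x,
      (∀ (y : Y) (h : π y = x), ∀ (W : X.Opens) (hW : x ∈ W) (m : Γ(P, W)), germM P W x hW m = e →
        Submodule.span (Y.presheaf.stalk y) {germM N (π ⁻¹ᵁ W) y (show π y ∈ W from h ▸ hW) m} = ⊤) := by
    intro x
    obtain ⟨_, ⟨V, hVa, rfl⟩, hxV, -⟩ := X.isBasis_affineOpens.exists_subset_of_mem_open (Set.mem_univ x) isOpen_univ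
    obtain ⟨m, hm⟩ := NormPush.exists_fibre_gen hNe hVa hxV (π := π)
    refine ⟨germM P V x hxV m, fun y h W hW m' hm' => ?_⟩
    subst h
    rw [← NodeSections.sp_germ π N y hW m', hm', NodeSections.sp_germ π N y hxV m]
    exact hm y hxV rfl
  choose e he using hgen
  have hespan : ∀ y : Y, Submodule.span (Y.presheaf.stalk y) {NodeSections.sp π N y (e (π y))} = ⊤ := fun y => by
    obtain ⟨W, hW, m, hm⟩ := germM_exist (e (π y))
    rw [← hm, NodeSections.sp_germ]
    exact he (π y) y rfl W hW m hm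
  have hene : ∀ x : X, (∃ y, π y = x) → e x ≠ 0 := by
    rintro _ ⟨y, rfl⟩ h0
    obtain ⟨eN⟩ := hNe y
    have h1 := hespan y
    rw [h0, map_zero, Submodule.span_singleton_eq_bot.2 rfl] at h1
    exact one_ne_zero (α := Y.presheaf.stalk y) (eN.symm.injective (by
      rw [map_zero]
      exact (Submodule.mem_bot _).1 (h1 ▸ (Submodule.mem_top : eN.symm 1 ∈ ⊤))))
  have hsurjπ : ∀ x : X, ∃ y, π y = x := by
    intro x
    have hd : DenseRange π.base := fun z => by
      refine mem_closure_iff.2 fun O hO hzO => ?_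
      have hη : genericPoint X ∈ O := ((genericPoint_spec X).mem_open_set_iff hO).2 ⟨z, Set.mem_univ z, hzO⟩
      exact ⟨genericPoint X, hη, genericPoint Y, NormPush.apply_genericPoint hV⟩
    have hc : IsClosed (Set.range π.base) := π.isClosedMap.isClosed_range
    have : x ∈ Set.range π.base := by rw [← hc.closure_eq, hd.closure_range]; trivial
    exact this
  have hspan1 : ∀ x : X, Function.Injective (LinearMap.toSpanSingleton (X.presheaf.stalk x) _ (e x)) := fun x a b h => by
    have := htP x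
    exact smul_left_injective _ (hene x (hsurjπ x)) h
  have hsurj0 : ∀ x ∈ V₀, Function.Surjective (LinearMap.toSpanSingleton (X.presheaf.stalk x) _ (e x)) := by
    intro x hx z
    obtain ⟨y, rfl⟩ := hsurjπ x
    obtain ⟨a, ha⟩ := Submodule.mem_span_singleton.1 ((hespan y).ge (Submodule.mem_top : NodeSections.sp π N y z ∈ ⊤))
    obtain ⟨c, rfl⟩ := (NormPush.bijective_stalkMap hV hx).2 a
    exact ⟨c, (NormPush.bijective_sp hV N hx).1 ((NodeSections.sp_smul π N y c _).trans ha)⟩
  -- the lattice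
  let S : Set X := (V₀ : Set X)ᶜ
  obtain ⟨L, i, hLc, hi, hrange, hbij⟩ := LatticeSheaf.exists_sub hPc (S := S) hfin hcl
    (fun s _ => Submodule.span (X.presheaf.stalk s) {e s}) (fun s hs z g hg => by
      obtain ⟨W, hsW, m, rfl⟩ := germM_exist z
      obtain ⟨W', hsW', m', hm'⟩ := germM_exist (e s)
      obtain ⟨_, ⟨V, hVa, rfl⟩, hsV, hVW⟩ := X.isBasis_affineOpens.exists_subset_of_mem_open
        (show s ∈ (W : Set X) ∩ W' from ⟨hsW, hsW'⟩) (W.2.inter W'.2)
      have h₁ : V ≤ W := fun _ h => (hVW h).1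
      have h₂ : V ≤ W' := fun _ h => (hVW h).2
      let z₀ : Γ(N, π ⁻¹ᵁ V) := res P h₁ m
      let e₀ : Γ(N, π ⁻¹ᵁ V) := res P h₂ m'
      have hη : genericPoint Y ∈ π ⁻¹ᵁ V := NormPush.generic_mem hV hsV
      have hη0 : π (genericPoint Y) ∈ V₀ := NormPush.generic_mem hV hV.ne.choose_spec
      have he₀ : e₀ ≠ 0 := fun h0 => hene s (hsurjπ s) (by
        rw [← hm', ← germM_res (M := P) h₂ hsV m', show res P h₂ m' = 0 from h0]
        exact germM_zero hsV)
      have heη : germM N (π ⁻¹ᵁ V) (genericPoint Y) hη e₀ ≠ 0 := fun h0 => he₀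
        (NormPush.eq_zero_of_germ_generic (inferInstance : N.IsQuasicoherent) htN hη _ h0)
      obtain ⟨eN⟩ := hNe (genericPoint Y)
      have hfield : IsField (Y.presheaf.stalk (genericPoint Y)) := Field.toIsField Y.functionField
      obtain ⟨u, hu⟩ := hfield.mul_inv_cancel (fun h0 => heη (eN.injective (h0.trans eN.map_zero.symm)))
      let a := eN (germM N (π ⁻¹ᵁ V) (genericPoint Y) hη z₀) * u
      obtain ⟨α, hα⟩ := (NormPush.bijective_stalkMap hV hη0).2 a
      let := Div89.stalkAlg V _ (show π (genericPoint Y) ∈ V from hη)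
      have := Div89.primeAt_isPrime ⟨V, hVa⟩ _ (show π (genericPoint Y) ∈ V from hη)
      have : IsLocalization.AtPrime (X.presheaf.stalk (π (genericPoint Y)))
          (Div89.primeAt ⟨V, hVa⟩ _ (show π (genericPoint Y) ∈ V from hη)) :=
        Div89.isLocalization_stalk ⟨V, hVa⟩ _ (show π (genericPoint Y) ∈ V from hη)
      obtain ⟨⟨c, b⟩, hcb⟩ := IsLocalization.surj
        (Div89.primeAt ⟨V, hVa⟩ _ (show π (genericPoint Y) ∈ V from hη)).primeCompl α
      have hb0 : b.1 ≠ 0 := fun h0 => b.2 (h0 ▸ zero_mem _)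
      have hrel : (π.app V b.1 • z₀ : Γ(N, π ⁻¹ᵁ V)) = π.app V c • e₀ := by
        rw [← sub_eq_zero]
        refine NormPush.eq_zero_of_germ_generic (inferInstance : N.IsQuasicoherent) htN hη _ ?_
        refine (map_sub (N.presheaf.germ (π ⁻¹ᵁ V) (genericPoint Y) hη).hom _ _).trans ?_
        refine sub_eq_zero.2 ((germM_smul hη _ _).trans (Eq.trans ?_ (germM_smul hη _ _).symm))
        apply eN.injective
        rw [map_smul, map_smul, smul_eq_mul, smul_eq_mul, ← Scheme.Hom.germ_stalkMap_apply π V (genericPoint Y) hη,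
          ← Scheme.Hom.germ_stalkMap_apply π V (genericPoint Y) hη]
        have hcb' : α * X.presheaf.germ V (π (genericPoint Y)) hη b.1 = X.presheaf.germ V (π (genericPoint Y)) hη c := hcb
        rw [← hcb', map_mul, hα]
        show π.stalkMap (genericPoint Y) _ * eN _ = (eN _ * u) * π.stalkMap (genericPoint Y) _ * eN _
        linear_combination (-(π.stalkMap (genericPoint Y) (X.presheaf.germ V (π (genericPoint Y)) hη b.1)) *
          eN (germM N (π ⁻¹ᵁ V) (genericPoint Y) hη z₀)) * hu
      have hβ : X.presheaf.germ V s hsV b.1 ≠ 0 := fun h =>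
        hb0 (germ_injective_of_isIntegral X s hsV (h.trans (map_zero _).symm))
      have : g ∈ (Ideal.span {X.presheaf.germ V s hsV b.1}).radical := by
        rw [Ideal.radical_eq_sInf, Submodule.mem_sInf]
        rintro q ⟨hcq, hq⟩
        have hq0 : q ≠ ⊥ := fun h => hβ (by simpa [h] using hcq (Ideal.mem_span_singleton_self _))
        have hd : Ring.KrullDimLE 1 (X.presheaf.stalk s) :=
          Ring.krullDimLE_iff.mpr ((FlatMor68.DedekindFlat.stalk_dim_le s).trans hdim)
        rw [IsLocalRing.eq_maximalIdeal (Ring.krullDimLE_one_iff_of_noZeroDivisors.mp hd q hq0 hq)]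
        exact hg
      obtain ⟨n, hn⟩ := this
      obtain ⟨d, hd⟩ := Ideal.mem_span_singleton'.1 hn
      refine ⟨n, Submodule.mem_span_singleton.2 ⟨d * X.presheaf.germ V s hsV c, ?_⟩⟩
      rw [← hd, mul_smul, mul_smul]
      refine congrArg (d • ·) ?_
      rw [← hm', ← germM_res (M := P) h₂ hsV m', ← germM_res (M := P) h₁ hsV m]
      refine (germM_smul (M := P) hsV c _).symm.trans (Eq.trans ?_ (germM_smul (M := P) hsV b.1 _))
      exact congrArg _ hrel.symm)
  have hstalk : ∀ x, Nonempty ((Fin 1 → X.presheaf.stalk x) ≃ₗ[X.presheaf.stalk x] L.presheaf.stalk x) := fun x => by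
    by_cases hx : x ∈ S
    · exact ⟨(LinearEquiv.funUnique (Fin 1) _ _).trans ((LinearEquiv.ofInjective _ (hspan1 x)).trans
        ((LinearEquiv.ofEq _ _ ((LinearMap.range_toSpanSingleton (e x)).trans (hrange x hx).symm)).trans
          (LinearEquiv.ofInjective (stalkLinear i x) (injective_stalkMapM_of_mono i x)).symm))⟩
    · exact ⟨(LinearEquiv.funUnique (Fin 1) _ _).trans
        ((LinearEquiv.ofBijective _ ⟨hspan1 x, hsurj0 x (not_not.1 hx)⟩).trans
          (LinearEquiv.ofBijective (stalkLinear i x) (hbij x hx)).symm)⟩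
  have hLlf := LatticeNodes.isFinLocFreeOfRank_of_stalks hLc 1 hstalk
  refine ⟨L, CAlg8.Canon.isInvertible_of_rank_one hLlf, ?_⟩
  have : L.IsQuasicoherent := hLc.1
  let adj := Scheme.Modules.pullbackPushforwardAdjunction π
  let φ : (Scheme.Modules.pullback π).obj L ⟶ N := (adj.homEquiv L N).symm i
  have hφi : NodeModules.η π L ≫ (Scheme.Modules.pushforward π).map φ = i :=
    (adj.homEquiv_unit _ _ _).symm.trans ((adj.homEquiv L N).apply_symm_apply i)
  have hsurj : ∀ y : Y, Function.Surjective (stalkMapM φ y) := fun y z => by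
    obtain ⟨a, ha⟩ := Submodule.mem_span_singleton.1 ((hespan y).ge (Submodule.mem_top : z ∈ ⊤))
    obtain ⟨l, hl⟩ : e (π y) ∈ LinearMap.range (stalkLinear i (π y)) := by
      by_cases hx : π y ∈ S
      · rw [hrange _ hx]; exact Submodule.mem_span_singleton_self _
      · exact (hbij _ hx).2 _
    refine ⟨a • NodeSections.κ π L y l, ((stalkLinear φ y).map_smul a _).trans (Eq.trans ?_ ha)⟩
    refine congrArg (a • ·) ?_
    show stalkMapM φ y (NodeSections.sp π _ y (stalkMapM (NodeModules.η π L) (π y) l)) = _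
    rw [← NodePresentation.sp_stalkMapM, ← stalkMapM_comp, hφi]
    exact congrArg _ hl
  have hinj : ∀ y : Y, Function.Injective (stalkMapM φ y) := fun y => by
    obtain ⟨eM⟩ := NodalFactor.nonempty_pullbackStalkEquiv π L y ⟨(hstalk (π y)).some.symm⟩
    obtain ⟨eN⟩ := NodalFactor.nonempty_stalkEquiv hrk y
    have h1 : Function.Surjective (eN.symm.toLinearMap ∘ₗ stalkLinear φ y ∘ₗ eM.toLinearMap) :=
      eN.symm.surjective.comp ((hsurj y).comp eM.surjective)
    have h2 := OrzechProperty.injective_of_surjective_endomorphism _ h1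
    intro a b hab
    obtain ⟨a, rfl⟩ := eM.surjective a
    obtain ⟨b, rfl⟩ := eM.surjective b
    exact congrArg eM (h2 (congrArg eN.symm hab))
  have := epi_of_surjective_stalkMapM φ hsurj
  have := mono_of_injective_stalkMapM φ hinj
  have := isIso_of_mono_of_epi φ
  exact ⟨asIso φ⟩

end Groth.Agent.Ega11.NormLine
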