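import Groth.Agent.Ega11.NodeSections
import Groth.Agent.Ega11.NodePresentation
import Groth.Agent.CAlg9.BirationalPoint
import Mathlib

/-! Direct images along a finite morphism of integral schemes which is an isomorphism over a nonempty open. -/

set_option autoImplicit false
set_option backward.isDefEq.respectTransparency.types false
universe u

open CategoryTheory CategoryTheory.Limits AlgebraicGeometry TopologicalSpace
open Groth.Agent.QC70

namespace Groth.Agent.Ega11.NormPush

variable {X Y : Scheme.{u}}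

theorem eq_genericPoint_of_isField [IsIntegral X] {x : X} (hx : IsField (X.presheaf.stalk x)) : x = genericPoint X :=
  (TorFreeAss.maxPt_of_isField hx _ (genericPoint_specializes x)).symm

/-- a section of a torsion-free module on an integral scheme is determined by its germ at the generic point -/
theorem eq_zero_of_germ_generic [IsIntegral X] [IsLocallyNoetherian X] {M : X.Modules} (hM : Coh.IsQCoh M)
    (htM : TorSh.IsTorsionFree M) {W : X.Opens} (hη : genericPoint X ∈ W) (m : Γ(M, W))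
    (h : germM M W (genericPoint X) hη m = 0) : m = 0 :=
  TorFreeAss.eq_zero_of_germ M hM htM m fun z hz hf => by
    obtain rfl := eq_genericPoint_of_isField hf
    exact h

variable (π : Y ⟶ X)

/-- `π` is an isomorphism over a nonempty open -/
structure BirOn (V₀ : X.Opens) : Prop where
  iso : IsIso (π ∣_ V₀)
  ne : (V₀ : Set X).Nonempty

variable {π} {V₀ : X.Opens} (hV : BirOn π V₀)

theorem exists_preimage {x : X} (_hV : BirOn π V₀) (hx : x ∈ V₀) : ∃ y : Y, π y = x := by
  have := _hV.iso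
  obtain ⟨w, hw⟩ := (asIso (π ∣_ V₀)).schemeIsoToHomeo.surjective ⟨x, hx⟩
  exact ⟨w.1, by rw [← morphismRestrict_base_coe]; exact congrArg Subtype.val hw⟩

include hV in
theorem bijective_stalkMap {y : Y} (hy : π y ∈ V₀) : Function.Bijective (π.stalkMap y) := by
  have := hV.iso
  have := CAlg9.BirationalPoint.isIso_stalkMap_of_restrict π V₀ y hy
  exact ConcreteCategory.bijective_of_isIso (π.stalkMap y)

include hV in
theorem eq_of_apply_eq {y y' : Y} (hy : π y ∈ V₀) (h : π y = π y') : y = y' := by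
  have := hV.iso
  exact CAlg9.BirationalPoint.injOn_of_restrict π V₀ hy h

include hV in
theorem bijective_sp (M : Y.Modules) {y : Y} (hy : π y ∈ V₀) : Function.Bijective (NodeSections.sp π M y) := by
  have := hV.iso
  let e := (asIso (π ∣_ V₀)).schemeIsoToHomeo
  constructor
  · rw [injective_iff_map_eq_zero]
    intro z hz
    obtain ⟨W, hW, m, rfl⟩ := germM_exist z
    rw [NodeSections.sp_germ] at hz
    obtain ⟨W', hle, hyW', h0⟩ := germM_eq_zero hz
    -- the image of a small neighbourhood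
    let O : X.Opens := ⟨Subtype.val '' (e '' (Subtype.val ⁻¹' (W' : Set Y))),
      V₀.2.isOpenMap_subtype_val _ (e.isOpenMap _ (W'.2.preimage continuous_subtype_val))⟩
    have hOW : ∀ w : Y, π w ∈ O → w ∈ W' := by
      rintro w ⟨_, ⟨v, hv, rfl⟩, hw⟩
      have hvw : π v.1 = π w := by rw [← hw, ← morphismRestrict_base_coe]; rfl
      obtain rfl := eq_of_apply_eq hV v.2 hvw
      exact hv
    have hyO : π y ∈ O := ⟨_, ⟨⟨y, hy⟩, hyW', rfl⟩, morphismRestrict_base_coe π V₀ ⟨y, hy⟩⟩
    have hOle : O ≤ W := by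
      rintro _ ⟨_, ⟨v, hv, rfl⟩, rfl⟩
      have h1 : v.1 ∈ π ⁻¹ᵁ W := hle hv
      rw [show Subtype.val (e v) = π v.1 from morphismRestrict_base_coe π V₀ v]
      exact h1
    rw [← germM_res (M := (Scheme.Modules.pushforward π).obj M) hOle hyO m]
    refine (congrArg _ ?_).trans (germM_zero hyO)
    show res M (π.preimage_mono hOle) (m : Γ(M, π ⁻¹ᵁ W)) = 0
    have hOW' : π ⁻¹ᵁ O ≤ W' := fun w hw => hOW w hw
    refine (res_res (M := M) hle hOW' (m : Γ(M, π ⁻¹ᵁ W))).symm.trans ?_
    rw [h0]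
    exact res_zero _
  · intro z
    obtain ⟨W, hW, m, rfl⟩ := germM_exist z
    let O : X.Opens := ⟨Subtype.val '' (e '' (Subtype.val ⁻¹' (W : Set Y))),
      V₀.2.isOpenMap_subtype_val _ (e.isOpenMap _ (W.2.preimage continuous_subtype_val))⟩
    have hOW : π ⁻¹ᵁ O ≤ W := by
      rintro w ⟨_, ⟨v, hv, rfl⟩, hw⟩
      have hvw : π v.1 = π w := by rw [← hw, ← morphismRestrict_base_coe]; rfl
      obtain rfl := eq_of_apply_eq hV v.2 hvw
      exact hv
    have hyO : π y ∈ O := ⟨_, ⟨⟨y, hy⟩, hW, rfl⟩, morphismRestrict_base_coe π V₀ ⟨y, hy⟩⟩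
    refine ⟨germM ((Scheme.Modules.pushforward π).obj M) O (π y) hyO (res M hOW m), ?_⟩
    rw [NodeSections.sp_germ]
    exact germM_res hOW hyO m

variable [IsIntegral X] [IsIntegral Y]

include hV in
theorem apply_genericPoint : π (genericPoint Y) = genericPoint X := by
  obtain ⟨y, hy⟩ := exists_preimage hV (((genericPoint_spec X).mem_open_set_iff V₀.2).2
    (by simpa using hV.ne) : genericPoint X ∈ V₀)
  have h := (genericPoint_specializes y).map π.continuous
  rw [hy] at h
  exact (h.antisymm (genericPoint_specializes _)).eq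

include hV in
theorem generic_mem {V : X.Opens} {x : X} (hx : x ∈ V) : π (genericPoint Y) ∈ V := by
  rw [apply_genericPoint hV]
  exact (genericPoint_specializes x).mem_open V.2 hx

include hV in
theorem app_injective {V : X.Opens} {x : X} (hx : x ∈ V) : Function.Injective (π.app V) := by
  rw [injective_iff_map_eq_zero]
  intro c hc
  have hη : π (genericPoint Y) ∈ V := generic_mem hV hx
  have hη0 : π (genericPoint Y) ∈ V₀ := generic_mem hV hV.ne.choose_spec
  refine germ_injective_of_isIntegral X _ hη ?_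
  rw [map_zero]
  refine (bijective_stalkMap hV hη0).1 ?_
  rw [map_zero, Scheme.Hom.germ_stalkMap_apply, hc, map_zero]

include hV in
/-- every function upstairs is a fraction of functions downstairs -/
theorem exists_frac {V : X.Opens} (hVa : IsAffineOpen V) {x : X} (hx : x ∈ V) (s : Γ(Y, π ⁻¹ᵁ V)) :
    ∃ b c : Γ(X, V), b ≠ 0 ∧ π.app V b * s = π.app V c := by
  have hη : π (genericPoint Y) ∈ V := generic_mem hV hx
  have hη0 : π (genericPoint Y) ∈ V₀ := generic_mem hV hV.ne.choose_spec
  let := Div89.stalkAlg V _ hη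
  have := Div89.primeAt_isPrime ⟨V, hVa⟩ _ hη
  have : IsLocalization.AtPrime (X.presheaf.stalk (π (genericPoint Y))) (Div89.primeAt ⟨V, hVa⟩ _ hη) :=
    Div89.isLocalization_stalk ⟨V, hVa⟩ _ hη
  obtain ⟨α, hα⟩ := (bijective_stalkMap hV hη0).2 (Y.presheaf.germ (π ⁻¹ᵁ V) (genericPoint Y) hη s)
  obtain ⟨⟨c, b⟩, hcb⟩ := IsLocalization.surj (Div89.primeAt ⟨V, hVa⟩ _ hη).primeCompl α
  refine ⟨b.1, c, fun h0 => b.2 (h0 ▸ zero_mem _), germ_injective_of_isIntegral Y (genericPoint Y) hη ?_⟩
  rw [map_mul, ← Scheme.Hom.germ_stalkMap_apply π V (genericPoint Y) hη, ← hα, ← map_mul,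
    ← Scheme.Hom.germ_stalkMap_apply π V (genericPoint Y) hη]
  refine congrArg (π.stalkMap (genericPoint Y)) ?_
  rw [mul_comm]
  exact hcb

include hV in
/-- the fraction is integral in every overfield -/
theorem isIntegral_frac [IsIntegralHom π] {V : X.Opens} (hVa : IsAffineOpen V) {x : X} (hx : x ∈ V)
    {K : Type u} [Field K] (g : Γ(X, V) →+* K) {s : Γ(Y, π ⁻¹ᵁ V)} {b c : Γ(X, V)} (hgb : g b ≠ 0)
    (h : π.app V b * s = π.app V c) : g.IsIntegralElem (g c / g b) := by
  obtain ⟨p, hp, hps⟩ := (IsIntegralHom.isIntegral_app π V hVa) s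
  refine ⟨p, hp, ?_⟩
  have h1 : (p.scaleRoots b).eval c = 0 := by
    refine app_injective hV hx ?_
    rw [map_zero, ← Polynomial.eval₂_at_apply]
    have := Polynomial.scaleRoots_eval₂_mul (p := p) (π.app V).hom s b
    rw [show (π.app V).hom b * s = (π.app V).hom c from h] at this
    rw [this, hps, mul_zero]
  have h2 := Polynomial.scaleRoots_eval₂_mul (p := p) g (g c / g b) b
  rw [mul_div_cancel₀ _ hgb, Polynomial.eval₂_at_apply, h1, map_zero] at h2
  exact (mul_eq_zero.1 h2.symm).resolve_left (pow_ne_zero _ hgb)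

include hV in
theorem isTorsionFree_push [IsLocallyNoetherian Y] {M : Y.Modules} (hM : Coh.IsQCoh M)
    (htM : TorSh.IsTorsionFree M) : TorSh.IsTorsionFree ((Scheme.Modules.pushforward π).obj M) := fun x => by
  refine Module.IsTorsionFree.mk fun a ha z w hzw => ?_
  have ha0 : a ≠ 0 := ha.ne_zero
  obtain ⟨W₁, h₁, m₁, rfl⟩ := germM_exist z
  obtain ⟨W₂, h₂, m₂, rfl⟩ := germM_exist w
  obtain ⟨W₃, h₃, c, rfl⟩ := TopCat.Presheaf.exists_germ_eq X.presheaf a
  let W : X.Opens := W₁ ⊓ W₂ ⊓ W₃
  have hxW : x ∈ W := ⟨⟨h₁, h₂⟩, h₃⟩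
  have e₁ : W ≤ W₁ := inf_le_left.trans inf_le_left
  have e₂ : W ≤ W₂ := inf_le_left.trans inf_le_right
  have e₃ : W ≤ W₃ := inf_le_right
  let P := (Scheme.Modules.pushforward π).obj M
  let c' : Γ(X, W) := X.presheaf.map (homOfLE e₃).op c
  have hc : X.presheaf.germ W₃ x h₃ c = X.presheaf.germ W x hxW c' :=
    (TopCat.Presheaf.germ_res_apply X.presheaf (homOfLE e₃) x hxW c).symm
  let d : Γ(P, W) := res P e₁ m₁ - res P e₂ m₂
  have hd : germM P W x hxW d = germM P W₁ x h₁ m₁ - germM P W₂ x h₂ m₂ := by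
    refine (map_sub (P.presheaf.germ W x hxW).hom _ _).trans ?_
    exact congrArg₂ (· - ·) (germM_res e₁ hxW m₁) (germM_res e₂ hxW m₂)
  have h0 : germM P W x hxW (c' • d) = 0 := by
    rw [germM_smul, hd, smul_sub, ← hc, sub_eq_zero]
    exact hzw
  obtain ⟨W', hle, hxW', h0'⟩ := germM_eq_zero h0
  have hη : π (genericPoint Y) ∈ W' := generic_mem hV hxW'
  have hηW : π (genericPoint Y) ∈ W := generic_mem hV hxW
  let d' : Γ(M, π ⁻¹ᵁ W) := d
  have hgerm : germM M (π ⁻¹ᵁ W) (genericPoint Y) hηW (π.app W c' • d') = 0 := by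
    rw [← germM_res (M := M) (π.preimage_mono hle) hη]
    exact (congrArg _ h0').trans (germM_zero _)
  rw [germM_smul] at hgerm
  have hu : Y.presheaf.germ (π ⁻¹ᵁ W) (genericPoint Y) hηW (π.app W c') ≠ 0 := fun h => by
    apply ha0
    have hc0 : π.app W c' = 0 := germ_injective_of_isIntegral Y _ hηW (h.trans (map_zero _).symm)
    rw [hc, (app_injective hV hxW) (hc0.trans (map_zero _).symm), map_zero]
  have hz : germM M (π ⁻¹ᵁ W) (genericPoint Y) hηW d' = 0 := by
    have := htM (genericPoint Y)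
    exact (smul_eq_zero.1 hgerm).resolve_left hu
  have hzero : d' = 0 := eq_zero_of_germ_generic hM htM hηW _ hz
  rw [← sub_eq_zero, ← hd, show d = 0 from hzero]
  exact germM_zero _

end Groth.Agent.Ega11.NormPush
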