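import Groth.Agent.Ega11.NormPush2
import Groth.Agent.Ega11.NormCurve
import Groth.Agent.HP96.Stab
import Groth.Agent.Curves2.Ample.ClosedPush
import Groth.Agent.Amp73.PullTensor
import Groth.Agent.VarGal.LocalDim
import Groth.Agent.CD47.Resolution
import Mathlib

/-! Stability of direct images along a finite birational morphism of curves. -/

set_option autoImplicit false
set_option backward.isDefEq.respectTransparency.types false
universe u

open CategoryTheory CategoryTheory.Limits AlgebraicGeometry TopologicalSpace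
open Groth.Agent.QC70 Groth.Agent.HP96 StabCat

namespace Groth.Agent.Ega11.NormStab

theorem dim_le_zero_of_finite {T : Type*} [TopologicalSpace T] {S : Set T} (hS : S.Finite)
    (hcl : ∀ x ∈ S, IsClosed ({x} : Set T)) : topologicalKrullDim S ≤ 0 := by
  have := hS.to_subtype
  have : T1Space S := ⟨fun x => by
    have h := (hcl x x.2).preimage (continuous_subtype_val (p := (· ∈ S)))
    convert h using 1
    ext y
    simp [Subtype.ext_iff]⟩
  exact topologicalKrullDim_zero_of_discreteTopology S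

variable {k : Type u} [Field k] {X Y : Scheme.{u}} [X.Over (Spec (CommRingCat.of k))]
  [Y.Over (Spec (CommRingCat.of k))] [IsProper (X ↘ Spec (CommRingCat.of k))] {π : Y ⟶ X} [IsFinite π]
  {L : X.Modules}

/-- Euler characteristics of direct images along affine morphisms -/
theorem euler_push (hπ : π ≫ (X ↘ Spec (CommRingCat.of k)) = Y ↘ Spec (CommRingCat.of k))
    (M : Y.Modules) (hM : Coh.IsCoh M) :
    Curv2.euler k X ((Scheme.Modules.pushforward π).obj M) = Curv2.euler k Y M := by
  have := Crv77.isNoetherian_of_proper k X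
  have := hM.1
  refine finsum_congr fun i => ?_
  obtain ⟨e⟩ := Var76.nonempty_hhLin_push π hπ M (isCoh_pushforward_of_isFinite π M hM).1 i
  exact congrArg (fun n : ℕ => (-1 : ℤ) ^ i * (n : ℤ)) e.finrank_eq

variable [IsProper (Y ↘ Spec (CommRingCat.of k))]

/-- Hilbert polynomials of direct images -/
theorem hp_push (hπ : π ≫ (X ↘ Spec (CommRingCat.of k)) = Y ↘ Spec (CommRingCat.of k))
    (hL : PicF.IsInvertible L) {M : Y.Modules} (hM : Coh.IsCoh M) :
    hp k L ((Scheme.Modules.pushforward π).obj M) = hp k ((Scheme.Modules.pullback π).obj L) M := by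
  have := Crv77.isNoetherian_of_proper k X
  refine (eq_hp k (fun m => ?_)).symm
  rw [← isHilbPoly_hp k (Amp73.isInvertible_pullback π hL) hM m]
  have hLm : PicF.IsInvertible (CohB1.tensorPow L m) := EGA73.isInvertible_tensorPow hL m
  let e : ShStab.twist X L ((Scheme.Modules.pushforward π).obj M) m ≅
      (Scheme.Modules.pushforward π).obj (ShStab.twist Y ((Scheme.Modules.pullback π).obj L) M m) :=
    ValVan29.projIso π M (CohB1.tensorPow L m) hLm ≪≫
      (Scheme.Modules.pushforward π).mapIso (EGA73.tensIso (Iso.refl M) (Amp73.pullPowIso π hL m))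
  rw [Crv77.euler_congr e]
  have hc : Coh.IsCoh (ShStab.twist Y ((Scheme.Modules.pullback π).obj L) M m) :=
    Amp73.isCoh_tensorMod hM (Amp73.isCoh_of_isInvertible
      (EGA73.isInvertible_tensorPow (Amp73.isInvertible_pullback π hL) m))
  rw [euler_push hπ _ hc]

theorem isAmple_pullback (hL : CohB1.IsAmple L) : CohB1.IsAmple ((Scheme.Modules.pullback π).obj L) :=
  Amp73.isAmple_pullback π ⟨inferInstance, fun U hU => by
    have : IsAffine ((π ⁻¹ᵁ U : Y.Opens) : Scheme.{u}) := hU.preimage π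
    infer_instance⟩ hL

variable [IsIntegral X] [IsIntegral Y] {V₀ : X.Opens}

include π in
theorem dim_eq (hπ : π ≫ (X ↘ Spec (CommRingCat.of k)) = Y ↘ Spec (CommRingCat.of k))
    (hV : NormPush.BirOn π V₀) (hdim : topologicalKrullDim X = 1) : topologicalKrullDim Y = 1 := by
  have := hV.iso
  have hne' : ((π ⁻¹ᵁ V₀ : Y.Opens) : Set Y).Nonempty := by
    obtain ⟨x, hx⟩ := hV.ne
    obtain ⟨w, hw⟩ := NormPush.exists_preimage hV hx
    exact ⟨w, show π w ∈ V₀ from hw.symm ▸ hx⟩
  rw [← VarGal.topologicalKrullDim_open_eq (Y ↘ Spec (CommRingCat.of k)) (π ⁻¹ᵁ V₀) hne',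
    (asIso (π ∣_ V₀)).schemeIsoToHomeo.isHomeomorph.topologicalKrullDim_eq,
    VarGal.topologicalKrullDim_open_eq (X ↘ Spec (CommRingCat.of k)) V₀ hV.ne, hdim]

omit [IsProper (X ↘ Spec (CommRingCat.of k))] [X.Over (Spec (CommRingCat.of k))] in
theorem dim_support_of_torsionFree [IsLocallyNoetherian X] (hdim : topologicalKrullDim X = 1) {F : X.Modules}
    (hF : Coh.IsCoh F) (htF : TorSh.IsTorsionFree F) (h0 : ¬ IsZero F) :
    topologicalKrullDim (CohB1.support F) = ((1 : ℕ) : WithBot ℕ∞) := by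
  have := hF.2
  have hη : genericPoint X ∈ CohB1.support F := by
    by_contra h
    have := notMem_support_iff.1 h
    refine h0 (isZero_of_support_eq_empty (Set.eq_empty_of_forall_notMem fun x hx => hx ⟨fun a b => ?_⟩))
    obtain ⟨W, hW, s, rfl⟩ := germM_exist a
    obtain ⟨W', hW', t, rfl⟩ := germM_exist b
    have hzero : ∀ (O : X.Opens) (_ : x ∈ O) (u : Γ(F, O)), u = 0 := fun O hO u =>
      NormPush.eq_zero_of_germ_generic hF.1 htF ((genericPoint_specializes x).mem_open O.2 hO) u
        (Subsingleton.elim _ _)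
    rw [hzero W hW s, hzero W' hW' t, germM_zero, germM_zero]
  have huniv : CohB1.support F = Set.univ := Set.eq_univ_of_forall fun x =>
    (genericPoint_specializes x).mem_closed (isClosed_support F) hη
  rw [huniv, (Homeomorph.Set.univ X).isHomeomorph.topologicalKrullDim_eq, hdim]
  rfl

/-- a submodule of a direct image generates a submodule upstairs, isomorphic at the generic point -/
theorem exists_saturation [IsNoetherian X] [IsNoetherian Y] (hV : NormPush.BirOn π V₀) (hdim : topologicalKrullDim X = 1) {E : Y.Modules}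
    (hE : Coh.IsCoh E) {G : X.Modules} (hG : Coh.IsCoh G) (ι : G ⟶ (Scheme.Modules.pushforward π).obj E) [Mono ι] :
    ∃ (G' : Y.Modules) (m : G' ⟶ E) (i : G ⟶ (Scheme.Modules.pushforward π).obj G'), Mono m ∧ Coh.IsCoh G' ∧
      Mono i ∧ i ≫ (Scheme.Modules.pushforward π).map m = ι ∧
      topologicalKrullDim (CohB1.support (cokernel i)) < ((1 : ℕ) : WithBot ℕ∞) := by
  have := hG.1
  have := hE.1
  let adj := Scheme.Modules.pullbackPushforwardAdjunction π
  let g := (adj.homEquiv G E).symm ι
  let G' := Abelian.coimage g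
  let p : (Scheme.Modules.pullback π).obj G ⟶ G' := Abelian.coimage.π g
  let m : G' ⟶ E := Abelian.factorThruCoimage g
  have hpG : Coh.IsCoh ((Scheme.Modules.pullback π).obj G) := E4O.isCoh_pullback π G hG
  have hG' : Coh.IsCoh G' := isCoh_cokernel _ (isCoh_kernel g hpG hE.1).1 hpG
  have := hG'.1
  have := hpG.1
  let i : G ⟶ (Scheme.Modules.pushforward π).obj G' := adj.homEquiv G G' p
  have hi : i ≫ (Scheme.Modules.pushforward π).map m = ι := by
    rw [← adj.homEquiv_naturality_right, show p ≫ m = g from Abelian.coimage.fac g, Equiv.apply_symm_apply]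
  have hPc := isCoh_pushforward_of_isFinite π G' hG'
  have hmi : Mono i := mono_of_mono_fac hi
  refine ⟨G', m, i, inferInstance, hG', hmi, hi, ?_⟩
  have hη0 : genericPoint X ∈ V₀ := ((genericPoint_spec X).mem_open_set_iff V₀.2).2 (by simpa using hV.ne)
  have := hV.iso
  have hsurj : Function.Surjective (stalkMapM i (genericPoint X)) := by
    intro z
    obtain ⟨w, hw⟩ := NodeModules.surjective_stalk_push π p (genericPoint X) z
    obtain ⟨v, hv⟩ := (NodeModules.bijective_stalk_unit π (F := G) hη0).2 w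
    refine ⟨v, ?_⟩
    rw [show i = NodeModules.η π G ≫ (Scheme.Modules.pushforward π).map p from adj.homEquiv_unit G G' p,
      stalkMapM_comp, hv, hw]
  have hQ := QC70.isCoh_cokernel i hG.1 hPc
  have := hQ.2
  have hS : (CohB1.support (cokernel i)).Finite := Crv77.finite_of_isClosed' hdim.le (isClosed_support _)
    (notMem_support_iff.2 (subsingleton_stalk_cokernel i _ hsurj))
  have hcl : ∀ x ∈ CohB1.support (cokernel i), IsClosed ({x} : Set X) := fun x hx =>
    Crv77.isClosed_singleton hdim.le fun e =>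
      notMem_support_iff.2 (subsingleton_stalk_cokernel i _ hsurj) (e ▸ hx)
  refine lt_of_le_of_lt (dim_le_zero_of_finite hS hcl) ?_
  exact_mod_cast Nat.one_pos

theorem coeff_small (hL : CohB1.IsAmple L) {Q : X.Modules} (hQ : Coh.IsCoh Q)
    (hd : topologicalKrullDim (CohB1.support Q) < ((1 : ℕ) : WithBot ℕ∞)) :
    alpha 1 (hp k L Q) = 0 ∧ EvNonneg (hp k L Q) ∧ (¬ IsZero Q → EvPos (hp k L Q)) := by
  refine ⟨alpha_hp_eq_zero k hL.1 hQ hd, ?_, evPos_hp k hL hQ⟩
  by_cases h0 : IsZero Q
  · rw [hp_eq_zero_of_isZero k hL.1 h0]; exact evNonneg_zero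
  · exact (evPos_hp k hL hQ h0).evNonneg

theorem semistable_stable_iff (hπ : π ≫ (X ↘ Spec (CommRingCat.of k)) = Y ↘ Spec (CommRingCat.of k))
    (hV : NormPush.BirOn π V₀) (hdim : topologicalKrullDim X = 1) (hL : CohB1.IsAmple L)
    {E : Y.Modules} (hE : Coh.IsCoh E) (htE : TorSh.IsTorsionFree E) :
    (ShStab.IsSemistable k Y ((Scheme.Modules.pullback π).obj L) E 1 ↔
      ShStab.IsSemistable k X L ((Scheme.Modules.pushforward π).obj E) 1) ∧
    (ShStab.IsStable k Y ((Scheme.Modules.pullback π).obj L) E 1 ↔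
      ShStab.IsStable k X L ((Scheme.Modules.pushforward π).obj E) 1) := by
  have := Crv77.isNoetherian_of_proper k X
  have := Crv77.isNoetherian_of_proper k Y
  have hLY := isAmple_pullback (π := π) hL
  have := hE.1
  have hPc := isCoh_pushforward_of_isFinite π E hE
  have htP := NormPush.isTorsionFree_push hV hE.1 htE
  by_cases hE0 : IsZero E
  · have hP0 : IsZero ((Scheme.Modules.pushforward π).obj E) := Functor.map_isZero _ hE0
    exact ⟨iff_of_false (fun h => h.2.1 hE0) (fun h => h.2.1 hP0),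
      iff_of_false (fun h => h.2.1 hE0) (fun h => h.2.1 hP0)⟩
  have hP0 : ¬ IsZero ((Scheme.Modules.pushforward π).obj E) := fun h => hE0 (by
    rw [isZero_iff_hp_eq_zero k hLY hE, ← hp_push hπ hL.1 hE]
    exact hp_eq_zero_of_isZero k hL.1 h)
  have hYd := dim_support_of_torsionFree (dim_eq hπ hV hdim) hE htE hE0
  have hXd := dim_support_of_torsionFree hdim hPc htP hP0
  have hpuP : ShStab.IsPure X ((Scheme.Modules.pushforward π).obj E) 1 := fun F ι hι hF hF0 =>
    dim_support_of_torsionFree hdim hF (fun x => by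
      have := htP x
      exact (injective_stalkMapM_of_mono ι x).moduleIsTorsionFree (stalkLinear ι x)
        (fun r v => map_smul (stalkLinear ι x) r v)) hF0
  have hαE : 0 < alpha 1 (hp k L ((Scheme.Modules.pushforward π).obj E)) := alpha_pure_pos hL hpuP hPc hP0
  -- restricting from downstairs
  have down : ∀ (F : Y.Modules) (ι : F ⟶ E), Mono ι → Coh.IsCoh F → ¬ IsZero F → ¬ IsIso ι →
      Coh.IsCoh ((Scheme.Modules.pushforward π).obj F) ∧ ¬ IsZero ((Scheme.Modules.pushforward π).obj F) ∧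
        ¬ IsIso ((Scheme.Modules.pushforward π).map ι) := by
    intro F ι hι hF hF0 hi
    refine ⟨isCoh_pushforward_of_isFinite π F hF, fun h => hF0 ?_, fun h => hi ?_⟩
    · rw [isZero_iff_hp_eq_zero k hLY hF, ← hp_push hπ hL.1 hF]
      exact hp_eq_zero_of_isZero k hL.1 h
    · refine isIso_of_hp_eq (k := k) hLY hF hE ι ?_ (Or.inl hι)
      rw [← hp_push hπ hL.1 hF, ← hp_push hπ hL.1 hE]
      exact hp_congr k hL.1 (asIso ((Scheme.Modules.pushforward π).map ι)) hPc
  rw [isSS_iff hLY hE hE0 hYd, isSS_iff hL hPc hP0 hXd, isSt_iff hLY hE hE0 hYd, isSt_iff hL hPc hP0 hXd]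
  refine ⟨⟨fun h G ι hι hG hG0 hi pG pE hpG hpE => ?_, fun h F ι hι hF hF0 hi pF pE hpF hpE => ?_⟩,
    ⟨fun h G ι hι hG hG0 hi pG pE hpG hpE => ?_, fun h F ι hι hF hF0 hi pF pE hpF hpE => ?_⟩⟩
  · obtain ⟨G', m, i, hm, hG', hmi, hfac, hQd⟩ := exists_saturation hV hdim hE hG ι
    have hG'0 : ¬ IsZero G' := fun h0 => hG0 (IsZero.of_mono i (Functor.map_isZero _ h0))
    rw [eq_hp k hpG, eq_hp k hpE, hp_push hπ hL.1 hE, redLE_iff]
    have hsum := hp_mono k hL.1 i hG (isCoh_pushforward_of_isFinite π G' hG')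
    obtain ⟨hα0, hQ0, -⟩ := coeff_small (k := k) hL (QC70.isCoh_cokernel i hG.1 (isCoh_pushforward_of_isFinite π G' hG')) hQd
    rw [hp_push hπ hL.1 hG'] at hsum
    have hss : ShStab.IsSemistable k Y ((Scheme.Modules.pullback π).obj L) E 1 := (isSS_iff hLY hE hE0 hYd).2 h
    have h1 := redLE_iff.1 (ss_sub_le hLY hss m hG' hG'0)
    have hα : 0 ≤ alpha 1 (hp k ((Scheme.Modules.pullback π).obj L) E) := by
      rw [← hp_push hπ hL.1 hE]; exact hαE.le
    have key : cross 1 (hp k L G) (hp k ((Scheme.Modules.pullback π).obj L) E) =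
        cross 1 (hp k ((Scheme.Modules.pullback π).obj L) G') (hp k ((Scheme.Modules.pullback π).obj L) E) +
          alpha 1 (hp k ((Scheme.Modules.pullback π).obj L) E) • hp k L (cokernel i) := by
      rw [hsum, cross, cross, alpha_add, hα0, add_zero, smul_add]
      abel
    rw [key]
    exact h1.add (hQ0.smul hα)
  · obtain ⟨hc, hz, hn⟩ := down F ι hι hF hF0 hi
    have h1 := h _ ((Scheme.Modules.pushforward π).map ι) inferInstance hc hz hn _ _
      (isHilbPoly_hp k hL.1 hc) (isHilbPoly_hp k hL.1 hPc)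
    rwa [hp_push hπ hL.1 hF, hp_push hπ hL.1 hE, ← eq_hp k hpF, ← eq_hp k hpE] at h1
  · obtain ⟨G', m, i, hm, hG', hmi, hfac, hQd⟩ := exists_saturation hV hdim hE hG ι
    have hG'0 : ¬ IsZero G' := fun h0 => hG0 (IsZero.of_mono i (Functor.map_isZero _ h0))
    rw [eq_hp k hpG, eq_hp k hpE, hp_push hπ hL.1 hE, redLT_iff]
    have hQc := QC70.isCoh_cokernel i hG.1 (isCoh_pushforward_of_isFinite π G' hG')
    have hsum := hp_mono k hL.1 i hG (isCoh_pushforward_of_isFinite π G' hG')
    obtain ⟨hα0, hQ0, hQpos⟩ := coeff_small (k := k) hL hQc hQd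
    rw [hp_push hπ hL.1 hG'] at hsum
    have hst : ShStab.IsStable k Y ((Scheme.Modules.pullback π).obj L) E 1 := (isSt_iff hLY hE hE0 hYd).2 h
    have hα : 0 < alpha 1 (hp k ((Scheme.Modules.pullback π).obj L) E) := by
      rw [← hp_push hπ hL.1 hE]; exact hαE
    have key : cross 1 (hp k L G) (hp k ((Scheme.Modules.pullback π).obj L) E) =
        cross 1 (hp k ((Scheme.Modules.pullback π).obj L) G') (hp k ((Scheme.Modules.pullback π).obj L) E) +
          alpha 1 (hp k ((Scheme.Modules.pullback π).obj L) E) • hp k L (cokernel i) := by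
      rw [hsum, cross, cross, alpha_add, hα0, add_zero, smul_add]
      abel
    rw [key]
    by_cases hQz : IsZero (cokernel i)
    · have := HP96.isIso_of_isZero_cokernel i hQz
      have hmn : ¬ IsIso m := fun hmiso => hi (by rw [← hfac]; infer_instance)
      exact (redLT_iff.1 (st_hp hst hLY m hG' hG'0 hmn)).add_evNonneg (hQ0.smul hα.le)
    · have h1 := redLE_iff.1 (ss_sub_le hLY (semistable_of_stable hst) m hG' hG'0)
      rw [add_comm]
      exact ((evPos_smul_iff hα).2 (hQpos hQz)).add_evNonneg h1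
  · obtain ⟨hc, hz, hn⟩ := down F ι hι hF hF0 hi
    have h1 := h _ ((Scheme.Modules.pushforward π).map ι) inferInstance hc hz hn _ _
      (isHilbPoly_hp k hL.1 hc) (isHilbPoly_hp k hL.1 hPc)
    rwa [hp_push hπ hL.1 hF, hp_push hπ hL.1 hE, ← eq_hp k hpF, ← eq_hp k hpE] at h1

end Groth.Agent.Ega11.NormStab
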