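import Mathlib.RingTheory.KrullDimension.Polynomial
import Mathlib.RingTheory.Localization.FractionRing
import Mathlib.RingTheory.Polynomial.Quotient

set_option autoImplicit false
universe u

namespace Groth.Agent.Ega11.PolyHeight

open Polynomial

attribute [local instance] Polynomial.algebra Polynomial.isLocalization in
theorem height_eq_one {R : Type u} [CommRing R] [IsDomain R] [IsNoetherianRing R] (P : Ideal R[X]) [P.IsPrime]
    (h0 : P ≠ ⊥) (hc : P.comap (C : R →+* R[X]) = ⊥) : P.height = 1 := by
  let K := FractionRing R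
  have hdisj : Disjoint ((nonZeroDivisors R).map C : Set R[X]) P := by
    refine Set.disjoint_left.mpr ?_
    rintro _ ⟨b, hb, rfl⟩ hP
    exact nonZeroDivisors.ne_zero hb ((Submodule.mem_bot R).mp (hc ▸ (show b ∈ P.comap C from hP)))
  rw [← IsLocalization.height_map_of_disjoint (R := R[X]) (S := K[X]) ((nonZeroDivisors R).map C) P hdisj]
  have hp : (P.map (algebraMap R[X] K[X])).IsPrime := IsLocalization.isPrime_of_isPrime_disjoint _ _ _ ‹_› hdisj
  have hne : P.map (algebraMap R[X] K[X]) ≠ ⊥ := fun h => h0 <| by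
    rw [← IsLocalization.under_map_of_isPrime_disjoint ((nonZeroDivisors R).map C) K[X] ‹P.IsPrime› hdisj, h]
    refine (Submodule.eq_bot_iff _).mpr fun x hx => ?_
    rw [Ideal.under_def, Ideal.mem_comap, Ideal.mem_bot] at hx
    have : Function.Injective (algebraMap R[X] K[X]) := Polynomial.map_injective _ (IsFractionRing.injective R K)
    exact this (hx.trans (map_zero _).symm)
  have : (P.map (algebraMap R[X] K[X])).IsMaximal := IsPrime.to_maximal_ideal hne
  exact IsPrincipalIdealRing.height_eq_one_of_isMaximal _ (Polynomial.not_isField K)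

theorem height_map_C_prime {A : Type u} [CommRing A] [IsNoetherianRing A] (p : Ideal A) [p.IsPrime]
    (q : Ideal A[X]) [q.IsPrime] [q.LiesOver p] :
    (p.map (C : A →+* A[X])).height = p.height ∧
      (q ≠ p.map (C : A →+* A[X]) → q.height = p.height + 1) := by
  let e : A[X] ⧸ p.map (C : A →+* A[X]) ≃+* (A ⧸ p)[X] := (Ideal.polynomialQuotientEquivQuotientPolynomial p).symm
  have hpp : (p.map (C : A →+* A[X])).IsPrime :=
    Ideal.Quotient.isDomain_iff_prime (p.map (C : A →+* A[X])) |>.mp (e.toMulEquiv.isDomain)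
  have hover : (p.map (C : A →+* A[X])).LiesOver p := ⟨by
    ext x
    simp only [Ideal.mem_comap, Polynomial.algebraMap_eq, Ideal.mem_map_C_iff]
    exact ⟨fun hx n => by rw [coeff_C]; split <;> simp [hx], fun h => by simpa using h 0⟩⟩
  have hbot : ((p.map (C : A →+* A[X])).map (Ideal.Quotient.mk (p.map (C : A →+* A[X])))).height = 0 := by
    rw [Ideal.map_quotient_self]
    have : IsDomain (A[X] ⧸ p.map (C : A →+* A[X])) := Ideal.Quotient.isDomain _
    exact Ideal.height_bot
  refine ⟨?_, fun hne => ?_⟩
  · rw [Ideal.height_eq_height_add_of_liesOver_of_hasGoingDown p, Polynomial.algebraMap_eq, hbot, add_zero]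
  · rw [Ideal.height_eq_height_add_of_liesOver_of_hasGoingDown p, Polynomial.algebraMap_eq]
    congr 1
    have hle : p.map (C : A →+* A[X]) ≤ q := Ideal.map_le_iff_le_comap.mpr (le_of_eq (Ideal.LiesOver.over (P := q) (p := p)))
    have hP : (q.map (Ideal.Quotient.mk (p.map (C : A →+* A[X])))).IsPrime := Ideal.isPrime_map_quotientMk_of_isPrime hle
    rw [← e.height_map]
    have hP' : ((q.map (Ideal.Quotient.mk (p.map (C : A →+* A[X])))).map e).IsPrime := Ideal.map_isPrime_of_equiv e
    refine height_eq_one _ (fun h => hne ?_) ?_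
    · rw [Ideal.map_eq_bot_iff_of_injective e.injective] at h
      refine le_antisymm ?_ hle
      rw [Ideal.map_eq_bot_iff_le_ker, Ideal.mk_ker] at h
      exact h
    · refine (Submodule.eq_bot_iff _).mpr fun x hx => ?_
      obtain ⟨a, rfl⟩ := Ideal.Quotient.mk_surjective x
      have hx' : e.symm (C (Ideal.Quotient.mk p a)) ∈ q.map (Ideal.Quotient.mk (p.map (C : A →+* A[X]))) := by
        have := Ideal.mem_comap.mp hx
        obtain ⟨y, hy, hya⟩ := (Ideal.mem_map_iff_of_surjective (f := e) e.surjective).mp this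
        rwa [← hya, RingEquiv.symm_apply_apply]
      have he : e.symm (C (Ideal.Quotient.mk p a)) = Ideal.Quotient.mk (p.map (C : A →+* A[X])) (C a) := by
        rw [RingEquiv.symm_apply_eq]
        exact ((Ideal.polynomialQuotientEquivQuotientPolynomial_symm_mk p (C a)).trans (Polynomial.map_C _)).symm
      rw [he] at hx'
      rw [Ideal.Quotient.eq_zero_iff_mem, Ideal.LiesOver.over (P := q) (p := p), Ideal.mem_comap, Polynomial.algebraMap_eq]
      exact (Ideal.mem_quotient_iff_mem hle).mp hx'

end Groth.Agent.Ega11.PolyHeight
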