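import Groth.Agent.Ega11.TorFreeAss
import Groth.Agent.FlatMor67.PCScheme
import Groth.Agent.ZClos93.LocDepth
import Groth.Agent.Div89.DepthTwo
import Groth.Agent.Div89.Reflexive
import Groth.Agent.QC70.FiniteType
import Groth.Agent.LimTop61.PullBC
import Groth.Agent.E4O.InfDescent
import Mathlib

/-! Depth of pullbacks of torsion-free sheaves to products with smooth curves. -/

set_option autoImplicit false
set_option backward.isDefEq.respectTransparency.types false
universe u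

open CategoryTheory CategoryTheory.Limits AlgebraicGeometry TopologicalSpace TensorProduct
open Groth.Agent.QC70

namespace Groth.Agent.Ega11.ProdDepth

/-- a nonzero element of a domain over a field acts on a base change with a retraction -/
theorem exists_retraction {A A' B B' : Type u} [Field A] [CommRing A'] [IsDomain A'] [CommRing B] [CommRing B']
    [Algebra A A'] [Algebra A B] [Algebra A B'] [Algebra A' B'] [Algebra B B'] [IsScalarTower A A' B']
    [IsScalarTower A B B'] [Algebra.IsPushout A B A' B'] {t : A'} (ht : t ≠ 0) :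
    ∃ R : B' →ₗ[B] B', ∀ z, R (algebraMap A' B' t * z) = z := by
  obtain ⟨r, hr⟩ := (LinearMap.mulLeft A t).exists_leftInverse_of_injective
    (LinearMap.ker_eq_bot.2 fun a b h => mul_left_cancel₀ ht h)
  let ι := (IsScalarTower.toAlgHom A A' B').toLinearMap
  have h : IsBaseChange B ι := Algebra.IsPushout.out
  refine ⟨h.lift (ι ∘ₗ r), fun z => ?_⟩
  refine LinearMap.congr_fun (h.algHom_ext (h.lift (ι ∘ₗ r) ∘ₗ LinearMap.mulLeft B (algebraMap A' B' t))
    LinearMap.id fun a => ?_) z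
  show h.lift (ι ∘ₗ r) (algebraMap A' B' t * algebraMap A' B' a) = algebraMap A' B' a
  rw [← map_mul]
  refine (h.lift_eq _ (t * a)).trans ?_
  exact congrArg (algebraMap A' B') (LinearMap.congr_fun hr a)

/-- weakly associated points are detected on affine sections -/
theorem not_mem_associatedPrimes {X : Scheme.{u}} [IsLocallyNoetherian X] {F : X.Modules} (hF : Coh.IsCoh F)
    {U : X.Opens} (hU : IsAffineOpen U) {x : X} (hx : x ∈ U) (h : ¬ Curv2.IsWeakAssPoint F x) :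
    Div89.primeAt ⟨U, hU⟩ x hx ∉ associatedPrimes Γ(X, U) Γ(F, U) := by
  have := hF.1
  have := hF.2
  have : Module.Finite Γ(X, U) Γ(F, U) := finite_sections_of_isFiniteType F hU
  have : IsNoetherianRing Γ(X, U) := IsLocallyNoetherian.component_noetherian ⟨U, hU⟩
  let := Div89.stalkAlg U x hx
  let := Div89.stalkModule F U x hx
  have := Div89.isScalarTower_stalk F U x hx
  have := Div89.primeAt_isPrime ⟨U, hU⟩ x hx
  have : IsLocalization.AtPrime (X.presheaf.stalk x) (Div89.primeAt ⟨U, hU⟩ x hx) :=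
    Div89.isLocalization_stalk ⟨U, hU⟩ x hx
  have : IsLocalizedModule (Div89.primeAt ⟨U, hU⟩ x hx).primeCompl (Div89.germLin F U x hx) :=
    Div89.isLocalizedModule_germLin F inferInstance ⟨U, hU⟩ x hx
  have : IsNoetherianRing (X.presheaf.stalk x) :=
    IsLocalization.isNoetherianRing (Div89.primeAt ⟨U, hU⟩ x hx).primeCompl _ inferInstance
  have : Module.Finite (X.presheaf.stalk x) (F.presheaf.stalk x) :=
    Module.Finite.of_isLocalizedModule (Div89.primeAt ⟨U, hU⟩ x hx).primeCompl (Div89.germLin F U x hx)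
  rw [← ZClos93.LocDepth.depth_eq_zero_iff_mem (Div89.primeAt ⟨U, hU⟩ x hx) (X.presheaf.stalk x)
    (Div89.germLin F U x hx), EGA4Alg4.depth_eq_zero_iff]
  rintro ⟨-, m, hm⟩
  refine h ⟨m, ?_⟩
  rw [hm]
  refine congrArg Ideal.radical (Ideal.ext fun c => ?_)
  simp [Submodule.mem_colon_singleton]

theorem exists_regular_mem {X : Scheme.{u}} [IsLocallyNoetherian X] [NoetherianSpace X] [AlgebraicGeometry.IsReduced X]
    {F : X.Modules} (hF : Coh.IsCoh F) (htF : TorSh.IsTorsionFree F) {U : X.Opens} (hU : IsAffineOpen U) {x : X}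
    (hx : x ∈ U) (hcl : IsClosed ({x} : Set X)) (hno : ¬ IsOpen ({x} : Set X)) :
    ∃ a ∈ Div89.primeAt ⟨U, hU⟩ x hx, IsSMulRegular Γ(F, U) a := by
  have := hF.1
  have := hF.2
  have : Module.Finite Γ(X, U) Γ(F, U) := finite_sections_of_isFiniteType F hU
  have : IsNoetherianRing Γ(X, U) := IsLocallyNoetherian.component_noetherian ⟨U, hU⟩
  have hmax : (Div89.primeAt ⟨U, hU⟩ x hx).IsMaximal := hU.primeIdealOf_isMaximal_of_isClosed ⟨x, hx⟩ hcl
  have hnot := not_mem_associatedPrimes hF hU hx fun h =>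
    hno (TorFreeAss.isOpen_singleton hcl (TorFreeAss.maxPt_of_isField (TorFreeAss.isField_of_weakAss F htF x h)))
  by_contra hcon
  push Not at hcon
  have hsub : (Div89.primeAt ⟨U, hU⟩ x hx : Set Γ(X, U)) ⊆ ⋃ q ∈ associatedPrimes Γ(X, U) Γ(F, U), (q : Set Γ(X, U)) := by
    intro a ha
    rw [biUnion_associatedPrimes_eq_compl_regular]
    exact hcon a ha
  obtain ⟨q, hq, hle⟩ := (Ideal.subset_union_prime_finite (associatedPrimes.finite Γ(X, U) Γ(F, U)) ⊥ ⊥
    (fun q hq _ _ => hq.1)).1 hsub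
  exact hnot (hmax.eq_of_le hq.1.ne_top hle ▸ hq)

variable {k : Type u} [Field k] {X C Z : Scheme.{u}} (sX : X ⟶ Spec (CommRingCat.of k))
  (sC : C ⟶ Spec (CommRingCat.of k)) (p : Z ⟶ X) (q : Z ⟶ C)

theorem two_le_depth [IsLocallyNoetherian Z] [IsLocallyNoetherian X] [NoetherianSpace X]
    [AlgebraicGeometry.IsReduced X] [IsIntegral C] (hc : IsPullback p q sX sC)
    (hpure : ∀ x : X, IsClosed ({x} : Set X) → ¬ IsOpen ({x} : Set X)) {F : X.Modules} (hF : Coh.IsCoh F)
    (htF : TorSh.IsTorsionFree F) {z : Z} (hxcl : IsClosed ({p z} : Set X)) (hgen : q z ≠ genericPoint C) :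
    (2 : ℕ∞) ≤ LocCoh.depth (Z.presheaf.stalk z) (((Scheme.Modules.pullback p).obj F).presheaf.stalk z) := by
  classical
  have : Flat sC := inferInstance
  have : Flat p := MorphismProperty.of_isPullback hc.flip inferInstance
  obtain ⟨_, ⟨U, hU, rfl⟩, hxU, -⟩ := X.isBasis_affineOpens.exists_subset_of_mem_open (Set.mem_univ (p z)) isOpen_univ
  obtain ⟨_, ⟨W, hW, rfl⟩, hcW, -⟩ := C.isBasis_affineOpens.exists_subset_of_mem_open (Set.mem_univ (q z)) isOpen_univ
  have hWV : W ≤ sC ⁻¹ᵁ ⊤ := le_top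
  have hUV : U ≤ sX ⁻¹ᵁ ⊤ := le_top
  let T : Z.Opens := p ⁻¹ᵁ U ⊓ q ⁻¹ᵁ W
  have hT : IsAffineOpen T := by
    have : IsAffine _ := hW
    have : IsAffine _ := hU
    have : IsAffine _ := isAffineOpen_top (Spec (CommRingCat.of k))
    exact .of_isIso (Scheme.Hom.isPullback_resLE hc hWV hUV (rfl : p ⁻¹ᵁ U ⊓ q ⁻¹ᵁ W = _)).isoPullback.hom
  haveI := isIso_pushoutSection_of_isAffineOpen hc hWV hUV (rfl : p ⁻¹ᵁ U ⊓ q ⁻¹ᵁ W = _)
    (isAffineOpen_top _) hW hU
  have hp := (isIso_pushoutSection_iff hc hWV hUV (rfl : p ⁻¹ᵁ U ⊓ q ⁻¹ᵁ W = _)).1 inferInstance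
  have hzT : z ∈ T := ⟨hxU, hcW⟩
  let dA := (sX.appLE ⊤ U hUV).hom.toAlgebra
  let dA' := (sC.appLE ⊤ W hWV).hom.toAlgebra
  let dB := (p.appLE U T inf_le_left).hom.toAlgebra
  let dB' := (q.appLE W T inf_le_right).hom.toAlgebra
  let dAB : Algebra Γ(Spec (CommRingCat.of k), ⊤) Γ(Z, T) :=
    ((p.appLE U T inf_le_left).hom.comp (sX.appLE ⊤ U hUV).hom).toAlgebra
  have hAf : IsField Γ(Spec (CommRingCat.of k), ⊤) :=
    MulEquiv.isField (Field.toIsField k) (Scheme.ΓSpecIso (CommRingCat.of k)).commRingCatIsoToRingEquiv.toMulEquiv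
  let := hAf.toField
  have : Nonempty W := ⟨⟨q z, hcW⟩⟩
  have : IsDomain Γ(C, W) := IsIntegral.component_integral W
  obtain ⟨_, _, hpush⟩ := FlatMor67.PCS.alg_pushout hp
  have : Algebra.IsPushout Γ(Spec (CommRingCat.of k), ⊤) Γ(X, U) Γ(C, W) Γ(Z, T) := hpush.symm
  -- the two elements
  obtain ⟨a, hax, hareg⟩ := exists_regular_mem hF htF hU hxU hxcl (hpure _ hxcl)
  obtain ⟨t, ht0, hnu⟩ : ∃ t : Γ(C, W), t ≠ 0 ∧ ¬ IsUnit (C.presheaf.germ W (q z) hcW t) := by
    by_contra hcon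
    push Not at hcon
    apply hgen
    refine ((genericPoint_specializes (q z)).antisymm ?_).eq.symm
    rw [specializes_iff_forall_open]
    intro O hO hηO
    obtain ⟨f, hle, hηf⟩ := hW.exists_basicOpen_le (V := ⟨O, hO⟩) ⟨genericPoint C, hηO⟩
      ((genericPoint_specializes (q z)).mem_open W.2 hcW)
    refine hle ((C.mem_basicOpen f (q z) hcW).2 (hcon f fun h0 => ?_))
    subst h0
    exact absurd hηf (by simp)
  -- the module
  have := hF.1
  have := hF.2
  let M := (Scheme.Modules.pullback p).obj F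
  have hMc : Coh.IsCoh M := E4O.isCoh_pullback p F hF
  have := hMc.1
  have := hMc.2
  obtain ⟨E, hE⟩ := LimTop61.exists_baseChange_equiv p F hU hT (inf_le_left : T ≤ p ⁻¹ᵁ U)
  have : Module.Flat Γ(X, U) Γ(Z, T) := Flat.flat_appLE p hU hT inf_le_left
  obtain ⟨R, hR⟩ := exists_retraction (A := Γ(Spec (CommRingCat.of k), ⊤)) (B := Γ(X, U)) (B' := Γ(Z, T)) ht0
  let aZ : Γ(Z, T) := algebraMap Γ(X, U) Γ(Z, T) a
  let tZ : Γ(Z, T) := algebraMap Γ(C, W) Γ(Z, T) t
  let R' : Γ(Z, T) ⊗[Γ(X, U)] Γ(F, U) →ₗ[Γ(X, U)] Γ(Z, T) ⊗[Γ(X, U)] Γ(F, U) := R.rTensor _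
  have hR' : ∀ m, R' (tZ • m) = m := fun m => by
    induction m using TensorProduct.induction_on with
    | zero => rw [smul_zero, map_zero]
    | tmul b f => rw [smul_tmul']; exact congrArg (· ⊗ₜ f) (hR b)
    | add m₁ m₂ h₁ h₂ => rw [smul_add, map_add, h₁, h₂]
  have haZ : ∀ m : Γ(Z, T) ⊗[Γ(X, U)] Γ(F, U), aZ • m = a • m := fun m => algebraMap_smul Γ(Z, T) a m
  have hareg' : IsSMulRegular Γ(M, T) aZ := fun m₁ m₂ h => E.injective (by
    have h1 : a • E m₁ = a • E m₂ := by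
      rw [← haZ, ← haZ, ← map_smul, ← map_smul]
      exact congrArg E h
    have h2 : Function.Injective (LinearMap.lTensor Γ(Z, T) (a • LinearMap.id : Γ(F, U) →ₗ[Γ(X, U)] Γ(F, U))) :=
      Module.Flat.lTensor_preserves_injective_linearMap _ hareg
    have h3 : ∀ m, LinearMap.lTensor Γ(Z, T) (a • LinearMap.id : Γ(F, U) →ₗ[Γ(X, U)] Γ(F, U)) m = a • m := fun m => by
      rw [LinearMap.lTensor_smul, LinearMap.lTensor_id]; rfl
    exact h2 (by rw [h3, h3, h1]))
  have : Module.Finite Γ(Z, T) Γ(M, T) := finite_sections_of_isFiniteType M hT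
  have : IsNoetherianRing Γ(Z, T) := IsLocallyNoetherian.component_noetherian ⟨T, hT⟩
  let := Div89.stalkAlg T z hzT
  let := Div89.stalkModule M T z hzT
  have := Div89.isScalarTower_stalk M T z hzT
  have := Div89.primeAt_isPrime ⟨T, hT⟩ z hzT
  have : IsLocalization.AtPrime (Z.presheaf.stalk z) (Div89.primeAt ⟨T, hT⟩ z hzT) :=
    Div89.isLocalization_stalk ⟨T, hT⟩ z hzT
  have : IsLocalizedModule (Div89.primeAt ⟨T, hT⟩ z hzT).primeCompl (Div89.germLin M T z hzT) :=
    Div89.isLocalizedModule_germLin M inferInstance ⟨T, hT⟩ z hzT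
  have hmem : ∀ g : Γ(Z, T), ¬ IsUnit (Z.presheaf.germ T z hzT g) → g ∈ Div89.primeAt ⟨T, hT⟩ z hzT := fun g hg => by
    by_contra hgp
    exact hg (IsLocalization.map_units (Z.presheaf.stalk z)
      (⟨g, hgp⟩ : (Div89.primeAt ⟨T, hT⟩ z hzT).primeCompl))
  have haP : aZ ∈ Div89.primeAt ⟨T, hT⟩ z hzT := by
    refine hmem _ fun hu => ?_
    let := Div89.stalkAlg U (p z) hxU
    have := Div89.primeAt_isPrime ⟨U, hU⟩ (p z) hxU
    have : IsLocalization.AtPrime (X.presheaf.stalk (p z)) (Div89.primeAt ⟨U, hU⟩ (p z) hxU) :=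
      Div89.isLocalization_stalk ⟨U, hU⟩ (p z) hxU
    refine (IsLocalization.AtPrime.isUnit_to_map_iff (X.presheaf.stalk (p z)) (Div89.primeAt ⟨U, hU⟩ (p z) hxU) a).1
      ?_ hax
    refine (isUnit_map_iff (p.stalkMap z).hom _).1 ?_
    rw [show aZ = Z.presheaf.map (homOfLE inf_le_left).op (p.app U a) from rfl,
      TopCat.Presheaf.germ_res_apply, ← Scheme.Hom.germ_stalkMap_apply p U z hxU] at hu
    exact hu
  have htP : tZ ∈ Div89.primeAt ⟨T, hT⟩ z hzT := by
    refine hmem _ fun hu => hnu ?_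
    refine (isUnit_map_iff (q.stalkMap z).hom _).1 ?_
    rw [show tZ = Z.presheaf.map (homOfLE inf_le_right).op (q.app W t) from rfl,
      TopCat.Presheaf.germ_res_apply, ← Scheme.Hom.germ_stalkMap_apply q W z hcW] at hu
    exact hu
  rw [ZClos93.LocDepth.two_le_depth_iff (Div89.primeAt ⟨T, hT⟩ z hzT) (Z.presheaf.stalk z)
    (Div89.germLin M T z hzT) haP hareg']
  intro hass
  have hnot : tZ ∈ {r : Γ(Z, T) | IsSMulRegular (Γ(M, T) ⧸ (Ideal.span {aZ} • (⊤ : Submodule Γ(Z, T) Γ(M, T)))) r}ᶜ := by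
    rw [← biUnion_associatedPrimes_eq_compl_regular]
    exact Set.mem_iUnion₂.2 ⟨_, hass, htP⟩
  apply hnot
  show IsSMulRegular _ tZ
  rw [isSMulRegular_iff_right_eq_zero_of_smul]
  intro m hm
  obtain ⟨m, rfl⟩ := Submodule.mkQ_surjective _ m
  rw [Submodule.mkQ_apply, ← Submodule.Quotient.mk_smul, Submodule.Quotient.mk_eq_zero,
    Submodule.ideal_span_singleton_smul, Submodule.mem_smul_pointwise_iff_exists] at hm
  obtain ⟨m', -, hm'⟩ := hm
  rw [Submodule.mkQ_apply, Submodule.Quotient.mk_eq_zero, Submodule.ideal_span_singleton_smul,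
    Submodule.mem_smul_pointwise_iff_exists]
  refine ⟨E.symm (R' (E m')), trivial, E.injective ?_⟩
  rw [map_smul, E.apply_symm_apply, haZ, ← map_smul, ← haZ, ← map_smul, hm', map_smul, hR']

end Groth.Agent.Ega11.ProdDepth
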