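import Groth.Prelude.Def_EGA4c

set_option autoImplicit false
universe u

open AlgebraicGeometry CategoryTheory Opposite TopologicalSpace

namespace Groth.Agent.Ega11.PushBridge

variable (A : Type u) [CommRing A] (J : Ideal A) (M : Type u) [AddCommGroup M] [Module A M]

/-- The complement of `V(J)`, as an open of the prime spectrum. -/
abbrev UCompl : Opens (PrimeSpectrum.Top A) := EGA4.openCompl A J

/-- Sections of `M~` over the complement of `V(J)`, as families of elements of the localizations. -/
abbrev Sec : Type u := (structureSheafInType A M).obj.obj (op (UCompl A J))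

/-- The canonical map to the sections over the complement of `V(J)`. -/
noncomputable def toSec : M →ₗ[A] Sec A J M := StructureSheaf.toOpenₗ A M (UCompl A J)

theorem restrCompl_toOpen (m : M) :
    EGA4.restrCompl A J M (StructureSheaf.toOpenₗ A M ⊤ m) = toSec A J M m := rfl

theorem injective_restrCompl_iff :
    Function.Injective (EGA4.restrCompl A J M) ↔ Function.Injective (toSec A J M) := by
  have hb := StructureSheaf.toOpenₗ_top_bijective (R := A) (M := M)
  constructor
  · intro h a b e
    exact hb.1 (h e)
  · intro h a b e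
    obtain ⟨a, rfl⟩ := hb.2 a
    obtain ⟨b, rfl⟩ := hb.2 b
    exact congrArg _ (h e)

theorem bijective_restrCompl_iff :
    Function.Bijective (EGA4.restrCompl A J M) ↔ Function.Bijective (toSec A J M) := by
  have hb := StructureSheaf.toOpenₗ_top_bijective (R := A) (M := M)
  refine and_congr (injective_restrCompl_iff A J M) ⟨fun h s => ?_, fun h s => ?_⟩
  · obtain ⟨t, ht⟩ := h s
    obtain ⟨m, rfl⟩ := hb.2 t
    exact ⟨m, ht⟩
  · obtain ⟨m, hm⟩ := h s
    exact ⟨StructureSheaf.toOpenₗ A M ⊤ m, (restrCompl_toOpen A J M m).trans hm⟩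

theorem isCoherentPushCompl_iff :
    EGA4.IsCoherentPushCompl A J M ↔ Module.Finite A (Sec A J M) := by
  let σ : A →+* ((Spec (CommRingCat.of A)).ringCatSheaf.obj.obj (op ⊤)) :=
    algebraMap A ((structureSheafInType A A).obj.obj (op ⊤))
  have hσ : Function.Bijective σ := StructureSheaf.algebraMap_obj_top_bijective
  have : RingHomSurjective σ := ⟨hσ.2⟩
  let N := ((ModuleCat.restrictScalars ((Spec (CommRingCat.of A)).ringCatSheaf.obj.map
        (homOfLE (le_top : EGA4.openCompl A J ≤ ⊤)).op).hom).obj
      ((EGA4.tildeOf A M).val.obj (op (EGA4.openCompl A J))))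
  let e : Sec A J M →ₛₗ[σ] N :=
    { toFun := fun x => x
      map_add' := fun _ _ => rfl
      map_smul' := fun a x => (IsScalarTower.algebraMap_smul
        ((structureSheafInType A A).obj.obj (op (EGA4.openCompl A J))) a (x : Sec A J M)).symm }
  exact (LinearMap.finite_iff_of_bijective e ⟨fun _ _ h => h, fun x => ⟨x, rfl⟩⟩).symm

end Groth.Agent.Ega11.PushBridge
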