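import Groth.Agent.Ega11.PushSections
import Mathlib.RingTheory.Noetherian.Basic
import Mathlib.Algebra.Exact.Basic

set_option autoImplicit false
universe u

open AlgebraicGeometry CategoryTheory Opposite TopologicalSpace

namespace Groth.Agent.Ega11.PushFinite

open PushBridge PushSections

variable {A B : Type u} [CommRing A] [CommRing B] {σ : A →+* B} {J : Ideal A}
  {M : Type u} [AddCommGroup M] [Module A M] {N : Type u} [AddCommGroup N] [Module B N]

theorem preimage_le (σ : A →+* B) (J : Ideal A) :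
    (UCompl B (J.map σ)).1 ⊆ PrimeSpectrum.comap σ ⁻¹' (UCompl A J).1 := fun y hy =>
  mem_openCompl_iff.mpr fun h => mem_openCompl_iff.mp hy (Ideal.map_le_iff_le_comap.mpr h)

/-- Functoriality of sections over complements. -/
noncomputable def pullSec (f : M →ₛₗ[σ] N) {J' : Ideal B} (h : J' = J.map σ) :
    Sec A J M →ₛₗ[σ] Sec B J' N :=
  StructureSheaf.comapₗ f (UCompl A J) (UCompl B J') (h ▸ preimage_le σ J)

theorem pullSec_val (f : M →ₛₗ[σ] N) {J' : Ideal B} (h : J' = J.map σ) (s : Sec A J M) (y : UCompl B J') :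
    (pullSec f h s).1 y =
      StructureSheaf.Localizations.comapFun f y.1 (s.1 ⟨y.1.comap σ, (h ▸ preimage_le σ J) y.2⟩) := rfl

variable {M' M'' : Type u} [AddCommGroup M'] [Module A M'] [AddCommGroup M''] [Module A M'']

/-- Sections of an `A`-linear map. -/
noncomputable def mapSec (f : M' →ₗ[A] M) : Sec A J M' →ₗ[A] Sec A J M :=
  pullSec f (Ideal.map_id J).symm

/-- The map on the localizations. -/
noncomputable def locMap (f : M' →ₗ[A] M) (x : PrimeSpectrum A) :
    StructureSheaf.Localizations M' x →ₗ[A] StructureSheaf.Localizations M x :=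
  StructureSheaf.Localizations.comapFun f x

theorem mapSec_val (f : M' →ₗ[A] M) (s : Sec A J M') (x : UCompl A J) :
    (mapSec f s).1 x = locMap f x.1 (s.1 x) := rfl

@[simp] theorem locMap_mk (f : M' →ₗ[A] M) (x : PrimeSpectrum A) (m : M') (t : x.asIdeal.primeCompl) :
    locMap f x (LocalizedModule.mk m t) = LocalizedModule.mk (f m) t :=
  StructureSheaf.Localizations.comapFun_mk f x m t

theorem locMap_injective (f : M' →ₗ[A] M) (hf : Function.Injective f) (x : PrimeSpectrum A) :
    Function.Injective (locMap f x) := by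
  have := x.isPrime
  rw [injective_iff_map_eq_zero]
  intro v hv
  induction v using LocalizedModule.induction_on with
  | h m t =>
    rw [locMap_mk, ← LocalizedModule.zero_mk 1, LocalizedModule.mk_eq] at hv
    obtain ⟨u, hu⟩ := hv
    rw [← LocalizedModule.zero_mk 1, LocalizedModule.mk_eq]
    refine ⟨u, hf ?_⟩
    simpa [Submonoid.smul_def] using hu

theorem mapSec_injective (f : M' →ₗ[A] M) (hf : Function.Injective f) :
    Function.Injective (mapSec (J := J) f) := fun s t h => sec_ext fun x =>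
  locMap_injective f hf x.1 (by rw [← mapSec_val, ← mapSec_val, h])

theorem mem_range_mapSec {f : M' →ₗ[A] M} {g : M →ₗ[A] M''} (hf : Function.Injective f)
    (hfg : Function.Exact f g) (s : Sec A J M) (hs : mapSec g s = 0) : s ∈ LinearMap.range (mapSec f) := by
  have hloc : ∀ x : PrimeSpectrum.Top A, ¬ J ≤ x.asIdeal → ∃ (c : A) (m : M'), c ∉ x.asIdeal ∧
      ∀ (y : UCompl A J) (hy : c ∉ y.1.asIdeal), s.1 y = LocalizedModule.mk (f m) ⟨c, hy⟩ := by
    intro x hx
    obtain ⟨c, n, hc, hn⟩ := exists_local s hx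
    have hrad : c ∈ ((⊥ : Submodule A M'').colon {g n}).radical := by
      rw [Ideal.radical_eq_sInf]
      refine Ideal.mem_sInf.mpr fun {P} hP => ?_
      by_contra hcP
      have := hP.2
      obtain ⟨hyU, hy⟩ := hn ⟨P, hP.2⟩ hcP
      have h0 := congrArg (fun z : Sec A J M'' => z.1 ⟨⟨P, hP.2⟩, hyU⟩) hs
      simp only [mapSec_val, hy, locMap_mk] at h0
      obtain ⟨v, hv⟩ := LocalizedModule.mk_eq.mp (h0.trans (LocalizedModule.zero_mk 1).symm)
      simp only [Submonoid.smul_def, smul_zero] at hv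
      exact v.2 (hP.1 (by rw [Submodule.mem_colon_singleton, Submodule.mem_bot]; simpa using hv))
    obtain ⟨k, hk⟩ := hrad
    rw [Submodule.mem_colon_singleton, Submodule.mem_bot, ← map_smul, hfg] at hk
    obtain ⟨m, hm⟩ := hk
    refine ⟨c ^ (k + 1), m, fun h => hc (x.isPrime.mem_of_pow_mem _ h), fun y hy => ?_⟩
    have hcy : c ∉ y.1.asIdeal := fun h => hy (Ideal.pow_mem_of_mem _ h _ k.succ_pos)
    obtain ⟨hyU, hy'⟩ := hn y.1 hcy
    rw [show s.1 y = s.1 ⟨y.1, hyU⟩ from rfl, hy', hm, LocalizedModule.mk_eq]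
    exact ⟨1, by simp [Submonoid.smul_def, smul_smul, pow_succ']⟩
  have hex : ∀ x : UCompl A J, ∃ v, locMap f x.1 v = s.1 x := fun x => by
    obtain ⟨c, m, hc, hm⟩ := hloc x.1 (mem_openCompl_iff.mp x.2)
    exact ⟨LocalizedModule.mk m ⟨c, hc⟩, (locMap_mk f x.1 m ⟨c, hc⟩).trans (hm x hc).symm⟩
  choose v hv using hex
  obtain ⟨t, ht⟩ := exists_sec (J := J) (M := M') v (fun x hx => by
    obtain ⟨c, m, hc, hm⟩ := hloc x hx
    exact ⟨c, m, hc, fun y hy => locMap_injective f hf y.1 ((hv y).trans ((hm y hy).trans (locMap_mk f y.1 m ⟨c, hy⟩).symm))⟩)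
  exact ⟨t, sec_ext fun x => by rw [mapSec_val, ht, hv]⟩

theorem finite_sec_of_exact [IsNoetherianRing A] {f : M' →ₗ[A] M} {g : M →ₗ[A] M''}
    (hf : Function.Injective f) (hfg : Function.Exact f g) [Module.Finite A (Sec A J M')]
    [Module.Finite A (Sec A J M'')] : Module.Finite A (Sec A J M) := by
  have : IsNoetherian A (Sec A J M) :=
    isNoetherian_of_range_eq_ker (mapSec f) (mapSec g) (le_antisymm (by
      rintro _ ⟨t, rfl⟩
      refine LinearMap.mem_ker.mpr (sec_ext fun x => ?_)
      rw [mapSec_val, mapSec_val]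
      show _ = (0 : StructureSheaf.Localizations M'' x.1)
      induction (t.1 x) using LocalizedModule.induction_on with
      | h m d =>
        refine ((congrArg (locMap g x.1) (locMap_mk f x.1 m d)).trans (locMap_mk g x.1 (f m) d)).trans ?_
        rw [hfg.apply_apply_eq_zero, LocalizedModule.zero_mk])
      (fun s hs => mem_range_mapSec hf hfg s hs))
  exact Module.IsNoetherian.finite A _

theorem finite_sec_of_injective [IsNoetherianRing A] (f : M' →ₗ[A] M) (hf : Function.Injective f)
    [Module.Finite A (Sec A J M)] : Module.Finite A (Sec A J M') :=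
  Module.Finite.of_injective (mapSec f) (mapSec_injective f hf)

end Groth.Agent.Ega11.PushFinite
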