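import Groth.Agent.Ega11.PushExact
import Mathlib.RingTheory.Spectrum.Prime.RingHom

set_option autoImplicit false
universe u

open AlgebraicGeometry CategoryTheory Opposite TopologicalSpace

namespace Groth.Agent.Ega11.PushFinite

open PushBridge PushSections

variable {A B : Type u} [CommRing A] [CommRing B] {σ : A →+* B} {J : Ideal A}
  {M : Type u} [AddCommGroup M] [Module A M] {N : Type u} [AddCommGroup N] [Module B N]
  (hσ : Function.Surjective σ) (f : M →ₛₗ[σ] N) (hf : Function.Bijective f)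

include hσ hf in
theorem comapFun_injective (y : PrimeSpectrum.Top B) :
    Function.Injective (StructureSheaf.Localizations.comapFun f y) := by
  rw [injective_iff_map_eq_zero]
  intro v hv
  induction v using LocalizedModule.induction_on with
  | h m t =>
    rw [StructureSheaf.Localizations.comapFun_mk, ← LocalizedModule.zero_mk 1, LocalizedModule.mk_eq] at hv
    obtain ⟨u, hu⟩ := hv
    obtain ⟨u', hu'⟩ := hσ u.1
    rw [← LocalizedModule.zero_mk 1, LocalizedModule.mk_eq]
    refine ⟨⟨u', fun h => u.2 ?_⟩, hf.1 ?_⟩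
    · have : σ u' ∈ y.asIdeal := h
      rwa [hu'] at this
    · simp only [Submonoid.smul_def, OneMemClass.coe_one, one_smul, smul_zero] at hu ⊢
      rw [map_smulₛₗ, hu', map_zero]
      exact hu

include hσ in
theorem exists_comap_eq {x : PrimeSpectrum A} (hx : RingHom.ker σ ≤ x.asIdeal) :
    ∃ y : PrimeSpectrum B, PrimeSpectrum.comap σ y = x := by
  have := Ideal.map_isPrime_of_surjective (f := σ) hσ hx
  refine ⟨⟨x.asIdeal.map σ, this⟩, PrimeSpectrum.ext ?_⟩
  rw [PrimeSpectrum.comap_asIdeal, Ideal.comap_map_of_surjective σ hσ, ← RingHom.ker_eq_comap_bot, sup_eq_left]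
  exact hx

set_option linter.unusedSectionVars false in
include hσ hf in
theorem mk_eq_zero_of_not_le {x : PrimeSpectrum A} (hx : ¬ RingHom.ker σ ≤ x.asIdeal) (m : M)
    (t : x.asIdeal.primeCompl) : LocalizedModule.mk m t = 0 := by
  obtain ⟨c, hc, hcx⟩ := SetLike.not_le_iff_exists.mp hx
  rw [← LocalizedModule.zero_mk 1, LocalizedModule.mk_eq]
  refine ⟨⟨c, hcx⟩, hf.1 ?_⟩
  simp [Submonoid.smul_def, RingHom.mem_ker.mp hc]

include hσ hf in
theorem pullSec_bijective {J' : Ideal B} (h : J' = J.map σ) : Function.Bijective (pullSec (J := J) f h) := by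
  subst h
  refine ⟨(injective_iff_map_eq_zero _).mpr fun s hs => sec_ext fun x => ?_, fun s' => ?_⟩
  · obtain ⟨x, hxU⟩ := x
    by_cases hx : RingHom.ker σ ≤ x.asIdeal
    · obtain ⟨y, rfl⟩ := exists_comap_eq hσ (x := x) hx
      have hyU : y ∈ UCompl B (J.map σ) := mem_openCompl_iff.mpr fun h =>
        mem_openCompl_iff.mp hxU (Ideal.map_le_iff_le_comap.mp h)
      refine comapFun_injective hσ f hf y ?_
      have h0 := congrArg (fun z : Sec B (J.map σ) N => z.1 ⟨y, hyU⟩) hs
      exact h0.trans (map_zero _).symm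
    · obtain ⟨c, m, hc, hm⟩ := exists_local s (mem_openCompl_iff.mp hxU)
      obtain ⟨_, hm'⟩ := hm x hc
      exact hm'.trans (mk_eq_zero_of_not_le hσ f hf (x := x) hx m ⟨c, hc⟩)
  · have hloc : ∀ x : PrimeSpectrum A, ¬ J ≤ x.asIdeal → ∃ (c : A) (m : M), c ∉ x.asIdeal ∧
        ∀ (y : UCompl B (J.map σ)) (hy : σ c ∉ y.1.asIdeal), s'.1 y = LocalizedModule.mk (f m) ⟨σ c, hy⟩ := by
      intro x hx
      by_cases hxk : RingHom.ker σ ≤ x.asIdeal
      · obtain ⟨y, rfl⟩ := exists_comap_eq hσ (x := x) hxk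
        obtain ⟨c', n, hc', hn⟩ := exists_local s'
          (x := (y : PrimeSpectrum.Top B)) (fun h => hx (Ideal.map_le_iff_le_comap.mp h))
        obtain ⟨c, rfl⟩ := hσ c'
        obtain ⟨m, rfl⟩ := hf.2 n
        exact ⟨c, m, hc', fun z hz => (hn z.1 hz).2⟩
      · obtain ⟨c, hc, hcx⟩ := SetLike.not_le_iff_exists.mp hxk
        refine ⟨c, 0, hcx, fun z hz => absurd ?_ hz⟩
        rw [RingHom.mem_ker.mp hc]; exact zero_mem _
    choose c m hc hm using hloc
    have hxU : ∀ x : UCompl A J, ¬ J ≤ x.1.asIdeal := fun x => mem_openCompl_iff.mp x.2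
    obtain ⟨s, hs⟩ := exists_sec (J := J) (M := M)
      (fun x => LocalizedModule.mk (m x.1 (hxU x)) ⟨c x.1 (hxU x), hc x.1 (hxU x)⟩) (fun x hx => by
        refine ⟨c x hx, m x hx, hc x hx, fun z hz => ?_⟩
        obtain ⟨z, hzU⟩ := z
        by_cases hzk : RingHom.ker σ ≤ z.asIdeal
        · obtain ⟨y, rfl⟩ := exists_comap_eq hσ (x := z) hzk
          have hyU : y ∈ UCompl B (J.map σ) := mem_openCompl_iff.mpr fun h =>
            mem_openCompl_iff.mp hzU (Ideal.map_le_iff_le_comap.mp h)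
          refine comapFun_injective hσ f hf y ?_
          refine (StructureSheaf.Localizations.comapFun_mk f y _ _).trans
            (Eq.trans ?_ (StructureSheaf.Localizations.comapFun_mk f y (m x hx) ⟨c x hx, hz⟩).symm)
          exact (hm _ _ ⟨y, hyU⟩ (hc _ (hxU ⟨_, hzU⟩))).symm.trans (hm x hx ⟨y, hyU⟩ hz)
        · exact (mk_eq_zero_of_not_le hσ f hf (x := z) hzk _ _).trans
            (mk_eq_zero_of_not_le hσ f hf (x := z) hzk _ _).symm)
    refine ⟨s, sec_ext fun y => ?_⟩
    obtain ⟨y, hyU⟩ := y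
    rw [pullSec_val, hs]
    refine (StructureSheaf.Localizations.comapFun_mk f y _ _).trans ?_
    exact (hm (PrimeSpectrum.comap σ y) (hxU ⟨_, preimage_le σ J hyU⟩) ⟨y, hyU⟩
      (hc (PrimeSpectrum.comap σ y) (hxU ⟨_, preimage_le σ J hyU⟩))).symm

include hσ hf in
theorem finite_sec_iff {J' : Ideal B} (h : J' = J.map σ) :
    Module.Finite A (Sec A J M) ↔ Module.Finite B (Sec B J' N) := by
  have : RingHomSurjective σ := ⟨hσ⟩
  exact LinearMap.finite_iff_of_bijective (pullSec f h) (pullSec_bijective hσ f hf h)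

end Groth.Agent.Ega11.PushFinite
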