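import Groth.Agent.Ega11.PushBridge
import Mathlib.RingTheory.Flat.Localization
import Mathlib.RingTheory.Ideal.AssociatedPrime.Basic
import Mathlib.RingTheory.Spectrum.Prime.Noetherian

set_option autoImplicit false
universe u

open AlgebraicGeometry CategoryTheory Opposite TopologicalSpace

namespace Groth.Agent.Ega11.PushSections

open PushBridge

variable {A : Type u} [CommRing A] {J : Ideal A} {M : Type u} [AddCommGroup M] [Module A M]

theorem mem_openCompl_iff {x : PrimeSpectrum.Top A} : x ∈ UCompl A J ↔ ¬ J ≤ x.asIdeal := by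
  show ¬ (J : Set A) ⊆ x.asIdeal ↔ _
  exact Iff.rfl

@[simp] theorem toSec_apply (m : M) (x : UCompl A J) :
    (toSec A J M m).1 x = LocalizedModule.mk m 1 := rfl

theorem sec_ext {s t : Sec A J M} (h : ∀ x, s.1 x = t.1 x) : s = t := Subtype.ext (funext h)

theorem sec_sub_apply (s t : Sec A J M) (x : UCompl A J) : (s - t).1 x = s.1 x - t.1 x := rfl

theorem toSec_eq_zero_iff (m : M) :
    toSec A J M m = 0 ↔ ∀ x : PrimeSpectrum A, ¬ J ≤ x.asIdeal → ∃ t ∉ x.asIdeal, t • m = 0 := by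
  constructor
  · intro h x hx
    have := congrArg (fun s : Sec A J M => s.1 ⟨x, mem_openCompl_iff.mpr hx⟩) h
    simp only [toSec_apply] at this
    obtain ⟨t, ht⟩ := LocalizedModule.mk_eq.mp (this.trans (LocalizedModule.zero_mk 1).symm)
    exact ⟨t.1, t.2, by simpa [Submonoid.smul_def] using ht⟩
  · intro h
    refine sec_ext fun x => ?_
    obtain ⟨t, ht, htm⟩ := h x.1 (mem_openCompl_iff.mp x.2)
    rw [toSec_apply]
    exact (LocalizedModule.mk_eq.mpr ⟨⟨t, ht⟩, by simpa [Submonoid.smul_def] using htm⟩).trans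
      (LocalizedModule.zero_mk 1)

/-- The local form of a section. -/
theorem exists_local (s : Sec A J M) {x : PrimeSpectrum A} (hx : ¬ J ≤ x.asIdeal) :
    ∃ (g : A) (m : M), g ∉ x.asIdeal ∧ ∀ (y : PrimeSpectrum A) (hy : g ∉ y.asIdeal),
      ∃ hyU : y ∈ UCompl A J, s.1 ⟨y, hyU⟩ = LocalizedModule.mk m ⟨g, hy⟩ := by
  obtain ⟨g, hg, i, m, hm⟩ := StructureSheaf.exists_const _ s x (mem_openCompl_iff.mpr hx)
  exact ⟨g, m, hg, fun y hy => ⟨i hy, (congrArg (fun t => t.1 ⟨y, hy⟩) hm).symm⟩⟩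

/-- Glue local fractions into a section. -/
theorem exists_sec (val : ∀ x : UCompl A J, StructureSheaf.Localizations M x.1)
    (h : ∀ x : PrimeSpectrum A, ¬ J ≤ x.asIdeal → ∃ (g : A) (m : M), g ∉ x.asIdeal ∧
      ∀ (y : UCompl A J) (hy : g ∉ y.1.asIdeal), val y = LocalizedModule.mk m ⟨g, hy⟩) :
    ∃ s : Sec A J M, s.1 = val := by
  refine ⟨⟨val, fun x => ?_⟩, rfl⟩
  obtain ⟨g, m, hg, hm⟩ := h x.1 (mem_openCompl_iff.mp x.2)
  exact ⟨UCompl A J ⊓ PrimeSpectrum.basicOpen g, ⟨x.2, hg⟩, Opens.infLELeft _ _, m, g,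
    fun y => ⟨y.2.2, hm ⟨y.1, y.2.1⟩ y.2.2⟩⟩

/-- A section of the complement vanishing where `a` is invertible is killed by a power of `a`. -/
theorem exists_pow_smul_eq_zero [IsNoetherianRing A] (a : A) (t : Sec A J M)
    (h : ∀ x : UCompl A J, a ∉ x.1.asIdeal → t.1 x = 0) : ∃ k : ℕ, a ^ k • t = 0 := by
  have hloc : ∀ x : UCompl A J, ∃ (g : A) (k : ℕ), g ∉ x.1.asIdeal ∧
      ∀ (y : UCompl A J), g ∉ y.1.asIdeal → a ^ k • t.1 y = 0 := by
    intro x
    obtain ⟨g, m, hg, hm⟩ := exists_local t (mem_openCompl_iff.mp x.2)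
    have hrad : a * g ∈ ((⊥ : Submodule A M).colon {m}).radical := by
      rw [Ideal.radical_eq_sInf]
      refine Ideal.mem_sInf.mpr fun {P} hP => ?_
      by_contra hag
      have := hP.2
      obtain ⟨hyU, hy⟩ := hm ⟨P, hP.2⟩ (fun hh => hag (Ideal.mul_mem_left _ _ hh))
      rw [h ⟨⟨P, hP.2⟩, hyU⟩ (fun hh => hag (Ideal.mul_mem_right _ _ hh)),
        ← LocalizedModule.zero_mk 1] at hy
      obtain ⟨v, hv⟩ := LocalizedModule.mk_eq.mp hy
      simp only [Submonoid.smul_def, smul_zero] at hv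
      refine v.2 (hP.1 ?_)
      rw [Submodule.mem_colon_singleton, Submodule.mem_bot]
      simpa using hv.symm
    obtain ⟨k, hk⟩ := hrad
    rw [Submodule.mem_colon_singleton, Submodule.mem_bot] at hk
    refine ⟨g, k, hg, fun y hy => ?_⟩
    obtain ⟨hyU, hy'⟩ := hm y.1 hy
    rw [show y = ⟨y.1, hyU⟩ from rfl, hy', LocalizedModule.smul'_mk, ← LocalizedModule.zero_mk 1,
      LocalizedModule.mk_eq]
    refine ⟨⟨g ^ k, fun hh => hy (y.1.2.mem_of_pow_mem k hh)⟩, ?_⟩
    simp only [Submonoid.smul_def, one_smul, smul_zero]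
    rw [smul_smul, mul_comm, ← mul_pow]; exact hk
  choose g k hg hk using hloc
  have hcomp : IsCompact ((UCompl A J).carrier : Set (PrimeSpectrum A)) := @NoetherianSpace.isCompact (PrimeSpectrum A) _ _ _
  obtain ⟨T, hT⟩ := hcomp.elim_finite_subcover (fun x => (PrimeSpectrum.basicOpen (g x) : Set (PrimeSpectrum A)))
    (fun x => (PrimeSpectrum.basicOpen (g x)).2) (fun x hx => Set.mem_iUnion.mpr ⟨⟨x, hx⟩, hg ⟨x, hx⟩⟩)
  refine ⟨T.sup k, sec_ext fun y => ?_⟩
  obtain ⟨x, hxT, hxy⟩ := Set.mem_iUnion₂.mp (hT y.2)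
  obtain ⟨l, hl⟩ := Nat.exists_eq_add_of_le (Finset.le_sup hxT (f := k))
  show a ^ T.sup k • t.1 y = 0
  rw [hl, pow_add, mul_comm, mul_smul, hk x y hxy, smul_zero]

/-- Every section is carried into the image of the module by a power of each element of `J`. -/
theorem exists_pow_smul_mem_range [IsNoetherianRing A] {a : A} (ha : a ∈ J) (s : Sec A J M) :
    ∃ k : ℕ, a ^ k • s ∈ LinearMap.range (toSec A J M) := by
  have hle : PrimeSpectrum.basicOpen a ≤ UCompl A J := fun x hx =>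
    mem_openCompl_iff.mpr fun h => hx (h ha)
  obtain ⟨⟨m, ⟨_, n, rfl⟩⟩, hm⟩ := IsLocalizedModule.surj (Submonoid.powers a)
    (StructureSheaf.toOpenₗ A M (PrimeSpectrum.basicOpen a))
    ((structureSheafInType A M).obj.map (homOfLE hle).op s)
  obtain ⟨k, hk⟩ := exists_pow_smul_eq_zero a (a ^ n • s - toSec A J M m) (fun x hx => by
    have := congrArg (fun t => t.1 ⟨x.1, hx⟩) hm
    rw [sec_sub_apply, sub_eq_zero]
    exact this)
  refine ⟨k + n, a ^ k • m, ?_⟩
  rw [map_smul, pow_add, mul_smul]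
  rw [smul_sub, sub_eq_zero] at hk
  exact hk.symm

theorem exists_pow_ideal_smul_mem_range [IsNoetherianRing A] (s : Sec A J M) :
    ∃ k : ℕ, ∀ a ∈ J ^ k, a • s ∈ LinearMap.range (toSec A J M) := by
  let I : Ideal A := (LinearMap.range (toSec A J M)).comap (LinearMap.toSpanSingleton A (Sec A J M) s)
  obtain ⟨k, hk⟩ := Ideal.exists_pow_le_of_le_radical_of_fg (J := I) (I := J) (fun a ha => by
    obtain ⟨k, hk⟩ := exists_pow_smul_mem_range ha s
    exact ⟨k, hk⟩) (IsNoetherian.noetherian _)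
  exact ⟨k, fun a ha => hk ha⟩

theorem injective_toSec_iff [IsNoetherianRing A] :
    Function.Injective (toSec A J M) ↔ ∀ q ∈ associatedPrimes A M, ¬ J ≤ q := by
  rw [injective_iff_map_eq_zero]
  constructor
  · intro h q hq hJq
    obtain ⟨hqp, m, rfl⟩ := isAssociatedPrime_iff.mp hq
    have hm : toSec A J M m = 0 := (toSec_eq_zero_iff m).mpr fun x hx => by
      obtain ⟨t, htJ, htx⟩ := SetLike.not_le_iff_exists.mp hx
      exact ⟨t, htx, by simpa [Submodule.mem_colon_singleton] using hJq htJ⟩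
    exact hqp.ne_top (by rw [h m hm]; ext; simp [Submodule.mem_colon_singleton])
  · intro h m hm
    by_contra hm0
    obtain ⟨q, hq, hle⟩ := exists_le_isAssociatedPrime_of_isNoetherianRing A m hm0
    by_contra
    obtain ⟨t, ht, htm⟩ := (toSec_eq_zero_iff m).mp hm ⟨q, hq.1⟩ (h q hq)
    exact ht (hle (by simpa [Submodule.mem_colon_singleton] using htm))

theorem isSMulRegular_sec {a : A} (ha : IsSMulRegular M a) : IsSMulRegular (Sec A J M) a := by
  intro s t hst
  refine sec_ext fun x => ?_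
  have h : a • s.1 x = a • t.1 x := congrArg (fun z : Sec A J M => z.1 x) hst
  have := x.1.isPrime
  exact (IsSMulRegular.of_isLocalizedModule (Localization x.1.asIdeal.primeCompl) x.1.asIdeal.primeCompl (LocalizedModule.mkLinearMap _ M) ha) (by simpa only [algebraMap_smul] using h)

end Groth.Agent.Ega11.PushSections
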