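import Groth.Agent.FlatMor68.FibreStalk
import Groth.Agent.InsepMult31.Basic
import Mathlib.RingTheory.RamificationInertia.Ramification

/-! Ramification index of a local homomorphism as the length of the fibre ring. -/

set_option autoImplicit false
universe u

open IsLocalRing

namespace Groth.Agent.Ega11.RamLocal

theorem length_quot_eq {B : Type u} [CommRing B] (I : Ideal B) :
    Module.length B (B ⧸ I) = Module.length (B ⧸ I) (B ⧸ I) :=
  Module.length_eq_of_surjective Ideal.Quotient.mk_surjective

/-- The ramification index at the maximal ideal of a local extension. -/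
theorem ramificationIdx_maximalIdeal {A B : Type u} [CommRing A] [CommRing B] [IsLocalRing A] [IsLocalRing B]
    [Algebra A B] [IsLocalHom (algebraMap A B)] :
    Ideal.ramificationIdx (maximalIdeal B) A =
      (Module.length (B ⧸ (maximalIdeal A).map (algebraMap A B))
        (B ⧸ (maximalIdeal A).map (algebraMap A B))).toNat := by
  rw [Ideal.ramificationIdx_def, length_quot_eq]
  have hu : (maximalIdeal B).under A = maximalIdeal A :=
    maximalIdeal_comap (algebraMap A B)
  rw [hu]
  let e : B ≃ₐ[B] Localization.AtPrime (maximalIdeal B) :=
    IsLocalization.atUnits B (maximalIdeal B).primeCompl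
      (fun x hx => by
        show IsUnit x
        simpa [Ideal.primeCompl] using hx)
  refine congrArg ENat.toNat (InsepMult31.length_of_ringEquiv
    (Ideal.quotientEquiv _ _ e.toRingEquiv ?_)).symm
  rw [Ideal.map_map]
  congr 1

end Groth.Agent.Ega11.RamLocal
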