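import Groth.Agent.Mum71.BcRank
import Groth.Prelude.Def_PerfAux
import Groth.Prelude.Def_CohB1

/-! Upper semicontinuity of the cohomology of the fibres of a flat proper family. -/

set_option autoImplicit false
set_option maxSynthPendingDepth 6
set_option backward.isDefEq.respectTransparency.types false
universe u

noncomputable section

open CategoryTheory CategoryTheory.Limits AlgebraicGeometry TopologicalSpace

namespace Groth.Agent.Ega11.Semicont

theorem isFP_quasicoherent {X : Scheme.{u}} {F : X.Modules} (hF : CohB1.IsFP F) : F.IsQuasicoherent :=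
  let ⟨σ, _⟩ := hF.exists_quasicoherentData
  σ.isQuasicoherent

variable {X S : Scheme.{u}} (f : X ⟶ S) [IsProper f] [LocallyOfFinitePresentation f] (F : X.Modules)

/-- Every point has a neighbourhood on which the dimension is at most the one at the point. -/
theorem exists_nhd_fiberRank_le (hF : CohB1.IsFP F) (hflat : FlatMod.IsFlatOver f F) (p : ℕ) (y : S) :
    ∃ W : S.Opens, y ∈ W ∧ ∀ t ∈ W, CohIII.fiberRank f F p t ≤ CohIII.fiberRank f F p y := by
  haveI := isFP_quasicoherent hF
  obtain ⟨V, hV, hy, -⟩ := exists_isAffineOpen_mem_and_subset (X := S) (x := y) (U := ⊤) trivial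
  obtain ⟨M⟩ := Mum71.exists_cohModel f F hF hflat hV
  obtain ⟨a, hya, ha⟩ := Mum71.exists_le_rkAt M ((p : ℤ) - 1) p hy
  obtain ⟨b, hyb, hb⟩ := Mum71.exists_le_rkAt M p ((p : ℤ) + 1) hy
  refine ⟨S.basicOpen a ⊓ S.basicOpen b, ⟨hya, hyb⟩, fun t ht => ?_⟩
  have htV : t ∈ V := S.basicOpen_le a ht.1
  have h1 := Mum71.fiberRank_add M p hy
  have h2 := Mum71.fiberRank_add M p htV
  have := ha t htV ht.1
  have := hb t htV ht.2
  omega

/-- The locus where the dimension is small is open. -/
theorem isOpen_betti_lt (hF : CohB1.IsFP F) (hflat : FlatMod.IsFlatOver f F) (i n : ℕ) :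
    IsOpen {s : S | PerfAux.betti f F s i < n} := by
  refine isOpen_iff_forall_mem_open.2 fun y hy => ?_
  obtain ⟨W, hyW, hW⟩ := exists_nhd_fiberRank_le f F hF hflat i y
  exact ⟨W, fun t ht => lt_of_le_of_lt (hW t ht) hy, W.isOpen, hyW⟩

end Groth.Agent.Ega11.Semicont
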