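import Groth.Prelude.Def_EGA4b
import Groth.Agent.EGA4Alg4.DepthChange
import Groth.Agent.EGA4Alg4.Depth
import Groth.Agent.Ega11.SupportLoc
import Mathlib.RingTheory.Localization.AtPrime.Basic
import Mathlib.RingTheory.Localization.Finiteness

/-!
Transfer of depth and dimension of localized modules along localizations and quotients,
and a pointwise description of the condition `(S_k)` at a prime.
-/

set_option autoImplicit false
universe u

open IsLocalRing Groth.Agent.EGA4Alg4 Groth.Agent.Ega11.SupportLoc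

namespace Groth.Agent.Ega11.SkAt

section Transfer

variable {A B : Type u} [CommRing A] [CommRing B] [Algebra A B] (T : Submonoid A)
  {M N : Type u} [AddCommGroup M] [Module A M] [AddCommGroup N] [Module A N] [Module B N]
  [IsScalarTower A B N] (f : M →ₗ[A] N) [IsLocalizedModule T f]

/-- `B` consists of fractions with denominators in `T` and numerators from `A`. -/
def Frac : Prop := ∀ b : B, ∃ t ∈ T, ∃ a : A, algebraMap A B t * b = algebraMap A B a

variable {T}

theorem isLocalizedModule_comp (hB : Frac (B := B) T) (P : Ideal B) [P.IsPrime]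
    (hT : ∀ t ∈ T, algebraMap A B t ∉ P) :
    IsLocalizedModule (P.comap (algebraMap A B)).primeCompl
      (((LocalizedModule.mkLinearMap P.primeCompl N).restrictScalars A).comp f) := by
  refine (isLocalizedModule_iff _ _).mpr ⟨?_, ?_, ?_⟩
  · rintro ⟨s, hs⟩
    have hu := IsLocalizedModule.map_units (LocalizedModule.mkLinearMap P.primeCompl N)
      (⟨algebraMap A B s, hs⟩ : P.primeCompl)
    rw [Module.End.isUnit_iff] at hu ⊢
    convert hu using 1
    ext z
    show s • z = algebraMap A B s • z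
    rw [algebraMap_smul]
  · intro z
    obtain ⟨⟨n, ⟨s, hs⟩⟩, hz⟩ := IsLocalizedModule.surj P.primeCompl (LocalizedModule.mkLinearMap P.primeCompl N) z
    obtain ⟨⟨m, ⟨t', ht'⟩⟩, hm⟩ := IsLocalizedModule.surj T f n
    obtain ⟨t, ht, a, ha⟩ := hB s
    have haP : algebraMap A B a ∉ P := by
      rw [← ha]
      exact fun h => (Ideal.IsPrime.mem_or_mem ‹P.IsPrime› h).elim (hT t ht) hs
    refine ⟨⟨t • m, ⟨t' * a, fun h => ?_⟩⟩, ?_⟩
    · rw [SetLike.mem_coe, Ideal.mem_comap, map_mul] at h
      exact (Ideal.IsPrime.mem_or_mem ‹P.IsPrime› h).elim (hT t' ht') haP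
    · simp only [Submonoid.smul_def, LinearMap.comp_apply, LinearMap.restrictScalars_apply, map_smul] at hz hm ⊢
      rw [← hm, LinearMap.map_smul_of_tower, ← hz, ← algebraMap_smul B (t' * a) z, map_mul, ← ha,
        ← algebraMap_smul B t, ← algebraMap_smul B t', smul_smul, smul_smul]
      exact congrArg (· • z) (by ring)
  · intro m₁ m₂ h
    simp only [LinearMap.comp_apply, LinearMap.restrictScalars_apply] at h
    obtain ⟨⟨s, hs⟩, hs'⟩ := IsLocalizedModule.exists_of_eq (S := P.primeCompl) h
    obtain ⟨t, ht, a, ha⟩ := hB s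
    have h1 : f (a • m₁) = f (a • m₂) := by
      simp only [Submonoid.smul_def] at hs'
      rw [map_smul, map_smul, ← algebraMap_smul B a, ← algebraMap_smul B a (f m₂), ← ha, mul_smul, mul_smul, hs']
    obtain ⟨⟨t', ht'⟩, ht''⟩ := IsLocalizedModule.exists_of_eq (S := T) h1
    refine ⟨⟨t' * a, fun h => ?_⟩, ?_⟩
    · rw [SetLike.mem_coe, Ideal.mem_comap, map_mul] at h
      refine (Ideal.IsPrime.mem_or_mem ‹P.IsPrime› h).elim (hT t' ht') ?_
      rw [← ha]
      exact fun h => (Ideal.IsPrime.mem_or_mem ‹P.IsPrime› h).elim (hT t ht) hs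
    · simp only [Submonoid.smul_def, mul_smul] at ht'' ⊢
      exact ht''

variable (hB : Frac (B := B) T) (P : Ideal B) [P.IsPrime] (hT : ∀ t ∈ T, algebraMap A B t ∉ P)

/-- The localizations at `P` and at its contraction agree. -/
noncomputable def equivLoc :
    LocalizedModule (P.comap (algebraMap A B)).primeCompl M ≃ₗ[A] LocalizedModule P.primeCompl N :=
  letI := isLocalizedModule_comp f hB P hT
  IsLocalizedModule.linearEquiv (P.comap (algebraMap A B)).primeCompl
    (LocalizedModule.mkLinearMap _ M) (((LocalizedModule.mkLinearMap P.primeCompl N).restrictScalars A).comp f)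

include hB hT f in
theorem mem_support_iff (x : PrimeSpectrum B) (hx : x.asIdeal ≤ P) :
    x ∈ Module.support B N ↔ PrimeSpectrum.comap (algebraMap A B) x ∈ Module.support A M := by
  rw [Module.mem_support_iff, Module.mem_support_iff]
  exact (equivLoc f hB x.asIdeal (fun t ht h => hT t ht (hx h))).toEquiv.nontrivial_congr.symm

include hB hT f in
theorem supportDim_transfer :
    Module.supportDim (Localization.AtPrime P) (LocalizedModule P.primeCompl N) =
      Module.supportDim (Localization.AtPrime (P.comap (algebraMap A B)))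
        (LocalizedModule (P.comap (algebraMap A B)).primeCompl M) := by
  rw [supportDim_localizedModule_eq, supportDim_localizedModule_eq]
  refine Order.krullDim_eq_of_orderIso ?_
  let φ : suppBelow B N P → suppBelow A M (P.comap (algebraMap A B)) := fun x =>
    ⟨PrimeSpectrum.comap (algebraMap A B) x.1, (mem_support_iff f hB P hT x.1 x.2.2).mp x.2.1,
      Ideal.comap_mono x.2.2⟩
  have hle : ∀ x y, φ x ≤ φ y ↔ x ≤ y := by
    refine fun x y => ⟨fun h b hb => ?_, fun h => Ideal.comap_mono h⟩
    obtain ⟨t, ht, a, ha⟩ := hB b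
    have : algebraMap A B a ∈ y.1.asIdeal := h (show algebraMap A B a ∈ x.1.asIdeal from
      ha ▸ x.1.asIdeal.mul_mem_left _ hb)
    exact (y.1.2.mem_or_mem (ha ▸ this)).resolve_left fun h => hT t ht (y.2.2 h)
  refine RelIso.ofSurjective (OrderEmbedding.ofMapLEIff φ hle) ?_
  rintro ⟨y, hy, hyP⟩
  have hker : ∀ a : A, algebraMap A B a = 0 → a ∈ y.asIdeal := by
    intro a ha
    by_contra hay
    obtain ⟨m, hm⟩ := Module.mem_support_iff'.mp hy
    have h0 : f (a • m) = f 0 := by rw [map_smul, map_zero, ← algebraMap_smul B a, ha, zero_smul]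
    obtain ⟨⟨t, ht⟩, h⟩ := IsLocalizedModule.exists_of_eq (S := T) h0
    simp only [Submonoid.smul_def, smul_zero, smul_smul] at h
    exact hm (t * a) (fun h' => (y.2.mem_or_mem h').elim (fun h' => hT t ht (hyP h')) hay) h
  have key : ∀ a₁ t₁ a₂ t₂ : A, t₁ ∈ T → t₂ ∈ T → algebraMap A B (t₁ * a₂) = algebraMap A B (t₂ * a₁) →
      a₁ ∈ y.asIdeal → a₂ ∈ y.asIdeal := by
    intro a₁ t₁ a₂ t₂ h₁ h₂ h ha₁
    have := hker _ (show algebraMap A B (t₁ * a₂ - t₂ * a₁) = 0 by rw [map_sub, h, sub_self])
    have h' : t₁ * a₂ ∈ y.asIdeal := by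
      simpa using y.asIdeal.add_mem this (y.asIdeal.mul_mem_left t₂ ha₁)
    exact (y.2.mem_or_mem h').resolve_left fun h' => hT t₁ h₁ (hyP h')
  let x : Ideal B :=
    { carrier := {b | ∃ t ∈ T, ∃ a ∈ y.asIdeal, algebraMap A B t * b = algebraMap A B a}
      zero_mem' := ⟨1, T.one_mem, 0, y.asIdeal.zero_mem, by simp⟩
      add_mem' := by
        rintro b c ⟨t, ht, a, ha, h⟩ ⟨t', ht', a', ha', h'⟩
        exact ⟨t * t', T.mul_mem ht ht', t' * a + t * a', y.asIdeal.add_mem (y.asIdeal.mul_mem_left _ ha)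
          (y.asIdeal.mul_mem_left _ ha'), by simp only [map_mul, map_add, ← h, ← h']; ring⟩
      smul_mem' := by
        rintro c b ⟨t, ht, a, ha, h⟩
        obtain ⟨t', ht', a', h'⟩ := hB c
        exact ⟨t * t', T.mul_mem ht ht', a * a', y.asIdeal.mul_mem_right _ ha, by
          simp only [map_mul, smul_eq_mul, ← h, ← h']; ring⟩ }
  have hxp : x.IsPrime := by
    refine ⟨fun h => ?_, fun {b c} hbc => ?_⟩
    · obtain ⟨t, ht, a, ha, h'⟩ : (1 : B) ∈ x := h ▸ Submodule.mem_top
      exact y.2.ne_top ((Ideal.eq_top_iff_one _).mpr (key a t 1 1 ht T.one_mem (by simpa using h') ha))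
    · obtain ⟨t, ht, a, h⟩ := hB b
      obtain ⟨t', ht', a', h'⟩ := hB c
      obtain ⟨t₁, ht₁, a₁, ha₁, h₁⟩ := hbc
      have : a * a' ∈ y.asIdeal := key a₁ t₁ (a * a') (t * t') ht₁ (T.mul_mem ht ht')
        (by simp only [map_mul, ← h, ← h', ← h₁]; ring) ha₁
      exact (y.2.mem_or_mem this).imp (fun h1 => ⟨t, ht, a, h1, h⟩) (fun h1 => ⟨t', ht', a', h1, h'⟩)
  have hxy : x.comap (algebraMap A B) = y.asIdeal := by
    ext a'
    refine ⟨fun ⟨t, ht, a, ha, h⟩ => key a t a' 1 ht T.one_mem (by rw [map_mul, h, one_mul]) ha,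
      fun ha' => ⟨1, T.one_mem, a', ha', by rw [map_one, one_mul]⟩⟩
  have hxP : x ≤ P := by
    rintro b ⟨t, ht, a, ha, h⟩
    have h1 : algebraMap A B t * b ∈ P := h ▸ hyP ha
    exact (Ideal.IsPrime.mem_or_mem ‹P.IsPrime› h1).resolve_left (hT t ht)
  refine ⟨⟨⟨x, hxp⟩, (mem_support_iff f hB P hT _ hxP).mpr ?_, hxP⟩, Subtype.ext (PrimeSpectrum.ext hxy)⟩
  rwa [show PrimeSpectrum.comap (algebraMap A B) ⟨x, hxp⟩ = y from PrimeSpectrum.ext hxy]

include hB hT f in
theorem depth_transfer [IsNoetherianRing A] [IsNoetherianRing B] [Module.Finite A M] :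
    LocCoh.depth (Localization.AtPrime P) (LocalizedModule P.primeCompl N) =
      LocCoh.depth (Localization.AtPrime (P.comap (algebraMap A B)))
        (LocalizedModule (P.comap (algebraMap A B)).primeCompl M) := by
  set q := P.comap (algebraMap A B) with hq
  let Aq := Localization.AtPrime q
  let BP := Localization.AtPrime P
  let φ : Aq →+* BP := Localization.localRingHom q P (algebraMap A B) hq
  have : IsLocalHom φ := Localization.isLocalHom_localRingHom q P (algebraMap A B) hq
  letI : Algebra Aq BP := φ.toAlgebra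
  have : IsScalarTower A Aq BP := IsScalarTower.of_algebraMap_eq fun a => by
    rw [IsScalarTower.algebraMap_apply A B BP]
    exact (Localization.localRingHom_to_map q P _ hq a).symm
  letI : Module Aq (LocalizedModule P.primeCompl N) := Module.compHom _ φ
  have : IsScalarTower Aq BP (LocalizedModule P.primeCompl N) := ⟨fun r s z => mul_smul (φ r) s z⟩
  have : IsScalarTower A Aq (LocalizedModule P.primeCompl N) := ⟨fun a r z => by
    rw [← algebraMap_smul BP a (r • z)]
    show φ (a • r) • z = _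
    rw [Algebra.smul_def, map_mul]
    show _ = algebraMap A BP a • (φ r • z)
    rw [smul_smul]
    congr 2
    exact (IsScalarTower.algebraMap_apply A Aq BP a).symm⟩
  let e : LocalizedModule q.primeCompl M ≃ₗ[Aq] LocalizedModule P.primeCompl N :=
    (equivLoc f hB P hT).extendScalarsOfIsLocalization q.primeCompl Aq
  have : Module.Finite Aq (LocalizedModule q.primeCompl M) :=
    Module.Finite.of_isLocalizedModule q.primeCompl (LocalizedModule.mkLinearMap q.primeCompl M)
  have : Module.Finite Aq (LocalizedModule P.primeCompl N) := Module.Finite.equiv e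
  have : Module.Finite BP (LocalizedModule P.primeCompl N) := Module.Finite.of_restrictScalars_finite Aq BP _
  have : IsLocalHom (algebraMap Aq BP) := by rw [RingHom.algebraMap_toAlgebra]; assumption
  rw [depth_eq_of_equiv e]
  exact (depth_eq_of_finite (A := Aq) (B := BP) (LocalizedModule P.primeCompl N)).symm

end Transfer

/-- The inequality defining `(S_k)` at a single point. -/
def Good (k : ℕ) (A : Type u) [CommRing A] (M : Type u) [AddCommGroup M] [Module A M]
    (q : PrimeSpectrum A) : Prop :=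
  min (k : WithBot ℕ∞) (Module.supportDim (Localization.AtPrime q.asIdeal) (LocalizedModule q.asIdeal.primeCompl M)) ≤
    ((LocCoh.depth (Localization.AtPrime q.asIdeal) (LocalizedModule q.asIdeal.primeCompl M) : ℕ∞) : WithBot ℕ∞)

theorem Good.mono {k l : ℕ} (h : k ≤ l) {A : Type u} [CommRing A] {M : Type u} [AddCommGroup M] [Module A M]
    {q : PrimeSpectrum A} (hq : Good l A M q) : Good k A M q :=
  le_trans (min_le_min_right _ (by exact_mod_cast h)) hq

theorem hasSkAt_iff {A : Type u} [CommRing A] [IsNoetherianRing A] {M : Type u} [AddCommGroup M] [Module A M]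
    [Module.Finite A M] (k : ℕ) (p : Ideal A) [p.IsPrime] :
    EGA4.HasSkAt k A M p ↔ ∀ q : PrimeSpectrum A, q.asIdeal ≤ p → Good k A M q := by
  let B := Localization.AtPrime p
  have : IsNoetherianRing B := IsLocalization.isNoetherianRing p.primeCompl B inferInstance
  have hB : Frac (A := A) (B := B) p.primeCompl := fun b => by
    obtain ⟨⟨a, t⟩, h⟩ := IsLocalization.surj p.primeCompl b
    exact ⟨t, t.2, a, by rw [mul_comm]; exact h⟩
  let f := LocalizedModule.mkLinearMap p.primeCompl M
  have key : ∀ P : PrimeSpectrum B, Good k B (LocalizedModule p.primeCompl M) P ↔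
      Good k A M (PrimeSpectrum.comap (algebraMap A B) P) := fun P => by
    have hT : ∀ t ∈ p.primeCompl, algebraMap A B t ∉ P.asIdeal := fun t ht h =>
      P.2.ne_top (Ideal.eq_top_of_isUnit_mem _ h (IsLocalization.map_units B (⟨t, ht⟩ : p.primeCompl)))
    simp only [Good]
    rw [supportDim_transfer f hB P.asIdeal hT, depth_transfer f hB P.asIdeal hT]
    rfl
  constructor
  · intro h q hq
    have hP : (q.asIdeal.map (algebraMap A B)).IsPrime := Ideal.isPrime_map_of_isLocalizationAtPrime p hq
    have hc : PrimeSpectrum.comap (algebraMap A B) ⟨_, hP⟩ = q :=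
      PrimeSpectrum.ext (Ideal.under_map_of_isLocalizationAtPrime p hq)
    rw [← hc]
    exact (key _).mp (h (q.asIdeal.map (algebraMap A B)))
  · intro h P _
    exact (key ⟨P, inferInstance⟩).mpr (h _ (comap_le p ⟨P, inferInstance⟩))

theorem quotient_good_iff {A : Type u} [CommRing A] [IsNoetherianRing A] (k : ℕ) (p : Ideal A)
    (qb : PrimeSpectrum (A ⧸ p)) :
    Good k (A ⧸ p) (A ⧸ p) qb ↔ Good k A (A ⧸ p) (PrimeSpectrum.comap (Ideal.Quotient.mk p) qb) := by
  let f : (A ⧸ p) →ₗ[A] (A ⧸ p) := LinearMap.id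
  have : IsLocalizedModule (⊥ : Submonoid A) f := (isLocalizedModule_iff _ _).mpr
    ⟨fun ⟨x, hx⟩ => by obtain rfl := Submonoid.mem_bot.mp hx; simp,
      fun y => ⟨⟨y, 1⟩, one_smul _ _⟩, fun h => ⟨1, congrArg _ h⟩⟩
  have hB : Frac (A := A) (B := A ⧸ p) ⊥ := fun b => by
    obtain ⟨a, rfl⟩ := Ideal.Quotient.mk_surjective b
    exact ⟨1, rfl, a, by rw [map_one, one_mul]; rfl⟩
  have hT : ∀ t ∈ (⊥ : Submonoid A), algebraMap A (A ⧸ p) t ∉ qb.asIdeal := fun t ht h => by
    rw [Submonoid.mem_bot.mp ht, map_one] at h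
    exact qb.2.ne_top ((Ideal.eq_top_iff_one _).mpr h)
  simp only [Good]
  rw [supportDim_transfer f hB qb.asIdeal hT, depth_transfer f hB qb.asIdeal hT]
  rfl

end Groth.Agent.Ega11.SkAt
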