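import Groth.Agent.Ega11.SkAt
import Groth.Agent.LC17.LocVanish
import Groth.Agent.CAlg1.Sk
import Mathlib.RingTheory.Ideal.AssociatedPrime.Finiteness
import Mathlib.RingTheory.Ideal.AssociatedPrime.Localization
import Mathlib.RingTheory.Spectrum.Prime.Noetherian
import Mathlib.Algebra.Module.LocalizedModule.Exact
import Mathlib.RingTheory.KrullDimension.Regular

/-! Openness of the `(S_n)` locus of a finite module. -/

set_option autoImplicit false
universe u

open IsLocalRing CategoryTheory Abelian Groth.Agent.EGA4Alg4 Groth.Agent.Ega11.SkAt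

namespace Groth.Agent.Ega11.SkOpen

theorem depth_le_of_exact {R : Type u} [CommRing R] [IsLocalRing R] [IsNoetherianRing R]
    {N₁ N₂ N₃ : Type u} [AddCommGroup N₁] [Module R N₁] [Module.Finite R N₁] [AddCommGroup N₂] [Module R N₂]
    [Module.Finite R N₂] [AddCommGroup N₃] [Module R N₃] [Module.Finite R N₃]
    (f : N₁ →ₗ[R] N₂) (g : N₂ →ₗ[R] N₃) (hf : Function.Injective f) (hg : Function.Surjective g)
    (hfg : Function.Exact f g) :
    min (LocCoh.depth R N₁) (LocCoh.depth R N₃) ≤ LocCoh.depth R N₂ := by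
  rcases subsingleton_or_nontrivial N₂ with h2 | h2
  · rw [depth_of_subsingleton (M := N₂)]; exact le_top
  rcases subsingleton_or_nontrivial N₁ with h1 | h1
  · have hgi : Function.Injective g := (injective_iff_map_eq_zero g).mpr fun x hx => by
      obtain ⟨y, rfl⟩ := (hfg x).mp hx
      rw [Subsingleton.elim y 0, map_zero]
    rw [depth_eq_of_equiv (LinearEquiv.ofBijective g ⟨hgi, hg⟩)]
    exact min_le_right _ _
  rcases subsingleton_or_nontrivial N₃ with h3 | h3
  · have hfs : Function.Surjective f := fun x => (hfg x).mp (Subsingleton.elim _ _)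
    rw [← depth_eq_of_equiv (LinearEquiv.ofBijective f ⟨hf, hfs⟩)]
    exact min_le_left _ _
  refine Groth.Agent.LC17.eNat_le_of_forall fun n hn => (natCast_le_depth_iff_ext n).mpr fun i hi => ?_
  have z1 := AddCommGrpCat.isZero_of_iff_subsingleton.mpr
    ((natCast_le_depth_iff_ext n).mp (le_trans hn (min_le_left _ _)) i hi)
  have z3 := AddCommGrpCat.isZero_of_iff_subsingleton.mpr
    ((natCast_le_depth_iff_ext n).mp (le_trans hn (min_le_right _ _)) i hi)
  let S : ShortComplex (ModuleCat.{u} R) := ShortComplex.mk (ModuleCat.ofHom f) (ModuleCat.ofHom g)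
    (ModuleCat.hom_ext (LinearMap.ext fun x => (hfg _).mpr ⟨x, rfl⟩))
  have hS : S.ShortExact :=
    { exact := (ShortComplex.ShortExact.moduleCat_exact_iff_function_exact S).mpr hfg
      mono_f := (ModuleCat.mono_iff_injective _).mpr hf
      epi_g := (ModuleCat.epi_iff_surjective _).mpr hg }
  exact AddCommGrpCat.subsingleton_of_isZero <| ShortComplex.Exact.isZero_of_both_zeros
    (Ext.covariant_sequence_exact₂' (ModuleCat.of R (ResidueField R)) hS i)
    (z1.eq_zero_of_src _) (z3.eq_zero_of_tgt _)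

theorem min_succ_le_iff (k : ℕ) (D : WithBot ℕ∞) (d : ℕ∞) :
    min ((k + 1 : ℕ) : WithBot ℕ∞) (D + 1) ≤ ((d + 1 : ℕ∞) : WithBot ℕ∞) ↔
      min (k : WithBot ℕ∞) D ≤ (d : WithBot ℕ∞) := by
  cases D using WithBot.recBotCoe with
  | bot => simp
  | coe a =>
    rw [show (k : WithBot ℕ∞) = ((k : ℕ∞) : WithBot ℕ∞) from rfl,
      show ((k + 1 : ℕ) : WithBot ℕ∞) = (((k : ℕ∞) + 1 : ℕ∞) : WithBot ℕ∞) from rfl,
      ← WithBot.coe_one, ← WithBot.coe_add, ← WithBot.coe_min, ← WithBot.coe_min, WithBot.coe_le_coe,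
      WithBot.coe_le_coe, min_add_add_right, ENat.add_le_add_iff_right (k := 1) (by simp)]

variable {A : Type u} [CommRing A] [IsNoetherianRing A]

theorem subsingleton_loc {M : Type u} [AddCommGroup M] [Module A M] (c : A) (hc : ∀ m : M, c • m = 0)
    (q : Ideal A) [q.IsPrime] (hq : c ∉ q) : Subsingleton (LocalizedModule q.primeCompl M) := by
  rw [LocalizedModule.subsingleton_iff]
  exact fun m => ⟨c, hq, hc m⟩

theorem good_of_subsingleton {M : Type u} [AddCommGroup M] [Module A M] (k : ℕ) (q : PrimeSpectrum A)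
    (h : Subsingleton (LocalizedModule q.asIdeal.primeCompl M)) : Good k A M q := by
  simp only [Good]
  rw [depth_of_subsingleton]
  exact le_trans (min_le_left _ _) (WithBot.coe_le_coe.mpr (le_top : (k : ℕ∞) ≤ ⊤))

theorem good_domain {B : Type u} [CommRing B] [IsDomain B] [IsNoetherianRing B] (q : PrimeSpectrum B) :
    Good 1 B B q := by
  have hsupp : q ∈ Module.support B B := by simp [Module.mem_support_iff_of_finite, Groth.Agent.CAlg1.annihilator_self]
  by_cases h0 : LocCoh.depth (Localization.AtPrime q.asIdeal) (LocalizedModule q.asIdeal.primeCompl B) = 0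
  · have hass := (Groth.Agent.CAlg1.depth_atPrime_eq_zero_iff q.asIdeal).mp h0
    refine le_trans (min_le_right _ _) ?_
    rw [h0]
    refine (Groth.Agent.CAlg1.supportDim_atPrime_le_zero_iff q.asIdeal hsupp).mpr ?_
    have hbot : q.asIdeal = ⊥ := by
      obtain ⟨-, x, hx⟩ := isAssociatedPrime_iff.mp hass
      have hx0 : x ≠ 0 := by rintro rfl; exact q.2.ne_top (hx.trans (by simp))
      refine (Submodule.eq_bot_iff _).mpr fun a ha => ?_
      rw [hx, Submodule.mem_colon_singleton, Submodule.mem_bot, smul_eq_mul] at ha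
      exact (mul_eq_zero.mp ha).resolve_right hx0
    rw [Groth.Agent.CAlg1.annihilator_self, hbot]
    exact ⟨⟨Ideal.isPrime_bot, le_rfl⟩, fun _ h _ => h.2⟩
  · refine le_trans (min_le_left _ _) ?_
    rw [Nat.cast_one, ← WithBot.coe_one, WithBot.coe_le_coe, Order.one_le_iff_pos, pos_iff_ne_zero]
    exact h0

/-- An element outside `p` lying in the given finitely many ideals not contained in `p`. -/
theorem exists_sep (p : Ideal A) [p.IsPrime] (S : Set (Ideal A)) (hS : S.Finite) (h : ∀ P ∈ S, ¬ P ≤ p) :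
    ∃ c : A, c ∉ p ∧ ∀ P ∈ S, c ∈ P := by
  have : ¬ hS.toFinset.inf id ≤ p := fun hle => by
    obtain ⟨P, hP, hP'⟩ := (‹p.IsPrime›.inf_le').mp hle
    exact h P (hS.mem_toFinset.mp hP) hP'
  obtain ⟨c, h1, h2⟩ := SetLike.not_le_iff_exists.mp this
  exact ⟨c, h2, fun P hP => Finset.inf_le (f := id) (hS.mem_toFinset.mpr hP) h1⟩

variable (k : ℕ) (p : PrimeSpectrum A) (d : A) (hd0 : d ∉ p.asIdeal)
  (hd : ∀ q : PrimeSpectrum A, p ≤ q → d ∉ q.asIdeal → Good k A (A ⧸ p.asIdeal) q)

include hd0 hd in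
/-- Near a generic point of the support, the module behaves like `A ⧸ p`. -/
theorem finite_length_case (M : Type u) [AddCommGroup M] [Module A M] [Module.Finite A M]
    (hM : ∀ P ∈ Module.support A M, P ≤ p → p ≤ P) :
    ∃ f : A, f ∉ p.asIdeal ∧ ∀ q : PrimeSpectrum A, p ≤ q → f ∉ q.asIdeal → Good k A M q := by
  suffices hdepth : ∃ f : A, f ∉ p.asIdeal ∧ ∀ q : PrimeSpectrum A, p ≤ q → f ∉ q.asIdeal →
      min (k : WithBot ℕ∞) (Module.supportDim (Localization.AtPrime q.asIdeal)
        (LocalizedModule q.asIdeal.primeCompl (A ⧸ p.asIdeal))) ≤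
      ((LocCoh.depth (Localization.AtPrime q.asIdeal) (LocalizedModule q.asIdeal.primeCompl M) : ℕ∞) : WithBot ℕ∞) by
    obtain ⟨f, hf, hfq⟩ := hdepth
    obtain ⟨c, hc, hcP⟩ := exists_sep p.asIdeal {P | P ∈ (Module.annihilator A M).minimalPrimes ∧ P ≠ p.asIdeal}
      ((Ideal.finite_minimalPrimes_of_isNoetherianRing A _).subset fun P hP => hP.1) (by
        rintro P ⟨hP, hne⟩ hle
        exact hne (le_antisymm hle (hM ⟨P, hP.1.1⟩ (Module.mem_support_iff_of_finite.mpr hP.1.2) hle)))
    refine ⟨f * c, fun h => (p.2.mem_or_mem h).elim hf hc, fun q hpq hq => ?_⟩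
    refine le_trans (min_le_min_left _ ?_) (hfq q hpq fun h => hq (q.asIdeal.mul_mem_right _ h))
    rw [SupportLoc.supportDim_localizedModule_eq, SupportLoc.supportDim_localizedModule_eq]
    refine Order.krullDim_le_of_strictMono (fun x => ⟨x.1, ?_, x.2.2⟩) (fun _ _ h => h)
    rw [Module.mem_support_iff_of_finite, Ideal.annihilator_quotient]
    obtain ⟨P, hP, hPx⟩ := Ideal.exists_minimalPrimes_le (Module.mem_support_iff_of_finite.mp x.2.1)
    by_cases h' : P = p.asIdeal
    · exact h' ▸ hPx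
    · exact absurd (x.2.2 (hPx (hcP P ⟨hP, h'⟩))) fun h => hq (q.asIdeal.mul_mem_left _ h)
  revert hM
  induction ‹Module.Finite A M› using IsNoetherianRing.induction_on_isQuotientEquivQuotientPrime A with
  | subsingleton N =>
    refine fun _ => ⟨1, fun h => p.2.ne_top ((Ideal.eq_top_iff_one _).mpr h), fun q _ _ => ?_⟩
    have := subsingleton_loc (M := N) 1 (fun m => Subsingleton.elim _ _) q.asIdeal
      (fun h => q.2.ne_top ((Ideal.eq_top_iff_one _).mpr h))
    rw [depth_of_subsingleton]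
    exact le_trans (min_le_left _ _) (WithBot.coe_le_coe.mpr (le_top : (k : ℕ∞) ≤ ⊤))
  | quotient N P e =>
    intro hM
    by_cases hPp : P.asIdeal ≤ p.asIdeal
    · have hPN : P ∈ Module.support A N := by
        rw [Module.mem_support_iff_of_finite, e.annihilator_eq, Ideal.annihilator_quotient]
      obtain rfl : P = p := le_antisymm hPp (hM P hPN hPp)
      refine ⟨d, hd0, fun q hpq hdq => le_of_le_of_eq (hd q hpq hdq) ?_⟩
      refine congrArg _ (depth_eq_of_equiv ((IsLocalizedModule.linearEquiv q.asIdeal.primeCompl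
        (LocalizedModule.mkLinearMap _ (A ⧸ P.asIdeal))
        ((LocalizedModule.mkLinearMap q.asIdeal.primeCompl N).comp e.symm.toLinearMap)).extendScalarsOfIsLocalization
        q.asIdeal.primeCompl _))
    · obtain ⟨c, hcP, hcp⟩ := SetLike.not_le_iff_exists.mp hPp
      refine ⟨c, hcp, fun q _ hq => ?_⟩
      have hc : ∀ n : N, c • n = 0 := fun n => e.injective (by
        rw [map_smul, map_zero, Algebra.smul_def, Ideal.Quotient.algebraMap_eq, Ideal.Quotient.eq_zero_iff_mem.mpr hcP, zero_mul])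
      have := subsingleton_loc c hc q.asIdeal hq
      rw [depth_of_subsingleton]
      exact le_trans (min_le_left _ _) (WithBot.coe_le_coe.mpr (le_top : (k : ℕ∞) ≤ ⊤))
  | exact N₁ N₂ N₃ g₁ g₂ hg₁ hg₂ hg h₁ h₃ =>
    intro hM
    obtain ⟨f₁, hf₁, h₁⟩ := h₁ fun P hP => hM P (Module.support_subset_of_injective g₁ hg₁ hP)
    obtain ⟨f₃, hf₃, h₃⟩ := h₃ fun P hP => hM P (Module.support_subset_of_surjective g₂ hg₂ hP)
    refine ⟨f₁ * f₃, fun h => (p.2.mem_or_mem h).elim hf₁ hf₃, fun q hpq hq => ?_⟩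
    let S := q.asIdeal.primeCompl
    have : Module.Finite (Localization.AtPrime q.asIdeal) (LocalizedModule S N₁) :=
      Module.Finite.of_isLocalizedModule S (LocalizedModule.mkLinearMap S N₁)
    have : Module.Finite (Localization.AtPrime q.asIdeal) (LocalizedModule S N₂) :=
      Module.Finite.of_isLocalizedModule S (LocalizedModule.mkLinearMap S N₂)
    have : Module.Finite (Localization.AtPrime q.asIdeal) (LocalizedModule S N₃) :=
      Module.Finite.of_isLocalizedModule S (LocalizedModule.mkLinearMap S N₃)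
    have : IsNoetherianRing (Localization.AtPrime q.asIdeal) := IsLocalization.isNoetherianRing S _ inferInstance
    refine le_trans (le_min (h₁ q hpq fun h => hq (q.asIdeal.mul_mem_right _ h))
      (h₃ q hpq fun h => hq (q.asIdeal.mul_mem_left _ h))) ?_
    rw [← WithBot.coe_min, WithBot.coe_le_coe]
    exact depth_le_of_exact (LocalizedModule.map S g₁) (LocalizedModule.map S g₂)
      (LocalizedModule.map_injective S g₁ hg₁) (LocalizedModule.map_surjective S g₂ hg₂)
      (LocalizedModule.map_exact S g₁ g₂ hg)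

theorem good_spreads (n : ℕ) (p : PrimeSpectrum A) (d : A) (hd0 : d ∉ p.asIdeal)
    (hd : ∀ q : PrimeSpectrum A, p ≤ q → d ∉ q.asIdeal → Good n A (A ⧸ p.asIdeal) q) :
    ∀ (k : ℕ), k ≤ n → ∀ (M : Type u) [AddCommGroup M] [Module A M] [Module.Finite A M],
      Good k A M p → ∃ f : A, f ∉ p.asIdeal ∧ ∀ q : PrimeSpectrum A, p ≤ q → f ∉ q.asIdeal → Good k A M q := by
  classical
  intro k
  induction k with
  | zero =>
    intro _ M _ _ _ _
    refine ⟨1, fun h => p.2.ne_top ((Ideal.eq_top_iff_one _).mpr h), fun q _ _ => ?_⟩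
    exact le_trans (min_le_left _ _) (WithBot.coe_le_coe.mpr (zero_le : (0 : ℕ∞) ≤ _))
  | succ k ih =>
    intro hk M _ _ _ hp
    by_cases hsupp : p ∈ Module.support A M
    swap
    · obtain ⟨c, hc, hcp⟩ := SetLike.not_le_iff_exists.mp (fun h => hsupp (Module.mem_support_iff_of_finite.mpr h))
      exact ⟨c, hcp, fun q _ hq =>
        good_of_subsingleton _ q (subsingleton_loc c (Module.mem_annihilator.mp hc) q.asIdeal hq)⟩
    by_cases h0 : LocCoh.depth (Localization.AtPrime p.asIdeal) (LocalizedModule p.asIdeal.primeCompl M) = 0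
    · -- `p` is a generic point of the support
      have hle : Module.supportDim (Localization.AtPrime p.asIdeal) (LocalizedModule p.asIdeal.primeCompl M) ≤ 0 := by
        have h := hp
        simp only [Good, h0] at h
        refine (min_le_iff.mp h).resolve_left fun h' => ?_
        have : ((k + 1 : ℕ) : ℕ∞) ≤ 0 := WithBot.coe_le_coe.mp h'
        simp at this
      have hmin := (Groth.Agent.CAlg1.supportDim_atPrime_le_zero_iff p.asIdeal hsupp).mp hle
      exact finite_length_case (k + 1) p d hd0 (fun q h1 h2 => (hd q h1 h2).mono hk) M fun P hP hPp =>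
        hmin.2 ⟨P.2, Module.mem_support_iff_of_finite.mp hP⟩ hPp
    -- an element of `p` regular on `M` near `p`
    have hnass : p.asIdeal ∉ associatedPrimes A M := fun h =>
      h0 ((Groth.Agent.CAlg1.depth_atPrime_eq_zero_iff p.asIdeal).mpr h)
    obtain ⟨x, hxp, hx⟩ : ∃ x ∈ p.asIdeal, ∀ P ∈ associatedPrimes A M, P ≤ p.asIdeal → x ∉ P := by
      by_contra! hc
      have hsub : (p.asIdeal : Set A) ⊆ ⋃ P ∈ (associatedPrimes.finite A M).toFinset.filter (· ≤ p.asIdeal), (P : Set A) := by
        classical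
        intro x hx
        obtain ⟨P, hP, hPp, hxP⟩ := hc x hx
        exact Set.mem_biUnion (Finset.mem_filter.mpr ⟨(Set.Finite.mem_toFinset _).mpr hP, hPp⟩) hxP
      obtain ⟨P, hP, hle⟩ := (Ideal.subset_union_prime (f := id) ⊥ ⊥ fun P hP _ _ =>
        ((Set.Finite.mem_toFinset _).mp (Finset.mem_filter.mp hP).1).isPrime).mp hsub
      obtain ⟨hP, hPp⟩ := Finset.mem_filter.mp hP
      exact hnass (le_antisymm hle hPp ▸ (Set.Finite.mem_toFinset _).mp hP)
    obtain ⟨c, hc, hcP⟩ := exists_sep p.asIdeal {P | P ∈ associatedPrimes A M ∧ ¬ P ≤ p.asIdeal}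
      ((associatedPrimes.finite A M).subset fun P hP => hP.1) fun P hP => hP.2
    let K := LinearMap.ker (LinearMap.lsmul A M x)
    obtain ⟨m, hm⟩ : c ∈ (Module.annihilator A K).radical := by
      rw [← Ideal.sInf_minimalPrimes, Ideal.mem_sInf]
      intro P hP
      have hass := Module.associatedPrimes.minimalPrimes_annihilator_subset_associatedPrimes A K hP
      have hxP : x ∈ P := hP.1.2 (Module.mem_annihilator.mpr fun y => Subtype.ext y.2)
      have hassM : P ∈ associatedPrimes A M := associatedPrimes.subset_of_injective K.injective_subtype hass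
      exact hcP P ⟨hassM, fun h => hx P hassM h hxP⟩
    have hreg : ∀ q : PrimeSpectrum A, c ∉ q.asIdeal → IsSMulRegular (LocalizedModule q.asIdeal.primeCompl M)
        (algebraMap A (Localization.AtPrime q.asIdeal) x) := by
      intro q hcq
      rw [isSMulRegular_iff_right_eq_zero_of_smul]
      intro z hz
      rw [algebraMap_smul] at hz
      obtain ⟨⟨m₀, s⟩, rfl⟩ := IsLocalizedModule.mk'_surjective q.asIdeal.primeCompl
        (LocalizedModule.mkLinearMap q.asIdeal.primeCompl M) z
      simp only [Function.uncurry_apply_pair] at hz ⊢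
      rw [← IsLocalizedModule.mk'_smul, IsLocalizedModule.mk'_eq_zero'] at hz
      obtain ⟨⟨u, hu⟩, hu'⟩ := hz
      rw [IsLocalizedModule.mk'_eq_zero']
      simp only [Submonoid.smul_def] at hu'
      have hK : u • m₀ ∈ K := by
        show x • (u • m₀) = 0
        rw [smul_comm]; exact hu'
      have := congrArg Subtype.val (Module.mem_annihilator.mp hm ⟨_, hK⟩)
      exact ⟨⟨c ^ m * u, fun h => (q.2.mem_or_mem h).elim (fun h => hcq (q.2.mem_of_pow_mem m h)) hu⟩, by
        simpa [Submonoid.smul_def, mul_smul] using this⟩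
    -- compare `M` with `M ⧸ x M`
    have cmp : ∀ q : PrimeSpectrum A, x ∈ q.asIdeal → c ∉ q.asIdeal →
        (Good k A (QuotSMulTop x M) q ↔ Good (k + 1) A M q) := by
      intro q hxq hcq
      let S := q.asIdeal.primeCompl
      let L := Localization.AtPrime q.asIdeal
      have : IsNoetherianRing L := IsLocalization.isNoetherianRing S L inferInstance
      have : Module.Finite L (LocalizedModule S M) :=
        Module.Finite.of_isLocalizedModule S (LocalizedModule.mkLinearMap S M)
      have hxm : algebraMap A L x ∈ maximalIdeal L :=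
        (IsLocalization.AtPrime.to_map_mem_maximal_iff L q.asIdeal x).mpr hxq
      let e := Groth.Agent.LC17.quotLocEquiv S (M := M) x
      simp only [Good]
      rw [← depth_quotSMulTop_add_one hxm (hreg q hcq), depth_eq_of_equiv e,
        ← Module.supportDim_quotSMulTop_succ_eq_supportDim (hreg q hcq) hxm,
        Module.supportDim_eq_of_equiv e, min_succ_le_iff]
    obtain ⟨f, hf, hfq⟩ := ih (by omega) (QuotSMulTop x M) ((cmp p hxp hc).mpr hp)
    exact ⟨f * c, fun h => (p.2.mem_or_mem h).elim hf hc, fun q hpq hq =>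
      (cmp q (hpq hxp) fun h => hq (q.asIdeal.mul_mem_left _ h)).mp
        (hfq q hpq fun h => hq (q.asIdeal.mul_mem_right _ h))⟩

/-- The set of points all of whose generizations lie in `G` is open when membership spreads. -/
theorem isOpen_forall_le {S : Type u} [CommRing S] [IsNoetherianRing S] (G : Set (PrimeSpectrum S))
    (h : ∀ p : PrimeSpectrum S, (∀ p' ≤ p, p' ∈ G) →
      ∃ f : S, f ∉ p.asIdeal ∧ ∀ q : PrimeSpectrum S, p ≤ q → f ∉ q.asIdeal → q ∈ G) :
    IsOpen {p : PrimeSpectrum S | ∀ p' ≤ p, p' ∈ G} := by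
  obtain ⟨J, hJ⟩ := (PrimeSpectrum.isClosed_iff_zeroLocus_ideal _).mp (isClosed_closure (s := Gᶜ))
  have hCJ : ∀ q : PrimeSpectrum S, q ∉ G → J ≤ q.asIdeal := fun q hq =>
    (PrimeSpectrum.mem_zeroLocus q J).mp (hJ ▸ subset_closure hq)
  have hmin : ∀ p : PrimeSpectrum S, p.asIdeal ∈ J.minimalPrimes → ∃ p' ≤ p, p' ∉ G := by
    intro p hp
    by_contra! hpG
    obtain ⟨f, hf, hfG⟩ := h p hpG
    obtain ⟨g, hgp, hg⟩ := exists_sep p.asIdeal {P | P ∈ J.minimalPrimes ∧ P ≠ p.asIdeal}
      ((Ideal.finite_minimalPrimes_of_isNoetherianRing S J).subset fun P hP => hP.1) (by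
        rintro P ⟨hP, hne⟩ hle
        exact hne (le_antisymm hle (hp.2 hP.1 hle)))
    have hsub : Gᶜ ⊆ PrimeSpectrum.zeroLocus {f * g} := by
      intro q hq
      rw [PrimeSpectrum.mem_zeroLocus, Set.singleton_subset_iff]
      obtain ⟨P, hP, hPq⟩ := Ideal.exists_minimalPrimes_le (J := q.asIdeal) (hCJ q hq)
      by_cases hPp : P = p.asIdeal
      · subst hPp
        exact q.asIdeal.mul_mem_right _ (by by_contra hfq; exact hq (hfG q hPq hfq))
      · exact q.asIdeal.mul_mem_left _ (hPq (hg P ⟨hP, hPp⟩))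
    have hmem : p ∈ closure Gᶜ := hJ ▸ (PrimeSpectrum.mem_zeroLocus p J).mpr hp.1.2
    have := (closure_minimal hsub (PrimeSpectrum.isClosed_zeroLocus _)) hmem
    rw [PrimeSpectrum.mem_zeroLocus, Set.singleton_subset_iff] at this
    exact (p.2.mem_or_mem this).elim hf hgp
  have : {p : PrimeSpectrum S | ∀ p' ≤ p, p' ∈ G} = (closure Gᶜ)ᶜ := by
    ext q
    constructor
    · intro hq hqc
      obtain ⟨P, hP, hPq⟩ := Ideal.exists_minimalPrimes_le ((PrimeSpectrum.mem_zeroLocus q J).mp (hJ ▸ hqc))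
      obtain ⟨p', hp', hp'G⟩ := hmin ⟨P, hP.1.1⟩ hP
      exact hp'G (hq p' (le_trans hp' hPq))
    · intro hq p' hp'
      by_contra hp'G
      refine hq (hJ ▸ (PrimeSpectrum.mem_zeroLocus q J).mpr ?_)
      exact le_trans (hCJ p' hp'G) hp'
  rw [this]
  exact isClosed_closure.isOpen_compl

theorem isOpen_sk (n : ℕ) (h : ∀ p : PrimeSpectrum A, ∃ d : A, d ∉ p.asIdeal ∧
      ∀ qb : PrimeSpectrum (A ⧸ p.asIdeal), Ideal.Quotient.mk p.asIdeal d ∉ qb.asIdeal →
        Good n (A ⧸ p.asIdeal) (A ⧸ p.asIdeal) qb)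
    (M : Type u) [AddCommGroup M] [Module A M] [Module.Finite A M] :
    IsOpen {p : PrimeSpectrum A | EGA4.HasSkAt n A M p.asIdeal} := by
  have : {p : PrimeSpectrum A | EGA4.HasSkAt n A M p.asIdeal} = {p | ∀ p' ≤ p, p' ∈ {q | Good n A M q}} := by
    ext p
    exact hasSkAt_iff n p.asIdeal
  rw [this]
  refine isOpen_forall_le _ fun p hp => ?_
  obtain ⟨d, hd0, hd⟩ := h p
  refine good_spreads n p d hd0 (fun q hpq hdq => ?_) n le_rfl M (hp p le_rfl)
  have : q ∈ Set.range (PrimeSpectrum.comap (Ideal.Quotient.mk p.asIdeal)) := by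
    rw [_root_.range_comap_of_surjective _ _ Ideal.Quotient.mk_surjective, PrimeSpectrum.mem_zeroLocus, Ideal.mk_ker]
    exact hpq
  obtain ⟨qb, rfl⟩ := this
  exact (quotient_good_iff n p.asIdeal qb).mp (hd qb hdq)

end Groth.Agent.Ega11.SkOpen
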