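import Groth.Agent.Ega11.Semicont
import Groth.Agent.Crv77.BaseChange
import Groth.Agent.Crv77.FFBridge
import Groth.Agent.Props58.LocFree.FP

/-! Fibres of `X ×ₖ T ⟶ T` over rational points. -/

set_option autoImplicit false
set_option maxSynthPendingDepth 6
set_option linter.style.haveILetI false
set_option backward.isDefEq.respectTransparency.types false
universe u

noncomputable section

open CategoryTheory CategoryTheory.Limits AlgebraicGeometry TopologicalSpace Opposite

namespace Groth.Agent.Ega11.SliceFibre

variable (k : Type u) [Field k] (X T : Scheme.{u}) [X.Over (Spec (CommRingCat.of k))]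
  [T.Over (Spec (CommRingCat.of k))] [IsProper (X ↘ Spec (CommRingCat.of k))]

local notation "sX" => (X ↘ Spec (CommRingCat.of k))
local notation "sT" => (T ↘ Spec (CommRingCat.of k))

/-- The cohomology of the fibre over a rational point is that of the slice through it. -/
theorem betti_slice (F : (pullback sX sT).Modules) (hF : CohB1.IsFP F) (t : Spec (CommRingCat.of k) ⟶ T)
    (ht : t ≫ sT = 𝟙 _) (j : X ⟶ pullback sX sT) (hj : j ≫ pullback.fst _ _ = 𝟙 X)
    (hj' : j ≫ pullback.snd _ _ = sX ≫ t) (i : ℕ) :
    PerfAux.betti (pullback.snd sX sT) F (t (IsLocalRing.closedPoint k)) i =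
      Module.finrank k (Coh.HH X ((Scheme.Modules.pullback j).obj F) i) := by
  set f := pullback.snd sX sT with hf
  set y := t (IsLocalRing.closedPoint k) with hy
  let φ : T.residueField y ⟶ CommRingCat.of k := T.descResidueField (Scheme.stalkClosedPointTo t)
  have hφ : Spec.map φ ≫ T.fromSpecResidueField y = t :=
    T.descResidueField_stalkClosedPointTo_fromSpecResidueField k t
  letI : Algebra (T.residueField y) k := φ.hom.toAlgebra
  have hspec : Spec.map (CommRingCat.ofHom (algebraMap (T.residueField y) k)) = Spec.map φ := rfl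
  let g : X ⟶ f.fiber y := pullback.lift j (sX ≫ Spec.map φ) (by rw [Category.assoc, hφ]; exact hj')
  have hg : g ≫ f.fiberι y = j := pullback.lift_fst _ _ _
  letI : (f.fiber y).Over (Spec (CommRingCat.of (T.residueField y))) := ⟨f.fiberToSpecResidueField y⟩
  haveI : IsProper ((f.fiber y) ↘ Spec (CommRingCat.of (T.residueField y))) :=
    MorphismProperty.pullback_snd (P := @IsProper) _ _ inferInstance
  have h1 : IsPullback j sX f t := by
    refine IsPullback.of_right (h₁₂ := pullback.fst sX sT) (v₁₃ := sX) (h₂₂ := sT) ?_ hj'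
      (IsPullback.of_hasPullback _ _)
    rw [hj, ht]
    exact IsPullback.of_horiz_isIso ⟨rfl⟩
  have h2 : IsPullback g sX (f.fiberToSpecResidueField y) (Spec.map φ) := by
    refine IsPullback.of_right (h₁₂ := f.fiberι y) (v₁₃ := f) (h₂₂ := T.fromSpecResidueField y) ?_
      (pullback.lift_snd _ _ _) (IsPullback.of_hasPullback _ _)
    rw [hg, hφ]
    exact h1
  haveI := Semicont.isFP_quasicoherent hF
  haveI := SheafOfModules.IsFinitePresentation.exists_quasicoherentData (M := F)
  have hc : Coh.IsCoh ((Scheme.Modules.pullback (f.fiberι y)).obj F) :=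
    haveI := hF
    ⟨QCPull72.isQuasicoherent_pullback _ F, QCPull72.isFiniteType_pullback _ F⟩
  have h3 := Crv77.finrank_hh_baseChange (T.residueField y) k g h2
    ((Scheme.Modules.pullback (f.fiberι y)).obj F) hc i
  let I : (Scheme.Modules.pullback g).obj ((Scheme.Modules.pullback (f.fiberι y)).obj F) ≅
      (Scheme.Modules.pullback j).obj F :=
    (Scheme.Modules.pullbackComp _ _).app F ≪≫ (Scheme.Modules.pullbackCongr hg).app F
  exact (h3.symm.trans (Crv77.hEquiv k I i).finrank_eq)

/-- The Euler characteristic of the fibre over a rational point is that of the slice through it. -/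
theorem eulerChar_slice (F : (pullback sX sT).Modules) (hF : CohB1.IsFP F) (t : Spec (CommRingCat.of k) ⟶ T)
    (ht : t ≫ sT = 𝟙 _) (j : X ⟶ pullback sX sT) (hj : j ≫ pullback.fst _ _ = 𝟙 X)
    (hj' : j ≫ pullback.snd _ _ = sX ≫ t) :
    PerfAux.eulerChar (pullback.snd sX sT) F (t (IsLocalRing.closedPoint k)) =
      Curv2.euler k X ((Scheme.Modules.pullback j).obj F) :=
  finsum_congr fun i => by rw [betti_slice k X T F hF t ht j hj hj' i]

omit [IsProper (X ↘ Spec (CommRingCat.of k))] in
/-- Nonempty open sets of a curve contain rational points off a given one. -/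
theorem exists_point_mem [IsAlgClosed k] [IsIntegral T] [LocallyOfFiniteType sT]
    (hT : topologicalKrullDim T = 1) (t₀ : Spec (CommRingCat.of k) ⟶ T) (ht₀ : t₀ ≫ sT = 𝟙 _)
    {W : Set T} (hW : IsOpen W) (hne : W.Nonempty) :
    ∃ t : Spec (CommRingCat.of k) ⟶ T, t ≫ sT = 𝟙 _ ∧ t ≠ t₀ ∧ t (IsLocalRing.closedPoint k) ∈ W := by
  haveI : JacobsonSpace T := LocallyOfFiniteType.jacobsonSpace sT
  set y₀ := t₀ (IsLocalRing.closedPoint k) with hy₀
  have hcl : IsClosed ({y₀} : Set T) := (pointEquivClosedPoint sT ⟨t₀, ht₀⟩).2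
  have hne' : (W ∩ {y₀}ᶜ).Nonempty := by
    rw [Set.nonempty_iff_ne_empty, ne_eq, ← Set.diff_eq, Set.diff_eq_empty]
    intro hsub
    have hWy : W = {y₀} := hne.subset_singleton_iff.1 hsub
    have hgen : genericPoint T = y₀ := by
      have := ((genericPoint_spec T).mem_open_set_iff hW).2 (by simpa using hne)
      rw [hWy] at this
      exact this
    obtain ⟨z, hz⟩ := Crv77.exists_ne_genericPoint hT
    have hz' : z ∈ closure ({genericPoint T} : Set T) := by
      rw [(genericPoint_spec T).def]; trivial
    rw [hgen, hcl.closure_eq] at hz'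
    exact hz ((Set.mem_singleton_iff.1 hz').trans hgen.symm)
  obtain ⟨z, hz, hzc⟩ := nonempty_inter_closedPoints hne'
    (hW.inter hcl.isOpen_compl).isLocallyClosed
  refine ⟨pointOfClosedPoint sT z hzc, pointOfClosedPoint_comp _ _ _, fun he => ?_, ?_⟩
  · apply hz.2
    show z = y₀
    rw [hy₀, ← he, pointOfClosedPoint_apply]
  · rw [pointOfClosedPoint_apply]
    exact hz.1

end Groth.Agent.Ega11.SliceFibre
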