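import Groth.Agent.Ega11.SliceFibre
import Groth.Agent.FMK72.PullTensor
import Groth.Agent.Cyc90.Dev.DualPull
import Groth.Agent.VB30.Setup
import Groth.Agent.VB30.Slope
import Groth.Agent.VB30.Dual
import Groth.Agent.VB30.Endo
import Groth.Agent.QC70.HomTensor
import Groth.Agent.Kvb46.Local
import Groth.Agent.RB70.FibreCrit
import Groth.Agent.Strict99.Basic
import Groth.Agent.S1026

/-! Stable bundles on a curve are separated in families. -/

set_option autoImplicit false
set_option maxSynthPendingDepth 6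
set_option linter.style.haveILetI false
set_option backward.isDefEq.respectTransparency.types false
universe u

noncomputable section

open CategoryTheory CategoryTheory.Limits AlgebraicGeometry TopologicalSpace Opposite
open Groth.Agent.QC70 Groth.Agent.Props58.LocFree

namespace Groth.Agent.Ega11.StableFamily

theorem isFinLocFreeOfRank_pullback {X Y : Scheme.{u}} (φ : Y ⟶ X) {M : X.Modules} {n : ℕ}
    (h : FlatMod.IsFinLocFreeOfRank n M) : FlatMod.IsFinLocFreeOfRank n ((Scheme.Modules.pullback φ).obj M) :=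
  fun y => by
    obtain ⟨V, hyV, ⟨i⟩⟩ := h (φ y)
    exact ⟨φ ⁻¹ᵁ V, hyV, ⟨((Amp73.pullRestrictIso φ V).app M).symm ≪≫
      (Scheme.Modules.pullback (φ ∣_ V)).mapIso
        (((Scheme.Modules.restrictFunctorIsoPullback V.ι).app M).symm ≪≫ i) ≪≫
      FrB.pullbackFreeIso (φ ∣_ V) n⟩⟩

theorem isFP_lf {X : Scheme.{u}} {M : X.Modules} (h : FlatMod.IsFinLocFree M) : CohB1.IsFP M :=
  Props58.LocFree.isFP_of_isFinLocFree h

/-- Pulling back `𝓗om` of bundles. -/
theorem nonempty_pullback_homShape {X Y : Scheme.{u}} (φ : Y ⟶ X) {E N : X.Modules}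
    (hE : FlatMod.IsFinLocFree E) (hN : FlatMod.IsFinLocFree N) :
    Nonempty ((Scheme.Modules.pullback φ).obj (CohB1.tensorMod N (dualMod E)) ≅
      homMod ((Scheme.Modules.pullback φ).obj E) ((Scheme.Modules.pullback φ).obj N)) := by
  haveI := Semicont.isFP_quasicoherent (isFP_lf hN)
  haveI := Semicont.isFP_quasicoherent (isFP_lf (Formal27.isFinLocFree_dualMod hE))
  haveI := FMK72.isIso_pullTensHom φ N (dualMod E)
  haveI := Cyc90.Dev.isIso_dualPullHom φ hE
  obtain ⟨i⟩ := nonempty_tensor_dual_iso (Strict99.isFinLocFree_pullback φ hE)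
    ((Scheme.Modules.pullback φ).obj N)
  exact ⟨asIso (Amp73.pullTensHom φ N (dualMod E)) ≪≫
    EGA73.tensIso (Iso.refl _) (asIso (Cyc90.Dev.dualPullHom φ hE)) ≪≫ i⟩

theorem eq_of_isLocallyConstant {S : Type*} [TopologicalSpace S] [PreconnectedSpace S] {Z : Type*}
    {a b : S → Z} (ha : IsLocallyConstant a) (hb : IsLocallyConstant b) {s : S} (h : a s = b s) (t : S) :
    a t = b t := by
  rw [ha.apply_eq_of_preconnectedSpace t s, hb.apply_eq_of_preconnectedSpace t s, h]

variable {k : Type u} [Field k] {X : Scheme.{u}} [X.Over (Spec (CommRingCat.of k))] [IsIntegral X]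
  [IsProper (X ↘ Spec (CommRingCat.of k))]

theorem finrank_h0_hom_pos_iff {E N : X.Modules} (hE : FlatMod.IsFinLocFree E) (hN : FlatMod.IsFinLocFree N)
    (hcur : VB30.Cur k X) :
    0 < Module.finrank k (Coh.HH X (homMod E N) 0) ↔ ∃ φ : E ⟶ N, φ ≠ 0 := by
  haveI := hcur.isNoetherian
  haveI : Module.Finite k (Coh.HH X (homMod E N) 0) :=
    Serre71.finite_hh_of_isProper k _ (VB30.isCoh_of_isFinLocFree (hcur.homMod_lf hE hN).1) 0
  constructor
  · intro h
    haveI : Nontrivial (Coh.HH X (homMod E N) 0) := Module.nontrivial_of_finrank_pos h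
    obtain ⟨x, hx⟩ := exists_ne (0 : Coh.HH X (homMod E N) 0)
    exact ⟨VB30.homOf x, fun h0 => hx (VB30.homOf_injective (h0.trans VB30.homOf_zero.symm))⟩
  · rintro ⟨φ, hφ⟩
    obtain ⟨x, rfl⟩ := VB30.homOf_surjective φ
    refine Module.finrank_pos_iff_exists_ne_zero.2 ⟨x, fun h => hφ ?_⟩
    rw [h, VB30.homOf_zero]

theorem hom_ne_zero (k : Type u) [Field k] {X : Scheme.{u}} [X.Over (Spec (CommRingCat.of k))] [IsIntegral X]
    {E N : X.Modules} (e : E ≅ N) (h0 : 0 < VB30.rk E) : e.hom ≠ 0 := by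
  intro h
  have h1 : VB30.scal (k := k) E 1 = 0 := by
    rw [VB30.scal_one, ← e.hom_inv_id, h, zero_comp]
  exact one_ne_zero (VB30.eq_zero_of_scal_eq_zero (k := k) h0 h1)

end Groth.Agent.Ega11.StableFamily
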