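import Groth.Agent.Ega11.StrictTransformCoh
import Groth.Agent.QC70.Stalk
import Groth.Agent.QC70.Closure
import Groth.Agent.QCPull72.Sections
import Groth.Prelude.Def_BlowUp2
import Mathlib

/-! Existence of strict transforms of modules. -/

set_option autoImplicit false
set_option backward.isDefEq.respectTransparency.types false
universe u

open CategoryTheory CategoryTheory.Limits AlgebraicGeometry TopologicalSpace

namespace Groth.Agent.Ega11.StrictExists

open QC70

variable {Y : Scheme.{u}}

theorem exists_notMem_basicOpen {E : Y.IdealSheafData} {x : Y} (V : Y.affineOpens) (hxV : x ∈ V.1)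
    (hx : x ∉ E.support) : ∃ a ∈ E.ideal V, x ∈ Y.basicOpen a := by
  by_contra h
  refine hx ((E.mem_support_iff_of_mem hxV).2 ?_)
  rw [Scheme.mem_zeroLocus_iff]
  exact fun a ha hxa => h ⟨a, ha, hxa⟩

theorem exists_strictQuot (E : Y.IdealSheafData) (hE : BlowUp.IsFiniteTypeIdeal E) (P : Y.Modules)
    [P.IsQuasicoherent] :
    ∃ (G : Y.Modules) (π : P ⟶ G), Epi π ∧
      (∀ (V : Y.affineOpens) (m : P.presheaf.obj (Opposite.op V.1)),
        π.app V.1 m = 0 ↔ BlowUp.KilledByPowerNear E P V m) ∧
      IsIso ((Scheme.Modules.restrictFunctor (Scheme.Opens.ι E.support.compl)).map π) := by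
  let U : Y.Opens := E.support.compl
  let η := (Scheme.Modules.restrictAdjunction U.ι).unit.app P
  refine ⟨Abelian.image η, Abelian.factorThruImage η, inferInstance, fun V m => ?_, ?_⟩
  · have hη : (Abelian.factorThruImage η).app V.1 m = 0 ↔
        res P (U.ι.image_preimage_le V.1) m = 0 := by
      have h1 : η.app V.1 m = (Abelian.image.ι η).app V.1 ((Abelian.factorThruImage η).app V.1 m) :=
        (congrArg (fun φ : P ⟶ _ => φ.app V.1 m) (Abelian.image.fac η)).symm
      constructor
      · intro h0
        have h2 : η.app V.1 m = 0 := by rw [h1, h0, map_zero]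
        rw [Scheme.Modules.restrictAdjunction_unit_app_app] at h2
        exact h2
      · intro h0
        refine app_injective_of_mono (Abelian.image.ι η) _ ?_
        rw [map_zero, ← h1, Scheme.Modules.restrictAdjunction_unit_app_app]
        exact h0
    rw [hη]
    constructor
    · intro h0
      let J : Ideal Γ(Y, V.1) := LinearMap.ker (LinearMap.toSpanSingleton Γ(Y, V.1) Γ(P, V.1) m)
      have hrad : E.ideal V ≤ J.radical := fun a ha => by
        have hle : Y.basicOpen a ≤ U.ι ''ᵁ (U.ι ⁻¹ᵁ V.1) := fun z hz => by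
          have hzU : z ∈ U := fun hzs =>
            (Scheme.mem_zeroLocus_iff _ _ _).1 ((E.mem_support_iff_of_mem (Y.basicOpen_le a hz)).1 hzs) a ha hz
          exact ⟨⟨z, hzU⟩, Y.basicOpen_le a hz, rfl⟩
        have hz0 : res P (Y.basicOpen_le a) m = 0 := by
          rw [← res_res (U.ι.image_preimage_le V.1) hle m, h0]; exact map_zero _
        obtain ⟨n, hn⟩ := (isLocAt_of_isQuasicoherent P V.2).eq_zero_of a m hz0
        exact ⟨n, hn⟩
      obtain ⟨n, hn⟩ := Ideal.exists_pow_le_of_le_radical_of_fg hrad (hE V)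
      refine ⟨n, fun a ha => ?_⟩
      rw [Scheme.IdealSheafData.ideal_pow, Pi.pow_apply] at ha
      exact hn ha
    · rintro ⟨n, hn⟩
      refine TopCat.Presheaf.section_ext ⟨P.presheaf, P.isSheaf⟩ (U.ι ''ᵁ (U.ι ⁻¹ᵁ V.1)) _ 0 fun z hz => ?_
      have hzV : z ∈ V.1 := U.ι.image_preimage_le V.1 hz
      have hzU : z ∈ U := by
        obtain ⟨w, -, rfl⟩ := hz
        exact w.2
      obtain ⟨a, ha, hza⟩ := exists_notMem_basicOpen V hzV hzU
      have h0 : a ^ n • m = 0 := hn _ (by
        rw [Scheme.IdealSheafData.ideal_pow, Pi.pow_apply]; exact Ideal.pow_mem_pow ha n)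
      show germM P _ z hz (res P _ m) = germM P _ z hz 0
      rw [germM_res, germM_zero]
      have h1 := congrArg (germM P V.1 z hzV) h0
      rw [germM_smul, germM_zero, map_pow] at h1
      have hu : IsUnit ((Y.presheaf.germ V.1 z hzV).hom a ^ n) := ((Scheme.mem_basicOpen Y a z hzV).1 hza).pow n
      exact hu.smul_eq_zero.1 h1
  · have : IsIso ((Scheme.Modules.restrictFunctor U.ι).map η) :=
      IsIso.of_isIso_fac_right ((Scheme.Modules.restrictAdjunction U.ι).left_triangle_components P)
    have hfac : (Scheme.Modules.restrictFunctor U.ι).map (Abelian.factorThruImage η) ≫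
        (Scheme.Modules.restrictFunctor U.ι).map (Abelian.image.ι η) =
          (Scheme.Modules.restrictFunctor U.ι).map η := by
      rw [← Functor.map_comp, Abelian.image.fac]
    have : Mono ((Scheme.Modules.restrictFunctor U.ι).map (Abelian.factorThruImage η)) := mono_of_mono_fac hfac
    exact isIso_of_mono_of_epi _

end Groth.Agent.Ega11.StrictExists
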