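import Groth.Prelude.Def_BlowUp2
import Groth.Prelude.Def_Coh
import Groth.Agent.QC70.Closure
import Groth.Agent.QC70.FiniteType
import Groth.Agent.QCPull72.Sections
import Mathlib

/-! Strict transforms of coherent modules are coherent. -/

set_option autoImplicit false
set_option backward.isDefEq.respectTransparency.types false
universe u

open CategoryTheory CategoryTheory.Limits AlgebraicGeometry TopologicalSpace

namespace Groth.Agent.Ega11.StrictTransformCoh

open QC70

variable {X : Scheme.{u}}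

theorem isLocAt_kernel {P G : X.Modules} [P.IsQuasicoherent] (π : P ⟶ G) (𝓔 : X.IdealSheafData) (U : X.affineOpens)
    (g : Γ(X, U.1)) (hg : 𝓔.ideal U = Ideal.span {g})
    (h : ∀ (V : X.affineOpens) (m : P.presheaf.obj (Opposite.op V.1)),
      π.app V.1 m = 0 ↔ BlowUp.KilledByPowerNear 𝓔 P V m) : IsLocAt (kernel π) U.1 := by
  have hP := isLocAt_of_isQuasicoherent P U.2
  have hideal : ∀ N : ℕ, (𝓔 ^ N).ideal U = Ideal.span {g ^ N} := fun N => by
    rw [Scheme.IdealSheafData.ideal_pow, Pi.pow_apply, hg, Ideal.span_singleton_pow]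
  refine ⟨fun f s => ?_, fun f t ht => ?_⟩
  · obtain ⟨n, t, ht⟩ := hP.exists_of f ((kernel.ι π).app _ s)
    have h0 : π.app (X.basicOpen f) ((kernel.ι π).app _ s) = 0 :=
      app_f_g (ShortComplex.mk (kernel.ι π) π (kernel.condition π)) _ s
    have h1 : π.app (X.affineBasicOpen f).1 (res P (X.basicOpen_le f) t) = 0 := by
      show π.app (X.basicOpen f) (res P (X.basicOpen_le f) t) = 0
      rw [ht, Scheme.Modules.Hom.app_smul, h0, smul_zero]
    obtain ⟨N, hN⟩ := (h _ _).1 h1
    have hmem : resO X (X.basicOpen_le f) (g ^ N) ∈ (𝓔 ^ N).ideal (X.affineBasicOpen f) := by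
      rw [← (𝓔 ^ N).map_ideal_basicOpen U f]
      refine Ideal.mem_map_of_mem _ ?_
      rw [hideal]
      exact Ideal.mem_span_singleton_self _
    obtain ⟨j, hj⟩ := hP.eq_zero_of f (g ^ N • t) (by rw [res_smul]; exact hN _ hmem)
    have h2 : π.app U.1 (f ^ j • t) = 0 := (h U _).2 ⟨N, fun a ha => by
      rw [hideal] at ha
      obtain ⟨b, rfl⟩ := Ideal.mem_span_singleton'.1 ha
      rw [smul_smul, show b * g ^ N * f ^ j = b * (f ^ j * g ^ N) by ring, mul_smul, mul_smul, hj, smul_zero]⟩
    obtain ⟨x, hx⟩ := exists_kernel_app_eq π U.1 (f ^ j • t) h2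
    refine ⟨j + n, x, app_injective_of_mono (kernel.ι π) _ ?_⟩
    rw [app_res, hx, res_smul, ht, Scheme.Modules.Hom.app_smul, resO, map_pow, pow_smul_add]
  · obtain ⟨n, hn⟩ := hP.eq_zero_of f ((kernel.ι π).app U.1 t) (by rw [← app_res, ht, map_zero])
    refine ⟨n, app_injective_of_mono (kernel.ι π) _ ?_⟩
    rw [Scheme.Modules.Hom.app_smul, hn, map_zero]

theorem isCoh {X' : Scheme.{u}} (b : X' ⟶ X) (I : X.IdealSheafData) (hb : BlowUp.IsEffCartierIdeal (I.comap b))
    (F : X.Modules) (hF : Coh.IsCoh F) (G : X'.Modules) (π : (Scheme.Modules.pullback b).obj F ⟶ G)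
    (hG : BlowUp.IsStrictTransform b I F G π) : Coh.IsCoh G := by
  have := hF.1
  have := hF.2
  have := hG.1
  have hP := QCPull72.isQuasicoherent_pullback b F
  have hPf := QCPull72.isFiniteType_pullback b F
  choose V hV g _ hg using hb
  have hK : (kernel π).IsQuasicoherent := isQuasicoherent_of_isLocAt _ (fun y : X' => (V y).1)
    (IsOpenCover.mk (top_le_iff.mp fun y _ => Opens.mem_iSup.mpr ⟨y, hV y⟩)) (fun y => (V y).2)
    fun y => isLocAt_kernel π (I.comap b) (V y) (g y) (hg y) hG.2
  let S : ShortComplex X'.Modules := ShortComplex.mk (kernel.ι π) π (kernel.condition π)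
  have hS : S.ShortExact :=
    { exact := ShortComplex.exact_of_f_is_kernel _ (kernelIsKernel π), epi_g := hG.1 }
  exact ⟨isQuasicoherent_X₃ S hS, isFiniteType_of_epi π⟩

end Groth.Agent.Ega11.StrictTransformCoh
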