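import Groth.Agent.Ega11.SchemeDimFormula
import Groth.Agent.Ega11.PointDim
import Groth.Agent.Ega11.SupportLoc
import Groth.Agent.E4O.ZeroLocusCut

/-! Dimension of the zero locus of a function on a scheme locally of finite type over a field. -/

set_option autoImplicit false
universe u

open AlgebraicGeometry CategoryTheory Groth.Agent.E4O Topology

namespace Groth.Agent.Ega11.ZeroLocusDim

variable {k : Type u} [Field k] {X : Scheme.{u}} (p : X ⟶ Spec (CommRingCat.of k)) [LocallyOfFiniteType p]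

omit [LocallyOfFiniteType p] in
theorem eq_base (a b : X) : p a = p b :=
  Subsingleton.elim (α := PrimeSpectrum k) _ _

theorem dim_closure (z : X) : topologicalKrullDim ↥(closure ({z} : Set X)) = (fdeg p z : ℕ) := by
  rw [← dim_fibreClosure (f := p) z]
  refine dim_set_congr (Set.inter_eq_left.mpr fun a _ => eq_base p a z).symm

theorem fdeg_le_dim (z : X) : ((fdeg p z : ℕ) : WithBot ℕ∞) ≤ topologicalKrullDim X := by
  rw [← dim_closure p z]; exact topologicalKrullDim_subspace_le _ _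

variable (g : Γ(X, ⊤)) (hY : interior (X.zeroLocus (U := ⊤) ({g} : Set Γ(X, ⊤))) = ∅)

include hY in
omit [LocallyOfFiniteType p] in
theorem exists_generization [LocallyOfFiniteType p] (z : X) (hz : z ∈ X.zeroLocus (U := ⊤) ({g} : Set Γ(X, ⊤))) :
    ∃ w, w ⤳ z ∧ w ∉ X.zeroLocus (U := ⊤) ({g} : Set Γ(X, ⊤)) := by
  obtain ⟨C, ⟨q, rfl⟩, -⟩ := exists_chart p z
  obtain ⟨b, hb⟩ := C.exists_mem_zeroLocus_iff g
  by_contra! hall
  have hnil : algebraMap C.B (Localization.AtPrime q.asIdeal) b ∈ nilradical _ := by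
    rw [nilradical_eq_sInf, Ideal.mem_sInf]
    intro P hP
    let w : PrimeSpectrum C.B := PrimeSpectrum.comap (algebraMap C.B _) ⟨P, hP⟩
    have hwq : w ≤ q := SupportLoc.comap_le q.asIdeal ⟨P, hP⟩
    exact (hb w).mp (hall _ ((C.specializes_iff _ _).2 hwq))
  obtain ⟨n, hn⟩ := mem_nilradical.mp hnil
  rw [← map_pow, IsLocalization.map_eq_zero_iff q.asIdeal.primeCompl] at hn
  obtain ⟨⟨c, hc⟩, hc'⟩ := hn
  have hsub : C.pt '' PrimeSpectrum.basicOpen c ⊆ X.zeroLocus (U := ⊤) ({g} : Set Γ(X, ⊤)) := by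
    rintro _ ⟨t, ht, rfl⟩
    refine (hb t).mpr (t.2.mem_of_pow_mem n ((t.2.mem_or_mem ?_).resolve_left ht))
    rw [show c * b ^ n = 0 from hc']; exact zero_mem _
  have : C.pt q ∈ interior (X.zeroLocus (U := ⊤) ({g} : Set Γ(X, ⊤))) :=
    interior_maximal hsub (C.isOpenEmbedding_pt.isOpenMap _ (PrimeSpectrum.basicOpen c).2) ⟨q, hc, rfl⟩
  rw [hY] at this
  exact this

include p hY in
theorem dim_add_one_le :
    topologicalKrullDim (X.zeroLocus (U := ⊤) ({g} : Set Γ(X, ⊤))) + 1 ≤ topologicalKrullDim X := by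
  set Z := X.zeroLocus (U := ⊤) ({g} : Set Γ(X, ⊤)) with hZdef
  have hZ : IsClosed Z := by
    rw [hZdef, Scheme.zeroLocus_def]
    exact isClosed_iInter fun f => isClosed_iInter fun _ => (X.basicOpen f).2.isClosed_compl
  have hemb : IsClosedEmbedding (Subtype.val : Z → X) := hZ.isClosedEmbedding_subtypeVal
  have : QuasiSober Z := hemb.quasiSober
  refine SchemeDimFormula.iSup_add_le _ 1 _ fun l => ?_
  obtain ⟨a, ha⟩ := PointDim.exists_points_of_series l
  set z : X := (a l.length).1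
  have h1 : (l.length : WithBot ℕ∞) ≤ (fdeg p z : ℕ) := by
    rw [← dim_closure p z]
    have hmem : ∀ i, i ≤ l.length → (a i).1 ∈ closure ({z} : Set X) := by
      intro i hi
      induction hi using Nat.decreasingInduction with
      | self => exact subset_closure rfl
      | of_succ k hk ih =>
        exact ((ha k hk).1.map continuous_subtype_val).mem_closed isClosed_closure ih
    refine PointDim.natCast_le_dim l.length
      (fun i => ⟨(a (min i l.length)).1, hmem _ (min_le_right _ _)⟩) fun i hi => ?_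
    refine ⟨(subtype_specializes_iff _ _).mpr ?_, fun e => (ha i hi).2 ?_⟩
    · simp only [min_eq_left hi.le, min_eq_left (show i + 1 ≤ l.length from hi)]
      exact (ha i hi).1.map continuous_subtype_val
    · have := congrArg Subtype.val e
      simp only [min_eq_left hi.le, min_eq_left (show i + 1 ≤ l.length from hi)] at this
      exact Subtype.ext this
  obtain ⟨w, hw, hwZ⟩ := exists_generization p g hY z (a l.length).2
  have h2 : fdeg p z + 1 ≤ fdeg p w :=
    fdeg_lt (f := p) hw (eq_base p _ _) fun e => hwZ (e ▸ (a l.length).2)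
  have hl : l.length ≤ fdeg p z := Nat.cast_le.mp h1
  calc ((l.length : WithBot ℕ∞) + ((1 : ℕ) : WithBot ℕ∞)) ≤ ((fdeg p w : ℕ) : WithBot ℕ∞) := by
        rw [← Nat.cast_add, Nat.cast_le]; omega
    _ ≤ _ := fdeg_le_dim p w

include p in
theorem dim_le_add_one {W : Set X} (hW : W ∈ irreducibleComponents (X : Type u))
    (hne : (W ∩ X.zeroLocus (U := ⊤) ({g} : Set Γ(X, ⊤))).Nonempty) :
    topologicalKrullDim W ≤ topologicalKrullDim (X.zeroLocus (U := ⊤) ({g} : Set Γ(X, ⊤))) + 1 := by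
  obtain ⟨ξ, rfl, -⟩ := exists_eq_closure_of_mem_irreducibleComponents hW
  obtain ⟨z₀, hz₀, hz₀Z⟩ := hne
  rw [dim_closure p ξ]
  obtain ⟨C, ⟨q₀, rfl⟩, hA⟩ := exists_chart p z₀
  have := hA inferInstance
  have : IsNoetherianRing C.B := Algebra.FiniteType.isNoetherianRing C.A _
  obtain ⟨m, rfl⟩ := (specializes_iff_mem_closure.mpr hz₀).mem_open C.isOpen_range ⟨q₀, rfl⟩
  have hmq₀ : m ≤ q₀ := (C.specializes_iff _ _).1 (specializes_iff_mem_closure.mpr hz₀)
  obtain ⟨b, hb⟩ := C.exists_mem_zeroLocus_iff g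
  let mB := Ideal.Quotient.mk m.asIdeal
  have hq₀ : (q₀.asIdeal.map mB).IsPrime := Ideal.isPrime_map_quotientMk_of_isPrime hmq₀
  obtain ⟨Q, hQ, hQle⟩ := Ideal.exists_minimalPrimes_le (I := Ideal.span {mB b})
    ((Ideal.span_singleton_le_iff_mem _).2 (Ideal.mem_map_of_mem mB ((hb q₀).1 hz₀Z)))
  have hQp : Q.IsPrime := hQ.1.1
  let q : PrimeSpectrum C.B := ⟨Q.comap mB, inferInstance⟩
  have hmq : m ≤ q := fun x hx => by
    show mB x ∈ Q
    rw [Ideal.Quotient.eq_zero_iff_mem.mpr hx]; exact zero_mem _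
  have h1 : relHeight m q ≤ 1 := by
    rw [← height_map_quotient hmq]
    show ((Q.comap mB).map mB).height ≤ 1
    rw [Ideal.map_comap_of_surjective mB Ideal.Quotient.mk_surjective]
    exact Ideal.height_le_one_of_isPrincipal_of_mem_minimalPrimes (Ideal.span {mB b}) Q hQ
  have h2 := C.fdeg_le_relHeight_add m q hmq
    (C.isOpenEmbedding_ptY.injective (by rw [← C.apply, ← C.apply]; exact eq_base p _ _))
  have h3 : fdeg p (C.pt m) ≤ fdeg p (C.pt q) + 1 := by
    have := h2.trans (add_le_add h1 le_rfl)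
    rw [add_comm] at this
    exact_mod_cast this
  have hqZ : C.pt q ∈ X.zeroLocus (U := ⊤) ({g} : Set Γ(X, ⊤)) :=
    (hb q).2 (show mB b ∈ Q from (Ideal.span_singleton_le_iff_mem _).1 hQ.1.2)
  have hcl : IsClosed (X.zeroLocus (U := ⊤) ({g} : Set Γ(X, ⊤))) := by
    rw [Scheme.zeroLocus_def]
    exact isClosed_iInter fun f => isClosed_iInter fun _ => (X.basicOpen f).2.isClosed_compl
  calc ((fdeg p (C.pt m) : ℕ) : WithBot ℕ∞) ≤ ((fdeg p (C.pt q) : ℕ) : WithBot ℕ∞) + 1 := by exact_mod_cast h3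
    _ ≤ _ := by
      refine add_le_add ?_ le_rfl
      rw [← dim_closure p (C.pt q)]
      exact (IsEmbedding.inclusion
        (closure_minimal (Set.singleton_subset_iff.2 hqZ) hcl)).isInducing.topologicalKrullDim_le

end Groth.Agent.Ega11.ZeroLocusDim
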